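import Mathlib
import Cfsg.Agent.Lib.Helper80.BTStmt

set_option autoImplicit false

namespace Cfsg.Agent.Lib.Helper28.BTNT2

theorem four_mul_le_sq (x y : ℕ) : 4 * (x * y) ≤ (x + y) ^ 2 := by
  rcases le_total x y with h | h
  · obtain ⟨d, rfl⟩ := Nat.exists_eq_add_of_le h
    have e : (x + (x + d)) ^ 2 = 4 * (x * (x + d)) + d ^ 2 := by ring
    rw [e]; exact Nat.le_add_right _ _
  · obtain ⟨d, rfl⟩ := Nat.exists_eq_add_of_le h
    have e : (y + d + y) ^ 2 = 4 * ((y + d) * y) + d ^ 2 := by ring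
    rw [e]; exact Nat.le_add_right _ _

theorem main : Cfsg.Agent.Lib.Helper80.BTStmt.NT2 := by
  intro k b e f hfe he hdiv hle
  -- k ≥ 1
  have hk : 1 ≤ k := by
    by_contra hk0
    have hk0' : k = 0 := by omega
    subst hk0'
    have h2 : f + e = 2 := by simpa using hfe
    have hz : f * (e - 1) = 0 := by
      have : e = 1 ∨ e = 2 := by omega
      rcases this with rfl | rfl
      · simp
      · have : f = 0 := by omega
        subst this; simp
    rw [mul_assoc, hz, mul_zero] at hle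
    have : 0 < 2 ^ b := Nat.pos_of_ne_zero (by positivity)
    omega
  have hA2 : 2 ≤ 2 ^ k := by
    calc 2 = 2 ^ 1 := by norm_num
      _ ≤ 2 ^ k := Nat.pow_le_pow_right (by norm_num) hk
  -- the bound b < 3k
  have hsum : f + (e - 1) = 2 ^ k := by omega
  have hamgm : 4 * (f * (e - 1)) ≤ (2 ^ k) ^ 2 := by
    have h := four_mul_le_sq f (e - 1)
    rwa [hsum] at h
  have hb3 : b + 2 < 3 * k + 1 := by
    have h1 : 4 * 2 ^ b ≤ (2 ^ k + 1) * (2 ^ k) ^ 2 := by
      calc 4 * 2 ^ b ≤ 4 * ((2 ^ k + 1) * f * (e - 1)) := Nat.mul_le_mul_left 4 hle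
        _ = (2 ^ k + 1) * (4 * (f * (e - 1))) := by ring
        _ ≤ (2 ^ k + 1) * (2 ^ k) ^ 2 := Nat.mul_le_mul_left _ hamgm
    have h2 : (2 ^ k + 1) * (2 ^ k) ^ 2 < 2 ^ (k + 1) * (2 ^ k) ^ 2 := by
      apply Nat.mul_lt_mul_of_pos_right
      · rw [pow_succ]; omega
      · positivity
    have h3 : 2 ^ (b + 2) < 2 ^ (3 * k + 1) := by
      have e1 : 2 ^ (b + 2) = 4 * 2 ^ b := by rw [pow_add]; ring
      have e2 : 2 ^ (k + 1) * (2 ^ k) ^ 2 = 2 ^ (3 * k + 1) := by
        rw [← pow_mul, ← pow_add]; congr 1; ring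
      rw [e1, ← e2]
      exact lt_of_le_of_lt h1 h2
    exact (Nat.pow_lt_pow_iff_right (by norm_num : 1 < 2)).1 h3
  obtain ⟨a', ha'⟩ : ∃ a', 2 ^ k = a' + 1 := ⟨2 ^ k - 1, by omega⟩
  rcases lt_trichotomy b k with h | h | h
  · -- b < k
    exfalso
    have hlt : 2 ^ b < 2 ^ k := Nat.pow_lt_pow_right (by norm_num) h
    have := Nat.le_of_dvd (by positivity) hdiv
    omega
  · rw [h]
  · exfalso
    rcases lt_trichotomy b (2 * k) with h2 | h2 | h2
    · -- k < b < 2k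
      obtain ⟨r, rfl⟩ : ∃ r, b = k + r := ⟨b - k, by omega⟩
      have hr1 : 1 ≤ r := by omega
      have hrk : r < k := by omega
      have hR : 2 ^ r < 2 ^ k := Nat.pow_lt_pow_right (by norm_num) hrk
      have hR2 : 2 ≤ 2 ^ r := by
        calc 2 = 2 ^ 1 := by norm_num
          _ ≤ 2 ^ r := Nat.pow_le_pow_right (by norm_num) hr1
      have hid : 2 ^ (k + r) + 1 + (2 ^ r - 1) = (2 ^ k + 1) * 2 ^ r := by
        rw [pow_add]
        have : 1 + (2 ^ r - 1) = 2 ^ r := by omega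
        rw [add_assoc, this]; ring
      have hd : (2 ^ k + 1) ∣ 2 ^ r - 1 := by
        have h3 : (2 ^ k + 1) ∣ 2 ^ (k + r) + 1 + (2 ^ r - 1) := by
          rw [hid]; exact dvd_mul_right _ _
        exact (Nat.dvd_add_right hdiv).1 h3
      have := Nat.le_of_dvd (by omega) hd
      omega
    · -- b = 2k
      subst h2
      have hid : 2 ^ (2 * k) + 1 = (2 ^ k + 1) * a' + 2 := by
        have : 2 ^ (2 * k) = (2 ^ k) ^ 2 := by rw [← pow_mul, mul_comm]
        rw [this, ha']; ring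
      rw [hid] at hdiv
      have hd : (2 ^ k + 1) ∣ 2 := (Nat.dvd_add_right (dvd_mul_right _ _)).1 hdiv
      have := Nat.le_of_dvd (by norm_num) hd
      omega
    · -- 2k < b < 3k
      obtain ⟨r, rfl⟩ : ∃ r, b = 2 * k + r := ⟨b - 2 * k, by omega⟩
      have hr1 : 1 ≤ r := by omega
      have hrk : r < k := by omega
      have hR : 2 ^ r < 2 ^ k := Nat.pow_lt_pow_right (by norm_num) hrk
      have hid : 2 ^ (2 * k + r) + 1 = (2 ^ k + 1) * (a' * 2 ^ r) + (2 ^ r + 1) := by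
        have : 2 ^ (2 * k) = (2 ^ k) ^ 2 := by rw [← pow_mul, mul_comm]
        rw [pow_add, this, ha']; ring
      rw [hid] at hdiv
      have hd : (2 ^ k + 1) ∣ 2 ^ r + 1 := (Nat.dvd_add_right (dvd_mul_right _ _)).1 hdiv
      have := Nat.le_of_dvd (by positivity) hd
      omega

end Cfsg.Agent.Lib.Helper28.BTNT2
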