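import Mathlib
import Cfsg.Agent.Lib.Helper80.BTStmt

set_option autoImplicit false

namespace Cfsg.Agent.Lib.Helper28.BTNT3

theorem eq_one_of_bounds (x d y : ℕ) (hy : y = x * d) (hy0 : 0 < y) (hlt : y < x * 2) : d = 1 := by
  have hd0 : d ≠ 0 := by
    rintro rfl
    rw [mul_zero] at hy; omega
  have hd2 : d < 2 := by
    by_contra h
    have h' : 2 ≤ d := by omega
    have := Nat.mul_le_mul_left x h'
    omega
  omega

theorem main : Cfsg.Agent.Lib.Helper80.BTStmt.NT3 := by
  intro p q b g₀ hp hq hpq hp2 heq hg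
  have hodd : Odd p := hp.eq_two_or_odd'.resolve_left hp2
  obtain ⟨n, hn⟩ := hodd
  have hn1 : 1 ≤ n := by have := hp.two_le; omega
  have hqb : 0 < q ^ b := pow_pos hq.pos b
  have hlt : p + 1 < 2 * q ^ b := by
    by_contra hcon
    have hcon' : 2 * q ^ b ≤ p + 1 := by omega
    have h1 : 2 * (q ^ b * g₀) ≤ (p + 1) * g₀ := by
      calc 2 * (q ^ b * g₀) = (2 * q ^ b) * g₀ := by ring
        _ ≤ (p + 1) * g₀ := Nat.mul_le_mul_right _ hcon'
    have h2 : (p + 1) * g₀ < (p + 1) * (p - 1) := Nat.mul_lt_mul_of_pos_left hg (by omega)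
    have h3 := lt_of_le_of_lt h1 h2
    rw [← heq, mul_comm] at h3
    exact lt_irrefl _ h3
  have hdvd : q ^ b ∣ (p - 1) * (p + 1) := ⟨2 * g₀, by rw [heq]; ring⟩
  by_cases hq2 : q = 2
  · subst hq2
    have hb2 : 2 ≤ b := by
      by_contra hb
      have hb' : b = 0 ∨ b = 1 := by omega
      rcases hb' with rfl | rfl
      · simp at hlt; omega
      · simp at hlt; omega
    obtain ⟨c, rfl⟩ : ∃ c, b = c + 2 := ⟨b - 2, by omega⟩
    have e1 : p - 1 = 2 * n := by omega
    have e2 : p + 1 = 2 * (n + 1) := by omega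
    have e3 : 2 ^ (c + 2) = 2 ^ (c + 1) * 2 := by rw [pow_succ]
    rw [e1, e2, e3] at heq
    have heq' : n * (n + 1) = 2 ^ (c + 1) * g₀ := by
      have h4 : 4 * (n * (n + 1)) = 4 * (2 ^ (c + 1) * g₀) := by
        calc 4 * (n * (n + 1)) = 2 * n * (2 * (n + 1)) := by ring
          _ = 2 * (2 ^ (c + 1) * 2 * g₀) := heq
          _ = 4 * (2 ^ (c + 1) * g₀) := by ring
      exact Nat.eq_of_mul_eq_mul_left (by norm_num) h4
    have hdv : 2 ^ (c + 1) ∣ n * (n + 1) := ⟨g₀, heq'⟩
    have hlt' : n + 1 < 2 ^ (c + 1) * 2 := by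
      rw [e2, e3] at hlt
      omega
    rcases Nat.even_or_odd n with hev | hod
    · have hcop : Nat.Coprime (2 ^ (c + 1)) (n + 1) :=
        Nat.Coprime.pow_left _ (Nat.coprime_two_left.2 hev.add_one)
      have hd : 2 ^ (c + 1) ∣ n := hcop.dvd_of_dvd_mul_right hdv
      obtain ⟨d, hd⟩ := hd
      have hd1 : d = 1 := eq_one_of_bounds (2 ^ (c + 1)) d n hd (by omega) (by omega)
      subst hd1
      refine ⟨c + 2, Or.inl ?_⟩
      rw [e3]; omega
    · have hcop : Nat.Coprime (2 ^ (c + 1)) n :=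
        Nat.Coprime.pow_left _ (Nat.coprime_two_left.2 hod)
      have hd : 2 ^ (c + 1) ∣ n + 1 := hcop.dvd_of_dvd_mul_left hdv
      obtain ⟨d, hd⟩ := hd
      have hd1 : d = 1 := eq_one_of_bounds (2 ^ (c + 1)) d (n + 1) hd (by omega) hlt'
      subst hd1
      refine ⟨c + 2, Or.inr ?_⟩
      rw [e3]; omega
  · exfalso
    have hqodd : Odd q := hq.eq_two_or_odd'.resolve_left hq2
    have hqbodd : Odd (q ^ b) := hqodd.pow
    by_cases hq1 : q ∣ p - 1
    · have hnd : ¬ q ∣ p + 1 := by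
        intro h
        have h2 : q ∣ 2 := by
          have h3 := Nat.dvd_sub h hq1
          have e : p + 1 - (p - 1) = 2 := by omega
          rwa [e] at h3
        have := Nat.le_of_dvd (by norm_num) h2
        have := hq.two_le
        omega
      have hcop : Nat.Coprime (q ^ b) (p + 1) :=
        Nat.Coprime.pow_left _ ((Nat.Prime.coprime_iff_not_dvd hq).2 hnd)
      have hd : q ^ b ∣ p - 1 := hcop.dvd_of_dvd_mul_right hdvd
      obtain ⟨d, hd⟩ := hd
      have hd1 : d = 1 := eq_one_of_bounds (q ^ b) d (p - 1) hd (by omega) (by omega)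
      subst hd1
      rw [mul_one] at hd
      have ho : Odd (p - 1) := hd ▸ hqbodd
      have he : Even (p - 1) := ⟨n, by omega⟩
      exact (Nat.not_even_iff_odd.2 ho) he
    · have hcop : Nat.Coprime (q ^ b) (p - 1) :=
        Nat.Coprime.pow_left _ ((Nat.Prime.coprime_iff_not_dvd hq).2 hq1)
      have hd : q ^ b ∣ p + 1 := hcop.dvd_of_dvd_mul_left hdvd
      obtain ⟨d, hd⟩ := hd
      have hd1 : d = 1 := eq_one_of_bounds (q ^ b) d (p + 1) hd (by omega) (by omega)
      subst hd1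
      rw [mul_one] at hd
      have ho : Odd (p + 1) := hd ▸ hqbodd
      have he : Even (p + 1) := ⟨n + 1, by omega⟩
      exact (Nat.not_even_iff_odd.2 ho) he

end Cfsg.Agent.Lib.Helper28.BTNT3
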