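import Cfsg.Agent.Lib.Helper19.BTGen

/-!
# S2369 piece RANKONE (helper19's call; second seat): `B ∪ B s B` is a subgroup
-/

set_option autoImplicit false

namespace Cfsg.Agent.Lib.Helper28.BTRANKONE

universe u

open Cfsg.Agent.Lib.Helper19

theorem main : BTGen.RankOne.{u} := by
  intro G _ B s hss hsb
  refine ⟨{ carrier := {g | g ∈ B ∨ ∃ b ∈ B, ∃ b' ∈ B, g = b * s * b'}
            mul_mem' := ?_
            one_mem' := Or.inl B.one_mem
            inv_mem' := ?_ }, fun g => Iff.rfl⟩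
  · rintro x y (hx | ⟨b₁, hb₁, b₁', hb₁', rfl⟩) (hy | ⟨b₂, hb₂, b₂', hb₂', rfl⟩)
    · exact Or.inl (B.mul_mem hx hy)
    · exact Or.inr ⟨x * b₂, B.mul_mem hx hb₂, b₂', hb₂', by group⟩
    · exact Or.inr ⟨b₁, hb₁, b₁' * y, B.mul_mem hb₁' hy, by group⟩
    · have e : b₁ * s * b₁' * (b₂ * s * b₂') = b₁ * (s * (b₁' * b₂) * s) * b₂' := by group
      rcases hsb (b₁' * b₂) (B.mul_mem hb₁' hb₂) with h | ⟨c, hc, c', hc', h⟩
      · left
        show b₁ * s * b₁' * (b₂ * s * b₂') ∈ B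
        rw [e]
        exact B.mul_mem (B.mul_mem hb₁ h) hb₂'
      · right
        refine ⟨b₁ * c, B.mul_mem hb₁ hc, c' * b₂', B.mul_mem hc' hb₂', ?_⟩
        rw [e, h]; group
  · rintro x (hx | ⟨b, hb, b', hb', rfl⟩)
    · exact Or.inl (B.inv_mem hx)
    · right
      refine ⟨b'⁻¹, B.inv_mem hb', (s * s)⁻¹ * b⁻¹, B.mul_mem (B.inv_mem hss) (B.inv_mem hb), ?_⟩
      group

end Cfsg.Agent.Lib.Helper28.BTRANKONE
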