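import Cfsg.Agent.Lib.Helper28.CeGen
import Cfsg.Agent.Lib.Helper28.THeNLT

set_option autoImplicit false

namespace Cfsg.Agent.Lib.Helper28.CeData

open Cfsg.Agent.Lib.Helper28.TCKernel Cfsg.Agent.Lib.Helper28.SGS Cfsg.Agent.Lib.Helper28.CeGen

def kws : List (List Nat) := [[1],
  [3, 5, 2, 3, 2, 3, 4, 3, 2, 3, 2, 5, 3],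
  [3, 6, 2, 3, 2, 3, 4, 3, 2, 3, 2, 6, 3]]
def tpK : Nat → Nat → Nat := tpOf THeNLT.tp kws
def rW : List (List Nat) := [[0, 1, 0, 1, 0, 1, 0, 1, 0, 1, 0, 1],
  [0, 2, 0, 2, 0, 2, 0, 2, 0, 2, 0, 2],
  [1, 2, 1, 2, 1, 2, 1, 2],
  [0, 1, 0, 1, 0, 2, 0, 2, 0, 1, 2, 0, 1, 0, 2, 1, 0, 2, 0, 1, 2],
  [0, 1, 0, 1, 0, 1, 2, 0, 1, 0, 1, 2, 0, 1, 0, 2, 1, 0, 1, 2, 0, 1, 0, 2, 0, 2],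
  [0, 1, 0, 1, 0, 2, 0, 1, 2, 0, 2, 1, 0, 2, 0, 1, 2, 0, 2, 0, 1, 2, 0, 2, 0, 2],
  [0, 0],
  [1, 1],
  [2, 2]]
def cprs : List (List Nat × List Nat) := [([1, 4], [4, 1]),
  ([3, 5, 2, 3, 2, 3, 4, 3, 2, 3, 2, 5, 3, 4], [4, 3, 5, 2, 3, 2, 3, 4, 3, 2, 3, 2, 5, 3]),
  ([3, 6, 2, 3, 2, 3, 4, 3, 2, 3, 2, 6, 3, 4], [4, 3, 6, 2, 3, 2, 3, 4, 3, 2, 3, 2, 6, 3])]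
def fl : List Nat := [0, 1, 2, 27, 57, 80, 82, 215, 283, 309, 336, 526, 533, 703, 708, 718, 720, 6545, 6547, 6567, 6570, 6589, 6603, 6611, 6612, 6613, 6951, 6980, 7112, 7222, 7223, 7260, 7266, 7458, 8019, 8112, 8129, 8209, 8212, 8213, 8235, 8238]
def qs : List Nat := [6544, 2]
def us0 : List (List Nat) := [[6, 1, 2, 3, 4, 5, 3, 2, 1, 3, 2, 3, 4, 2, 3, 1, 2, 3, 5, 4, 3, 2, 1, 3, 6, 5, 6, 3],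
  [5, 3, 2, 1, 2, 3, 4, 5, 3, 2, 1, 3, 2, 3, 4, 2, 3, 1, 2, 3, 5, 4, 3, 2, 1, 6, 3],
  [3, 2, 1, 0, 1, 3, 1, 2, 3, 4, 5, 3, 2, 1, 3, 2, 3, 4, 2, 3, 1, 2, 3, 5, 4, 3, 2, 1, 5, 3],
  [1, 2, 3, 4, 5, 3, 2, 1, 3, 2, 3, 4, 2, 3, 1, 2, 3, 5, 4, 3, 2, 1, 1, 0, 1, 3, 1, 2, 3, 4, 5, 3, 2, 1, 3, 2, 3, 4, 2, 3, 1, 2, 3, 5, 4, 3, 2, 1, 3],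
  [1, 2, 3, 4, 5, 3, 2, 1, 3, 2, 3, 4, 2, 3, 1, 2, 3, 5, 4, 3, 2, 1, 1, 2, 3, 4, 5, 3, 2, 1, 3, 2, 3, 4, 2, 3, 1, 2, 3, 5, 4, 3, 2, 1, 3, 1, 2, 3, 4, 5, 3, 2, 1, 3, 2, 3, 4, 2, 3, 1, 2, 3, 5, 4, 3, 2, 1, 3],
  [3, 2, 1, 2, 3, 4, 5, 3, 2, 1, 3, 2, 3, 4, 2, 3, 1, 2, 3, 5, 4, 3, 2, 1, 6, 3],
  [6, 3, 2, 1, 0, 1, 3, 1, 2, 3, 4, 5, 3, 2, 1, 3, 2, 3, 4, 2, 3, 1, 2, 3, 5, 4, 3, 2, 1, 5, 3],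
  [1, 0, 1, 3, 2, 1, 2, 3, 4, 5, 3, 2, 1, 3, 2, 3, 4, 2, 3, 1, 2, 3, 5, 4, 3, 2, 1, 6, 3],
  [1, 2, 3, 4, 5, 3, 2, 1, 3, 2, 3, 4, 2, 3, 1, 2, 3, 5, 4, 3, 2, 1, 3, 6, 5, 6, 3],
  [1, 0, 1, 5, 3, 2, 1, 2, 3, 4, 5, 3, 2, 1, 3, 2, 3, 4, 2, 3, 1, 2, 3, 5, 4, 3, 2, 1, 6, 3],
  [6, 5, 2, 3],
  [5, 6, 2, 3],
  [5, 6, 2, 3, 5, 6, 3],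
  [6, 2, 3, 5, 6, 3],
  [2, 3, 5, 6, 3],
  [1, 0, 1, 2, 3, 5, 6, 3],
  [6, 2, 3],
  [2, 3, 6, 5, 3],
  [2, 3],
  [1, 0, 1, 2, 3],
  [1, 0, 1, 2, 3, 6, 5, 3],
  [5, 2, 3],
  [1, 0, 1, 6, 2, 3],
  [1, 0, 1, 5, 2, 3],
  [],
  [3, 6, 5, 6, 3],
  [3, 5, 6, 5, 3],
  [3, 6, 3, 5, 6, 3],
  [5, 2, 3, 6, 5, 3],
  [6, 5, 2, 3, 6, 5, 3],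
  [3, 5, 3, 6, 5, 3],
  [6, 2, 3, 5, 3, 6, 2, 3],
  [5, 2, 3, 6, 3, 5, 2, 3],
  [2, 1, 0, 1, 2, 3],
  [3, 5, 2, 3, 1, 2, 3, 4, 5, 3, 2, 1, 3, 2, 3, 4, 2, 3, 1, 2, 3, 5, 4, 3, 2, 1],
  [3, 1, 2, 3, 4, 5, 3, 2, 1, 3, 2, 3, 4, 2, 3, 1, 2, 3, 5, 4, 3, 2, 1, 5, 3, 1, 2, 3, 4, 5, 3, 2, 1, 3, 2, 3, 4, 2, 3, 1, 2, 3, 5, 4, 3, 2, 1, 5, 3],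
  [1, 0, 1, 3, 2, 3],
  [1, 2, 3, 4, 5, 3, 2, 1, 3, 2, 3, 4, 2, 3, 1, 2, 3, 5, 4, 3, 2, 1, 6, 3],
  [1, 0, 1, 3, 1, 2, 3, 4, 5, 3, 2, 1, 3, 2, 3, 4, 2, 3, 1, 2, 3, 5, 4, 3, 2, 1, 5, 3],
  [1, 2, 3, 4, 5, 3, 2, 1, 3, 2, 3, 4, 2, 3, 1, 2, 3, 5, 4, 3, 2, 1, 1, 2, 3, 4, 5, 3, 2, 1, 3, 2, 3, 4, 2, 3, 1, 2, 3, 5, 4, 3, 2, 1, 6, 2, 3]]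
def us1 : List (List Nat) := [[3, 1, 2, 3, 4, 5, 3, 2, 1, 3, 2, 3, 4, 2, 3, 1, 2, 3, 5, 4, 3, 2, 1, 3, 5, 2, 3],
  [6, 1, 2, 3, 4, 5, 3, 2, 1, 3, 2, 3, 4, 2, 3, 1, 2, 3, 5, 4, 3, 2, 1, 6, 3, 2, 3],
  [1, 0, 1, 3, 6, 1, 2, 3, 4, 5, 3, 2, 1, 3, 2, 3, 4, 2, 3, 1, 2, 3, 5, 4, 3, 2, 1, 2, 3],
  [2, 1, 2, 3, 4, 5, 3, 2, 1, 3, 2, 3, 4, 2, 3, 1, 2, 3, 5, 4, 3, 2, 1, 1, 2, 3, 4, 5, 3, 2, 1, 3, 2, 3, 4, 2, 3, 1, 2, 3, 5, 4, 3, 2, 1, 3, 1, 2, 3, 4, 5, 3, 2, 1, 3, 2, 3, 4, 2, 3, 1, 2, 3, 5, 4, 3, 2, 1],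
  [2, 3, 6, 3, 5, 2, 3],
  [1, 0, 1, 2, 3, 6, 3, 5, 2, 3],
  [6, 5, 6, 3],
  [1, 0, 1, 2, 3, 5, 3, 6, 2, 3],
  [2, 3, 5, 3, 6, 2, 3],
  [5, 6, 5, 3],
  [1, 2, 3, 4, 5, 3, 2, 1, 3, 2, 3, 4, 2, 3, 1, 2, 3, 5, 4, 3, 2, 1, 3, 2, 3],
  [1, 2, 3, 4, 5, 3, 2, 1, 3, 2, 3, 4, 2, 3, 1, 2, 3, 5, 4, 3, 2, 1, 1, 2, 3, 4, 5, 3, 2, 1, 3, 2, 3, 4, 2, 3, 1, 2, 3, 5, 4, 3, 2, 1, 2, 3],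
  [1, 2, 3, 4, 5, 3, 2, 1, 3, 2, 3, 4, 2, 3, 1, 2, 3, 5, 4, 3, 2, 1, 3, 5, 6, 3],
  [3, 6, 1, 2, 3, 4, 5, 3, 2, 1, 3, 2, 3, 4, 2, 3, 1, 2, 3, 5, 4, 3, 2, 1, 6, 5, 3, 2, 3],
  [1, 0, 1, 3, 1, 2, 3, 4, 5, 3, 2, 1, 3, 2, 3, 4, 2, 3, 1, 2, 3, 5, 4, 3, 2, 1, 6, 5, 3],
  [1, 2, 3, 4, 5, 3, 2, 1, 3, 2, 3, 4, 2, 3, 1, 2, 3, 5, 4, 3, 2, 1, 2, 3, 1, 2, 3, 4, 5, 3, 2, 1, 3, 2, 3, 4, 2, 3, 1, 2, 3, 5, 4, 3, 2, 1, 5, 6, 3],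
  [1, 2, 3, 4, 5, 3, 2, 1, 3, 2, 3, 4, 2, 3, 1, 2, 3, 5, 4, 3, 2, 1, 5, 3, 6, 5, 3],
  [1, 2, 3, 4, 5, 3, 2, 1, 3, 2, 3, 4, 2, 3, 1, 2, 3, 5, 4, 3, 2, 1, 5, 1, 2, 3, 4, 5, 3, 2, 1, 3, 2, 3, 4, 2, 3, 1, 2, 3, 5, 4, 3, 2, 1, 3, 6, 5, 3],
  [1, 0, 1, 5, 3, 6, 2, 3, 2, 3],
  [5, 3, 6, 2, 3, 2, 3],
  [1, 0, 1, 1, 2, 3, 4, 5, 3, 2, 1, 3, 2, 3, 4, 2, 3, 1, 2, 3, 5, 4, 3, 2, 1, 5, 3, 6, 5, 3],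
  [1, 2, 3, 4, 5, 3, 2, 1, 3, 2, 3, 4, 2, 3, 1, 2, 3, 5, 4, 3, 2, 1, 3, 6, 1, 2, 3, 4, 5, 3, 2, 1, 3, 2, 3, 4, 2, 3, 1, 2, 3, 5, 4, 3, 2, 1, 6, 2, 3],
  [1, 2, 3, 4, 5, 3, 2, 1, 3, 2, 3, 4, 2, 3, 1, 2, 3, 5, 4, 3, 2, 1, 3, 2, 1, 2, 3, 4, 5, 3, 2, 1, 3, 2, 3, 4, 2, 3, 1, 2, 3, 5, 4, 3, 2, 1, 6, 3],
  [3, 1, 2, 3, 4, 5, 3, 2, 1, 3, 2, 3, 4, 2, 3, 1, 2, 3, 5, 4, 3, 2, 1, 2, 3, 6, 2, 3],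
  [6, 1, 2, 3, 4, 5, 3, 2, 1, 3, 2, 3, 4, 2, 3, 1, 2, 3, 5, 4, 3, 2, 1, 5, 3, 6, 5, 3],
  [5, 3, 6, 1, 2, 3, 4, 5, 3, 2, 1, 3, 2, 3, 4, 2, 3, 1, 2, 3, 5, 4, 3, 2, 1, 6, 2, 3],
  [1, 2, 3, 4, 5, 3, 2, 1, 3, 2, 3, 4, 2, 3, 1, 2, 3, 5, 4, 3, 2, 1, 1, 0, 1, 2, 3],
  [1, 0, 1, 1, 2, 3, 4, 5, 3, 2, 1, 3, 2, 3, 4, 2, 3, 1, 2, 3, 5, 4, 3, 2, 1, 3, 2, 3],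
  [2, 1, 2, 3, 4, 5, 3, 2, 1, 3, 2, 3, 4, 2, 3, 1, 2, 3, 5, 4, 3, 2, 1, 3, 1, 2, 3, 4, 5, 3, 2, 1, 3, 2, 3, 4, 2, 3, 1, 2, 3, 5, 4, 3, 2, 1, 6, 5, 3],
  [1, 0, 1, 1, 2, 3, 4, 5, 3, 2, 1, 3, 2, 3, 4, 2, 3, 1, 2, 3, 5, 4, 3, 2, 1, 3, 5, 6, 3],
  [3, 1, 2, 3, 4, 5, 3, 2, 1, 3, 2, 3, 4, 2, 3, 1, 2, 3, 5, 4, 3, 2, 1, 6, 5, 3],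
  [1, 2, 3, 4, 5, 3, 2, 1, 3, 2, 3, 4, 2, 3, 1, 2, 3, 5, 4, 3, 2, 1, 3, 5, 6, 3, 5, 2, 3],
  [1, 2, 3, 4, 5, 3, 2, 1, 3, 2, 3, 4, 2, 3, 1, 2, 3, 5, 4, 3, 2, 1, 1, 0, 1, 3, 1, 2, 3, 4, 5, 3, 2, 1, 3, 2, 3, 4, 2, 3, 1, 2, 3, 5, 4, 3, 2, 1],
  [1, 2, 3, 4, 5, 3, 2, 1, 3, 2, 3, 4, 2, 3, 1, 2, 3, 5, 4, 3, 2, 1, 1, 0, 1, 3, 1, 2, 3, 4, 5, 3, 2, 1, 3, 2, 3, 4, 2, 3, 1, 2, 3, 5, 4, 3, 2, 1, 5, 6, 3],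
  [1, 2, 3, 4, 5, 3, 2, 1, 3, 2, 3, 4, 2, 3, 1, 2, 3, 5, 4, 3, 2, 1, 1, 0, 1, 3, 1, 2, 3, 4, 5, 3, 2, 1, 3, 2, 3, 4, 2, 3, 1, 2, 3, 5, 4, 3, 2, 1, 6, 5, 3],
  [1, 2, 3, 4, 5, 3, 2, 1, 3, 2, 3, 4, 2, 3, 1, 2, 3, 5, 4, 3, 2, 1, 5, 6, 3, 1, 2, 3, 4, 5, 3, 2, 1, 3, 2, 3, 4, 2, 3, 1, 2, 3, 5, 4, 3, 2, 1, 2, 3],
  [1, 2, 3, 4, 5, 3, 2, 1, 3, 2, 3, 4, 2, 3, 1, 2, 3, 5, 4, 3, 2, 1, 3, 5, 2, 3, 1, 2, 3, 4, 5, 3, 2, 1, 3, 2, 3, 4, 2, 3, 1, 2, 3, 5, 4, 3, 2, 1],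
  [5, 1, 2, 3, 4, 5, 3, 2, 1, 3, 2, 3, 4, 2, 3, 1, 2, 3, 5, 4, 3, 2, 1, 6, 3],
  [1, 2, 3, 4, 5, 3, 2, 1, 3, 2, 3, 4, 2, 3, 1, 2, 3, 5, 4, 3, 2, 1, 1, 2, 3, 4, 5, 3, 2, 1, 3, 2, 3, 4, 2, 3, 1, 2, 3, 5, 4, 3, 2, 1, 5, 3, 1, 2, 3, 4, 5, 3, 2, 1, 3, 2, 3, 4, 2, 3, 1, 2, 3, 5, 4, 3, 2, 1],
  [1, 0, 1, 5, 3, 2, 3]]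
def us2 : List (List Nat) := [[1, 2, 3, 4, 5, 3, 2, 1, 3, 2, 3, 4, 2, 3, 1, 2, 3, 5, 4, 3, 2, 1, 1, 0, 1, 3, 5, 3, 2, 3],
  [6, 1, 2, 3, 4, 5, 3, 2, 1, 3, 2, 3, 4, 2, 3, 1, 2, 3, 5, 4, 3, 2, 1, 6, 5, 3, 2, 3],
  [3, 1, 2, 3, 4, 5, 3, 2, 1, 3, 2, 3, 4, 2, 3, 1, 2, 3, 5, 4, 3, 2, 1, 5, 3, 1, 2, 3, 4, 5, 3, 2, 1, 3, 2, 3, 4, 2, 3, 1, 2, 3, 5, 4, 3, 2, 1],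
  [1, 0, 1, 1, 2, 3, 4, 5, 3, 2, 1, 3, 2, 3, 4, 2, 3, 1, 2, 3, 5, 4, 3, 2, 1, 6, 5, 3],
  [3, 5, 3, 2, 3, 1, 2, 3, 4, 5, 3, 2, 1, 3, 2, 3, 4, 2, 3, 1, 2, 3, 5, 4, 3, 2, 1],
  [1, 0, 1, 6, 3, 1, 2, 3, 4, 5, 3, 2, 1, 3, 2, 3, 4, 2, 3, 1, 2, 3, 5, 4, 3, 2, 1, 5, 3],
  [1, 2, 3, 4, 5, 3, 2, 1, 3, 2, 3, 4, 2, 3, 1, 2, 3, 5, 4, 3, 2, 1, 6, 1, 2, 3, 4, 5, 3, 2, 1, 3, 2, 3, 4, 2, 3, 1, 2, 3, 5, 4, 3, 2, 1, 2, 3],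
  [6, 3, 5, 2, 3, 1, 2, 3, 4, 5, 3, 2, 1, 3, 2, 3, 4, 2, 3, 1, 2, 3, 5, 4, 3, 2, 1],
  [1, 0, 1, 6, 3, 2, 3],
  [3, 1, 2, 3, 4, 5, 3, 2, 1, 3, 2, 3, 4, 2, 3, 1, 2, 3, 5, 4, 3, 2, 1, 3, 5, 6, 3],
  [1, 2, 3, 4, 5, 3, 2, 1, 3, 2, 3, 4, 2, 3, 1, 2, 3, 5, 4, 3, 2, 1, 6, 3, 2, 3],
  [6, 1, 2, 3, 4, 5, 3, 2, 1, 3, 2, 3, 4, 2, 3, 1, 2, 3, 5, 4, 3, 2, 1, 6, 3],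
  [1, 0, 1, 1, 2, 3, 4, 5, 3, 2, 1, 3, 2, 3, 4, 2, 3, 1, 2, 3, 5, 4, 3, 2, 1, 2, 3, 6, 5, 2, 3],
  [5, 6, 5, 3, 2, 3],
  [1, 2, 3, 4, 5, 3, 2, 1, 3, 2, 3, 4, 2, 3, 1, 2, 3, 5, 4, 3, 2, 1, 3, 6, 2, 1, 2, 3, 4, 5, 3, 2, 1, 3, 2, 3, 4, 2, 3, 1, 2, 3, 5, 4, 3, 2, 1, 3],
  [1, 0, 1, 1, 2, 3, 4, 5, 3, 2, 1, 3, 2, 3, 4, 2, 3, 1, 2, 3, 5, 4, 3, 2, 1, 6, 3],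
  [1, 0, 1, 3, 5, 2, 3, 1, 2, 3, 4, 5, 3, 2, 1, 3, 2, 3, 4, 2, 3, 1, 2, 3, 5, 4, 3, 2, 1],
  [1, 2, 3, 4, 5, 3, 2, 1, 3, 2, 3, 4, 2, 3, 1, 2, 3, 5, 4, 3, 2, 1, 1, 0, 1, 6, 2, 3],
  [3, 5, 1, 2, 3, 4, 5, 3, 2, 1, 3, 2, 3, 4, 2, 3, 1, 2, 3, 5, 4, 3, 2, 1, 3, 5, 2, 3],
  [3, 2, 3],
  [3, 1, 2, 3, 4, 5, 3, 2, 1, 3, 2, 3, 4, 2, 3, 1, 2, 3, 5, 4, 3, 2, 1, 5, 3],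
  [1, 2, 3, 4, 5, 3, 2, 1, 3, 2, 3, 4, 2, 3, 1, 2, 3, 5, 4, 3, 2, 1, 3, 5, 2, 1, 2, 3, 4, 5, 3, 2, 1, 3, 2, 3, 4, 2, 3, 1, 2, 3, 5, 4, 3, 2, 1, 3],
  [1, 2, 3, 4, 5, 3, 2, 1, 3, 2, 3, 4, 2, 3, 1, 2, 3, 5, 4, 3, 2, 1, 3, 6, 1, 2, 3, 4, 5, 3, 2, 1, 3, 2, 3, 4, 2, 3, 1, 2, 3, 5, 4, 3, 2, 1, 6, 3],
  [3, 6, 1, 2, 3, 4, 5, 3, 2, 1, 3, 2, 3, 4, 2, 3, 1, 2, 3, 5, 4, 3, 2, 1, 2, 3],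
  [1, 2, 3, 4, 5, 3, 2, 1, 3, 2, 3, 4, 2, 3, 1, 2, 3, 5, 4, 3, 2, 1, 2, 1, 0, 1, 3, 1, 2, 3, 4, 5, 3, 2, 1, 3, 2, 3, 4, 2, 3, 1, 2, 3, 5, 4, 3, 2, 1],
  [5, 3, 6, 3, 5, 2, 3],
  [5, 6, 3],
  [2, 3, 6, 5, 2, 3],
  [6, 3, 5, 3, 6, 2, 3],
  [6, 5, 3],
  [2, 3, 5, 6, 2, 3],
  [1, 2, 3, 4, 5, 3, 2, 1, 3, 2, 3, 4, 2, 3, 1, 2, 3, 5, 4, 3, 2, 1, 2, 3],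
  [1, 0, 1, 2, 3, 1, 2, 3, 4, 5, 3, 2, 1, 3, 2, 3, 4, 2, 3, 1, 2, 3, 5, 4, 3, 2, 1],
  [3, 5, 3, 2, 3],
  [1, 2, 3, 4, 5, 3, 2, 1, 3, 2, 3, 4, 2, 3, 1, 2, 3, 5, 4, 3, 2, 1, 6, 1, 2, 3, 4, 5, 3, 2, 1, 3, 2, 3, 4, 2, 3, 1, 2, 3, 5, 4, 3, 2, 1, 2, 3, 1, 2, 3, 4, 5, 3, 2, 1, 3, 2, 3, 4, 2, 3, 1, 2, 3, 5, 4, 3, 2, 1],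
  [5, 1, 2, 3, 4, 5, 3, 2, 1, 3, 2, 3, 4, 2, 3, 1, 2, 3, 5, 4, 3, 2, 1, 1, 2, 3, 4, 5, 3, 2, 1, 3, 2, 3, 4, 2, 3, 1, 2, 3, 5, 4, 3, 2, 1, 3, 1, 2, 3, 4, 5, 3, 2, 1, 3, 2, 3, 4, 2, 3, 1, 2, 3, 5, 4, 3, 2, 1, 5, 3],
  [3, 6, 3, 2, 3],
  [1, 0, 1, 2, 1, 2, 3, 4, 5, 3, 2, 1, 3, 2, 3, 4, 2, 3, 1, 2, 3, 5, 4, 3, 2, 1, 3],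
  [3, 2, 1, 2, 3, 4, 5, 3, 2, 1, 3, 2, 3, 4, 2, 3, 1, 2, 3, 5, 4, 3, 2, 1, 3],
  [3, 6, 1, 2, 3, 4, 5, 3, 2, 1, 3, 2, 3, 4, 2, 3, 1, 2, 3, 5, 4, 3, 2, 1, 1, 0, 1, 2, 3]]
def us3 : List (List Nat) := [[3, 6, 1, 2, 3, 4, 5, 3, 2, 1, 3, 2, 3, 4, 2, 3, 1, 2, 3, 5, 4, 3, 2, 1, 1, 2, 3, 4, 5, 3, 2, 1, 3, 2, 3, 4, 2, 3, 1, 2, 3, 5, 4, 3, 2, 1, 2, 3],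
  [1, 0, 1, 3, 6, 1, 2, 3, 4, 5, 3, 2, 1, 3, 2, 3, 4, 2, 3, 1, 2, 3, 5, 4, 3, 2, 1, 3, 2, 3],
  [3, 6, 1, 2, 3, 4, 5, 3, 2, 1, 3, 2, 3, 4, 2, 3, 1, 2, 3, 5, 4, 3, 2, 1, 3, 2, 3],
  [3, 6, 5, 3],
  [1, 0, 1, 3, 2, 3, 6, 2, 3],
  [3, 2, 3, 6, 2, 3],
  [2, 1, 0, 1, 2, 3, 6, 5, 3],
  [1, 0, 1, 1, 2, 3, 4, 5, 3, 2, 1, 3, 2, 3, 4, 2, 3, 1, 2, 3, 5, 4, 3, 2, 1, 2, 3],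
  [2, 3, 1, 2, 3, 4, 5, 3, 2, 1, 3, 2, 3, 4, 2, 3, 1, 2, 3, 5, 4, 3, 2, 1],
  [1, 0, 1, 3, 5, 3, 2, 3],
  [5, 6, 5, 3, 6, 2, 3],
  [6, 5, 6, 3, 5, 2, 3],
  [1, 2, 3, 4, 5, 3, 2, 1, 3, 2, 3, 4, 2, 3, 1, 2, 3, 5, 4, 3, 2, 1, 6, 1, 2, 3, 4, 5, 3, 2, 1, 3, 2, 3, 4, 2, 3, 1, 2, 3, 5, 4, 3, 2, 1, 3, 1, 2, 3, 4, 5, 3, 2, 1, 3, 2, 3, 4, 2, 3, 1, 2, 3, 5, 4, 3, 2, 1],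
  [2, 1, 0, 1, 3, 1, 2, 3, 4, 5, 3, 2, 1, 3, 2, 3, 4, 2, 3, 1, 2, 3, 5, 4, 3, 2, 1],
  [2, 1, 2, 3, 4, 5, 3, 2, 1, 3, 2, 3, 4, 2, 3, 1, 2, 3, 5, 4, 3, 2, 1, 3],
  [1, 0, 1, 1, 2, 3, 4, 5, 3, 2, 1, 3, 2, 3, 4, 2, 3, 1, 2, 3, 5, 4, 3, 2, 1, 3],
  [2, 1, 0, 1, 2, 3, 1, 2, 3, 4, 5, 3, 2, 1, 3, 2, 3, 4, 2, 3, 1, 2, 3, 5, 4, 3, 2, 1, 6, 5, 3],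
  [1, 2, 3, 4, 5, 3, 2, 1, 3, 2, 3, 4, 2, 3, 1, 2, 3, 5, 4, 3, 2, 1, 3, 6, 5, 3, 6, 2, 3],
  [2, 1, 2, 3, 4, 5, 3, 2, 1, 3, 2, 3, 4, 2, 3, 1, 2, 3, 5, 4, 3, 2, 1, 3, 1, 2, 3, 4, 5, 3, 2, 1, 3, 2, 3, 4, 2, 3, 1, 2, 3, 5, 4, 3, 2, 1, 5, 6, 3],
  [3, 1, 2, 3, 4, 5, 3, 2, 1, 3, 2, 3, 4, 2, 3, 1, 2, 3, 5, 4, 3, 2, 1],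
  [1, 2, 3, 4, 5, 3, 2, 1, 3, 2, 3, 4, 2, 3, 1, 2, 3, 5, 4, 3, 2, 1, 1, 0, 1, 2, 3, 5, 6, 3],
  [3, 6, 5, 1, 2, 3, 4, 5, 3, 2, 1, 3, 2, 3, 4, 2, 3, 1, 2, 3, 5, 4, 3, 2, 1, 3, 6, 2, 3],
  [5, 1, 2, 3, 4, 5, 3, 2, 1, 3, 2, 3, 4, 2, 3, 1, 2, 3, 5, 4, 3, 2, 1, 1, 2, 3, 4, 5, 3, 2, 1, 3, 2, 3, 4, 2, 3, 1, 2, 3, 5, 4, 3, 2, 1, 2, 3],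
  [5, 1, 2, 3, 4, 5, 3, 2, 1, 3, 2, 3, 4, 2, 3, 1, 2, 3, 5, 4, 3, 2, 1, 3, 2, 3],
  [3, 1, 2, 3, 4, 5, 3, 2, 1, 3, 2, 3, 4, 2, 3, 1, 2, 3, 5, 4, 3, 2, 1, 6, 5, 3, 1, 2, 3, 4, 5, 3, 2, 1, 3, 2, 3, 4, 2, 3, 1, 2, 3, 5, 4, 3, 2, 1],
  [1, 2, 3, 4, 5, 3, 2, 1, 3, 2, 3, 4, 2, 3, 1, 2, 3, 5, 4, 3, 2, 1, 2, 3, 5, 6, 3],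
  [1, 2, 3, 4, 5, 3, 2, 1, 3, 2, 3, 4, 2, 3, 1, 2, 3, 5, 4, 3, 2, 1, 3, 1, 2, 3, 4, 5, 3, 2, 1, 3, 2, 3, 4, 2, 3, 1, 2, 3, 5, 4, 3, 2, 1, 5, 6, 3],
  [3, 6, 1, 2, 3, 4, 5, 3, 2, 1, 3, 2, 3, 4, 2, 3, 1, 2, 3, 5, 4, 3, 2, 1, 5, 3, 1, 2, 3, 4, 5, 3, 2, 1, 3, 2, 3, 4, 2, 3, 1, 2, 3, 5, 4, 3, 2, 1, 5, 3],
  [6, 1, 2, 3, 4, 5, 3, 2, 1, 3, 2, 3, 4, 2, 3, 1, 2, 3, 5, 4, 3, 2, 1, 3, 5, 6, 3],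
  [6, 1, 2, 3, 4, 5, 3, 2, 1, 3, 2, 3, 4, 2, 3, 1, 2, 3, 5, 4, 3, 2, 1, 3, 2, 3],
  [6, 1, 2, 3, 4, 5, 3, 2, 1, 3, 2, 3, 4, 2, 3, 1, 2, 3, 5, 4, 3, 2, 1, 1, 2, 3, 4, 5, 3, 2, 1, 3, 2, 3, 4, 2, 3, 1, 2, 3, 5, 4, 3, 2, 1, 2, 3],
  [1, 0, 1, 2, 3, 1, 2, 3, 4, 5, 3, 2, 1, 3, 2, 3, 4, 2, 3, 1, 2, 3, 5, 4, 3, 2, 1, 6, 5, 3],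
  [1, 0, 1, 1, 2, 3, 4, 5, 3, 2, 1, 3, 2, 3, 4, 2, 3, 1, 2, 3, 5, 4, 3, 2, 1, 3, 1, 2, 3, 4, 5, 3, 2, 1, 3, 2, 3, 4, 2, 3, 1, 2, 3, 5, 4, 3, 2, 1, 6, 5, 3],
  [5, 3, 6, 1, 2, 3, 4, 5, 3, 2, 1, 3, 2, 3, 4, 2, 3, 1, 2, 3, 5, 4, 3, 2, 1, 3, 2, 3],
  [5, 3, 6, 1, 2, 3, 4, 5, 3, 2, 1, 3, 2, 3, 4, 2, 3, 1, 2, 3, 5, 4, 3, 2, 1, 1, 0, 1, 2, 3],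
  [1, 0, 1, 5, 3, 6, 1, 2, 3, 4, 5, 3, 2, 1, 3, 2, 3, 4, 2, 3, 1, 2, 3, 5, 4, 3, 2, 1, 3, 2, 3],
  [5, 3, 6, 1, 2, 3, 4, 5, 3, 2, 1, 3, 2, 3, 4, 2, 3, 1, 2, 3, 5, 4, 3, 2, 1, 1, 2, 3, 4, 5, 3, 2, 1, 3, 2, 3, 4, 2, 3, 1, 2, 3, 5, 4, 3, 2, 1, 2, 3],
  [5, 3, 2, 3, 6, 2, 3],
  [3, 1, 2, 3, 4, 5, 3, 2, 1, 3, 2, 3, 4, 2, 3, 1, 2, 3, 5, 4, 3, 2, 1, 6, 1, 2, 3, 4, 5, 3, 2, 1, 3, 2, 3, 4, 2, 3, 1, 2, 3, 5, 4, 3, 2, 1, 1, 2, 3, 4, 5, 3, 2, 1, 3, 2, 3, 4, 2, 3, 1, 2, 3, 5, 4, 3, 2, 1, 2, 3],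
  [5, 3, 6, 5, 3]]
def us4 : List (List Nat) := [[6, 5, 3, 6, 5, 3],
  [1, 2, 3, 4, 5, 3, 2, 1, 3, 2, 3, 4, 2, 3, 1, 2, 3, 5, 4, 3, 2, 1, 3, 5, 3, 1, 2, 3, 4, 5, 3, 2, 1, 3, 2, 3, 4, 2, 3, 1, 2, 3, 5, 4, 3, 2, 1, 6, 3],
  [1, 2, 3, 4, 5, 3, 2, 1, 3, 2, 3, 4, 2, 3, 1, 2, 3, 5, 4, 3, 2, 1, 6, 2, 3, 5, 2, 3],
  [1, 2, 3, 4, 5, 3, 2, 1, 3, 2, 3, 4, 2, 3, 1, 2, 3, 5, 4, 3, 2, 1, 1, 2, 3, 4, 5, 3, 2, 1, 3, 2, 3, 4, 2, 3, 1, 2, 3, 5, 4, 3, 2, 1, 3, 5, 6, 3, 2, 3],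
  [2, 3, 6, 1, 2, 3, 4, 5, 3, 2, 1, 3, 2, 3, 4, 2, 3, 1, 2, 3, 5, 4, 3, 2, 1, 6, 5, 3],
  [1, 0, 1, 6, 1, 2, 3, 4, 5, 3, 2, 1, 3, 2, 3, 4, 2, 3, 1, 2, 3, 5, 4, 3, 2, 1, 3, 1, 2, 3, 4, 5, 3, 2, 1, 3, 2, 3, 4, 2, 3, 1, 2, 3, 5, 4, 3, 2, 1],
  [6, 1, 2, 3, 4, 5, 3, 2, 1, 3, 2, 3, 4, 2, 3, 1, 2, 3, 5, 4, 3, 2, 1, 3, 1, 2, 3, 4, 5, 3, 2, 1, 3, 2, 3, 4, 2, 3, 1, 2, 3, 5, 4, 3, 2, 1],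
  [1, 0, 1, 3, 6, 2, 3, 2, 3],
  [3, 6, 2, 3, 2, 3],
  [3, 6, 1, 2, 3, 4, 5, 3, 2, 1, 3, 2, 3, 4, 2, 3, 1, 2, 3, 5, 4, 3, 2, 1, 6, 2, 3],
  [3, 1, 2, 3, 4, 5, 3, 2, 1, 3, 2, 3, 4, 2, 3, 1, 2, 3, 5, 4, 3, 2, 1, 6, 2, 3, 2, 3],
  [3, 6, 5, 1, 2, 3, 4, 5, 3, 2, 1, 3, 2, 3, 4, 2, 3, 1, 2, 3, 5, 4, 3, 2, 1, 3, 1, 2, 3, 4, 5, 3, 2, 1, 3, 2, 3, 4, 2, 3, 1, 2, 3, 5, 4, 3, 2, 1],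
  [1, 2, 3, 4, 5, 3, 2, 1, 3, 2, 3, 4, 2, 3, 1, 2, 3, 5, 4, 3, 2, 1, 5, 3, 2, 1, 2, 3, 4, 5, 3, 2, 1, 3, 2, 3, 4, 2, 3, 1, 2, 3, 5, 4, 3, 2, 1, 6, 3],
  [1, 2, 3, 4, 5, 3, 2, 1, 3, 2, 3, 4, 2, 3, 1, 2, 3, 5, 4, 3, 2, 1, 2, 3, 6, 5, 3],
  [3, 2, 1, 2, 3, 4, 5, 3, 2, 1, 3, 2, 3, 4, 2, 3, 1, 2, 3, 5, 4, 3, 2, 1, 6, 1, 2, 3, 4, 5, 3, 2, 1, 3, 2, 3, 4, 2, 3, 1, 2, 3, 5, 4, 3, 2, 1, 3],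
  [1, 0, 1, 2, 1, 2, 3, 4, 5, 3, 2, 1, 3, 2, 3, 4, 2, 3, 1, 2, 3, 5, 4, 3, 2, 1, 3, 6, 5, 3],
  [2, 1, 2, 3, 4, 5, 3, 2, 1, 3, 2, 3, 4, 2, 3, 1, 2, 3, 5, 4, 3, 2, 1, 3, 6, 5, 3],
  [3, 6, 5, 1, 2, 3, 4, 5, 3, 2, 1, 3, 2, 3, 4, 2, 3, 1, 2, 3, 5, 4, 3, 2, 1, 6, 3, 1, 2, 3, 4, 5, 3, 2, 1, 3, 2, 3, 4, 2, 3, 1, 2, 3, 5, 4, 3, 2, 1],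
  [2, 1, 2, 3, 4, 5, 3, 2, 1, 3, 2, 3, 4, 2, 3, 1, 2, 3, 5, 4, 3, 2, 1, 5, 3],
  [1, 0, 1, 5, 1, 2, 3, 4, 5, 3, 2, 1, 3, 2, 3, 4, 2, 3, 1, 2, 3, 5, 4, 3, 2, 1, 3, 2, 3],
  [5, 3, 1, 2, 3, 4, 5, 3, 2, 1, 3, 2, 3, 4, 2, 3, 1, 2, 3, 5, 4, 3, 2, 1, 6, 5, 3],
  [1, 0, 1, 1, 2, 3, 4, 5, 3, 2, 1, 3, 2, 3, 4, 2, 3, 1, 2, 3, 5, 4, 3, 2, 1, 2, 3, 5, 6, 3],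
  [1, 0, 1, 1, 2, 3, 4, 5, 3, 2, 1, 3, 2, 3, 4, 2, 3, 1, 2, 3, 5, 4, 3, 2, 1, 3, 1, 2, 3, 4, 5, 3, 2, 1, 3, 2, 3, 4, 2, 3, 1, 2, 3, 5, 4, 3, 2, 1, 5, 6, 3],
  [1, 2, 3, 4, 5, 3, 2, 1, 3, 2, 3, 4, 2, 3, 1, 2, 3, 5, 4, 3, 2, 1, 3],
  [1, 2, 3, 4, 5, 3, 2, 1, 3, 2, 3, 4, 2, 3, 1, 2, 3, 5, 4, 3, 2, 1, 2, 3, 1, 2, 3, 4, 5, 3, 2, 1, 3, 2, 3, 4, 2, 3, 1, 2, 3, 5, 4, 3, 2, 1, 6, 5, 3],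
  [1, 2, 3, 4, 5, 3, 2, 1, 3, 2, 3, 4, 2, 3, 1, 2, 3, 5, 4, 3, 2, 1, 1, 2, 3, 4, 5, 3, 2, 1, 3, 2, 3, 4, 2, 3, 1, 2, 3, 5, 4, 3, 2, 1, 2, 3, 5, 6, 3],
  [3, 2, 3, 5, 1, 2, 3, 4, 5, 3, 2, 1, 3, 2, 3, 4, 2, 3, 1, 2, 3, 5, 4, 3, 2, 1, 6, 3],
  [1, 2, 3, 4, 5, 3, 2, 1, 3, 2, 3, 4, 2, 3, 1, 2, 3, 5, 4, 3, 2, 1, 3, 2, 3, 5, 6, 2, 3],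
  [1, 0, 1, 3, 1, 2, 3, 4, 5, 3, 2, 1, 3, 2, 3, 4, 2, 3, 1, 2, 3, 5, 4, 3, 2, 1],
  [1, 2, 3, 4, 5, 3, 2, 1, 3, 2, 3, 4, 2, 3, 1, 2, 3, 5, 4, 3, 2, 1, 3, 6, 5, 2, 3, 2, 3],
  [1, 0, 1, 6, 1, 2, 3, 4, 5, 3, 2, 1, 3, 2, 3, 4, 2, 3, 1, 2, 3, 5, 4, 3, 2, 1, 3, 2, 3],
  [1, 2, 3, 4, 5, 3, 2, 1, 3, 2, 3, 4, 2, 3, 1, 2, 3, 5, 4, 3, 2, 1, 3, 5, 6, 1, 2, 3, 4, 5, 3, 2, 1, 3, 2, 3, 4, 2, 3, 1, 2, 3, 5, 4, 3, 2, 1, 3],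
  [6, 1, 2, 3, 4, 5, 3, 2, 1, 3, 2, 3, 4, 2, 3, 1, 2, 3, 5, 4, 3, 2, 1, 1, 0, 1, 2, 3],
  [1, 2, 3, 4, 5, 3, 2, 1, 3, 2, 3, 4, 2, 3, 1, 2, 3, 5, 4, 3, 2, 1, 3, 1, 2, 3, 4, 5, 3, 2, 1, 3, 2, 3, 4, 2, 3, 1, 2, 3, 5, 4, 3, 2, 1, 6, 5, 3],
  [2, 3, 1, 2, 3, 4, 5, 3, 2, 1, 3, 2, 3, 4, 2, 3, 1, 2, 3, 5, 4, 3, 2, 1, 6, 5, 3],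
  [5, 1, 2, 3, 4, 5, 3, 2, 1, 3, 2, 3, 4, 2, 3, 1, 2, 3, 5, 4, 3, 2, 1, 1, 0, 1, 3, 1, 2, 3, 4, 5, 3, 2, 1, 3, 2, 3, 4, 2, 3, 1, 2, 3, 5, 4, 3, 2, 1, 6, 5, 3],
  [5, 1, 2, 3, 4, 5, 3, 2, 1, 3, 2, 3, 4, 2, 3, 1, 2, 3, 5, 4, 3, 2, 1, 1, 0, 1, 3, 1, 2, 3, 4, 5, 3, 2, 1, 3, 2, 3, 4, 2, 3, 1, 2, 3, 5, 4, 3, 2, 1],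
  [2, 3, 5, 6, 3, 5, 2, 3],
  [6, 1, 2, 3, 4, 5, 3, 2, 1, 3, 2, 3, 4, 2, 3, 1, 2, 3, 5, 4, 3, 2, 1, 1, 0, 1, 3, 1, 2, 3, 4, 5, 3, 2, 1, 3, 2, 3, 4, 2, 3, 1, 2, 3, 5, 4, 3, 2, 1, 5, 6, 3],
  [6, 1, 2, 3, 4, 5, 3, 2, 1, 3, 2, 3, 4, 2, 3, 1, 2, 3, 5, 4, 3, 2, 1, 1, 0, 1, 3, 1, 2, 3, 4, 5, 3, 2, 1, 3, 2, 3, 4, 2, 3, 1, 2, 3, 5, 4, 3, 2, 1]]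
def us5 : List (List Nat) := [[2, 3, 6, 5, 3, 6, 2, 3],
  [1, 2, 3, 4, 5, 3, 2, 1, 3, 2, 3, 4, 2, 3, 1, 2, 3, 5, 4, 3, 2, 1, 1, 2, 3, 4, 5, 3, 2, 1, 3, 2, 3, 4, 2, 3, 1, 2, 3, 5, 4, 3, 2, 1, 3, 1, 2, 3, 4, 5, 3, 2, 1, 3, 2, 3, 4, 2, 3, 1, 2, 3, 5, 4, 3, 2, 1],
  [1, 2, 3, 4, 5, 3, 2, 1, 3, 2, 3, 4, 2, 3, 1, 2, 3, 5, 4, 3, 2, 1, 1, 2, 3, 4, 5, 3, 2, 1, 3, 2, 3, 4, 2, 3, 1, 2, 3, 5, 4, 3, 2, 1, 3, 1, 2, 3, 4, 5, 3, 2, 1, 3, 2, 3, 4, 2, 3, 1, 2, 3, 5, 4, 3, 2, 1, 5, 6, 3],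
  [1, 2, 3, 4, 5, 3, 2, 1, 3, 2, 3, 4, 2, 3, 1, 2, 3, 5, 4, 3, 2, 1, 1, 2, 3, 4, 5, 3, 2, 1, 3, 2, 3, 4, 2, 3, 1, 2, 3, 5, 4, 3, 2, 1, 3, 1, 2, 3, 4, 5, 3, 2, 1, 3, 2, 3, 4, 2, 3, 1, 2, 3, 5, 4, 3, 2, 1, 6, 5, 3],
  [3, 1, 2, 3, 4, 5, 3, 2, 1, 3, 2, 3, 4, 2, 3, 1, 2, 3, 5, 4, 3, 2, 1, 3, 6, 5, 2, 3],
  [6, 3, 5, 6, 3, 1, 2, 3, 4, 5, 3, 2, 1, 3, 2, 3, 4, 2, 3, 1, 2, 3, 5, 4, 3, 2, 1, 5, 3],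
  [1, 0, 1, 1, 2, 3, 4, 5, 3, 2, 1, 3, 2, 3, 4, 2, 3, 1, 2, 3, 5, 4, 3, 2, 1, 3, 6, 5, 2, 3],
  [1, 2, 3, 4, 5, 3, 2, 1, 3, 2, 3, 4, 2, 3, 1, 2, 3, 5, 4, 3, 2, 1, 3, 5, 6, 3, 1, 2, 3, 4, 5, 3, 2, 1, 3, 2, 3, 4, 2, 3, 1, 2, 3, 5, 4, 3, 2, 1],
  [2, 1, 0, 1, 3, 1, 2, 3, 4, 5, 3, 2, 1, 3, 2, 3, 4, 2, 3, 1, 2, 3, 5, 4, 3, 2, 1, 5, 3],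
  [2, 3, 5, 2, 3, 1, 2, 3, 4, 5, 3, 2, 1, 3, 2, 3, 4, 2, 3, 1, 2, 3, 5, 4, 3, 2, 1],
  [5, 6, 3, 1, 2, 3, 4, 5, 3, 2, 1, 3, 2, 3, 4, 2, 3, 1, 2, 3, 5, 4, 3, 2, 1, 5, 3],
  [1, 2, 3, 4, 5, 3, 2, 1, 3, 2, 3, 4, 2, 3, 1, 2, 3, 5, 4, 3, 2, 1, 6, 5, 3, 2, 3],
  [6, 3, 1, 2, 3, 4, 5, 3, 2, 1, 3, 2, 3, 4, 2, 3, 1, 2, 3, 5, 4, 3, 2, 1, 5, 3, 1, 2, 3, 4, 5, 3, 2, 1, 3, 2, 3, 4, 2, 3, 1, 2, 3, 5, 4, 3, 2, 1],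
  [6, 1, 2, 3, 4, 5, 3, 2, 1, 3, 2, 3, 4, 2, 3, 1, 2, 3, 5, 4, 3, 2, 1, 3, 5, 2, 3, 1, 2, 3, 4, 5, 3, 2, 1, 3, 2, 3, 4, 2, 3, 1, 2, 3, 5, 4, 3, 2, 1],
  [5, 6, 3, 2, 3],
  [6, 5, 1, 2, 3, 4, 5, 3, 2, 1, 3, 2, 3, 4, 2, 3, 1, 2, 3, 5, 4, 3, 2, 1, 6, 3],
  [1, 2, 3, 4, 5, 3, 2, 1, 3, 2, 3, 4, 2, 3, 1, 2, 3, 5, 4, 3, 2, 1, 6, 1, 2, 3, 4, 5, 3, 2, 1, 3, 2, 3, 4, 2, 3, 1, 2, 3, 5, 4, 3, 2, 1, 5, 3],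
  [1, 0, 1, 6, 5, 3, 2, 3],
  [1, 2, 3, 4, 5, 3, 2, 1, 3, 2, 3, 4, 2, 3, 1, 2, 3, 5, 4, 3, 2, 1, 5, 3, 6, 5, 2, 3],
  [1, 0, 1, 5, 1, 2, 3, 4, 5, 3, 2, 1, 3, 2, 3, 4, 2, 3, 1, 2, 3, 5, 4, 3, 2, 1, 6, 3, 2, 3],
  [5, 3, 6, 1, 2, 3, 4, 5, 3, 2, 1, 3, 2, 3, 4, 2, 3, 1, 2, 3, 5, 4, 3, 2, 1, 2, 3],
  [1, 0, 1, 5, 1, 2, 3, 4, 5, 3, 2, 1, 3, 2, 3, 4, 2, 3, 1, 2, 3, 5, 4, 3, 2, 1, 6, 3],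
  [5, 3, 2, 3],
  [1, 2, 3, 4, 5, 3, 2, 1, 3, 2, 3, 4, 2, 3, 1, 2, 3, 5, 4, 3, 2, 1, 1, 0, 1, 5, 3, 1, 2, 3, 4, 5, 3, 2, 1, 3, 2, 3, 4, 2, 3, 1, 2, 3, 5, 4, 3, 2, 1],
  [1, 0, 1, 1, 2, 3, 4, 5, 3, 2, 1, 3, 2, 3, 4, 2, 3, 1, 2, 3, 5, 4, 3, 2, 1, 3, 5, 2, 3, 1, 2, 3, 4, 5, 3, 2, 1, 3, 2, 3, 4, 2, 3, 1, 2, 3, 5, 4, 3, 2, 1],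
  [5, 1, 2, 3, 4, 5, 3, 2, 1, 3, 2, 3, 4, 2, 3, 1, 2, 3, 5, 4, 3, 2, 1, 3, 6, 1, 2, 3, 4, 5, 3, 2, 1, 3, 2, 3, 4, 2, 3, 1, 2, 3, 5, 4, 3, 2, 1, 6, 3],
  [1, 2, 3, 4, 5, 3, 2, 1, 3, 2, 3, 4, 2, 3, 1, 2, 3, 5, 4, 3, 2, 1, 6, 5, 3],
  [5, 3, 1, 2, 3, 4, 5, 3, 2, 1, 3, 2, 3, 4, 2, 3, 1, 2, 3, 5, 4, 3, 2, 1, 5, 3],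
  [1, 2, 3, 4, 5, 3, 2, 1, 3, 2, 3, 4, 2, 3, 1, 2, 3, 5, 4, 3, 2, 1, 1, 2, 3, 4, 5, 3, 2, 1, 3, 2, 3, 4, 2, 3, 1, 2, 3, 5, 4, 3, 2, 1, 3, 5, 3, 2, 3],
  [3, 5, 2, 1, 2, 3, 4, 5, 3, 2, 1, 3, 2, 3, 4, 2, 3, 1, 2, 3, 5, 4, 3, 2, 1, 3, 1, 2, 3, 4, 5, 3, 2, 1, 3, 2, 3, 4, 2, 3, 1, 2, 3, 5, 4, 3, 2, 1],
  [3, 1, 2, 3, 4, 5, 3, 2, 1, 3, 2, 3, 4, 2, 3, 1, 2, 3, 5, 4, 3, 2, 1, 6, 5, 2, 3],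
  [5, 3, 1, 2, 3, 4, 5, 3, 2, 1, 3, 2, 3, 4, 2, 3, 1, 2, 3, 5, 4, 3, 2, 1, 6, 5, 1, 2, 3, 4, 5, 3, 2, 1, 3, 2, 3, 4, 2, 3, 1, 2, 3, 5, 4, 3, 2, 1, 3],
  [3, 6, 5, 1, 2, 3, 4, 5, 3, 2, 1, 3, 2, 3, 4, 2, 3, 1, 2, 3, 5, 4, 3, 2, 1, 6, 3],
  [1, 2, 3, 4, 5, 3, 2, 1, 3, 2, 3, 4, 2, 3, 1, 2, 3, 5, 4, 3, 2, 1, 5, 1, 2, 3, 4, 5, 3, 2, 1, 3, 2, 3, 4, 2, 3, 1, 2, 3, 5, 4, 3, 2, 1, 6, 3],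
  [2, 1, 0, 1, 3, 6, 1, 2, 3, 4, 5, 3, 2, 1, 3, 2, 3, 4, 2, 3, 1, 2, 3, 5, 4, 3, 2, 1, 2, 3],
  [2, 1, 2, 3, 4, 5, 3, 2, 1, 3, 2, 3, 4, 2, 3, 1, 2, 3, 5, 4, 3, 2, 1, 6, 3],
  [1, 0, 1, 5, 6, 3, 1, 2, 3, 4, 5, 3, 2, 1, 3, 2, 3, 4, 2, 3, 1, 2, 3, 5, 4, 3, 2, 1, 5, 3],
  [5, 6, 3, 5, 2, 3, 1, 2, 3, 4, 5, 3, 2, 1, 3, 2, 3, 4, 2, 3, 1, 2, 3, 5, 4, 3, 2, 1],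
  [6, 5, 3, 1, 2, 3, 4, 5, 3, 2, 1, 3, 2, 3, 4, 2, 3, 1, 2, 3, 5, 4, 3, 2, 1, 5, 3],
  [1, 0, 1, 5, 6, 3, 2, 3]]
def us6 : List (List Nat) := [[1, 2, 3, 4, 5, 3, 2, 1, 3, 2, 3, 4, 2, 3, 1, 2, 3, 5, 4, 3, 2, 1, 6, 5, 1, 2, 3, 4, 5, 3, 2, 1, 3, 2, 3, 4, 2, 3, 1, 2, 3, 5, 4, 3, 2, 1, 3],
  [6, 3, 5, 2, 1, 2, 3, 4, 5, 3, 2, 1, 3, 2, 3, 4, 2, 3, 1, 2, 3, 5, 4, 3, 2, 1, 3, 1, 2, 3, 4, 5, 3, 2, 1, 3, 2, 3, 4, 2, 3, 1, 2, 3, 5, 4, 3, 2, 1],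
  [1, 0, 1, 1, 2, 3, 4, 5, 3, 2, 1, 3, 2, 3, 4, 2, 3, 1, 2, 3, 5, 4, 3, 2, 1, 6, 5, 3, 2, 3],
  [6, 1, 2, 3, 4, 5, 3, 2, 1, 3, 2, 3, 4, 2, 3, 1, 2, 3, 5, 4, 3, 2, 1, 6, 5, 3],
  [6, 5, 3, 2, 3],
  [5, 1, 2, 3, 4, 5, 3, 2, 1, 3, 2, 3, 4, 2, 3, 1, 2, 3, 5, 4, 3, 2, 1, 6, 3, 2, 3],
  [6, 3, 1, 2, 3, 4, 5, 3, 2, 1, 3, 2, 3, 4, 2, 3, 1, 2, 3, 5, 4, 3, 2, 1, 5, 3],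
  [6, 3, 2, 3],
  [3, 1, 2, 3, 4, 5, 3, 2, 1, 3, 2, 3, 4, 2, 3, 1, 2, 3, 5, 4, 3, 2, 1, 6, 3, 2, 3],
  [1, 0, 1, 6, 3, 5, 2, 3, 1, 2, 3, 4, 5, 3, 2, 1, 3, 2, 3, 4, 2, 3, 1, 2, 3, 5, 4, 3, 2, 1],
  [1, 0, 1, 1, 2, 3, 4, 5, 3, 2, 1, 3, 2, 3, 4, 2, 3, 1, 2, 3, 5, 4, 3, 2, 1, 6, 3, 2, 3],
  [1, 0, 1, 3, 1, 2, 3, 4, 5, 3, 2, 1, 3, 2, 3, 4, 2, 3, 1, 2, 3, 5, 4, 3, 2, 1, 3, 5, 6, 3],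
  [1, 2, 3, 4, 5, 3, 2, 1, 3, 2, 3, 4, 2, 3, 1, 2, 3, 5, 4, 3, 2, 1, 2, 3, 6, 5, 2, 3],
  [1, 2, 3, 4, 5, 3, 2, 1, 3, 2, 3, 4, 2, 3, 1, 2, 3, 5, 4, 3, 2, 1, 6, 1, 2, 3, 4, 5, 3, 2, 1, 3, 2, 3, 4, 2, 3, 1, 2, 3, 5, 4, 3, 2, 1, 3],
  [3, 6, 3, 1, 2, 3, 4, 5, 3, 2, 1, 3, 2, 3, 4, 2, 3, 1, 2, 3, 5, 4, 3, 2, 1, 2, 3],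
  [3, 1, 2, 3, 4, 5, 3, 2, 1, 3, 2, 3, 4, 2, 3, 1, 2, 3, 5, 4, 3, 2, 1, 1, 2, 3, 4, 5, 3, 2, 1, 3, 2, 3, 4, 2, 3, 1, 2, 3, 5, 4, 3, 2, 1, 6, 1, 2, 3, 4, 5, 3, 2, 1, 3, 2, 3, 4, 2, 3, 1, 2, 3, 5, 4, 3, 2, 1, 3],
  [3, 5, 6, 2, 3],
  [3, 6, 5, 2, 3],
  [3],
  [6, 3, 5, 6, 2, 3],
  [3, 6, 3, 5, 2, 3],
  [6, 3],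
  [3, 5, 3, 6, 2, 3],
  [5, 3, 6, 5, 2, 3],
  [5, 3],
  [1, 0, 1, 1, 2, 3, 4, 5, 3, 2, 1, 3, 2, 3, 4, 2, 3, 1, 2, 3, 5, 4, 3, 2, 1, 6, 3, 5, 2, 3],
  [5, 1, 2, 3, 4, 5, 3, 2, 1, 3, 2, 3, 4, 2, 3, 1, 2, 3, 5, 4, 3, 2, 1, 3, 1, 2, 3, 4, 5, 3, 2, 1, 3, 2, 3, 4, 2, 3, 1, 2, 3, 5, 4, 3, 2, 1],
  [3, 1, 2, 3, 4, 5, 3, 2, 1, 3, 2, 3, 4, 2, 3, 1, 2, 3, 5, 4, 3, 2, 1, 6, 1, 2, 3, 4, 5, 3, 2, 1, 3, 2, 3, 4, 2, 3, 1, 2, 3, 5, 4, 3, 2, 1, 5, 3],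
  [1, 2, 3, 4, 5, 3, 2, 1, 3, 2, 3, 4, 2, 3, 1, 2, 3, 5, 4, 3, 2, 1, 6, 3, 5, 2, 3],
  [3, 6, 1, 2, 3, 4, 5, 3, 2, 1, 3, 2, 3, 4, 2, 3, 1, 2, 3, 5, 4, 3, 2, 1, 6, 5, 3],
  [1, 0, 1, 5, 1, 2, 3, 4, 5, 3, 2, 1, 3, 2, 3, 4, 2, 3, 1, 2, 3, 5, 4, 3, 2, 1, 3, 1, 2, 3, 4, 5, 3, 2, 1, 3, 2, 3, 4, 2, 3, 1, 2, 3, 5, 4, 3, 2, 1],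
  [1, 2, 3, 4, 5, 3, 2, 1, 3, 2, 3, 4, 2, 3, 1, 2, 3, 5, 4, 3, 2, 1, 1, 0, 1, 6, 1, 2, 3, 4, 5, 3, 2, 1, 3, 2, 3, 4, 2, 3, 1, 2, 3, 5, 4, 3, 2, 1, 2, 3],
  [3, 6, 5, 3, 2, 3],
  [2, 1, 2, 3, 4, 5, 3, 2, 1, 3, 2, 3, 4, 2, 3, 1, 2, 3, 5, 4, 3, 2, 1, 1, 0, 1, 6, 3, 1, 2, 3, 4, 5, 3, 2, 1, 3, 2, 3, 4, 2, 3, 1, 2, 3, 5, 4, 3, 2, 1, 5, 3],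
  [5, 1, 2, 3, 4, 5, 3, 2, 1, 3, 2, 3, 4, 2, 3, 1, 2, 3, 5, 4, 3, 2, 1, 6, 3, 5, 2, 3],
  [3, 5, 6, 1, 2, 3, 4, 5, 3, 2, 1, 3, 2, 3, 4, 2, 3, 1, 2, 3, 5, 4, 3, 2, 1, 2, 3, 1, 2, 3, 4, 5, 3, 2, 1, 3, 2, 3, 4, 2, 3, 1, 2, 3, 5, 4, 3, 2, 1],
  [3, 6, 5, 3, 1, 2, 3, 4, 5, 3, 2, 1, 3, 2, 3, 4, 2, 3, 1, 2, 3, 5, 4, 3, 2, 1, 2, 3],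
  [1, 0, 1, 1, 2, 3, 4, 5, 3, 2, 1, 3, 2, 3, 4, 2, 3, 1, 2, 3, 5, 4, 3, 2, 1, 3, 1, 2, 3, 4, 5, 3, 2, 1, 3, 2, 3, 4, 2, 3, 1, 2, 3, 5, 4, 3, 2, 1],
  [3, 6, 1, 2, 3, 4, 5, 3, 2, 1, 3, 2, 3, 4, 2, 3, 1, 2, 3, 5, 4, 3, 2, 1, 5, 3, 1, 2, 3, 4, 5, 3, 2, 1, 3, 2, 3, 4, 2, 3, 1, 2, 3, 5, 4, 3, 2, 1],
  [1, 2, 3, 4, 5, 3, 2, 1, 3, 2, 3, 4, 2, 3, 1, 2, 3, 5, 4, 3, 2, 1, 3, 1, 2, 3, 4, 5, 3, 2, 1, 3, 2, 3, 4, 2, 3, 1, 2, 3, 5, 4, 3, 2, 1]]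
def us7 : List (List Nat) := [[5, 3, 6, 3, 2, 3],
  [1, 2, 3, 4, 5, 3, 2, 1, 3, 2, 3, 4, 2, 3, 1, 2, 3, 5, 4, 3, 2, 1, 5, 3],
  [1, 2, 3, 4, 5, 3, 2, 1, 3, 2, 3, 4, 2, 3, 1, 2, 3, 5, 4, 3, 2, 1, 1, 2, 3, 4, 5, 3, 2, 1, 3, 2, 3, 4, 2, 3, 1, 2, 3, 5, 4, 3, 2, 1, 3, 1, 2, 3, 4, 5, 3, 2, 1, 3, 2, 3, 4, 2, 3, 1, 2, 3, 5, 4, 3, 2, 1, 5, 3],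
  [1, 0, 1, 5, 2, 3, 1, 2, 3, 4, 5, 3, 2, 1, 3, 2, 3, 4, 2, 3, 1, 2, 3, 5, 4, 3, 2, 1],
  [1, 2, 3, 4, 5, 3, 2, 1, 3, 2, 3, 4, 2, 3, 1, 2, 3, 5, 4, 3, 2, 1, 5, 1, 2, 3, 4, 5, 3, 2, 1, 3, 2, 3, 4, 2, 3, 1, 2, 3, 5, 4, 3, 2, 1, 3],
  [5, 3, 2, 1, 2, 3, 4, 5, 3, 2, 1, 3, 2, 3, 4, 2, 3, 1, 2, 3, 5, 4, 3, 2, 1, 3],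
  [1, 2, 3, 4, 5, 3, 2, 1, 3, 2, 3, 4, 2, 3, 1, 2, 3, 5, 4, 3, 2, 1, 6, 5, 1, 2, 3, 4, 5, 3, 2, 1, 3, 2, 3, 4, 2, 3, 1, 2, 3, 5, 4, 3, 2, 1, 3, 1, 2, 3, 4, 5, 3, 2, 1, 3, 2, 3, 4, 2, 3, 1, 2, 3, 5, 4, 3, 2, 1],
  [3, 5, 2, 3],
  [6, 1, 2, 3, 4, 5, 3, 2, 1, 3, 2, 3, 4, 2, 3, 1, 2, 3, 5, 4, 3, 2, 1, 2, 3],
  [1, 2, 3, 4, 5, 3, 2, 1, 3, 2, 3, 4, 2, 3, 1, 2, 3, 5, 4, 3, 2, 1, 1, 2, 3, 4, 5, 3, 2, 1, 3, 2, 3, 4, 2, 3, 1, 2, 3, 5, 4, 3, 2, 1, 3, 1, 2, 3, 4, 5, 3, 2, 1, 3, 2, 3, 4, 2, 3, 1, 2, 3, 5, 4, 3, 2, 1, 6, 3],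
  [1, 0, 1, 6, 2, 1, 2, 3, 4, 5, 3, 2, 1, 3, 2, 3, 4, 2, 3, 1, 2, 3, 5, 4, 3, 2, 1, 3],
  [6, 3, 2, 1, 2, 3, 4, 5, 3, 2, 1, 3, 2, 3, 4, 2, 3, 1, 2, 3, 5, 4, 3, 2, 1, 3],
  [6, 3, 5, 3, 2, 3],
  [1, 0, 1, 3, 1, 2, 3, 4, 5, 3, 2, 1, 3, 2, 3, 4, 2, 3, 1, 2, 3, 5, 4, 3, 2, 1, 6, 3],
  [3, 6, 2, 3],
  [1, 0, 1, 5, 6, 3, 5, 2, 3],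
  [1, 2, 3, 4, 5, 3, 2, 1, 3, 2, 3, 4, 2, 3, 1, 2, 3, 5, 4, 3, 2, 1, 3, 1, 2, 3, 4, 5, 3, 2, 1, 3, 2, 3, 4, 2, 3, 1, 2, 3, 5, 4, 3, 2, 1, 6, 5, 1, 2, 3, 4, 5, 3, 2, 1, 3, 2, 3, 4, 2, 3, 1, 2, 3, 5, 4, 3, 2, 1, 3],
  [1, 2, 3, 4, 5, 3, 2, 1, 3, 2, 3, 4, 2, 3, 1, 2, 3, 5, 4, 3, 2, 1, 5, 1, 2, 3, 4, 5, 3, 2, 1, 3, 2, 3, 4, 2, 3, 1, 2, 3, 5, 4, 3, 2, 1, 6, 3, 1, 2, 3, 4, 5, 3, 2, 1, 3, 2, 3, 4, 2, 3, 1, 2, 3, 5, 4, 3, 2, 1],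
  [1, 2, 3, 4, 5, 3, 2, 1, 3, 2, 3, 4, 2, 3, 1, 2, 3, 5, 4, 3, 2, 1, 2, 1, 0, 1, 6, 3, 1, 2, 3, 4, 5, 3, 2, 1, 3, 2, 3, 4, 2, 3, 1, 2, 3, 5, 4, 3, 2, 1],
  [1, 2, 3, 4, 5, 3, 2, 1, 3, 2, 3, 4, 2, 3, 1, 2, 3, 5, 4, 3, 2, 1, 1, 2, 3, 4, 5, 3, 2, 1, 3, 2, 3, 4, 2, 3, 1, 2, 3, 5, 4, 3, 2, 1, 6, 1, 2, 3, 4, 5, 3, 2, 1, 3, 2, 3, 4, 2, 3, 1, 2, 3, 5, 4, 3, 2, 1, 2, 3],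
  [1, 0, 1, 3, 6, 5, 3, 2, 3],
  [1, 2, 3, 4, 5, 3, 2, 1, 3, 2, 3, 4, 2, 3, 1, 2, 3, 5, 4, 3, 2, 1, 2, 1, 2, 3, 4, 5, 3, 2, 1, 3, 2, 3, 4, 2, 3, 1, 2, 3, 5, 4, 3, 2, 1, 6, 3, 1, 2, 3, 4, 5, 3, 2, 1, 3, 2, 3, 4, 2, 3, 1, 2, 3, 5, 4, 3, 2, 1, 5, 3],
  [1, 2, 3, 4, 5, 3, 2, 1, 3, 2, 3, 4, 2, 3, 1, 2, 3, 5, 4, 3, 2, 1, 6, 3, 1, 2, 3, 4, 5, 3, 2, 1, 3, 2, 3, 4, 2, 3, 1, 2, 3, 5, 4, 3, 2, 1, 5, 3],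
  [1, 0, 1, 1, 2, 3, 4, 5, 3, 2, 1, 3, 2, 3, 4, 2, 3, 1, 2, 3, 5, 4, 3, 2, 1, 6, 3, 1, 2, 3, 4, 5, 3, 2, 1, 3, 2, 3, 4, 2, 3, 1, 2, 3, 5, 4, 3, 2, 1, 5, 3],
  [1, 2, 3, 4, 5, 3, 2, 1, 3, 2, 3, 4, 2, 3, 1, 2, 3, 5, 4, 3, 2, 1, 6, 3, 5, 3, 2, 3],
  [1, 2, 3, 4, 5, 3, 2, 1, 3, 2, 3, 4, 2, 3, 1, 2, 3, 5, 4, 3, 2, 1, 3, 5, 1, 2, 3, 4, 5, 3, 2, 1, 3, 2, 3, 4, 2, 3, 1, 2, 3, 5, 4, 3, 2, 1, 6, 3],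
  [1, 2, 3, 4, 5, 3, 2, 1, 3, 2, 3, 4, 2, 3, 1, 2, 3, 5, 4, 3, 2, 1, 3, 2, 1, 2, 3, 4, 5, 3, 2, 1, 3, 2, 3, 4, 2, 3, 1, 2, 3, 5, 4, 3, 2, 1, 3],
  [2, 3, 2, 3, 1, 2, 3, 4, 5, 3, 2, 1, 3, 2, 3, 4, 2, 3, 1, 2, 3, 5, 4, 3, 2, 1],
  [5, 2, 1, 2, 3, 4, 5, 3, 2, 1, 3, 2, 3, 4, 2, 3, 1, 2, 3, 5, 4, 3, 2, 1, 3],
  [1, 2, 3, 4, 5, 3, 2, 1, 3, 2, 3, 4, 2, 3, 1, 2, 3, 5, 4, 3, 2, 1, 6, 1, 2, 3, 4, 5, 3, 2, 1, 3, 2, 3, 4, 2, 3, 1, 2, 3, 5, 4, 3, 2, 1, 5, 3, 1, 2, 3, 4, 5, 3, 2, 1, 3, 2, 3, 4, 2, 3, 1, 2, 3, 5, 4, 3, 2, 1],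
  [1, 2, 3, 4, 5, 3, 2, 1, 3, 2, 3, 4, 2, 3, 1, 2, 3, 5, 4, 3, 2, 1, 1, 0, 1, 3, 1, 2, 3, 4, 5, 3, 2, 1, 3, 2, 3, 4, 2, 3, 1, 2, 3, 5, 4, 3, 2, 1, 5, 3],
  [1, 0, 1, 1, 2, 3, 4, 5, 3, 2, 1, 3, 2, 3, 4, 2, 3, 1, 2, 3, 5, 4, 3, 2, 1, 5, 3],
  [5, 2, 3, 1, 2, 3, 4, 5, 3, 2, 1, 3, 2, 3, 4, 2, 3, 1, 2, 3, 5, 4, 3, 2, 1],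
  [6, 5, 3, 6, 2, 3],
  [2, 1, 0, 1, 5, 3, 1, 2, 3, 4, 5, 3, 2, 1, 3, 2, 3, 4, 2, 3, 1, 2, 3, 5, 4, 3, 2, 1],
  [1, 0, 1, 3, 5, 2, 3],
  [6, 2, 1, 2, 3, 4, 5, 3, 2, 1, 3, 2, 3, 4, 2, 3, 1, 2, 3, 5, 4, 3, 2, 1, 3],
  [1, 2, 3, 4, 5, 3, 2, 1, 3, 2, 3, 4, 2, 3, 1, 2, 3, 5, 4, 3, 2, 1, 1, 0, 1, 3, 1, 2, 3, 4, 5, 3, 2, 1, 3, 2, 3, 4, 2, 3, 1, 2, 3, 5, 4, 3, 2, 1, 6, 3],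
  [1, 0, 1, 6, 1, 2, 3, 4, 5, 3, 2, 1, 3, 2, 3, 4, 2, 3, 1, 2, 3, 5, 4, 3, 2, 1, 2, 3],
  [1, 0, 1, 6, 3, 5, 3, 2, 3]]
def us8 : List (List Nat) := [[3, 1, 2, 3, 4, 5, 3, 2, 1, 3, 2, 3, 4, 2, 3, 1, 2, 3, 5, 4, 3, 2, 1, 6, 3],
  [5, 6, 3, 5, 2, 3],
  [2, 1, 0, 1, 6, 3, 1, 2, 3, 4, 5, 3, 2, 1, 3, 2, 3, 4, 2, 3, 1, 2, 3, 5, 4, 3, 2, 1],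
  [1, 0, 1, 3, 6, 2, 3],
  [1, 2, 3, 4, 5, 3, 2, 1, 3, 2, 3, 4, 2, 3, 1, 2, 3, 5, 4, 3, 2, 1, 1, 2, 3, 4, 5, 3, 2, 1, 3, 2, 3, 4, 2, 3, 1, 2, 3, 5, 4, 3, 2, 1, 3, 6, 5, 1, 2, 3, 4, 5, 3, 2, 1, 3, 2, 3, 4, 2, 3, 1, 2, 3, 5, 4, 3, 2, 1, 6, 3],
  [5, 2, 3, 6, 2, 3],
  [2, 1, 0, 1, 3, 6, 2, 3],
  [3, 1, 2, 3, 4, 5, 3, 2, 1, 3, 2, 3, 4, 2, 3, 1, 2, 3, 5, 4, 3, 2, 1, 6, 2, 1, 2, 3, 4, 5, 3, 2, 1, 3, 2, 3, 4, 2, 3, 1, 2, 3, 5, 4, 3, 2, 1, 3, 5, 2, 3],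
  [1, 0, 1, 1, 2, 3, 4, 5, 3, 2, 1, 3, 2, 3, 4, 2, 3, 1, 2, 3, 5, 4, 3, 2, 1, 5, 3, 1, 2, 3, 4, 5, 3, 2, 1, 3, 2, 3, 4, 2, 3, 1, 2, 3, 5, 4, 3, 2, 1, 6, 5, 3],
  [5, 3, 1, 2, 3, 4, 5, 3, 2, 1, 3, 2, 3, 4, 2, 3, 1, 2, 3, 5, 4, 3, 2, 1],
  [1, 0, 1, 5, 1, 2, 3, 4, 5, 3, 2, 1, 3, 2, 3, 4, 2, 3, 1, 2, 3, 5, 4, 3, 2, 1, 3],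
  [1, 2, 3, 4, 5, 3, 2, 1, 3, 2, 3, 4, 2, 3, 1, 2, 3, 5, 4, 3, 2, 1, 3, 2, 1, 2, 3, 4, 5, 3, 2, 1, 3, 2, 3, 4, 2, 3, 1, 2, 3, 5, 4, 3, 2, 1, 3, 6, 5, 3],
  [2, 1, 2, 3, 4, 5, 3, 2, 1, 3, 2, 3, 4, 2, 3, 1, 2, 3, 5, 4, 3, 2, 1, 3, 5, 6, 3],
  [3, 1, 2, 3, 4, 5, 3, 2, 1, 3, 2, 3, 4, 2, 3, 1, 2, 3, 5, 4, 3, 2, 1, 6, 1, 2, 3, 4, 5, 3, 2, 1, 3, 2, 3, 4, 2, 3, 1, 2, 3, 5, 4, 3, 2, 1, 3, 5, 2, 3],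
  [3, 5, 2, 3, 6, 1, 2, 3, 4, 5, 3, 2, 1, 3, 2, 3, 4, 2, 3, 1, 2, 3, 5, 4, 3, 2, 1, 5, 3],
  [1, 0, 1, 6, 1, 2, 3, 4, 5, 3, 2, 1, 3, 2, 3, 4, 2, 3, 1, 2, 3, 5, 4, 3, 2, 1, 3],
  [6, 3, 1, 2, 3, 4, 5, 3, 2, 1, 3, 2, 3, 4, 2, 3, 1, 2, 3, 5, 4, 3, 2, 1],
  [2, 1, 0, 1, 3, 1, 2, 3, 4, 5, 3, 2, 1, 3, 2, 3, 4, 2, 3, 1, 2, 3, 5, 4, 3, 2, 1, 6, 5, 3],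
  [2, 3, 6, 1, 2, 3, 4, 5, 3, 2, 1, 3, 2, 3, 4, 2, 3, 1, 2, 3, 5, 4, 3, 2, 1, 6, 5, 3, 2, 3],
  [3, 1, 2, 3, 4, 5, 3, 2, 1, 3, 2, 3, 4, 2, 3, 1, 2, 3, 5, 4, 3, 2, 1, 1, 0, 1, 6, 5, 1, 2, 3, 4, 5, 3, 2, 1, 3, 2, 3, 4, 2, 3, 1, 2, 3, 5, 4, 3, 2, 1, 3],
  [1, 0, 1, 5, 2, 3, 2, 3],
  [3, 5, 3, 6, 3, 5, 2, 3],
  [1, 0, 1, 5, 6, 1, 2, 3, 4, 5, 3, 2, 1, 3, 2, 3, 4, 2, 3, 1, 2, 3, 5, 4, 3, 2, 1, 3],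
  [6, 1, 2, 3, 4, 5, 3, 2, 1, 3, 2, 3, 4, 2, 3, 1, 2, 3, 5, 4, 3, 2, 1, 2, 3, 5, 6, 3],
  [5, 6, 3, 1, 2, 3, 4, 5, 3, 2, 1, 3, 2, 3, 4, 2, 3, 1, 2, 3, 5, 4, 3, 2, 1],
  [2, 3, 1, 2, 3, 4, 5, 3, 2, 1, 3, 2, 3, 4, 2, 3, 1, 2, 3, 5, 4, 3, 2, 1, 6, 5, 3, 1, 2, 3, 4, 5, 3, 2, 1, 3, 2, 3, 4, 2, 3, 1, 2, 3, 5, 4, 3, 2, 1],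
  [6, 1, 2, 3, 4, 5, 3, 2, 1, 3, 2, 3, 4, 2, 3, 1, 2, 3, 5, 4, 3, 2, 1, 3, 1, 2, 3, 4, 5, 3, 2, 1, 3, 2, 3, 4, 2, 3, 1, 2, 3, 5, 4, 3, 2, 1, 5, 6, 3],
  [3, 2, 3, 5, 3, 1, 2, 3, 4, 5, 3, 2, 1, 3, 2, 3, 4, 2, 3, 1, 2, 3, 5, 4, 3, 2, 1, 6, 3],
  [1, 0, 1, 2, 3, 2, 3],
  [3, 6, 5, 3, 6, 2, 3],
  [3, 5, 6, 3, 5, 2, 3],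
  [1, 0, 1, 6, 5, 1, 2, 3, 4, 5, 3, 2, 1, 3, 2, 3, 4, 2, 3, 1, 2, 3, 5, 4, 3, 2, 1, 3],
  [1, 0, 1, 5, 1, 2, 3, 4, 5, 3, 2, 1, 3, 2, 3, 4, 2, 3, 1, 2, 3, 5, 4, 3, 2, 1, 3, 1, 2, 3, 4, 5, 3, 2, 1, 3, 2, 3, 4, 2, 3, 1, 2, 3, 5, 4, 3, 2, 1, 6, 5, 3],
  [6, 2, 1, 2, 3, 4, 5, 3, 2, 1, 3, 2, 3, 4, 2, 3, 1, 2, 3, 5, 4, 3, 2, 1, 3, 5, 6, 3],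
  [6, 5, 3, 1, 2, 3, 4, 5, 3, 2, 1, 3, 2, 3, 4, 2, 3, 1, 2, 3, 5, 4, 3, 2, 1],
  [1, 0, 1, 5, 2, 3, 1, 2, 3, 4, 5, 3, 2, 1, 3, 2, 3, 4, 2, 3, 1, 2, 3, 5, 4, 3, 2, 1, 6, 5, 3],
  [3, 2, 1, 0, 1, 3, 6, 1, 2, 3, 4, 5, 3, 2, 1, 3, 2, 3, 4, 2, 3, 1, 2, 3, 5, 4, 3, 2, 1, 5, 3],
  [6, 5, 1, 2, 3, 4, 5, 3, 2, 1, 3, 2, 3, 4, 2, 3, 1, 2, 3, 5, 4, 3, 2, 1, 3, 5, 6, 2, 3],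
  [2, 1, 2, 3, 4, 5, 3, 2, 1, 3, 2, 3, 4, 2, 3, 1, 2, 3, 5, 4, 3, 2, 1, 1, 0, 1, 6, 3, 5, 2, 3],
  [5, 1, 2, 3, 4, 5, 3, 2, 1, 3, 2, 3, 4, 2, 3, 1, 2, 3, 5, 4, 3, 2, 1, 1, 2, 3, 4, 5, 3, 2, 1, 3, 2, 3, 4, 2, 3, 1, 2, 3, 5, 4, 3, 2, 1, 3, 6, 5, 2, 3]]
def us9 : List (List Nat) := [[1, 2, 3, 4, 5, 3, 2, 1, 3, 2, 3, 4, 2, 3, 1, 2, 3, 5, 4, 3, 2, 1, 6, 2, 1, 2, 3, 4, 5, 3, 2, 1, 3, 2, 3, 4, 2, 3, 1, 2, 3, 5, 4, 3, 2, 1, 3, 5, 2, 3],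
  [1, 2, 3, 4, 5, 3, 2, 1, 3, 2, 3, 4, 2, 3, 1, 2, 3, 5, 4, 3, 2, 1, 1, 0, 1, 6, 5, 3, 2, 3],
  [1, 2, 3, 4, 5, 3, 2, 1, 3, 2, 3, 4, 2, 3, 1, 2, 3, 5, 4, 3, 2, 1, 6, 5, 2, 3, 1, 2, 3, 4, 5, 3, 2, 1, 3, 2, 3, 4, 2, 3, 1, 2, 3, 5, 4, 3, 2, 1],
  [3, 6, 3, 5, 2, 3, 1, 2, 3, 4, 5, 3, 2, 1, 3, 2, 3, 4, 2, 3, 1, 2, 3, 5, 4, 3, 2, 1],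
  [1, 2, 3, 4, 5, 3, 2, 1, 3, 2, 3, 4, 2, 3, 1, 2, 3, 5, 4, 3, 2, 1, 1, 2, 3, 4, 5, 3, 2, 1, 3, 2, 3, 4, 2, 3, 1, 2, 3, 5, 4, 3, 2, 1, 3, 6, 5, 2, 3],
  [3, 1, 2, 3, 4, 5, 3, 2, 1, 3, 2, 3, 4, 2, 3, 1, 2, 3, 5, 4, 3, 2, 1, 1, 2, 3, 4, 5, 3, 2, 1, 3, 2, 3, 4, 2, 3, 1, 2, 3, 5, 4, 3, 2, 1, 6, 3, 5, 2, 3],
  [3, 1, 2, 3, 4, 5, 3, 2, 1, 3, 2, 3, 4, 2, 3, 1, 2, 3, 5, 4, 3, 2, 1, 3, 5, 3, 6, 2, 3],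
  [2, 1, 2, 3, 4, 5, 3, 2, 1, 3, 2, 3, 4, 2, 3, 1, 2, 3, 5, 4, 3, 2, 1, 6, 3, 1, 2, 3, 4, 5, 3, 2, 1, 3, 2, 3, 4, 2, 3, 1, 2, 3, 5, 4, 3, 2, 1],
  [2, 3, 6, 2, 1, 2, 3, 4, 5, 3, 2, 1, 3, 2, 3, 4, 2, 3, 1, 2, 3, 5, 4, 3, 2, 1, 3],
  [1, 2, 3, 4, 5, 3, 2, 1, 3, 2, 3, 4, 2, 3, 1, 2, 3, 5, 4, 3, 2, 1, 3, 2, 1, 2, 3, 4, 5, 3, 2, 1, 3, 2, 3, 4, 2, 3, 1, 2, 3, 5, 4, 3, 2, 1, 6, 1, 2, 3, 4, 5, 3, 2, 1, 3, 2, 3, 4, 2, 3, 1, 2, 3, 5, 4, 3, 2, 1, 3],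
  [1, 2, 3, 4, 5, 3, 2, 1, 3, 2, 3, 4, 2, 3, 1, 2, 3, 5, 4, 3, 2, 1, 1, 2, 3, 4, 5, 3, 2, 1, 3, 2, 3, 4, 2, 3, 1, 2, 3, 5, 4, 3, 2, 1, 3, 6, 1, 2, 3, 4, 5, 3, 2, 1, 3, 2, 3, 4, 2, 3, 1, 2, 3, 5, 4, 3, 2, 1, 6, 2, 3],
  [1, 2, 3, 4, 5, 3, 2, 1, 3, 2, 3, 4, 2, 3, 1, 2, 3, 5, 4, 3, 2, 1],
  [1, 0, 1, 1, 2, 3, 4, 5, 3, 2, 1, 3, 2, 3, 4, 2, 3, 1, 2, 3, 5, 4, 3, 2, 1],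
  [1, 2, 3, 4, 5, 3, 2, 1, 3, 2, 3, 4, 2, 3, 1, 2, 3, 5, 4, 3, 2, 1, 3, 2, 1, 2, 3, 4, 5, 3, 2, 1, 3, 2, 3, 4, 2, 3, 1, 2, 3, 5, 4, 3, 2, 1, 5, 3, 1, 2, 3, 4, 5, 3, 2, 1, 3, 2, 3, 4, 2, 3, 1, 2, 3, 5, 4, 3, 2, 1],
  [3, 2, 1, 0, 1, 3, 5, 3, 2, 3],
  [1, 0, 1, 3, 1, 2, 3, 4, 5, 3, 2, 1, 3, 2, 3, 4, 2, 3, 1, 2, 3, 5, 4, 3, 2, 1, 3],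
  [3, 1, 2, 3, 4, 5, 3, 2, 1, 3, 2, 3, 4, 2, 3, 1, 2, 3, 5, 4, 3, 2, 1, 3],
  [1, 0, 1, 5, 6, 1, 2, 3, 4, 5, 3, 2, 1, 3, 2, 3, 4, 2, 3, 1, 2, 3, 5, 4, 3, 2, 1, 3, 1, 2, 3, 4, 5, 3, 2, 1, 3, 2, 3, 4, 2, 3, 1, 2, 3, 5, 4, 3, 2, 1],
  [5, 6, 1, 2, 3, 4, 5, 3, 2, 1, 3, 2, 3, 4, 2, 3, 1, 2, 3, 5, 4, 3, 2, 1, 3, 1, 2, 3, 4, 5, 3, 2, 1, 3, 2, 3, 4, 2, 3, 1, 2, 3, 5, 4, 3, 2, 1],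
  [1, 2, 3, 4, 5, 3, 2, 1, 3, 2, 3, 4, 2, 3, 1, 2, 3, 5, 4, 3, 2, 1, 2, 3, 5, 1, 2, 3, 4, 5, 3, 2, 1, 3, 2, 3, 4, 2, 3, 1, 2, 3, 5, 4, 3, 2, 1, 6, 3],
  [2, 3, 6, 5, 3, 1, 2, 3, 4, 5, 3, 2, 1, 3, 2, 3, 4, 2, 3, 1, 2, 3, 5, 4, 3, 2, 1, 2, 3],
  [2, 1, 2, 3, 4, 5, 3, 2, 1, 3, 2, 3, 4, 2, 3, 1, 2, 3, 5, 4, 3, 2, 1, 6, 3, 1, 2, 3, 4, 5, 3, 2, 1, 3, 2, 3, 4, 2, 3, 1, 2, 3, 5, 4, 3, 2, 1, 5, 3],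
  [1, 2, 3, 4, 5, 3, 2, 1, 3, 2, 3, 4, 2, 3, 1, 2, 3, 5, 4, 3, 2, 1, 5, 6, 3, 5, 2, 3],
  [3, 1, 2, 3, 4, 5, 3, 2, 1, 3, 2, 3, 4, 2, 3, 1, 2, 3, 5, 4, 3, 2, 1, 1, 2, 3, 4, 5, 3, 2, 1, 3, 2, 3, 4, 2, 3, 1, 2, 3, 5, 4, 3, 2, 1, 6, 5, 1, 2, 3, 4, 5, 3, 2, 1, 3, 2, 3, 4, 2, 3, 1, 2, 3, 5, 4, 3, 2, 1, 3],
  [5, 2, 3, 2, 3],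
  [3, 2, 3, 6, 5, 2, 3],
  [6, 5, 2, 3, 1, 2, 3, 4, 5, 3, 2, 1, 3, 2, 3, 4, 2, 3, 1, 2, 3, 5, 4, 3, 2, 1, 6, 5, 3],
  [1, 2, 3, 4, 5, 3, 2, 1, 3, 2, 3, 4, 2, 3, 1, 2, 3, 5, 4, 3, 2, 1, 5, 3, 1, 2, 3, 4, 5, 3, 2, 1, 3, 2, 3, 4, 2, 3, 1, 2, 3, 5, 4, 3, 2, 1, 6, 5, 3],
  [1, 0, 1, 5, 3, 1, 2, 3, 4, 5, 3, 2, 1, 3, 2, 3, 4, 2, 3, 1, 2, 3, 5, 4, 3, 2, 1],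
  [5, 1, 2, 3, 4, 5, 3, 2, 1, 3, 2, 3, 4, 2, 3, 1, 2, 3, 5, 4, 3, 2, 1, 3],
  [1, 0, 1, 2, 1, 2, 3, 4, 5, 3, 2, 1, 3, 2, 3, 4, 2, 3, 1, 2, 3, 5, 4, 3, 2, 1, 3, 5, 6, 3],
  [2, 3, 2, 3, 5, 1, 2, 3, 4, 5, 3, 2, 1, 3, 2, 3, 4, 2, 3, 1, 2, 3, 5, 4, 3, 2, 1, 6, 3],
  [5, 6, 1, 2, 3, 4, 5, 3, 2, 1, 3, 2, 3, 4, 2, 3, 1, 2, 3, 5, 4, 3, 2, 1, 3],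
  [2, 1, 2, 3, 4, 5, 3, 2, 1, 3, 2, 3, 4, 2, 3, 1, 2, 3, 5, 4, 3, 2, 1, 3, 5, 6, 1, 2, 3, 4, 5, 3, 2, 1, 3, 2, 3, 4, 2, 3, 1, 2, 3, 5, 4, 3, 2, 1, 3],
  [1, 0, 1, 5, 6, 3, 1, 2, 3, 4, 5, 3, 2, 1, 3, 2, 3, 4, 2, 3, 1, 2, 3, 5, 4, 3, 2, 1],
  [6, 5, 3, 1, 2, 3, 4, 5, 3, 2, 1, 3, 2, 3, 4, 2, 3, 1, 2, 3, 5, 4, 3, 2, 1, 6, 5, 3],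
  [1, 0, 1, 6, 1, 2, 3, 4, 5, 3, 2, 1, 3, 2, 3, 4, 2, 3, 1, 2, 3, 5, 4, 3, 2, 1, 3, 1, 2, 3, 4, 5, 3, 2, 1, 3, 2, 3, 4, 2, 3, 1, 2, 3, 5, 4, 3, 2, 1, 5, 6, 3],
  [2, 1, 2, 3, 4, 5, 3, 2, 1, 3, 2, 3, 4, 2, 3, 1, 2, 3, 5, 4, 3, 2, 1, 5, 3, 1, 2, 3, 4, 5, 3, 2, 1, 3, 2, 3, 4, 2, 3, 1, 2, 3, 5, 4, 3, 2, 1, 6, 5, 3],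
  [6, 3, 2, 3, 5, 1, 2, 3, 4, 5, 3, 2, 1, 3, 2, 3, 4, 2, 3, 1, 2, 3, 5, 4, 3, 2, 1, 6, 3],
  [6, 1, 2, 3, 4, 5, 3, 2, 1, 3, 2, 3, 4, 2, 3, 1, 2, 3, 5, 4, 3, 2, 1, 1, 2, 3, 4, 5, 3, 2, 1, 3, 2, 3, 4, 2, 3, 1, 2, 3, 5, 4, 3, 2, 1, 2, 3, 5, 6, 3]]
def us10 : List (List Nat) := [[6, 1, 2, 3, 4, 5, 3, 2, 1, 3, 2, 3, 4, 2, 3, 1, 2, 3, 5, 4, 3, 2, 1, 3],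
  [1, 0, 1, 6, 3, 1, 2, 3, 4, 5, 3, 2, 1, 3, 2, 3, 4, 2, 3, 1, 2, 3, 5, 4, 3, 2, 1],
  [2, 1, 2, 3, 4, 5, 3, 2, 1, 3, 2, 3, 4, 2, 3, 1, 2, 3, 5, 4, 3, 2, 1, 2, 3, 1, 2, 3, 4, 5, 3, 2, 1, 3, 2, 3, 4, 2, 3, 1, 2, 3, 5, 4, 3, 2, 1, 6, 5, 3],
  [3, 2, 1, 2, 3, 4, 5, 3, 2, 1, 3, 2, 3, 4, 2, 3, 1, 2, 3, 5, 4, 3, 2, 1, 3, 5, 6, 3],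
  [6, 5, 1, 2, 3, 4, 5, 3, 2, 1, 3, 2, 3, 4, 2, 3, 1, 2, 3, 5, 4, 3, 2, 1, 3],
  [5, 1, 2, 3, 4, 5, 3, 2, 1, 3, 2, 3, 4, 2, 3, 1, 2, 3, 5, 4, 3, 2, 1, 3, 1, 2, 3, 4, 5, 3, 2, 1, 3, 2, 3, 4, 2, 3, 1, 2, 3, 5, 4, 3, 2, 1, 6, 5, 3],
  [1, 2, 3, 4, 5, 3, 2, 1, 3, 2, 3, 4, 2, 3, 1, 2, 3, 5, 4, 3, 2, 1, 2, 3, 5, 6, 1, 2, 3, 4, 5, 3, 2, 1, 3, 2, 3, 4, 2, 3, 1, 2, 3, 5, 4, 3, 2, 1, 3],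
  [1, 0, 1, 6, 5, 3, 1, 2, 3, 4, 5, 3, 2, 1, 3, 2, 3, 4, 2, 3, 1, 2, 3, 5, 4, 3, 2, 1],
  [1, 2, 3, 4, 5, 3, 2, 1, 3, 2, 3, 4, 2, 3, 1, 2, 3, 5, 4, 3, 2, 1, 3, 1, 2, 3, 4, 5, 3, 2, 1, 3, 2, 3, 4, 2, 3, 1, 2, 3, 5, 4, 3, 2, 1, 1, 0, 1, 5, 6, 3, 1, 2, 3, 4, 5, 3, 2, 1, 3, 2, 3, 4, 2, 3, 1, 2, 3, 5, 4, 3, 2, 1],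
  [5, 2, 3, 1, 2, 3, 4, 5, 3, 2, 1, 3, 2, 3, 4, 2, 3, 1, 2, 3, 5, 4, 3, 2, 1, 6, 5, 3],
  [2, 3, 2, 3],
  [1, 0, 1, 3, 5, 6, 3, 5, 2, 3],
  [3, 1, 2, 3, 4, 5, 3, 2, 1, 3, 2, 3, 4, 2, 3, 1, 2, 3, 5, 4, 3, 2, 1, 6, 5, 1, 2, 3, 4, 5, 3, 2, 1, 3, 2, 3, 4, 2, 3, 1, 2, 3, 5, 4, 3, 2, 1, 3, 1, 2, 3, 4, 5, 3, 2, 1, 3, 2, 3, 4, 2, 3, 1, 2, 3, 5, 4, 3, 2, 1],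
  [2, 1, 0, 1, 3, 5, 1, 2, 3, 4, 5, 3, 2, 1, 3, 2, 3, 4, 2, 3, 1, 2, 3, 5, 4, 3, 2, 1, 6, 3],
  [1, 2, 3, 4, 5, 3, 2, 1, 3, 2, 3, 4, 2, 3, 1, 2, 3, 5, 4, 3, 2, 1, 3, 5, 6, 2, 3],
  [6, 2, 3, 5, 1, 2, 3, 4, 5, 3, 2, 1, 3, 2, 3, 4, 2, 3, 1, 2, 3, 5, 4, 3, 2, 1, 6, 3],
  [1, 2, 3, 4, 5, 3, 2, 1, 3, 2, 3, 4, 2, 3, 1, 2, 3, 5, 4, 3, 2, 1, 5, 3, 6, 1, 2, 3, 4, 5, 3, 2, 1, 3, 2, 3, 4, 2, 3, 1, 2, 3, 5, 4, 3, 2, 1, 5, 3],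
  [6, 1, 2, 3, 4, 5, 3, 2, 1, 3, 2, 3, 4, 2, 3, 1, 2, 3, 5, 4, 3, 2, 1, 3, 1, 2, 3, 4, 5, 3, 2, 1, 3, 2, 3, 4, 2, 3, 1, 2, 3, 5, 4, 3, 2, 1, 6, 3],
  [1, 2, 3, 4, 5, 3, 2, 1, 3, 2, 3, 4, 2, 3, 1, 2, 3, 5, 4, 3, 2, 1, 2, 3, 6, 2, 3],
  [1, 2, 3, 4, 5, 3, 2, 1, 3, 2, 3, 4, 2, 3, 1, 2, 3, 5, 4, 3, 2, 1, 2, 3, 6, 1, 2, 3, 4, 5, 3, 2, 1, 3, 2, 3, 4, 2, 3, 1, 2, 3, 5, 4, 3, 2, 1, 5, 3],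
  [1, 2, 3, 4, 5, 3, 2, 1, 3, 2, 3, 4, 2, 3, 1, 2, 3, 5, 4, 3, 2, 1, 2, 1, 2, 3, 4, 5, 3, 2, 1, 3, 2, 3, 4, 2, 3, 1, 2, 3, 5, 4, 3, 2, 1, 6, 3, 5, 2, 3],
  [5, 1, 2, 3, 4, 5, 3, 2, 1, 3, 2, 3, 4, 2, 3, 1, 2, 3, 5, 4, 3, 2, 1, 3, 5, 6, 2, 3],
  [1, 2, 3, 4, 5, 3, 2, 1, 3, 2, 3, 4, 2, 3, 1, 2, 3, 5, 4, 3, 2, 1, 2, 3, 6, 5, 3, 2, 3],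
  [1, 2, 3, 4, 5, 3, 2, 1, 3, 2, 3, 4, 2, 3, 1, 2, 3, 5, 4, 3, 2, 1, 1, 2, 3, 4, 5, 3, 2, 1, 3, 2, 3, 4, 2, 3, 1, 2, 3, 5, 4, 3, 2, 1, 6, 5, 3, 2, 3],
  [1, 2, 3, 4, 5, 3, 2, 1, 3, 2, 3, 4, 2, 3, 1, 2, 3, 5, 4, 3, 2, 1, 5, 3, 6, 2, 3],
  [1, 2, 3, 4, 5, 3, 2, 1, 3, 2, 3, 4, 2, 3, 1, 2, 3, 5, 4, 3, 2, 1, 1, 2, 3, 4, 5, 3, 2, 1, 3, 2, 3, 4, 2, 3, 1, 2, 3, 5, 4, 3, 2, 1, 6, 3, 2, 3],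
  [3, 6, 5, 2, 3, 1, 2, 3, 4, 5, 3, 2, 1, 3, 2, 3, 4, 2, 3, 1, 2, 3, 5, 4, 3, 2, 1],
  [1, 2, 3, 4, 5, 3, 2, 1, 3, 2, 3, 4, 2, 3, 1, 2, 3, 5, 4, 3, 2, 1, 5, 3, 6, 3, 5, 2, 3],
  [2, 1, 2, 3, 4, 5, 3, 2, 1, 3, 2, 3, 4, 2, 3, 1, 2, 3, 5, 4, 3, 2, 1, 3, 6, 2, 3],
  [1, 0, 1, 2, 3, 5, 1, 2, 3, 4, 5, 3, 2, 1, 3, 2, 3, 4, 2, 3, 1, 2, 3, 5, 4, 3, 2, 1, 6, 3],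
  [1, 0, 1, 3, 6, 1, 2, 3, 4, 5, 3, 2, 1, 3, 2, 3, 4, 2, 3, 1, 2, 3, 5, 4, 3, 2, 1, 5, 3],
  [1, 2, 3, 4, 5, 3, 2, 1, 3, 2, 3, 4, 2, 3, 1, 2, 3, 5, 4, 3, 2, 1, 3, 1, 2, 3, 4, 5, 3, 2, 1, 3, 2, 3, 4, 2, 3, 1, 2, 3, 5, 4, 3, 2, 1, 1, 0, 1, 5, 6, 1, 2, 3, 4, 5, 3, 2, 1, 3, 2, 3, 4, 2, 3, 1, 2, 3, 5, 4, 3, 2, 1, 3],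
  [1, 2, 3, 4, 5, 3, 2, 1, 3, 2, 3, 4, 2, 3, 1, 2, 3, 5, 4, 3, 2, 1, 2, 3, 5, 6, 3, 1, 2, 3, 4, 5, 3, 2, 1, 3, 2, 3, 4, 2, 3, 1, 2, 3, 5, 4, 3, 2, 1],
  [2, 3, 5, 3, 2, 3, 1, 2, 3, 4, 5, 3, 2, 1, 3, 2, 3, 4, 2, 3, 1, 2, 3, 5, 4, 3, 2, 1],
  [1, 2, 3, 4, 5, 3, 2, 1, 3, 2, 3, 4, 2, 3, 1, 2, 3, 5, 4, 3, 2, 1, 3, 5, 6, 1, 2, 3, 4, 5, 3, 2, 1, 3, 2, 3, 4, 2, 3, 1, 2, 3, 5, 4, 3, 2, 1, 2, 3],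
  [2, 3, 1, 2, 3, 4, 5, 3, 2, 1, 3, 2, 3, 4, 2, 3, 1, 2, 3, 5, 4, 3, 2, 1, 5, 3, 1, 2, 3, 4, 5, 3, 2, 1, 3, 2, 3, 4, 2, 3, 1, 2, 3, 5, 4, 3, 2, 1],
  [1, 2, 3, 4, 5, 3, 2, 1, 3, 2, 3, 4, 2, 3, 1, 2, 3, 5, 4, 3, 2, 1, 3, 5, 6, 3, 2, 3],
  [6, 5, 1, 2, 3, 4, 5, 3, 2, 1, 3, 2, 3, 4, 2, 3, 1, 2, 3, 5, 4, 3, 2, 1, 1, 0, 1, 3, 1, 2, 3, 4, 5, 3, 2, 1, 3, 2, 3, 4, 2, 3, 1, 2, 3, 5, 4, 3, 2, 1],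
  [1, 2, 3, 4, 5, 3, 2, 1, 3, 2, 3, 4, 2, 3, 1, 2, 3, 5, 4, 3, 2, 1, 1, 2, 3, 4, 5, 3, 2, 1, 3, 2, 3, 4, 2, 3, 1, 2, 3, 5, 4, 3, 2, 1, 3, 6, 1, 2, 3, 4, 5, 3, 2, 1, 3, 2, 3, 4, 2, 3, 1, 2, 3, 5, 4, 3, 2, 1, 5, 6, 3],
  [5, 3, 6, 3, 5, 3, 6, 2, 3]]
def us11 : List (List Nat) := [[5, 1, 2, 3, 4, 5, 3, 2, 1, 3, 2, 3, 4, 2, 3, 1, 2, 3, 5, 4, 3, 2, 1, 1, 2, 3, 4, 5, 3, 2, 1, 3, 2, 3, 4, 2, 3, 1, 2, 3, 5, 4, 3, 2, 1, 3, 1, 2, 3, 4, 5, 3, 2, 1, 3, 2, 3, 4, 2, 3, 1, 2, 3, 5, 4, 3, 2, 1, 6, 5, 3],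
  [5, 1, 2, 3, 4, 5, 3, 2, 1, 3, 2, 3, 4, 2, 3, 1, 2, 3, 5, 4, 3, 2, 1, 1, 2, 3, 4, 5, 3, 2, 1, 3, 2, 3, 4, 2, 3, 1, 2, 3, 5, 4, 3, 2, 1, 3, 1, 2, 3, 4, 5, 3, 2, 1, 3, 2, 3, 4, 2, 3, 1, 2, 3, 5, 4, 3, 2, 1],
  [2, 1, 2, 3, 4, 5, 3, 2, 1, 3, 2, 3, 4, 2, 3, 1, 2, 3, 5, 4, 3, 2, 1, 1, 2, 3, 4, 5, 3, 2, 1, 3, 2, 3, 4, 2, 3, 1, 2, 3, 5, 4, 3, 2, 1, 3, 1, 2, 3, 4, 5, 3, 2, 1, 3, 2, 3, 4, 2, 3, 1, 2, 3, 5, 4, 3, 2, 1, 5, 6, 3],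
  [3, 6, 3, 5, 1, 2, 3, 4, 5, 3, 2, 1, 3, 2, 3, 4, 2, 3, 1, 2, 3, 5, 4, 3, 2, 1, 6, 3],
  [1, 0, 1, 3, 2, 3, 6, 1, 2, 3, 4, 5, 3, 2, 1, 3, 2, 3, 4, 2, 3, 1, 2, 3, 5, 4, 3, 2, 1, 5, 3],
  [1, 2, 3, 4, 5, 3, 2, 1, 3, 2, 3, 4, 2, 3, 1, 2, 3, 5, 4, 3, 2, 1, 5, 6, 1, 2, 3, 4, 5, 3, 2, 1, 3, 2, 3, 4, 2, 3, 1, 2, 3, 5, 4, 3, 2, 1, 2, 3],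
  [6, 2, 1, 2, 3, 4, 5, 3, 2, 1, 3, 2, 3, 4, 2, 3, 1, 2, 3, 5, 4, 3, 2, 1, 6, 3],
  [1, 2, 3, 4, 5, 3, 2, 1, 3, 2, 3, 4, 2, 3, 1, 2, 3, 5, 4, 3, 2, 1, 5, 6, 3, 2, 3],
  [1, 0, 1, 2, 1, 2, 3, 4, 5, 3, 2, 1, 3, 2, 3, 4, 2, 3, 1, 2, 3, 5, 4, 3, 2, 1, 6, 3, 2, 3],
  [1, 2, 3, 4, 5, 3, 2, 1, 3, 2, 3, 4, 2, 3, 1, 2, 3, 5, 4, 3, 2, 1, 3, 1, 2, 3, 4, 5, 3, 2, 1, 3, 2, 3, 4, 2, 3, 1, 2, 3, 5, 4, 3, 2, 1, 6, 5, 3, 1, 2, 3, 4, 5, 3, 2, 1, 3, 2, 3, 4, 2, 3, 1, 2, 3, 5, 4, 3, 2, 1],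
  [1, 2, 3, 4, 5, 3, 2, 1, 3, 2, 3, 4, 2, 3, 1, 2, 3, 5, 4, 3, 2, 1, 2, 1, 2, 3, 4, 5, 3, 2, 1, 3, 2, 3, 4, 2, 3, 1, 2, 3, 5, 4, 3, 2, 1, 3, 5, 6, 3, 1, 2, 3, 4, 5, 3, 2, 1, 3, 2, 3, 4, 2, 3, 1, 2, 3, 5, 4, 3, 2, 1],
  [5, 6, 1, 2, 3, 4, 5, 3, 2, 1, 3, 2, 3, 4, 2, 3, 1, 2, 3, 5, 4, 3, 2, 1, 1, 0, 1, 3, 1, 2, 3, 4, 5, 3, 2, 1, 3, 2, 3, 4, 2, 3, 1, 2, 3, 5, 4, 3, 2, 1],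
  [6, 1, 2, 3, 4, 5, 3, 2, 1, 3, 2, 3, 4, 2, 3, 1, 2, 3, 5, 4, 3, 2, 1, 1, 2, 3, 4, 5, 3, 2, 1, 3, 2, 3, 4, 2, 3, 1, 2, 3, 5, 4, 3, 2, 1, 3, 1, 2, 3, 4, 5, 3, 2, 1, 3, 2, 3, 4, 2, 3, 1, 2, 3, 5, 4, 3, 2, 1, 5, 6, 3],
  [6, 1, 2, 3, 4, 5, 3, 2, 1, 3, 2, 3, 4, 2, 3, 1, 2, 3, 5, 4, 3, 2, 1, 1, 2, 3, 4, 5, 3, 2, 1, 3, 2, 3, 4, 2, 3, 1, 2, 3, 5, 4, 3, 2, 1, 3, 1, 2, 3, 4, 5, 3, 2, 1, 3, 2, 3, 4, 2, 3, 1, 2, 3, 5, 4, 3, 2, 1],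
  [2, 1, 2, 3, 4, 5, 3, 2, 1, 3, 2, 3, 4, 2, 3, 1, 2, 3, 5, 4, 3, 2, 1, 1, 2, 3, 4, 5, 3, 2, 1, 3, 2, 3, 4, 2, 3, 1, 2, 3, 5, 4, 3, 2, 1, 3, 1, 2, 3, 4, 5, 3, 2, 1, 3, 2, 3, 4, 2, 3, 1, 2, 3, 5, 4, 3, 2, 1, 6, 5, 3],
  [1, 2, 3, 4, 5, 3, 2, 1, 3, 2, 3, 4, 2, 3, 1, 2, 3, 5, 4, 3, 2, 1, 3, 1, 2, 3, 4, 5, 3, 2, 1, 3, 2, 3, 4, 2, 3, 1, 2, 3, 5, 4, 3, 2, 1, 5, 6, 3, 1, 2, 3, 4, 5, 3, 2, 1, 3, 2, 3, 4, 2, 3, 1, 2, 3, 5, 4, 3, 2, 1],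
  [6, 2, 3, 5, 2, 3],
  [2, 1, 0, 1, 3, 5, 2, 3],
  [2, 1, 0, 1, 6, 3, 1, 2, 3, 4, 5, 3, 2, 1, 3, 2, 3, 4, 2, 3, 1, 2, 3, 5, 4, 3, 2, 1, 5, 3],
  [6, 1, 2, 3, 4, 5, 3, 2, 1, 3, 2, 3, 4, 2, 3, 1, 2, 3, 5, 4, 3, 2, 1, 3, 5, 6, 3, 1, 2, 3, 4, 5, 3, 2, 1, 3, 2, 3, 4, 2, 3, 1, 2, 3, 5, 4, 3, 2, 1],
  [1, 2, 3, 4, 5, 3, 2, 1, 3, 2, 3, 4, 2, 3, 1, 2, 3, 5, 4, 3, 2, 1, 3, 6, 5, 2, 3],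
  [3, 5, 6, 3, 1, 2, 3, 4, 5, 3, 2, 1, 3, 2, 3, 4, 2, 3, 1, 2, 3, 5, 4, 3, 2, 1, 5, 3],
  [1, 0, 1, 2, 3, 5, 2, 3, 1, 2, 3, 4, 5, 3, 2, 1, 3, 2, 3, 4, 2, 3, 1, 2, 3, 5, 4, 3, 2, 1],
  [1, 2, 3, 4, 5, 3, 2, 1, 3, 2, 3, 4, 2, 3, 1, 2, 3, 5, 4, 3, 2, 1, 1, 0, 1, 2, 3, 5, 2, 3],
  [3, 1, 2, 3, 4, 5, 3, 2, 1, 3, 2, 3, 4, 2, 3, 1, 2, 3, 5, 4, 3, 2, 1, 5, 1, 2, 3, 4, 5, 3, 2, 1, 3, 2, 3, 4, 2, 3, 1, 2, 3, 5, 4, 3, 2, 1, 6, 3],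
  [3, 5, 1, 2, 3, 4, 5, 3, 2, 1, 3, 2, 3, 4, 2, 3, 1, 2, 3, 5, 4, 3, 2, 1, 6, 3, 2, 3],
  [1, 2, 3, 4, 5, 3, 2, 1, 3, 2, 3, 4, 2, 3, 1, 2, 3, 5, 4, 3, 2, 1, 6, 5, 2, 3],
  [3, 1, 2, 3, 4, 5, 3, 2, 1, 3, 2, 3, 4, 2, 3, 1, 2, 3, 5, 4, 3, 2, 1, 6, 5, 1, 2, 3, 4, 5, 3, 2, 1, 3, 2, 3, 4, 2, 3, 1, 2, 3, 5, 4, 3, 2, 1, 3],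
  [6, 2, 1, 2, 3, 4, 5, 3, 2, 1, 3, 2, 3, 4, 2, 3, 1, 2, 3, 5, 4, 3, 2, 1, 6, 3, 2, 3],
  [1, 0, 1, 2, 1, 2, 3, 4, 5, 3, 2, 1, 3, 2, 3, 4, 2, 3, 1, 2, 3, 5, 4, 3, 2, 1, 6, 3],
  [6, 1, 2, 3, 4, 5, 3, 2, 1, 3, 2, 3, 4, 2, 3, 1, 2, 3, 5, 4, 3, 2, 1, 5, 3, 1, 2, 3, 4, 5, 3, 2, 1, 3, 2, 3, 4, 2, 3, 1, 2, 3, 5, 4, 3, 2, 1],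
  [1, 2, 3, 4, 5, 3, 2, 1, 3, 2, 3, 4, 2, 3, 1, 2, 3, 5, 4, 3, 2, 1, 3, 6, 5, 3],
  [6, 5, 3, 1, 2, 3, 4, 5, 3, 2, 1, 3, 2, 3, 4, 2, 3, 1, 2, 3, 5, 4, 3, 2, 1, 2, 3],
  [1, 0, 1, 1, 2, 3, 4, 5, 3, 2, 1, 3, 2, 3, 4, 2, 3, 1, 2, 3, 5, 4, 3, 2, 1, 3, 6, 5, 3],
  [1, 2, 3, 4, 5, 3, 2, 1, 3, 2, 3, 4, 2, 3, 1, 2, 3, 5, 4, 3, 2, 1, 5, 3, 1, 2, 3, 4, 5, 3, 2, 1, 3, 2, 3, 4, 2, 3, 1, 2, 3, 5, 4, 3, 2, 1],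
  [5, 6, 1, 2, 3, 4, 5, 3, 2, 1, 3, 2, 3, 4, 2, 3, 1, 2, 3, 5, 4, 3, 2, 1, 2, 3, 1, 2, 3, 4, 5, 3, 2, 1, 3, 2, 3, 4, 2, 3, 1, 2, 3, 5, 4, 3, 2, 1],
  [2, 1, 2, 3, 4, 5, 3, 2, 1, 3, 2, 3, 4, 2, 3, 1, 2, 3, 5, 4, 3, 2, 1, 3, 1, 2, 3, 4, 5, 3, 2, 1, 3, 2, 3, 4, 2, 3, 1, 2, 3, 5, 4, 3, 2, 1],
  [3, 2, 3, 1, 2, 3, 4, 5, 3, 2, 1, 3, 2, 3, 4, 2, 3, 1, 2, 3, 5, 4, 3, 2, 1],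
  [1, 2, 3, 4, 5, 3, 2, 1, 3, 2, 3, 4, 2, 3, 1, 2, 3, 5, 4, 3, 2, 1, 3, 1, 2, 3, 4, 5, 3, 2, 1, 3, 2, 3, 4, 2, 3, 1, 2, 3, 5, 4, 3, 2, 1, 3],
  [1, 2, 3, 4, 5, 3, 2, 1, 3, 2, 3, 4, 2, 3, 1, 2, 3, 5, 4, 3, 2, 1, 2, 3, 1, 2, 3, 4, 5, 3, 2, 1, 3, 2, 3, 4, 2, 3, 1, 2, 3, 5, 4, 3, 2, 1]]
def us12 : List (List Nat) := [[3, 1, 2, 3, 4, 5, 3, 2, 1, 3, 2, 3, 4, 2, 3, 1, 2, 3, 5, 4, 3, 2, 1, 2, 3],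
  [3, 1, 2, 3, 4, 5, 3, 2, 1, 3, 2, 3, 4, 2, 3, 1, 2, 3, 5, 4, 3, 2, 1, 5, 6, 3],
  [5, 1, 2, 3, 4, 5, 3, 2, 1, 3, 2, 3, 4, 2, 3, 1, 2, 3, 5, 4, 3, 2, 1, 1, 2, 3, 4, 5, 3, 2, 1, 3, 2, 3, 4, 2, 3, 1, 2, 3, 5, 4, 3, 2, 1, 2, 3, 6, 5, 3],
  [1, 0, 1, 6, 3, 1, 2, 3, 4, 5, 3, 2, 1, 3, 2, 3, 4, 2, 3, 1, 2, 3, 5, 4, 3, 2, 1, 5, 6, 3],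
  [5, 6, 3, 1, 2, 3, 4, 5, 3, 2, 1, 3, 2, 3, 4, 2, 3, 1, 2, 3, 5, 4, 3, 2, 1, 2, 3],
  [6, 3, 1, 2, 3, 4, 5, 3, 2, 1, 3, 2, 3, 4, 2, 3, 1, 2, 3, 5, 4, 3, 2, 1, 5, 6, 3],
  [1, 2, 3, 4, 5, 3, 2, 1, 3, 2, 3, 4, 2, 3, 1, 2, 3, 5, 4, 3, 2, 1, 1, 2, 3, 4, 5, 3, 2, 1, 3, 2, 3, 4, 2, 3, 1, 2, 3, 5, 4, 3, 2, 1, 2, 3, 6, 5, 3],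
  [1, 2, 3, 4, 5, 3, 2, 1, 3, 2, 3, 4, 2, 3, 1, 2, 3, 5, 4, 3, 2, 1, 1, 0, 1, 2, 3, 6, 5, 3],
  [6, 1, 2, 3, 4, 5, 3, 2, 1, 3, 2, 3, 4, 2, 3, 1, 2, 3, 5, 4, 3, 2, 1, 2, 3, 1, 2, 3, 4, 5, 3, 2, 1, 3, 2, 3, 4, 2, 3, 1, 2, 3, 5, 4, 3, 2, 1],
  [3, 1, 2, 3, 4, 5, 3, 2, 1, 3, 2, 3, 4, 2, 3, 1, 2, 3, 5, 4, 3, 2, 1, 6, 1, 2, 3, 4, 5, 3, 2, 1, 3, 2, 3, 4, 2, 3, 1, 2, 3, 5, 4, 3, 2, 1, 3],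
  [1, 2, 3, 4, 5, 3, 2, 1, 3, 2, 3, 4, 2, 3, 1, 2, 3, 5, 4, 3, 2, 1, 6, 5, 3, 6, 5, 3],
  [6, 3, 1, 2, 3, 4, 5, 3, 2, 1, 3, 2, 3, 4, 2, 3, 1, 2, 3, 5, 4, 3, 2, 1, 2, 3],
  [5, 2, 1, 2, 3, 4, 5, 3, 2, 1, 3, 2, 3, 4, 2, 3, 1, 2, 3, 5, 4, 3, 2, 1, 3, 1, 2, 3, 4, 5, 3, 2, 1, 3, 2, 3, 4, 2, 3, 1, 2, 3, 5, 4, 3, 2, 1],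
  [5, 3, 1, 2, 3, 4, 5, 3, 2, 1, 3, 2, 3, 4, 2, 3, 1, 2, 3, 5, 4, 3, 2, 1, 2, 3],
  [1, 2, 3, 4, 5, 3, 2, 1, 3, 2, 3, 4, 2, 3, 1, 2, 3, 5, 4, 3, 2, 1, 3, 6, 3, 5, 6, 3],
  [6, 3, 2, 1, 2, 3, 4, 5, 3, 2, 1, 3, 2, 3, 4, 2, 3, 1, 2, 3, 5, 4, 3, 2, 1, 5, 3, 1, 2, 3, 4, 5, 3, 2, 1, 3, 2, 3, 4, 2, 3, 1, 2, 3, 5, 4, 3, 2, 1],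
  [3, 6, 1, 2, 3, 4, 5, 3, 2, 1, 3, 2, 3, 4, 2, 3, 1, 2, 3, 5, 4, 3, 2, 1, 6, 3],
  [5, 6, 3, 1, 2, 3, 4, 5, 3, 2, 1, 3, 2, 3, 4, 2, 3, 1, 2, 3, 5, 4, 3, 2, 1, 5, 6, 3],
  [1, 0, 1, 5, 6, 3, 1, 2, 3, 4, 5, 3, 2, 1, 3, 2, 3, 4, 2, 3, 1, 2, 3, 5, 4, 3, 2, 1, 5, 6, 3],
  [3, 5, 2, 3, 2, 3, 1, 2, 3, 4, 5, 3, 2, 1, 3, 2, 3, 4, 2, 3, 1, 2, 3, 5, 4, 3, 2, 1],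
  [1, 2, 3, 4, 5, 3, 2, 1, 3, 2, 3, 4, 2, 3, 1, 2, 3, 5, 4, 3, 2, 1, 3, 2, 3, 6, 5, 2, 3],
  [1, 2, 3, 4, 5, 3, 2, 1, 3, 2, 3, 4, 2, 3, 1, 2, 3, 5, 4, 3, 2, 1, 3, 6, 2, 3, 2, 3],
  [1, 0, 1, 1, 2, 3, 4, 5, 3, 2, 1, 3, 2, 3, 4, 2, 3, 1, 2, 3, 5, 4, 3, 2, 1, 3, 1, 2, 3, 4, 5, 3, 2, 1, 3, 2, 3, 4, 2, 3, 1, 2, 3, 5, 4, 3, 2, 1, 3],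
  [1, 0, 1, 3, 1, 2, 3, 4, 5, 3, 2, 1, 3, 2, 3, 4, 2, 3, 1, 2, 3, 5, 4, 3, 2, 1, 5, 6, 3],
  [3, 2, 1, 2, 3, 4, 5, 3, 2, 1, 3, 2, 3, 4, 2, 3, 1, 2, 3, 5, 4, 3, 2, 1, 5, 3, 1, 2, 3, 4, 5, 3, 2, 1, 3, 2, 3, 4, 2, 3, 1, 2, 3, 5, 4, 3, 2, 1],
  [2, 3, 5, 6, 1, 2, 3, 4, 5, 3, 2, 1, 3, 2, 3, 4, 2, 3, 1, 2, 3, 5, 4, 3, 2, 1, 3, 1, 2, 3, 4, 5, 3, 2, 1, 3, 2, 3, 4, 2, 3, 1, 2, 3, 5, 4, 3, 2, 1],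
  [1, 2, 3, 4, 5, 3, 2, 1, 3, 2, 3, 4, 2, 3, 1, 2, 3, 5, 4, 3, 2, 1, 3, 6, 1, 2, 3, 4, 5, 3, 2, 1, 3, 2, 3, 4, 2, 3, 1, 2, 3, 5, 4, 3, 2, 1, 1, 0, 1, 2, 3],
  [1, 2, 3, 4, 5, 3, 2, 1, 3, 2, 3, 4, 2, 3, 1, 2, 3, 5, 4, 3, 2, 1, 5, 3, 6, 1, 2, 3, 4, 5, 3, 2, 1, 3, 2, 3, 4, 2, 3, 1, 2, 3, 5, 4, 3, 2, 1, 1, 0, 1, 2, 3],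
  [5, 3, 2, 3, 1, 2, 3, 4, 5, 3, 2, 1, 3, 2, 3, 4, 2, 3, 1, 2, 3, 5, 4, 3, 2, 1],
  [1, 0, 1, 5, 1, 2, 3, 4, 5, 3, 2, 1, 3, 2, 3, 4, 2, 3, 1, 2, 3, 5, 4, 3, 2, 1, 3, 6, 5, 3],
  [5, 1, 2, 3, 4, 5, 3, 2, 1, 3, 2, 3, 4, 2, 3, 1, 2, 3, 5, 4, 3, 2, 1, 3, 6, 5, 3],
  [3, 1, 2, 3, 4, 5, 3, 2, 1, 3, 2, 3, 4, 2, 3, 1, 2, 3, 5, 4, 3, 2, 1, 5, 3, 6, 5, 3],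
  [1, 0, 1, 3, 6, 5, 3, 1, 2, 3, 4, 5, 3, 2, 1, 3, 2, 3, 4, 2, 3, 1, 2, 3, 5, 4, 3, 2, 1],
  [2, 1, 2, 3, 4, 5, 3, 2, 1, 3, 2, 3, 4, 2, 3, 1, 2, 3, 5, 4, 3, 2, 1, 3, 6, 5, 3, 1, 2, 3, 4, 5, 3, 2, 1, 3, 2, 3, 4, 2, 3, 1, 2, 3, 5, 4, 3, 2, 1],
  [3, 2, 3, 6, 1, 2, 3, 4, 5, 3, 2, 1, 3, 2, 3, 4, 2, 3, 1, 2, 3, 5, 4, 3, 2, 1, 5, 6, 3],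
  [3, 6, 5, 1, 2, 3, 4, 5, 3, 2, 1, 3, 2, 3, 4, 2, 3, 1, 2, 3, 5, 4, 3, 2, 1, 3],
  [1, 2, 3, 4, 5, 3, 2, 1, 3, 2, 3, 4, 2, 3, 1, 2, 3, 5, 4, 3, 2, 1, 1, 2, 3, 4, 5, 3, 2, 1, 3, 2, 3, 4, 2, 3, 1, 2, 3, 5, 4, 3, 2, 1, 3, 6, 5, 1, 2, 3, 4, 5, 3, 2, 1, 3, 2, 3, 4, 2, 3, 1, 2, 3, 5, 4, 3, 2, 1, 3],
  [1, 0, 1, 1, 2, 3, 4, 5, 3, 2, 1, 3, 2, 3, 4, 2, 3, 1, 2, 3, 5, 4, 3, 2, 1, 6, 5, 3, 1, 2, 3, 4, 5, 3, 2, 1, 3, 2, 3, 4, 2, 3, 1, 2, 3, 5, 4, 3, 2, 1],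
  [1, 2, 3, 4, 5, 3, 2, 1, 3, 2, 3, 4, 2, 3, 1, 2, 3, 5, 4, 3, 2, 1, 1, 2, 3, 4, 5, 3, 2, 1, 3, 2, 3, 4, 2, 3, 1, 2, 3, 5, 4, 3, 2, 1, 3, 6, 5, 3, 1, 2, 3, 4, 5, 3, 2, 1, 3, 2, 3, 4, 2, 3, 1, 2, 3, 5, 4, 3, 2, 1],
  [6, 5, 1, 2, 3, 4, 5, 3, 2, 1, 3, 2, 3, 4, 2, 3, 1, 2, 3, 5, 4, 3, 2, 1, 6, 3, 1, 2, 3, 4, 5, 3, 2, 1, 3, 2, 3, 4, 2, 3, 1, 2, 3, 5, 4, 3, 2, 1]]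
def us13 : List (List Nat) := [[5, 1, 2, 3, 4, 5, 3, 2, 1, 3, 2, 3, 4, 2, 3, 1, 2, 3, 5, 4, 3, 2, 1, 6, 3, 1, 2, 3, 4, 5, 3, 2, 1, 3, 2, 3, 4, 2, 3, 1, 2, 3, 5, 4, 3, 2, 1],
  [5, 3, 6, 2, 1, 2, 3, 4, 5, 3, 2, 1, 3, 2, 3, 4, 2, 3, 1, 2, 3, 5, 4, 3, 2, 1, 3],
  [1, 2, 3, 4, 5, 3, 2, 1, 3, 2, 3, 4, 2, 3, 1, 2, 3, 5, 4, 3, 2, 1, 1, 0, 1, 6, 3, 1, 2, 3, 4, 5, 3, 2, 1, 3, 2, 3, 4, 2, 3, 1, 2, 3, 5, 4, 3, 2, 1, 5, 3],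
  [2, 3, 1, 2, 3, 4, 5, 3, 2, 1, 3, 2, 3, 4, 2, 3, 1, 2, 3, 5, 4, 3, 2, 1, 1, 2, 3, 4, 5, 3, 2, 1, 3, 2, 3, 4, 2, 3, 1, 2, 3, 5, 4, 3, 2, 1, 5, 3, 1, 2, 3, 4, 5, 3, 2, 1, 3, 2, 3, 4, 2, 3, 1, 2, 3, 5, 4, 3, 2, 1],
  [1, 2, 3, 4, 5, 3, 2, 1, 3, 2, 3, 4, 2, 3, 1, 2, 3, 5, 4, 3, 2, 1, 3, 1, 2, 3, 4, 5, 3, 2, 1, 3, 2, 3, 4, 2, 3, 1, 2, 3, 5, 4, 3, 2, 1, 6, 1, 2, 3, 4, 5, 3, 2, 1, 3, 2, 3, 4, 2, 3, 1, 2, 3, 5, 4, 3, 2, 1, 5, 3],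
  [1, 2, 3, 4, 5, 3, 2, 1, 3, 2, 3, 4, 2, 3, 1, 2, 3, 5, 4, 3, 2, 1, 1, 0, 1, 5, 6, 1, 2, 3, 4, 5, 3, 2, 1, 3, 2, 3, 4, 2, 3, 1, 2, 3, 5, 4, 3, 2, 1, 3],
  [2, 1, 0, 1, 3, 5, 6, 3, 2, 3],
  [5, 3, 6, 5, 3, 2, 3],
  [3, 5, 3, 6, 3, 2, 3],
  [1, 2, 3, 4, 5, 3, 2, 1, 3, 2, 3, 4, 2, 3, 1, 2, 3, 5, 4, 3, 2, 1, 6, 3, 1, 2, 3, 4, 5, 3, 2, 1, 3, 2, 3, 4, 2, 3, 1, 2, 3, 5, 4, 3, 2, 1, 5, 3, 1, 2, 3, 4, 5, 3, 2, 1, 3, 2, 3, 4, 2, 3, 1, 2, 3, 5, 4, 3, 2, 1],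
  [3, 6, 3, 2, 3, 5, 2, 3],
  [1, 2, 3, 4, 5, 3, 2, 1, 3, 2, 3, 4, 2, 3, 1, 2, 3, 5, 4, 3, 2, 1, 1, 2, 3, 4, 5, 3, 2, 1, 3, 2, 3, 4, 2, 3, 1, 2, 3, 5, 4, 3, 2, 1, 5, 6, 1, 2, 3, 4, 5, 3, 2, 1, 3, 2, 3, 4, 2, 3, 1, 2, 3, 5, 4, 3, 2, 1, 3],
  [6, 5, 3, 6, 5, 3, 2, 3],
  [3, 5, 1, 2, 3, 4, 5, 3, 2, 1, 3, 2, 3, 4, 2, 3, 1, 2, 3, 5, 4, 3, 2, 1, 1, 2, 3, 4, 5, 3, 2, 1, 3, 2, 3, 4, 2, 3, 1, 2, 3, 5, 4, 3, 2, 1, 6, 1, 2, 3, 4, 5, 3, 2, 1, 3, 2, 3, 4, 2, 3, 1, 2, 3, 5, 4, 3, 2, 1, 3],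
  [1, 0, 1, 3, 5, 6, 3, 1, 2, 3, 4, 5, 3, 2, 1, 3, 2, 3, 4, 2, 3, 1, 2, 3, 5, 4, 3, 2, 1],
  [3, 1, 2, 3, 4, 5, 3, 2, 1, 3, 2, 3, 4, 2, 3, 1, 2, 3, 5, 4, 3, 2, 1, 1, 0, 1, 5, 6, 3, 1, 2, 3, 4, 5, 3, 2, 1, 3, 2, 3, 4, 2, 3, 1, 2, 3, 5, 4, 3, 2, 1],
  [1, 0, 1, 6, 1, 2, 3, 4, 5, 3, 2, 1, 3, 2, 3, 4, 2, 3, 1, 2, 3, 5, 4, 3, 2, 1, 3, 5, 2, 3],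
  [3, 5, 6, 1, 2, 3, 4, 5, 3, 2, 1, 3, 2, 3, 4, 2, 3, 1, 2, 3, 5, 4, 3, 2, 1, 3],
  [6, 5, 1, 2, 3, 4, 5, 3, 2, 1, 3, 2, 3, 4, 2, 3, 1, 2, 3, 5, 4, 3, 2, 1, 3, 5, 2, 3],
  [3, 1, 2, 3, 4, 5, 3, 2, 1, 3, 2, 3, 4, 2, 3, 1, 2, 3, 5, 4, 3, 2, 1, 1, 0, 1, 5, 6, 1, 2, 3, 4, 5, 3, 2, 1, 3, 2, 3, 4, 2, 3, 1, 2, 3, 5, 4, 3, 2, 1, 3],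
  [1, 2, 3, 4, 5, 3, 2, 1, 3, 2, 3, 4, 2, 3, 1, 2, 3, 5, 4, 3, 2, 1, 6, 1, 2, 3, 4, 5, 3, 2, 1, 3, 2, 3, 4, 2, 3, 1, 2, 3, 5, 4, 3, 2, 1, 2, 3, 5, 6, 3],
  [2, 3, 6, 1, 2, 3, 4, 5, 3, 2, 1, 3, 2, 3, 4, 2, 3, 1, 2, 3, 5, 4, 3, 2, 1, 5, 6, 3],
  [6, 3, 5, 2, 1, 2, 3, 4, 5, 3, 2, 1, 3, 2, 3, 4, 2, 3, 1, 2, 3, 5, 4, 3, 2, 1, 3],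
  [6, 5, 3, 1, 2, 3, 4, 5, 3, 2, 1, 3, 2, 3, 4, 2, 3, 1, 2, 3, 5, 4, 3, 2, 1, 5, 1, 2, 3, 4, 5, 3, 2, 1, 3, 2, 3, 4, 2, 3, 1, 2, 3, 5, 4, 3, 2, 1, 3],
  [6, 3, 2, 1, 2, 3, 4, 5, 3, 2, 1, 3, 2, 3, 4, 2, 3, 1, 2, 3, 5, 4, 3, 2, 1, 5, 3],
  [6, 3, 5, 1, 2, 3, 4, 5, 3, 2, 1, 3, 2, 3, 4, 2, 3, 1, 2, 3, 5, 4, 3, 2, 1, 1, 2, 3, 4, 5, 3, 2, 1, 3, 2, 3, 4, 2, 3, 1, 2, 3, 5, 4, 3, 2, 1, 2, 3],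
  [1, 2, 3, 4, 5, 3, 2, 1, 3, 2, 3, 4, 2, 3, 1, 2, 3, 5, 4, 3, 2, 1, 6, 3, 2, 1, 2, 3, 4, 5, 3, 2, 1, 3, 2, 3, 4, 2, 3, 1, 2, 3, 5, 4, 3, 2, 1, 5, 3],
  [5, 6, 3, 5, 6, 3],
  [6, 3, 5, 1, 2, 3, 4, 5, 3, 2, 1, 3, 2, 3, 4, 2, 3, 1, 2, 3, 5, 4, 3, 2, 1, 3, 2, 3],
  [6, 3, 5, 6, 3],
  [1, 2, 3, 4, 5, 3, 2, 1, 3, 2, 3, 4, 2, 3, 1, 2, 3, 5, 4, 3, 2, 1, 1, 2, 3, 4, 5, 3, 2, 1, 3, 2, 3, 4, 2, 3, 1, 2, 3, 5, 4, 3, 2, 1, 3, 5, 1, 2, 3, 4, 5, 3, 2, 1, 3, 2, 3, 4, 2, 3, 1, 2, 3, 5, 4, 3, 2, 1, 3, 2, 3],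
  [6, 3, 2, 3, 5, 2, 3],
  [1, 0, 1, 3, 6, 3, 5, 3, 2, 3],
  [1, 2, 3, 4, 5, 3, 2, 1, 3, 2, 3, 4, 2, 3, 1, 2, 3, 5, 4, 3, 2, 1, 6, 1, 2, 3, 4, 5, 3, 2, 1, 3, 2, 3, 4, 2, 3, 1, 2, 3, 5, 4, 3, 2, 1, 1, 2, 3, 4, 5, 3, 2, 1, 3, 2, 3, 4, 2, 3, 1, 2, 3, 5, 4, 3, 2, 1, 2, 3],
  [1, 2, 3, 4, 5, 3, 2, 1, 3, 2, 3, 4, 2, 3, 1, 2, 3, 5, 4, 3, 2, 1, 6, 3, 1, 2, 3, 4, 5, 3, 2, 1, 3, 2, 3, 4, 2, 3, 1, 2, 3, 5, 4, 3, 2, 1, 5, 1, 2, 3, 4, 5, 3, 2, 1, 3, 2, 3, 4, 2, 3, 1, 2, 3, 5, 4, 3, 2, 1, 3],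
  [3, 6, 3, 5, 3, 2, 3],
  [1, 2, 3, 4, 5, 3, 2, 1, 3, 2, 3, 4, 2, 3, 1, 2, 3, 5, 4, 3, 2, 1, 2, 1, 2, 3, 4, 5, 3, 2, 1, 3, 2, 3, 4, 2, 3, 1, 2, 3, 5, 4, 3, 2, 1, 6, 1, 2, 3, 4, 5, 3, 2, 1, 3, 2, 3, 4, 2, 3, 1, 2, 3, 5, 4, 3, 2, 1, 3],
  [1, 2, 3, 4, 5, 3, 2, 1, 3, 2, 3, 4, 2, 3, 1, 2, 3, 5, 4, 3, 2, 1, 3, 5, 1, 2, 3, 4, 5, 3, 2, 1, 3, 2, 3, 4, 2, 3, 1, 2, 3, 5, 4, 3, 2, 1, 6, 3, 1, 2, 3, 4, 5, 3, 2, 1, 3, 2, 3, 4, 2, 3, 1, 2, 3, 5, 4, 3, 2, 1],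
  [6, 3, 1, 2, 3, 4, 5, 3, 2, 1, 3, 2, 3, 4, 2, 3, 1, 2, 3, 5, 4, 3, 2, 1, 1, 2, 3, 4, 5, 3, 2, 1, 3, 2, 3, 4, 2, 3, 1, 2, 3, 5, 4, 3, 2, 1, 5, 6, 1, 2, 3, 4, 5, 3, 2, 1, 3, 2, 3, 4, 2, 3, 1, 2, 3, 5, 4, 3, 2, 1, 3],
  [3, 1, 2, 3, 4, 5, 3, 2, 1, 3, 2, 3, 4, 2, 3, 1, 2, 3, 5, 4, 3, 2, 1, 5, 1, 2, 3, 4, 5, 3, 2, 1, 3, 2, 3, 4, 2, 3, 1, 2, 3, 5, 4, 3, 2, 1, 3]]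
def us14 : List (List Nat) := [[6, 3, 5, 6, 3, 1, 2, 3, 4, 5, 3, 2, 1, 3, 2, 3, 4, 2, 3, 1, 2, 3, 5, 4, 3, 2, 1],
  [3, 6, 2, 3, 5, 6, 3],
  [1, 0, 1, 1, 2, 3, 4, 5, 3, 2, 1, 3, 2, 3, 4, 2, 3, 1, 2, 3, 5, 4, 3, 2, 1, 6, 3, 5, 6, 3],
  [5, 1, 2, 3, 4, 5, 3, 2, 1, 3, 2, 3, 4, 2, 3, 1, 2, 3, 5, 4, 3, 2, 1, 6, 3, 5, 6, 3],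
  [1, 2, 3, 4, 5, 3, 2, 1, 3, 2, 3, 4, 2, 3, 1, 2, 3, 5, 4, 3, 2, 1, 5, 6, 3, 1, 2, 3, 4, 5, 3, 2, 1, 3, 2, 3, 4, 2, 3, 1, 2, 3, 5, 4, 3, 2, 1, 5, 6, 3],
  [1, 2, 3, 4, 5, 3, 2, 1, 3, 2, 3, 4, 2, 3, 1, 2, 3, 5, 4, 3, 2, 1, 5, 3, 1, 2, 3, 4, 5, 3, 2, 1, 3, 2, 3, 4, 2, 3, 1, 2, 3, 5, 4, 3, 2, 1, 5, 3],
  [3, 5, 3, 2, 1, 2, 3, 4, 5, 3, 2, 1, 3, 2, 3, 4, 2, 3, 1, 2, 3, 5, 4, 3, 2, 1, 3],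
  [1, 2, 3, 4, 5, 3, 2, 1, 3, 2, 3, 4, 2, 3, 1, 2, 3, 5, 4, 3, 2, 1, 3, 5, 2, 3],
  [5, 3, 6, 2, 3, 5, 6, 3],
  [1, 0, 1, 6, 3, 5, 6, 3, 1, 2, 3, 4, 5, 3, 2, 1, 3, 2, 3, 4, 2, 3, 1, 2, 3, 5, 4, 3, 2, 1],
  [1, 2, 3, 4, 5, 3, 2, 1, 3, 2, 3, 4, 2, 3, 1, 2, 3, 5, 4, 3, 2, 1, 6, 3, 5, 6, 3],
  [1, 0, 1, 3, 6, 2, 3, 5, 6, 3],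
  [1, 2, 3, 4, 5, 3, 2, 1, 3, 2, 3, 4, 2, 3, 1, 2, 3, 5, 4, 3, 2, 1, 1, 2, 3, 4, 5, 3, 2, 1, 3, 2, 3, 4, 2, 3, 1, 2, 3, 5, 4, 3, 2, 1, 6, 2, 3, 5, 6, 3],
  [3, 5, 2, 1, 2, 3, 4, 5, 3, 2, 1, 3, 2, 3, 4, 2, 3, 1, 2, 3, 5, 4, 3, 2, 1, 3],
  [5, 3, 1, 2, 3, 4, 5, 3, 2, 1, 3, 2, 3, 4, 2, 3, 1, 2, 3, 5, 4, 3, 2, 1, 5, 1, 2, 3, 4, 5, 3, 2, 1, 3, 2, 3, 4, 2, 3, 1, 2, 3, 5, 4, 3, 2, 1, 3],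
  [5, 6, 3, 5, 6, 3, 1, 2, 3, 4, 5, 3, 2, 1, 3, 2, 3, 4, 2, 3, 1, 2, 3, 5, 4, 3, 2, 1],
  [5, 1, 2, 3, 4, 5, 3, 2, 1, 3, 2, 3, 4, 2, 3, 1, 2, 3, 5, 4, 3, 2, 1, 3, 5, 2, 3],
  [1, 0, 1, 1, 2, 3, 4, 5, 3, 2, 1, 3, 2, 3, 4, 2, 3, 1, 2, 3, 5, 4, 3, 2, 1, 3, 5, 2, 3],
  [5, 1, 2, 3, 4, 5, 3, 2, 1, 3, 2, 3, 4, 2, 3, 1, 2, 3, 5, 4, 3, 2, 1, 6, 3, 5, 3, 2, 3],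
  [5, 1, 2, 3, 4, 5, 3, 2, 1, 3, 2, 3, 4, 2, 3, 1, 2, 3, 5, 4, 3, 2, 1, 3, 5, 1, 2, 3, 4, 5, 3, 2, 1, 3, 2, 3, 4, 2, 3, 1, 2, 3, 5, 4, 3, 2, 1, 6, 3],
  [5, 1, 2, 3, 4, 5, 3, 2, 1, 3, 2, 3, 4, 2, 3, 1, 2, 3, 5, 4, 3, 2, 1, 6, 3, 1, 2, 3, 4, 5, 3, 2, 1, 3, 2, 3, 4, 2, 3, 1, 2, 3, 5, 4, 3, 2, 1, 5, 3],
  [6, 1, 2, 3, 4, 5, 3, 2, 1, 3, 2, 3, 4, 2, 3, 1, 2, 3, 5, 4, 3, 2, 1, 5, 6, 3, 5, 2, 3],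
  [2, 1, 2, 3, 4, 5, 3, 2, 1, 3, 2, 3, 4, 2, 3, 1, 2, 3, 5, 4, 3, 2, 1, 5, 3, 1, 2, 3, 4, 5, 3, 2, 1, 3, 2, 3, 4, 2, 3, 1, 2, 3, 5, 4, 3, 2, 1],
  [5, 2, 3, 2, 3, 1, 2, 3, 4, 5, 3, 2, 1, 3, 2, 3, 4, 2, 3, 1, 2, 3, 5, 4, 3, 2, 1],
  [6, 3, 2, 1, 2, 3, 4, 5, 3, 2, 1, 3, 2, 3, 4, 2, 3, 1, 2, 3, 5, 4, 3, 2, 1, 3, 6, 5, 3],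
  [1, 2, 3, 4, 5, 3, 2, 1, 3, 2, 3, 4, 2, 3, 1, 2, 3, 5, 4, 3, 2, 1, 6, 3, 5, 6, 3, 1, 2, 3, 4, 5, 3, 2, 1, 3, 2, 3, 4, 2, 3, 1, 2, 3, 5, 4, 3, 2, 1],
  [6, 2, 3, 1, 2, 3, 4, 5, 3, 2, 1, 3, 2, 3, 4, 2, 3, 1, 2, 3, 5, 4, 3, 2, 1, 5, 6, 3],
  [1, 2, 3, 4, 5, 3, 2, 1, 3, 2, 3, 4, 2, 3, 1, 2, 3, 5, 4, 3, 2, 1, 3, 6, 3, 1, 2, 3, 4, 5, 3, 2, 1, 3, 2, 3, 4, 2, 3, 1, 2, 3, 5, 4, 3, 2, 1, 5, 6, 3],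
  [1, 2, 3, 4, 5, 3, 2, 1, 3, 2, 3, 4, 2, 3, 1, 2, 3, 5, 4, 3, 2, 1, 3, 5, 2, 3, 2, 3],
  [1, 0, 1, 6, 3, 5, 2, 3, 2, 3],
  [3, 5, 1, 2, 3, 4, 5, 3, 2, 1, 3, 2, 3, 4, 2, 3, 1, 2, 3, 5, 4, 3, 2, 1, 3, 1, 2, 3, 4, 5, 3, 2, 1, 3, 2, 3, 4, 2, 3, 1, 2, 3, 5, 4, 3, 2, 1, 5, 3],
  [1, 2, 3, 4, 5, 3, 2, 1, 3, 2, 3, 4, 2, 3, 1, 2, 3, 5, 4, 3, 2, 1, 3, 2, 1, 2, 3, 4, 5, 3, 2, 1, 3, 2, 3, 4, 2, 3, 1, 2, 3, 5, 4, 3, 2, 1, 5, 3],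
  [6, 3, 5, 2, 3, 2, 3],
  [3, 1, 2, 3, 4, 5, 3, 2, 1, 3, 2, 3, 4, 2, 3, 1, 2, 3, 5, 4, 3, 2, 1, 2, 3, 5, 2, 3],
  [3, 2, 3, 1, 2, 3, 4, 5, 3, 2, 1, 3, 2, 3, 4, 2, 3, 1, 2, 3, 5, 4, 3, 2, 1, 6, 5, 3],
  [6, 3, 1, 2, 3, 4, 5, 3, 2, 1, 3, 2, 3, 4, 2, 3, 1, 2, 3, 5, 4, 3, 2, 1, 6, 1, 2, 3, 4, 5, 3, 2, 1, 3, 2, 3, 4, 2, 3, 1, 2, 3, 5, 4, 3, 2, 1, 5, 3],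
  [6, 1, 2, 3, 4, 5, 3, 2, 1, 3, 2, 3, 4, 2, 3, 1, 2, 3, 5, 4, 3, 2, 1, 6, 3, 5, 2, 3],
  [1, 2, 3, 4, 5, 3, 2, 1, 3, 2, 3, 4, 2, 3, 1, 2, 3, 5, 4, 3, 2, 1, 3, 1, 2, 3, 4, 5, 3, 2, 1, 3, 2, 3, 4, 2, 3, 1, 2, 3, 5, 4, 3, 2, 1, 3, 6, 5, 3],
  [1, 0, 1, 6, 5, 1, 2, 3, 4, 5, 3, 2, 1, 3, 2, 3, 4, 2, 3, 1, 2, 3, 5, 4, 3, 2, 1, 3, 1, 2, 3, 4, 5, 3, 2, 1, 3, 2, 3, 4, 2, 3, 1, 2, 3, 5, 4, 3, 2, 1],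
  [6, 5, 1, 2, 3, 4, 5, 3, 2, 1, 3, 2, 3, 4, 2, 3, 1, 2, 3, 5, 4, 3, 2, 1, 3, 1, 2, 3, 4, 5, 3, 2, 1, 3, 2, 3, 4, 2, 3, 1, 2, 3, 5, 4, 3, 2, 1]]
def us15 : List (List Nat) := [[6, 3, 5, 2, 3, 6, 5, 3],
  [1, 0, 1, 3, 5, 2, 3, 6, 5, 3],
  [6, 5, 3, 6, 5, 3, 1, 2, 3, 4, 5, 3, 2, 1, 3, 2, 3, 4, 2, 3, 1, 2, 3, 5, 4, 3, 2, 1],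
  [1, 2, 3, 4, 5, 3, 2, 1, 3, 2, 3, 4, 2, 3, 1, 2, 3, 5, 4, 3, 2, 1, 5, 3, 6, 5, 1, 2, 3, 4, 5, 3, 2, 1, 3, 2, 3, 4, 2, 3, 1, 2, 3, 5, 4, 3, 2, 1, 3],
  [5, 3, 6, 5, 1, 2, 3, 4, 5, 3, 2, 1, 3, 2, 3, 4, 2, 3, 1, 2, 3, 5, 4, 3, 2, 1, 3],
  [3, 6, 2, 1, 2, 3, 4, 5, 3, 2, 1, 3, 2, 3, 4, 2, 3, 1, 2, 3, 5, 4, 3, 2, 1, 3],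
  [1, 2, 3, 4, 5, 3, 2, 1, 3, 2, 3, 4, 2, 3, 1, 2, 3, 5, 4, 3, 2, 1, 6, 3, 1, 2, 3, 4, 5, 3, 2, 1, 3, 2, 3, 4, 2, 3, 1, 2, 3, 5, 4, 3, 2, 1],
  [1, 2, 3, 4, 5, 3, 2, 1, 3, 2, 3, 4, 2, 3, 1, 2, 3, 5, 4, 3, 2, 1, 2, 1, 2, 3, 4, 5, 3, 2, 1, 3, 2, 3, 4, 2, 3, 1, 2, 3, 5, 4, 3, 2, 1, 6, 3, 2, 3],
  [1, 0, 1, 6, 5, 3, 6, 5, 1, 2, 3, 4, 5, 3, 2, 1, 3, 2, 3, 4, 2, 3, 1, 2, 3, 5, 4, 3, 2, 1, 3],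
  [3, 1, 2, 3, 4, 5, 3, 2, 1, 3, 2, 3, 4, 2, 3, 1, 2, 3, 5, 4, 3, 2, 1, 1, 0, 1, 6, 2, 3],
  [2, 1, 0, 1, 6, 3, 5, 3, 2, 3],
  [1, 2, 3, 4, 5, 3, 2, 1, 3, 2, 3, 4, 2, 3, 1, 2, 3, 5, 4, 3, 2, 1, 1, 2, 3, 4, 5, 3, 2, 1, 3, 2, 3, 4, 2, 3, 1, 2, 3, 5, 4, 3, 2, 1, 3, 5, 6, 1, 2, 3, 4, 5, 3, 2, 1, 3, 2, 3, 4, 2, 3, 1, 2, 3, 5, 4, 3, 2, 1, 3],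
  [1, 0, 1, 2, 1, 0, 1, 3, 5, 3, 2, 3],
  [1, 2, 3, 4, 5, 3, 2, 1, 3, 2, 3, 4, 2, 3, 1, 2, 3, 5, 4, 3, 2, 1, 1, 0, 1, 6, 5, 3, 1, 2, 3, 4, 5, 3, 2, 1, 3, 2, 3, 4, 2, 3, 1, 2, 3, 5, 4, 3, 2, 1],
  [6, 1, 2, 3, 4, 5, 3, 2, 1, 3, 2, 3, 4, 2, 3, 1, 2, 3, 5, 4, 3, 2, 1, 1, 2, 3, 4, 5, 3, 2, 1, 3, 2, 3, 4, 2, 3, 1, 2, 3, 5, 4, 3, 2, 1, 3, 1, 2, 3, 4, 5, 3, 2, 1, 3, 2, 3, 4, 2, 3, 1, 2, 3, 5, 4, 3, 2, 1, 5, 3],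
  [1, 0, 1, 5, 3, 6, 2, 3],
  [1, 0, 1, 6, 5, 2, 3, 1, 2, 3, 4, 5, 3, 2, 1, 3, 2, 3, 4, 2, 3, 1, 2, 3, 5, 4, 3, 2, 1],
  [5, 3, 1, 2, 3, 4, 5, 3, 2, 1, 3, 2, 3, 4, 2, 3, 1, 2, 3, 5, 4, 3, 2, 1, 6, 3],
  [6, 3, 5, 2, 3],
  [6, 1, 2, 3, 4, 5, 3, 2, 1, 3, 2, 3, 4, 2, 3, 1, 2, 3, 5, 4, 3, 2, 1, 5, 3],
  [6, 1, 2, 3, 4, 5, 3, 2, 1, 3, 2, 3, 4, 2, 3, 1, 2, 3, 5, 4, 3, 2, 1, 5, 1, 2, 3, 4, 5, 3, 2, 1, 3, 2, 3, 4, 2, 3, 1, 2, 3, 5, 4, 3, 2, 1, 3],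
  [3, 1, 2, 3, 4, 5, 3, 2, 1, 3, 2, 3, 4, 2, 3, 1, 2, 3, 5, 4, 3, 2, 1, 1, 0, 1, 6, 5, 3, 1, 2, 3, 4, 5, 3, 2, 1, 3, 2, 3, 4, 2, 3, 1, 2, 3, 5, 4, 3, 2, 1],
  [1, 2, 3, 4, 5, 3, 2, 1, 3, 2, 3, 4, 2, 3, 1, 2, 3, 5, 4, 3, 2, 1, 5, 6, 1, 2, 3, 4, 5, 3, 2, 1, 3, 2, 3, 4, 2, 3, 1, 2, 3, 5, 4, 3, 2, 1, 2, 3, 1, 2, 3, 4, 5, 3, 2, 1, 3, 2, 3, 4, 2, 3, 1, 2, 3, 5, 4, 3, 2, 1],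
  [6, 1, 2, 3, 4, 5, 3, 2, 1, 3, 2, 3, 4, 2, 3, 1, 2, 3, 5, 4, 3, 2, 1, 2, 1, 0, 1, 6, 3, 1, 2, 3, 4, 5, 3, 2, 1, 3, 2, 3, 4, 2, 3, 1, 2, 3, 5, 4, 3, 2, 1],
  [1, 2, 3, 4, 5, 3, 2, 1, 3, 2, 3, 4, 2, 3, 1, 2, 3, 5, 4, 3, 2, 1, 1, 2, 3, 4, 5, 3, 2, 1, 3, 2, 3, 4, 2, 3, 1, 2, 3, 5, 4, 3, 2, 1, 6, 5, 3, 1, 2, 3, 4, 5, 3, 2, 1, 3, 2, 3, 4, 2, 3, 1, 2, 3, 5, 4, 3, 2, 1],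
  [5, 6, 3, 5, 3, 2, 3],
  [6, 5, 2, 3, 1, 2, 3, 4, 5, 3, 2, 1, 3, 2, 3, 4, 2, 3, 1, 2, 3, 5, 4, 3, 2, 1],
  [5, 6, 1, 2, 3, 4, 5, 3, 2, 1, 3, 2, 3, 4, 2, 3, 1, 2, 3, 5, 4, 3, 2, 1, 2, 3],
  [5, 3, 6, 2, 3],
  [1, 0, 1, 6, 1, 2, 3, 4, 5, 3, 2, 1, 3, 2, 3, 4, 2, 3, 1, 2, 3, 5, 4, 3, 2, 1, 5, 3],
  [1, 0, 1, 5, 3, 1, 2, 3, 4, 5, 3, 2, 1, 3, 2, 3, 4, 2, 3, 1, 2, 3, 5, 4, 3, 2, 1, 6, 3],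
  [1, 0, 1, 6, 3, 5, 2, 3],
  [1, 2, 3, 4, 5, 3, 2, 1, 3, 2, 3, 4, 2, 3, 1, 2, 3, 5, 4, 3, 2, 1, 1, 2, 3, 4, 5, 3, 2, 1, 3, 2, 3, 4, 2, 3, 1, 2, 3, 5, 4, 3, 2, 1, 5, 6, 3, 1, 2, 3, 4, 5, 3, 2, 1, 3, 2, 3, 4, 2, 3, 1, 2, 3, 5, 4, 3, 2, 1],
  [2, 3, 6, 2, 3],
  [2, 3, 2, 3, 6, 3, 5, 2, 3],
  [1, 2, 3, 4, 5, 3, 2, 1, 3, 2, 3, 4, 2, 3, 1, 2, 3, 5, 4, 3, 2, 1, 3, 6, 5, 1, 2, 3, 4, 5, 3, 2, 1, 3, 2, 3, 4, 2, 3, 1, 2, 3, 5, 4, 3, 2, 1, 6, 3],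
  [2, 3, 6, 3, 5, 1, 2, 3, 4, 5, 3, 2, 1, 3, 2, 3, 4, 2, 3, 1, 2, 3, 5, 4, 3, 2, 1, 6, 3],
  [1, 2, 3, 4, 5, 3, 2, 1, 3, 2, 3, 4, 2, 3, 1, 2, 3, 5, 4, 3, 2, 1, 6, 2, 3],
  [1, 0, 1, 1, 2, 3, 4, 5, 3, 2, 1, 3, 2, 3, 4, 2, 3, 1, 2, 3, 5, 4, 3, 2, 1, 5, 6, 3],
  [5, 2, 3, 6, 1, 2, 3, 4, 5, 3, 2, 1, 3, 2, 3, 4, 2, 3, 1, 2, 3, 5, 4, 3, 2, 1, 2, 3]]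
def us16 : List (List Nat) := [[1, 2, 3, 4, 5, 3, 2, 1, 3, 2, 3, 4, 2, 3, 1, 2, 3, 5, 4, 3, 2, 1, 6, 3, 1, 2, 3, 4, 5, 3, 2, 1, 3, 2, 3, 4, 2, 3, 1, 2, 3, 5, 4, 3, 2, 1, 2, 3],
  [1, 0, 1, 1, 2, 3, 4, 5, 3, 2, 1, 3, 2, 3, 4, 2, 3, 1, 2, 3, 5, 4, 3, 2, 1, 3, 6, 5, 1, 2, 3, 4, 5, 3, 2, 1, 3, 2, 3, 4, 2, 3, 1, 2, 3, 5, 4, 3, 2, 1, 6, 3],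
  [3, 5, 1, 2, 3, 4, 5, 3, 2, 1, 3, 2, 3, 4, 2, 3, 1, 2, 3, 5, 4, 3, 2, 1, 6, 3, 1, 2, 3, 4, 5, 3, 2, 1, 3, 2, 3, 4, 2, 3, 1, 2, 3, 5, 4, 3, 2, 1, 5, 3],
  [1, 0, 1, 1, 2, 3, 4, 5, 3, 2, 1, 3, 2, 3, 4, 2, 3, 1, 2, 3, 5, 4, 3, 2, 1, 6, 2, 3],
  [5, 1, 2, 3, 4, 5, 3, 2, 1, 3, 2, 3, 4, 2, 3, 1, 2, 3, 5, 4, 3, 2, 1, 6, 3, 1, 2, 3, 4, 5, 3, 2, 1, 3, 2, 3, 4, 2, 3, 1, 2, 3, 5, 4, 3, 2, 1, 2, 3],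
  [1, 2, 3, 4, 5, 3, 2, 1, 3, 2, 3, 4, 2, 3, 1, 2, 3, 5, 4, 3, 2, 1, 5, 6, 3],
  [2, 3, 6, 1, 2, 3, 4, 5, 3, 2, 1, 3, 2, 3, 4, 2, 3, 1, 2, 3, 5, 4, 3, 2, 1, 2, 3],
  [1, 2, 3, 4, 5, 3, 2, 1, 3, 2, 3, 4, 2, 3, 1, 2, 3, 5, 4, 3, 2, 1, 1, 0, 1, 5, 6, 3, 1, 2, 3, 4, 5, 3, 2, 1, 3, 2, 3, 4, 2, 3, 1, 2, 3, 5, 4, 3, 2, 1],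
  [1, 0, 1, 2, 3, 6, 2, 3],
  [5, 1, 2, 3, 4, 5, 3, 2, 1, 3, 2, 3, 4, 2, 3, 1, 2, 3, 5, 4, 3, 2, 1, 3, 1, 2, 3, 4, 5, 3, 2, 1, 3, 2, 3, 4, 2, 3, 1, 2, 3, 5, 4, 3, 2, 1, 6, 5, 1, 2, 3, 4, 5, 3, 2, 1, 3, 2, 3, 4, 2, 3, 1, 2, 3, 5, 4, 3, 2, 1, 3],
  [2, 3, 1, 2, 3, 4, 5, 3, 2, 1, 3, 2, 3, 4, 2, 3, 1, 2, 3, 5, 4, 3, 2, 1, 6, 5, 1, 2, 3, 4, 5, 3, 2, 1, 3, 2, 3, 4, 2, 3, 1, 2, 3, 5, 4, 3, 2, 1, 3],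
  [3, 2, 3, 6, 1, 2, 3, 4, 5, 3, 2, 1, 3, 2, 3, 4, 2, 3, 1, 2, 3, 5, 4, 3, 2, 1, 5, 3],
  [1, 0, 1, 1, 2, 3, 4, 5, 3, 2, 1, 3, 2, 3, 4, 2, 3, 1, 2, 3, 5, 4, 3, 2, 1, 5, 6, 3, 2, 3],
  [6, 1, 2, 3, 4, 5, 3, 2, 1, 3, 2, 3, 4, 2, 3, 1, 2, 3, 5, 4, 3, 2, 1, 6, 5, 2, 3],
  [1, 2, 3, 4, 5, 3, 2, 1, 3, 2, 3, 4, 2, 3, 1, 2, 3, 5, 4, 3, 2, 1, 6, 2, 1, 2, 3, 4, 5, 3, 2, 1, 3, 2, 3, 4, 2, 3, 1, 2, 3, 5, 4, 3, 2, 1, 3],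
  [2, 1, 2, 3, 4, 5, 3, 2, 1, 3, 2, 3, 4, 2, 3, 1, 2, 3, 5, 4, 3, 2, 1, 6, 3, 2, 3],
  [5, 1, 2, 3, 4, 5, 3, 2, 1, 3, 2, 3, 4, 2, 3, 1, 2, 3, 5, 4, 3, 2, 1, 1, 0, 1, 3, 6, 5, 3, 1, 2, 3, 4, 5, 3, 2, 1, 3, 2, 3, 4, 2, 3, 1, 2, 3, 5, 4, 3, 2, 1],
  [6, 1, 2, 3, 4, 5, 3, 2, 1, 3, 2, 3, 4, 2, 3, 1, 2, 3, 5, 4, 3, 2, 1, 6, 3, 1, 2, 3, 4, 5, 3, 2, 1, 3, 2, 3, 4, 2, 3, 1, 2, 3, 5, 4, 3, 2, 1],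
  [1, 0, 1, 5, 3, 6, 5, 1, 2, 3, 4, 5, 3, 2, 1, 3, 2, 3, 4, 2, 3, 1, 2, 3, 5, 4, 3, 2, 1, 3],
  [3, 5, 2, 3, 6, 5, 3],
  [6, 1, 2, 3, 4, 5, 3, 2, 1, 3, 2, 3, 4, 2, 3, 1, 2, 3, 5, 4, 3, 2, 1, 5, 3, 6, 5, 1, 2, 3, 4, 5, 3, 2, 1, 3, 2, 3, 4, 2, 3, 1, 2, 3, 5, 4, 3, 2, 1, 3],
  [5, 3, 6, 5, 3, 1, 2, 3, 4, 5, 3, 2, 1, 3, 2, 3, 4, 2, 3, 1, 2, 3, 5, 4, 3, 2, 1],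
  [6, 5, 3, 6, 5, 1, 2, 3, 4, 5, 3, 2, 1, 3, 2, 3, 4, 2, 3, 1, 2, 3, 5, 4, 3, 2, 1, 3],
  [1, 2, 3, 4, 5, 3, 2, 1, 3, 2, 3, 4, 2, 3, 1, 2, 3, 5, 4, 3, 2, 1, 3, 6, 2, 3],
  [3, 1, 2, 3, 4, 5, 3, 2, 1, 3, 2, 3, 4, 2, 3, 1, 2, 3, 5, 4, 3, 2, 1, 1, 2, 3, 4, 5, 3, 2, 1, 3, 2, 3, 4, 2, 3, 1, 2, 3, 5, 4, 3, 2, 1, 6, 2, 3],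
  [2, 1, 2, 3, 4, 5, 3, 2, 1, 3, 2, 3, 4, 2, 3, 1, 2, 3, 5, 4, 3, 2, 1, 1, 0, 1, 6, 3, 2, 3],
  [2, 1, 2, 3, 4, 5, 3, 2, 1, 3, 2, 3, 4, 2, 3, 1, 2, 3, 5, 4, 3, 2, 1, 6, 3, 5, 2, 3],
  [6, 1, 2, 3, 4, 5, 3, 2, 1, 3, 2, 3, 4, 2, 3, 1, 2, 3, 5, 4, 3, 2, 1, 6, 3, 1, 2, 3, 4, 5, 3, 2, 1, 3, 2, 3, 4, 2, 3, 1, 2, 3, 5, 4, 3, 2, 1, 5, 3],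
  [6, 1, 2, 3, 4, 5, 3, 2, 1, 3, 2, 3, 4, 2, 3, 1, 2, 3, 5, 4, 3, 2, 1, 6, 3, 5, 3, 2, 3],
  [1, 2, 3, 4, 5, 3, 2, 1, 3, 2, 3, 4, 2, 3, 1, 2, 3, 5, 4, 3, 2, 1, 5, 6, 3, 1, 2, 3, 4, 5, 3, 2, 1, 3, 2, 3, 4, 2, 3, 1, 2, 3, 5, 4, 3, 2, 1, 5, 3],
  [6, 1, 2, 3, 4, 5, 3, 2, 1, 3, 2, 3, 4, 2, 3, 1, 2, 3, 5, 4, 3, 2, 1, 3, 2, 1, 2, 3, 4, 5, 3, 2, 1, 3, 2, 3, 4, 2, 3, 1, 2, 3, 5, 4, 3, 2, 1, 3],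
  [2, 3, 6, 1, 2, 3, 4, 5, 3, 2, 1, 3, 2, 3, 4, 2, 3, 1, 2, 3, 5, 4, 3, 2, 1, 6, 3],
  [5, 6, 2, 3, 5, 2, 3],
  [1, 2, 3, 4, 5, 3, 2, 1, 3, 2, 3, 4, 2, 3, 1, 2, 3, 5, 4, 3, 2, 1, 1, 0, 1, 3, 5, 6, 1, 2, 3, 4, 5, 3, 2, 1, 3, 2, 3, 4, 2, 3, 1, 2, 3, 5, 4, 3, 2, 1, 3],
  [2, 1, 0, 1, 3, 5, 3, 2, 3],
  [3, 1, 2, 3, 4, 5, 3, 2, 1, 3, 2, 3, 4, 2, 3, 1, 2, 3, 5, 4, 3, 2, 1, 1, 2, 3, 4, 5, 3, 2, 1, 3, 2, 3, 4, 2, 3, 1, 2, 3, 5, 4, 3, 2, 1, 6, 5, 3, 1, 2, 3, 4, 5, 3, 2, 1, 3, 2, 3, 4, 2, 3, 1, 2, 3, 5, 4, 3, 2, 1],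
  [6, 5, 2, 3, 6, 2, 3],
  [2, 1, 2, 3, 4, 5, 3, 2, 1, 3, 2, 3, 4, 2, 3, 1, 2, 3, 5, 4, 3, 2, 1, 6, 1, 2, 3, 4, 5, 3, 2, 1, 3, 2, 3, 4, 2, 3, 1, 2, 3, 5, 4, 3, 2, 1, 3, 1, 2, 3, 4, 5, 3, 2, 1, 3, 2, 3, 4, 2, 3, 1, 2, 3, 5, 4, 3, 2, 1],
  [1, 2, 3, 4, 5, 3, 2, 1, 3, 2, 3, 4, 2, 3, 1, 2, 3, 5, 4, 3, 2, 1, 3, 5, 3, 2, 3],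
  [1, 2, 3, 4, 5, 3, 2, 1, 3, 2, 3, 4, 2, 3, 1, 2, 3, 5, 4, 3, 2, 1, 2, 3, 5, 6, 2, 3]]
def us17 : List (List Nat) := [[1, 2, 3, 4, 5, 3, 2, 1, 3, 2, 3, 4, 2, 3, 1, 2, 3, 5, 4, 3, 2, 1, 3, 1, 2, 3, 4, 5, 3, 2, 1, 3, 2, 3, 4, 2, 3, 1, 2, 3, 5, 4, 3, 2, 1, 5, 3],
  [3, 5, 3, 1, 2, 3, 4, 5, 3, 2, 1, 3, 2, 3, 4, 2, 3, 1, 2, 3, 5, 4, 3, 2, 1, 6, 3],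
  [5, 1, 2, 3, 4, 5, 3, 2, 1, 3, 2, 3, 4, 2, 3, 1, 2, 3, 5, 4, 3, 2, 1, 1, 2, 3, 4, 5, 3, 2, 1, 3, 2, 3, 4, 2, 3, 1, 2, 3, 5, 4, 3, 2, 1, 6, 3, 5, 2, 3],
  [3, 6, 1, 2, 3, 4, 5, 3, 2, 1, 3, 2, 3, 4, 2, 3, 1, 2, 3, 5, 4, 3, 2, 1, 5, 1, 2, 3, 4, 5, 3, 2, 1, 3, 2, 3, 4, 2, 3, 1, 2, 3, 5, 4, 3, 2, 1, 3],
  [1, 2, 3, 4, 5, 3, 2, 1, 3, 2, 3, 4, 2, 3, 1, 2, 3, 5, 4, 3, 2, 1, 1, 2, 3, 4, 5, 3, 2, 1, 3, 2, 3, 4, 2, 3, 1, 2, 3, 5, 4, 3, 2, 1, 3, 5, 6, 3, 1, 2, 3, 4, 5, 3, 2, 1, 3, 2, 3, 4, 2, 3, 1, 2, 3, 5, 4, 3, 2, 1],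
  [1, 0, 1, 6, 2, 3, 2, 3],
  [3, 6, 3, 5, 3, 6, 2, 3],
  [6, 2, 1, 2, 3, 4, 5, 3, 2, 1, 3, 2, 3, 4, 2, 3, 1, 2, 3, 5, 4, 3, 2, 1, 3, 5, 6, 3, 1, 2, 3, 4, 5, 3, 2, 1, 3, 2, 3, 4, 2, 3, 1, 2, 3, 5, 4, 3, 2, 1],
  [3, 5, 1, 2, 3, 4, 5, 3, 2, 1, 3, 2, 3, 4, 2, 3, 1, 2, 3, 5, 4, 3, 2, 1, 3, 5, 6, 2, 3],
  [1, 0, 1, 2, 3, 1, 2, 3, 4, 5, 3, 2, 1, 3, 2, 3, 4, 2, 3, 1, 2, 3, 5, 4, 3, 2, 1, 5, 3, 1, 2, 3, 4, 5, 3, 2, 1, 3, 2, 3, 4, 2, 3, 1, 2, 3, 5, 4, 3, 2, 1],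
  [5, 1, 2, 3, 4, 5, 3, 2, 1, 3, 2, 3, 4, 2, 3, 1, 2, 3, 5, 4, 3, 2, 1, 3, 6, 5, 2, 3],
  [2, 1, 2, 3, 4, 5, 3, 2, 1, 3, 2, 3, 4, 2, 3, 1, 2, 3, 5, 4, 3, 2, 1, 3, 5, 2, 3, 1, 2, 3, 4, 5, 3, 2, 1, 3, 2, 3, 4, 2, 3, 1, 2, 3, 5, 4, 3, 2, 1],
  [1, 0, 1, 1, 2, 3, 4, 5, 3, 2, 1, 3, 2, 3, 4, 2, 3, 1, 2, 3, 5, 4, 3, 2, 1, 3, 5, 6, 3, 2, 3],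
  [1, 2, 3, 4, 5, 3, 2, 1, 3, 2, 3, 4, 2, 3, 1, 2, 3, 5, 4, 3, 2, 1, 5, 6, 3, 1, 2, 3, 4, 5, 3, 2, 1, 3, 2, 3, 4, 2, 3, 1, 2, 3, 5, 4, 3, 2, 1],
  [5, 1, 2, 3, 4, 5, 3, 2, 1, 3, 2, 3, 4, 2, 3, 1, 2, 3, 5, 4, 3, 2, 1, 1, 0, 1, 6, 3, 2, 3],
  [2, 3, 5, 3, 1, 2, 3, 4, 5, 3, 2, 1, 3, 2, 3, 4, 2, 3, 1, 2, 3, 5, 4, 3, 2, 1, 6, 3],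
  [2, 3, 6, 1, 2, 3, 4, 5, 3, 2, 1, 3, 2, 3, 4, 2, 3, 1, 2, 3, 5, 4, 3, 2, 1, 5, 1, 2, 3, 4, 5, 3, 2, 1, 3, 2, 3, 4, 2, 3, 1, 2, 3, 5, 4, 3, 2, 1, 3],
  [3, 5, 1, 2, 3, 4, 5, 3, 2, 1, 3, 2, 3, 4, 2, 3, 1, 2, 3, 5, 4, 3, 2, 1, 6, 3, 1, 2, 3, 4, 5, 3, 2, 1, 3, 2, 3, 4, 2, 3, 1, 2, 3, 5, 4, 3, 2, 1],
  [5, 3, 6, 1, 2, 3, 4, 5, 3, 2, 1, 3, 2, 3, 4, 2, 3, 1, 2, 3, 5, 4, 3, 2, 1, 5, 3],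
  [1, 2, 3, 4, 5, 3, 2, 1, 3, 2, 3, 4, 2, 3, 1, 2, 3, 5, 4, 3, 2, 1, 1, 0, 1, 6, 3, 2, 3],
  [2, 3, 5, 1, 2, 3, 4, 5, 3, 2, 1, 3, 2, 3, 4, 2, 3, 1, 2, 3, 5, 4, 3, 2, 1, 6, 3],
  [1, 2, 3, 4, 5, 3, 2, 1, 3, 2, 3, 4, 2, 3, 1, 2, 3, 5, 4, 3, 2, 1, 1, 2, 3, 4, 5, 3, 2, 1, 3, 2, 3, 4, 2, 3, 1, 2, 3, 5, 4, 3, 2, 1, 2, 3, 6, 5, 2, 3],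
  [1, 2, 3, 4, 5, 3, 2, 1, 3, 2, 3, 4, 2, 3, 1, 2, 3, 5, 4, 3, 2, 1, 3, 1, 2, 3, 4, 5, 3, 2, 1, 3, 2, 3, 4, 2, 3, 1, 2, 3, 5, 4, 3, 2, 1, 6, 3],
  [3, 6, 1, 2, 3, 4, 5, 3, 2, 1, 3, 2, 3, 4, 2, 3, 1, 2, 3, 5, 4, 3, 2, 1, 5, 3],
  [1, 0, 1, 3, 6, 5, 2, 3, 1, 2, 3, 4, 5, 3, 2, 1, 3, 2, 3, 4, 2, 3, 1, 2, 3, 5, 4, 3, 2, 1],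
  [1, 0, 1, 2, 3, 5, 6, 3, 2, 3],
  [6, 2, 3, 5, 6, 3, 2, 3],
  [1, 2, 3, 4, 5, 3, 2, 1, 3, 2, 3, 4, 2, 3, 1, 2, 3, 5, 4, 3, 2, 1, 1, 0, 1, 6, 1, 2, 3, 4, 5, 3, 2, 1, 3, 2, 3, 4, 2, 3, 1, 2, 3, 5, 4, 3, 2, 1, 5, 3],
  [6, 1, 2, 3, 4, 5, 3, 2, 1, 3, 2, 3, 4, 2, 3, 1, 2, 3, 5, 4, 3, 2, 1, 6, 3, 1, 2, 3, 4, 5, 3, 2, 1, 3, 2, 3, 4, 2, 3, 1, 2, 3, 5, 4, 3, 2, 1, 5, 3, 1, 2, 3, 4, 5, 3, 2, 1, 3, 2, 3, 4, 2, 3, 1, 2, 3, 5, 4, 3, 2, 1],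
  [2, 3, 6, 5, 3, 2, 3],
  [3, 6, 2, 3, 5, 2, 3],
  [1, 2, 3, 4, 5, 3, 2, 1, 3, 2, 3, 4, 2, 3, 1, 2, 3, 5, 4, 3, 2, 1, 1, 0, 1, 3, 5, 6, 3, 1, 2, 3, 4, 5, 3, 2, 1, 3, 2, 3, 4, 2, 3, 1, 2, 3, 5, 4, 3, 2, 1],
  [6, 2, 3, 2, 3],
  [3, 2, 3, 5, 6, 2, 3],
  [3, 5, 1, 2, 3, 4, 5, 3, 2, 1, 3, 2, 3, 4, 2, 3, 1, 2, 3, 5, 4, 3, 2, 1, 3, 6, 5, 3],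
  [2, 1, 0, 1, 5, 3, 6, 5, 1, 2, 3, 4, 5, 3, 2, 1, 3, 2, 3, 4, 2, 3, 1, 2, 3, 5, 4, 3, 2, 1, 3],
  [2, 3, 5, 2, 3, 6, 5, 3],
  [1, 2, 3, 4, 5, 3, 2, 1, 3, 2, 3, 4, 2, 3, 1, 2, 3, 5, 4, 3, 2, 1, 1, 0, 1, 6, 1, 2, 3, 4, 5, 3, 2, 1, 3, 2, 3, 4, 2, 3, 1, 2, 3, 5, 4, 3, 2, 1, 3],
  [5, 2, 3, 6, 5, 3, 1, 2, 3, 4, 5, 3, 2, 1, 3, 2, 3, 4, 2, 3, 1, 2, 3, 5, 4, 3, 2, 1],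
  [1, 2, 3, 4, 5, 3, 2, 1, 3, 2, 3, 4, 2, 3, 1, 2, 3, 5, 4, 3, 2, 1, 6, 5, 3, 6, 5, 1, 2, 3, 4, 5, 3, 2, 1, 3, 2, 3, 4, 2, 3, 1, 2, 3, 5, 4, 3, 2, 1, 3]]
def us18 : List (List Nat) := [[1, 2, 3, 4, 5, 3, 2, 1, 3, 2, 3, 4, 2, 3, 1, 2, 3, 5, 4, 3, 2, 1, 1, 2, 3, 4, 5, 3, 2, 1, 3, 2, 3, 4, 2, 3, 1, 2, 3, 5, 4, 3, 2, 1, 6, 2, 1, 2, 3, 4, 5, 3, 2, 1, 3, 2, 3, 4, 2, 3, 1, 2, 3, 5, 4, 3, 2, 1, 3],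
  [3, 5, 3, 6, 2, 3, 2, 3],
  [1, 2, 3, 4, 5, 3, 2, 1, 3, 2, 3, 4, 2, 3, 1, 2, 3, 5, 4, 3, 2, 1, 1, 2, 3, 4, 5, 3, 2, 1, 3, 2, 3, 4, 2, 3, 1, 2, 3, 5, 4, 3, 2, 1, 5, 3, 1, 2, 3, 4, 5, 3, 2, 1, 3, 2, 3, 4, 2, 3, 1, 2, 3, 5, 4, 3, 2, 1, 6, 5, 3],
  [6, 3, 2, 3, 6, 5, 2, 3],
  [6, 5, 2, 3, 2, 3],
  [3, 2, 3, 5, 6, 3, 2, 3],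
  [1, 0, 1, 6, 2, 3, 5, 2, 3],
  [1, 0, 1, 2, 1, 0, 1, 3, 5, 2, 3],
  [3, 5, 1, 2, 3, 4, 5, 3, 2, 1, 3, 2, 3, 4, 2, 3, 1, 2, 3, 5, 4, 3, 2, 1, 6, 3],
  [5, 3, 6, 1, 2, 3, 4, 5, 3, 2, 1, 3, 2, 3, 4, 2, 3, 1, 2, 3, 5, 4, 3, 2, 1, 5, 1, 2, 3, 4, 5, 3, 2, 1, 3, 2, 3, 4, 2, 3, 1, 2, 3, 5, 4, 3, 2, 1, 3],
  [1, 2, 3, 4, 5, 3, 2, 1, 3, 2, 3, 4, 2, 3, 1, 2, 3, 5, 4, 3, 2, 1, 1, 2, 3, 4, 5, 3, 2, 1, 3, 2, 3, 4, 2, 3, 1, 2, 3, 5, 4, 3, 2, 1, 6, 3, 5, 2, 3],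
  [1, 2, 3, 4, 5, 3, 2, 1, 3, 2, 3, 4, 2, 3, 1, 2, 3, 5, 4, 3, 2, 1, 3, 5, 3, 6, 2, 3],
  [5, 1, 2, 3, 4, 5, 3, 2, 1, 3, 2, 3, 4, 2, 3, 1, 2, 3, 5, 4, 3, 2, 1, 3, 1, 2, 3, 4, 5, 3, 2, 1, 3, 2, 3, 4, 2, 3, 1, 2, 3, 5, 4, 3, 2, 1, 5, 3],
  [1, 2, 3, 4, 5, 3, 2, 1, 3, 2, 3, 4, 2, 3, 1, 2, 3, 5, 4, 3, 2, 1, 2, 3, 5, 2, 3],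
  [5, 6, 2, 3, 2, 3],
  [1, 2, 3, 4, 5, 3, 2, 1, 3, 2, 3, 4, 2, 3, 1, 2, 3, 5, 4, 3, 2, 1, 3, 1, 2, 3, 4, 5, 3, 2, 1, 3, 2, 3, 4, 2, 3, 1, 2, 3, 5, 4, 3, 2, 1, 5, 6, 1, 2, 3, 4, 5, 3, 2, 1, 3, 2, 3, 4, 2, 3, 1, 2, 3, 5, 4, 3, 2, 1, 3],
  [5, 3, 2, 3, 5, 6, 2, 3],
  [2, 3, 5, 6, 3, 2, 3],
  [1, 2, 3, 4, 5, 3, 2, 1, 3, 2, 3, 4, 2, 3, 1, 2, 3, 5, 4, 3, 2, 1, 1, 0, 1, 6, 3, 5, 1, 2, 3, 4, 5, 3, 2, 1, 3, 2, 3, 4, 2, 3, 1, 2, 3, 5, 4, 3, 2, 1, 6, 3],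
  [1, 2, 3, 4, 5, 3, 2, 1, 3, 2, 3, 4, 2, 3, 1, 2, 3, 5, 4, 3, 2, 1, 1, 2, 3, 4, 5, 3, 2, 1, 3, 2, 3, 4, 2, 3, 1, 2, 3, 5, 4, 3, 2, 1, 6, 1, 2, 3, 4, 5, 3, 2, 1, 3, 2, 3, 4, 2, 3, 1, 2, 3, 5, 4, 3, 2, 1, 5, 3],
  [5, 2, 3, 6, 5, 3, 2, 3],
  [1, 0, 1, 2, 3, 6, 5, 3, 2, 3],
  [1, 2, 3, 4, 5, 3, 2, 1, 3, 2, 3, 4, 2, 3, 1, 2, 3, 5, 4, 3, 2, 1, 1, 0, 1, 3, 6, 1, 2, 3, 4, 5, 3, 2, 1, 3, 2, 3, 4, 2, 3, 1, 2, 3, 5, 4, 3, 2, 1, 5, 3],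
  [1, 2, 3, 4, 5, 3, 2, 1, 3, 2, 3, 4, 2, 3, 1, 2, 3, 5, 4, 3, 2, 1, 5, 1, 2, 3, 4, 5, 3, 2, 1, 3, 2, 3, 4, 2, 3, 1, 2, 3, 5, 4, 3, 2, 1, 3, 6, 5, 1, 2, 3, 4, 5, 3, 2, 1, 3, 2, 3, 4, 2, 3, 1, 2, 3, 5, 4, 3, 2, 1, 3],
  [6, 3, 5, 1, 2, 3, 4, 5, 3, 2, 1, 3, 2, 3, 4, 2, 3, 1, 2, 3, 5, 4, 3, 2, 1, 3, 6, 5, 3],
  [1, 2, 3, 4, 5, 3, 2, 1, 3, 2, 3, 4, 2, 3, 1, 2, 3, 5, 4, 3, 2, 1, 1, 0, 1, 5, 3, 6, 5, 1, 2, 3, 4, 5, 3, 2, 1, 3, 2, 3, 4, 2, 3, 1, 2, 3, 5, 4, 3, 2, 1, 3],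
  [1, 2, 3, 4, 5, 3, 2, 1, 3, 2, 3, 4, 2, 3, 1, 2, 3, 5, 4, 3, 2, 1, 1, 2, 3, 4, 5, 3, 2, 1, 3, 2, 3, 4, 2, 3, 1, 2, 3, 5, 4, 3, 2, 1, 6, 1, 2, 3, 4, 5, 3, 2, 1, 3, 2, 3, 4, 2, 3, 1, 2, 3, 5, 4, 3, 2, 1, 3],
  [5, 1, 2, 3, 4, 5, 3, 2, 1, 3, 2, 3, 4, 2, 3, 1, 2, 3, 5, 4, 3, 2, 1, 3, 6, 5, 3, 1, 2, 3, 4, 5, 3, 2, 1, 3, 2, 3, 4, 2, 3, 1, 2, 3, 5, 4, 3, 2, 1],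
  [3, 1, 2, 3, 4, 5, 3, 2, 1, 3, 2, 3, 4, 2, 3, 1, 2, 3, 5, 4, 3, 2, 1, 6, 5, 3, 6, 5, 3],
  [5, 1, 2, 3, 4, 5, 3, 2, 1, 3, 2, 3, 4, 2, 3, 1, 2, 3, 5, 4, 3, 2, 1, 3, 6, 5, 1, 2, 3, 4, 5, 3, 2, 1, 3, 2, 3, 4, 2, 3, 1, 2, 3, 5, 4, 3, 2, 1, 3],
  [1, 2, 3, 4, 5, 3, 2, 1, 3, 2, 3, 4, 2, 3, 1, 2, 3, 5, 4, 3, 2, 1, 1, 0, 1, 6, 2, 1, 2, 3, 4, 5, 3, 2, 1, 3, 2, 3, 4, 2, 3, 1, 2, 3, 5, 4, 3, 2, 1, 3],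
  [1, 0, 1, 1, 2, 3, 4, 5, 3, 2, 1, 3, 2, 3, 4, 2, 3, 1, 2, 3, 5, 4, 3, 2, 1, 5, 6, 3, 1, 2, 3, 4, 5, 3, 2, 1, 3, 2, 3, 4, 2, 3, 1, 2, 3, 5, 4, 3, 2, 1],
  [6, 1, 2, 3, 4, 5, 3, 2, 1, 3, 2, 3, 4, 2, 3, 1, 2, 3, 5, 4, 3, 2, 1, 5, 6, 3, 1, 2, 3, 4, 5, 3, 2, 1, 3, 2, 3, 4, 2, 3, 1, 2, 3, 5, 4, 3, 2, 1],
  [6, 3, 5, 1, 2, 3, 4, 5, 3, 2, 1, 3, 2, 3, 4, 2, 3, 1, 2, 3, 5, 4, 3, 2, 1, 6, 3, 1, 2, 3, 4, 5, 3, 2, 1, 3, 2, 3, 4, 2, 3, 1, 2, 3, 5, 4, 3, 2, 1],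
  [1, 0, 1, 5, 3, 6, 1, 2, 3, 4, 5, 3, 2, 1, 3, 2, 3, 4, 2, 3, 1, 2, 3, 5, 4, 3, 2, 1, 5, 3],
  [3, 5, 1, 2, 3, 4, 5, 3, 2, 1, 3, 2, 3, 4, 2, 3, 1, 2, 3, 5, 4, 3, 2, 1, 3, 6, 2, 3],
  [6, 5, 3, 6, 1, 2, 3, 4, 5, 3, 2, 1, 3, 2, 3, 4, 2, 3, 1, 2, 3, 5, 4, 3, 2, 1, 5, 3],
  [2, 1, 2, 3, 4, 5, 3, 2, 1, 3, 2, 3, 4, 2, 3, 1, 2, 3, 5, 4, 3, 2, 1, 5, 3, 6, 5, 2, 3],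
  [3, 5, 2, 3, 1, 2, 3, 4, 5, 3, 2, 1, 3, 2, 3, 4, 2, 3, 1, 2, 3, 5, 4, 3, 2, 1, 6, 5, 3],
  [3, 1, 2, 3, 4, 5, 3, 2, 1, 3, 2, 3, 4, 2, 3, 1, 2, 3, 5, 4, 3, 2, 1, 3, 6, 5, 3, 1, 2, 3, 4, 5, 3, 2, 1, 3, 2, 3, 4, 2, 3, 1, 2, 3, 5, 4, 3, 2, 1]]
def us19 : List (List Nat) := [[1, 2, 3, 4, 5, 3, 2, 1, 3, 2, 3, 4, 2, 3, 1, 2, 3, 5, 4, 3, 2, 1, 2, 3, 5, 2, 3, 1, 2, 3, 4, 5, 3, 2, 1, 3, 2, 3, 4, 2, 3, 1, 2, 3, 5, 4, 3, 2, 1],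
  [5, 2, 3, 1, 2, 3, 4, 5, 3, 2, 1, 3, 2, 3, 4, 2, 3, 1, 2, 3, 5, 4, 3, 2, 1, 5, 3],
  [3, 5, 1, 2, 3, 4, 5, 3, 2, 1, 3, 2, 3, 4, 2, 3, 1, 2, 3, 5, 4, 3, 2, 1, 3, 1, 2, 3, 4, 5, 3, 2, 1, 3, 2, 3, 4, 2, 3, 1, 2, 3, 5, 4, 3, 2, 1, 6, 5, 3],
  [6, 1, 2, 3, 4, 5, 3, 2, 1, 3, 2, 3, 4, 2, 3, 1, 2, 3, 5, 4, 3, 2, 1, 5, 6, 3],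
  [5, 3, 6, 3, 5, 1, 2, 3, 4, 5, 3, 2, 1, 3, 2, 3, 4, 2, 3, 1, 2, 3, 5, 4, 3, 2, 1, 6, 3],
  [1, 0, 1, 1, 2, 3, 4, 5, 3, 2, 1, 3, 2, 3, 4, 2, 3, 1, 2, 3, 5, 4, 3, 2, 1, 6, 5, 2, 3, 2, 3],
  [1, 0, 1, 2, 3, 6, 5, 1, 2, 3, 4, 5, 3, 2, 1, 3, 2, 3, 4, 2, 3, 1, 2, 3, 5, 4, 3, 2, 1, 6, 3],
  [2, 1, 2, 3, 4, 5, 3, 2, 1, 3, 2, 3, 4, 2, 3, 1, 2, 3, 5, 4, 3, 2, 1, 6, 1, 2, 3, 4, 5, 3, 2, 1, 3, 2, 3, 4, 2, 3, 1, 2, 3, 5, 4, 3, 2, 1, 3],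
  [1, 2, 3, 4, 5, 3, 2, 1, 3, 2, 3, 4, 2, 3, 1, 2, 3, 5, 4, 3, 2, 1, 6, 2, 3, 2, 3],
  [2, 1, 0, 1, 6, 3, 5, 2, 3],
  [1, 2, 3, 4, 5, 3, 2, 1, 3, 2, 3, 4, 2, 3, 1, 2, 3, 5, 4, 3, 2, 1, 2, 1, 2, 3, 4, 5, 3, 2, 1, 3, 2, 3, 4, 2, 3, 1, 2, 3, 5, 4, 3, 2, 1, 3, 5, 6, 1, 2, 3, 4, 5, 3, 2, 1, 3, 2, 3, 4, 2, 3, 1, 2, 3, 5, 4, 3, 2, 1, 3],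
  [2, 3, 5, 2, 3],
  [3, 6, 5, 3, 1, 2, 3, 4, 5, 3, 2, 1, 3, 2, 3, 4, 2, 3, 1, 2, 3, 5, 4, 3, 2, 1],
  [2, 1, 2, 3, 4, 5, 3, 2, 1, 3, 2, 3, 4, 2, 3, 1, 2, 3, 5, 4, 3, 2, 1, 3, 6, 5, 1, 2, 3, 4, 5, 3, 2, 1, 3, 2, 3, 4, 2, 3, 1, 2, 3, 5, 4, 3, 2, 1, 3],
  [5, 6, 5, 3, 6, 5, 1, 2, 3, 4, 5, 3, 2, 1, 3, 2, 3, 4, 2, 3, 1, 2, 3, 5, 4, 3, 2, 1, 3],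
  [1, 2, 3, 4, 5, 3, 2, 1, 3, 2, 3, 4, 2, 3, 1, 2, 3, 5, 4, 3, 2, 1, 1, 0, 1, 3, 6, 5, 1, 2, 3, 4, 5, 3, 2, 1, 3, 2, 3, 4, 2, 3, 1, 2, 3, 5, 4, 3, 2, 1, 3],
  [1, 0, 1, 3, 6, 5, 1, 2, 3, 4, 5, 3, 2, 1, 3, 2, 3, 4, 2, 3, 1, 2, 3, 5, 4, 3, 2, 1, 3],
  [1, 2, 3, 4, 5, 3, 2, 1, 3, 2, 3, 4, 2, 3, 1, 2, 3, 5, 4, 3, 2, 1, 6, 5, 3, 1, 2, 3, 4, 5, 3, 2, 1, 3, 2, 3, 4, 2, 3, 1, 2, 3, 5, 4, 3, 2, 1],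
  [1, 2, 3, 4, 5, 3, 2, 1, 3, 2, 3, 4, 2, 3, 1, 2, 3, 5, 4, 3, 2, 1, 1, 0, 1, 3, 6, 5, 3, 1, 2, 3, 4, 5, 3, 2, 1, 3, 2, 3, 4, 2, 3, 1, 2, 3, 5, 4, 3, 2, 1],
  [5, 1, 2, 3, 4, 5, 3, 2, 1, 3, 2, 3, 4, 2, 3, 1, 2, 3, 5, 4, 3, 2, 1, 3, 6, 2, 3],
  [6, 5, 1, 2, 3, 4, 5, 3, 2, 1, 3, 2, 3, 4, 2, 3, 1, 2, 3, 5, 4, 3, 2, 1, 3, 6, 2, 3],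
  [6, 1, 2, 3, 4, 5, 3, 2, 1, 3, 2, 3, 4, 2, 3, 1, 2, 3, 5, 4, 3, 2, 1, 6, 5, 3, 1, 2, 3, 4, 5, 3, 2, 1, 3, 2, 3, 4, 2, 3, 1, 2, 3, 5, 4, 3, 2, 1],
  [1, 2, 3, 4, 5, 3, 2, 1, 3, 2, 3, 4, 2, 3, 1, 2, 3, 5, 4, 3, 2, 1, 3, 6, 5, 1, 2, 3, 4, 5, 3, 2, 1, 3, 2, 3, 4, 2, 3, 1, 2, 3, 5, 4, 3, 2, 1, 3],
  [1, 2, 3, 4, 5, 3, 2, 1, 3, 2, 3, 4, 2, 3, 1, 2, 3, 5, 4, 3, 2, 1, 3, 5, 6, 2, 3, 2, 3],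
  [1, 2, 3, 4, 5, 3, 2, 1, 3, 2, 3, 4, 2, 3, 1, 2, 3, 5, 4, 3, 2, 1, 2, 1, 2, 3, 4, 5, 3, 2, 1, 3, 2, 3, 4, 2, 3, 1, 2, 3, 5, 4, 3, 2, 1, 3, 6, 5, 1, 2, 3, 4, 5, 3, 2, 1, 3, 2, 3, 4, 2, 3, 1, 2, 3, 5, 4, 3, 2, 1, 3],
  [1, 2, 3, 4, 5, 3, 2, 1, 3, 2, 3, 4, 2, 3, 1, 2, 3, 5, 4, 3, 2, 1, 3, 6, 5, 3, 1, 2, 3, 4, 5, 3, 2, 1, 3, 2, 3, 4, 2, 3, 1, 2, 3, 5, 4, 3, 2, 1],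
  [1, 2, 3, 4, 5, 3, 2, 1, 3, 2, 3, 4, 2, 3, 1, 2, 3, 5, 4, 3, 2, 1, 1, 0, 1, 6, 5, 1, 2, 3, 4, 5, 3, 2, 1, 3, 2, 3, 4, 2, 3, 1, 2, 3, 5, 4, 3, 2, 1, 3],
  [3, 6, 5, 1, 2, 3, 4, 5, 3, 2, 1, 3, 2, 3, 4, 2, 3, 1, 2, 3, 5, 4, 3, 2, 1, 1, 0, 1, 3, 1, 2, 3, 4, 5, 3, 2, 1, 3, 2, 3, 4, 2, 3, 1, 2, 3, 5, 4, 3, 2, 1],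
  [1, 0, 1, 2, 1, 0, 1, 3, 6, 5, 3, 1, 2, 3, 4, 5, 3, 2, 1, 3, 2, 3, 4, 2, 3, 1, 2, 3, 5, 4, 3, 2, 1],
  [5, 1, 2, 3, 4, 5, 3, 2, 1, 3, 2, 3, 4, 2, 3, 1, 2, 3, 5, 4, 3, 2, 1, 1, 2, 3, 4, 5, 3, 2, 1, 3, 2, 3, 4, 2, 3, 1, 2, 3, 5, 4, 3, 2, 1, 6, 1, 2, 3, 4, 5, 3, 2, 1, 3, 2, 3, 4, 2, 3, 1, 2, 3, 5, 4, 3, 2, 1, 3],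
  [2, 3, 6, 5, 3, 1, 2, 3, 4, 5, 3, 2, 1, 3, 2, 3, 4, 2, 3, 1, 2, 3, 5, 4, 3, 2, 1],
  [2, 1, 0, 1, 3, 6, 5, 1, 2, 3, 4, 5, 3, 2, 1, 3, 2, 3, 4, 2, 3, 1, 2, 3, 5, 4, 3, 2, 1, 3],
  [2, 1, 2, 3, 4, 5, 3, 2, 1, 3, 2, 3, 4, 2, 3, 1, 2, 3, 5, 4, 3, 2, 1, 1, 0, 1, 3, 6, 5, 1, 2, 3, 4, 5, 3, 2, 1, 3, 2, 3, 4, 2, 3, 1, 2, 3, 5, 4, 3, 2, 1, 3],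
  [2, 3, 6, 5, 1, 2, 3, 4, 5, 3, 2, 1, 3, 2, 3, 4, 2, 3, 1, 2, 3, 5, 4, 3, 2, 1, 3],
  [1, 2, 3, 4, 5, 3, 2, 1, 3, 2, 3, 4, 2, 3, 1, 2, 3, 5, 4, 3, 2, 1, 1, 2, 3, 4, 5, 3, 2, 1, 3, 2, 3, 4, 2, 3, 1, 2, 3, 5, 4, 3, 2, 1, 6, 5, 1, 2, 3, 4, 5, 3, 2, 1, 3, 2, 3, 4, 2, 3, 1, 2, 3, 5, 4, 3, 2, 1, 3],
  [2, 1, 0, 1, 3, 6, 5, 3, 1, 2, 3, 4, 5, 3, 2, 1, 3, 2, 3, 4, 2, 3, 1, 2, 3, 5, 4, 3, 2, 1],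
  [3, 5, 6, 2, 3, 2, 3],
  [1, 2, 3, 4, 5, 3, 2, 1, 3, 2, 3, 4, 2, 3, 1, 2, 3, 5, 4, 3, 2, 1, 6, 1, 2, 3, 4, 5, 3, 2, 1, 3, 2, 3, 4, 2, 3, 1, 2, 3, 5, 4, 3, 2, 1, 5, 1, 2, 3, 4, 5, 3, 2, 1, 3, 2, 3, 4, 2, 3, 1, 2, 3, 5, 4, 3, 2, 1, 3],
  [1, 2, 3, 4, 5, 3, 2, 1, 3, 2, 3, 4, 2, 3, 1, 2, 3, 5, 4, 3, 2, 1, 1, 2, 3, 4, 5, 3, 2, 1, 3, 2, 3, 4, 2, 3, 1, 2, 3, 5, 4, 3, 2, 1, 3, 5, 2, 3, 1, 2, 3, 4, 5, 3, 2, 1, 3, 2, 3, 4, 2, 3, 1, 2, 3, 5, 4, 3, 2, 1],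
  [3, 5, 6, 3, 2, 3]]
def us20 : List (List Nat) := [[1, 2, 3, 4, 5, 3, 2, 1, 3, 2, 3, 4, 2, 3, 1, 2, 3, 5, 4, 3, 2, 1, 6, 1, 2, 3, 4, 5, 3, 2, 1, 3, 2, 3, 4, 2, 3, 1, 2, 3, 5, 4, 3, 2, 1, 1, 2, 3, 4, 5, 3, 2, 1, 3, 2, 3, 4, 2, 3, 1, 2, 3, 5, 4, 3, 2, 1, 3, 5, 2, 3],
  [1, 0, 1, 3, 5, 6, 3, 2, 3],
  [1, 2, 3, 4, 5, 3, 2, 1, 3, 2, 3, 4, 2, 3, 1, 2, 3, 5, 4, 3, 2, 1, 1, 0, 1, 3, 5, 2, 3, 1, 2, 3, 4, 5, 3, 2, 1, 3, 2, 3, 4, 2, 3, 1, 2, 3, 5, 4, 3, 2, 1],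
  [1, 2, 3, 4, 5, 3, 2, 1, 3, 2, 3, 4, 2, 3, 1, 2, 3, 5, 4, 3, 2, 1, 1, 2, 3, 4, 5, 3, 2, 1, 3, 2, 3, 4, 2, 3, 1, 2, 3, 5, 4, 3, 2, 1, 3, 1, 2, 3, 4, 5, 3, 2, 1, 3, 2, 3, 4, 2, 3, 1, 2, 3, 5, 4, 3, 2, 1, 3, 6, 5, 3],
  [3, 1, 2, 3, 4, 5, 3, 2, 1, 3, 2, 3, 4, 2, 3, 1, 2, 3, 5, 4, 3, 2, 1, 1, 2, 3, 4, 5, 3, 2, 1, 3, 2, 3, 4, 2, 3, 1, 2, 3, 5, 4, 3, 2, 1, 5, 6, 3, 1, 2, 3, 4, 5, 3, 2, 1, 3, 2, 3, 4, 2, 3, 1, 2, 3, 5, 4, 3, 2, 1],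
  [3, 5, 6, 3, 1, 2, 3, 4, 5, 3, 2, 1, 3, 2, 3, 4, 2, 3, 1, 2, 3, 5, 4, 3, 2, 1],
  [6, 1, 2, 3, 4, 5, 3, 2, 1, 3, 2, 3, 4, 2, 3, 1, 2, 3, 5, 4, 3, 2, 1, 3, 5, 2, 3],
  [1, 0, 1, 3, 5, 6, 1, 2, 3, 4, 5, 3, 2, 1, 3, 2, 3, 4, 2, 3, 1, 2, 3, 5, 4, 3, 2, 1, 3],
  [6, 1, 2, 3, 4, 5, 3, 2, 1, 3, 2, 3, 4, 2, 3, 1, 2, 3, 5, 4, 3, 2, 1, 5, 3, 1, 2, 3, 4, 5, 3, 2, 1, 3, 2, 3, 4, 2, 3, 1, 2, 3, 5, 4, 3, 2, 1, 5, 3],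
  [3, 1, 2, 3, 4, 5, 3, 2, 1, 3, 2, 3, 4, 2, 3, 1, 2, 3, 5, 4, 3, 2, 1, 1, 2, 3, 4, 5, 3, 2, 1, 3, 2, 3, 4, 2, 3, 1, 2, 3, 5, 4, 3, 2, 1, 5, 6, 1, 2, 3, 4, 5, 3, 2, 1, 3, 2, 3, 4, 2, 3, 1, 2, 3, 5, 4, 3, 2, 1, 3],
  [5, 6, 1, 2, 3, 4, 5, 3, 2, 1, 3, 2, 3, 4, 2, 3, 1, 2, 3, 5, 4, 3, 2, 1, 3, 5, 2, 3],
  [1, 0, 1, 2, 3, 6, 1, 2, 3, 4, 5, 3, 2, 1, 3, 2, 3, 4, 2, 3, 1, 2, 3, 5, 4, 3, 2, 1, 5, 6, 3],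
  [6, 5, 1, 2, 3, 4, 5, 3, 2, 1, 3, 2, 3, 4, 2, 3, 1, 2, 3, 5, 4, 3, 2, 1, 6, 3, 5, 6, 3],
  [6, 3, 1, 2, 3, 4, 5, 3, 2, 1, 3, 2, 3, 4, 2, 3, 1, 2, 3, 5, 4, 3, 2, 1, 5, 1, 2, 3, 4, 5, 3, 2, 1, 3, 2, 3, 4, 2, 3, 1, 2, 3, 5, 4, 3, 2, 1, 3],
  [1, 0, 1, 3, 5, 1, 2, 3, 4, 5, 3, 2, 1, 3, 2, 3, 4, 2, 3, 1, 2, 3, 5, 4, 3, 2, 1, 3, 2, 3],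
  [3, 5, 1, 2, 3, 4, 5, 3, 2, 1, 3, 2, 3, 4, 2, 3, 1, 2, 3, 5, 4, 3, 2, 1, 3, 2, 3],
  [3, 2, 1, 2, 3, 4, 5, 3, 2, 1, 3, 2, 3, 4, 2, 3, 1, 2, 3, 5, 4, 3, 2, 1, 5, 3],
  [3, 5, 1, 2, 3, 4, 5, 3, 2, 1, 3, 2, 3, 4, 2, 3, 1, 2, 3, 5, 4, 3, 2, 1, 1, 2, 3, 4, 5, 3, 2, 1, 3, 2, 3, 4, 2, 3, 1, 2, 3, 5, 4, 3, 2, 1, 2, 3],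
  [3, 2, 3, 5, 2, 3],
  [1, 0, 1, 3, 2, 3, 5, 2, 3],
  [3, 5, 6, 3],
  [2, 1, 0, 1, 2, 3, 5, 6, 3],
  [3, 5, 6, 1, 2, 3, 4, 5, 3, 2, 1, 3, 2, 3, 4, 2, 3, 1, 2, 3, 5, 4, 3, 2, 1, 3, 1, 2, 3, 4, 5, 3, 2, 1, 3, 2, 3, 4, 2, 3, 1, 2, 3, 5, 4, 3, 2, 1],
  [1, 0, 1, 3, 5, 2, 3, 2, 3],
  [2, 3, 1, 2, 3, 4, 5, 3, 2, 1, 3, 2, 3, 4, 2, 3, 1, 2, 3, 5, 4, 3, 2, 1, 5, 6, 3],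
  [3, 5, 2, 3, 2, 3],
  [3, 5, 2, 3, 1, 2, 3, 4, 5, 3, 2, 1, 3, 2, 3, 4, 2, 3, 1, 2, 3, 5, 4, 3, 2, 1, 5, 3],
  [6, 1, 2, 3, 4, 5, 3, 2, 1, 3, 2, 3, 4, 2, 3, 1, 2, 3, 5, 4, 3, 2, 1, 3, 2, 1, 2, 3, 4, 5, 3, 2, 1, 3, 2, 3, 4, 2, 3, 1, 2, 3, 5, 4, 3, 2, 1, 5, 3],
  [1, 2, 3, 4, 5, 3, 2, 1, 3, 2, 3, 4, 2, 3, 1, 2, 3, 5, 4, 3, 2, 1, 1, 0, 1, 3, 5, 2, 3, 2, 3],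
  [1, 2, 3, 4, 5, 3, 2, 1, 3, 2, 3, 4, 2, 3, 1, 2, 3, 5, 4, 3, 2, 1, 3, 5, 1, 2, 3, 4, 5, 3, 2, 1, 3, 2, 3, 4, 2, 3, 1, 2, 3, 5, 4, 3, 2, 1, 3, 2, 3],
  [2, 1, 0, 1, 3, 1, 2, 3, 4, 5, 3, 2, 1, 3, 2, 3, 4, 2, 3, 1, 2, 3, 5, 4, 3, 2, 1, 5, 6, 3],
  [3, 2, 1, 2, 3, 4, 5, 3, 2, 1, 3, 2, 3, 4, 2, 3, 1, 2, 3, 5, 4, 3, 2, 1, 3, 6, 5, 3],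
  [1, 0, 1, 2, 3, 5, 6, 3, 1, 2, 3, 4, 5, 3, 2, 1, 3, 2, 3, 4, 2, 3, 1, 2, 3, 5, 4, 3, 2, 1],
  [1, 0, 1, 3, 1, 2, 3, 4, 5, 3, 2, 1, 3, 2, 3, 4, 2, 3, 1, 2, 3, 5, 4, 3, 2, 1, 5, 6, 3, 1, 2, 3, 4, 5, 3, 2, 1, 3, 2, 3, 4, 2, 3, 1, 2, 3, 5, 4, 3, 2, 1],
  [1, 0, 1, 2, 3, 5, 6, 1, 2, 3, 4, 5, 3, 2, 1, 3, 2, 3, 4, 2, 3, 1, 2, 3, 5, 4, 3, 2, 1, 3],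
  [3, 5, 6, 1, 2, 3, 4, 5, 3, 2, 1, 3, 2, 3, 4, 2, 3, 1, 2, 3, 5, 4, 3, 2, 1, 1, 0, 1, 3, 1, 2, 3, 4, 5, 3, 2, 1, 3, 2, 3, 4, 2, 3, 1, 2, 3, 5, 4, 3, 2, 1],
  [2, 3, 1, 2, 3, 4, 5, 3, 2, 1, 3, 2, 3, 4, 2, 3, 1, 2, 3, 5, 4, 3, 2, 1, 1, 2, 3, 4, 5, 3, 2, 1, 3, 2, 3, 4, 2, 3, 1, 2, 3, 5, 4, 3, 2, 1, 5, 6, 1, 2, 3, 4, 5, 3, 2, 1, 3, 2, 3, 4, 2, 3, 1, 2, 3, 5, 4, 3, 2, 1, 3],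
  [1, 2, 3, 4, 5, 3, 2, 1, 3, 2, 3, 4, 2, 3, 1, 2, 3, 5, 4, 3, 2, 1, 2, 1, 0, 1, 3, 6, 1, 2, 3, 4, 5, 3, 2, 1, 3, 2, 3, 4, 2, 3, 1, 2, 3, 5, 4, 3, 2, 1, 5, 3],
  [3, 6, 1, 2, 3, 4, 5, 3, 2, 1, 3, 2, 3, 4, 2, 3, 1, 2, 3, 5, 4, 3, 2, 1, 5, 6, 3],
  [6, 3, 1, 2, 3, 4, 5, 3, 2, 1, 3, 2, 3, 4, 2, 3, 1, 2, 3, 5, 4, 3, 2, 1, 1, 0, 1, 5, 3, 1, 2, 3, 4, 5, 3, 2, 1, 3, 2, 3, 4, 2, 3, 1, 2, 3, 5, 4, 3, 2, 1]]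
def us21 : List (List Nat) := [[2, 3, 5, 6, 3, 1, 2, 3, 4, 5, 3, 2, 1, 3, 2, 3, 4, 2, 3, 1, 2, 3, 5, 4, 3, 2, 1],
  [3, 1, 2, 3, 4, 5, 3, 2, 1, 3, 2, 3, 4, 2, 3, 1, 2, 3, 5, 4, 3, 2, 1, 5, 6, 3, 1, 2, 3, 4, 5, 3, 2, 1, 3, 2, 3, 4, 2, 3, 1, 2, 3, 5, 4, 3, 2, 1],
  [3, 6, 5, 2, 3, 2, 3],
  [2, 3, 5, 6, 1, 2, 3, 4, 5, 3, 2, 1, 3, 2, 3, 4, 2, 3, 1, 2, 3, 5, 4, 3, 2, 1, 3],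
  [1, 2, 3, 4, 5, 3, 2, 1, 3, 2, 3, 4, 2, 3, 1, 2, 3, 5, 4, 3, 2, 1, 6, 1, 2, 3, 4, 5, 3, 2, 1, 3, 2, 3, 4, 2, 3, 1, 2, 3, 5, 4, 3, 2, 1, 3, 1, 2, 3, 4, 5, 3, 2, 1, 3, 2, 3, 4, 2, 3, 1, 2, 3, 5, 4, 3, 2, 1, 5, 6, 3],
  [2, 3, 6, 2, 3, 5, 2, 3],
  [6, 3, 1, 2, 3, 4, 5, 3, 2, 1, 3, 2, 3, 4, 2, 3, 1, 2, 3, 5, 4, 3, 2, 1, 1, 2, 3, 4, 5, 3, 2, 1, 3, 2, 3, 4, 2, 3, 1, 2, 3, 5, 4, 3, 2, 1, 5, 3, 1, 2, 3, 4, 5, 3, 2, 1, 3, 2, 3, 4, 2, 3, 1, 2, 3, 5, 4, 3, 2, 1],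
  [3, 1, 2, 3, 4, 5, 3, 2, 1, 3, 2, 3, 4, 2, 3, 1, 2, 3, 5, 4, 3, 2, 1, 5, 6, 1, 2, 3, 4, 5, 3, 2, 1, 3, 2, 3, 4, 2, 3, 1, 2, 3, 5, 4, 3, 2, 1, 3],
  [1, 2, 3, 4, 5, 3, 2, 1, 3, 2, 3, 4, 2, 3, 1, 2, 3, 5, 4, 3, 2, 1, 6, 5, 3, 6, 1, 2, 3, 4, 5, 3, 2, 1, 3, 2, 3, 4, 2, 3, 1, 2, 3, 5, 4, 3, 2, 1, 5, 3],
  [2, 1, 2, 3, 4, 5, 3, 2, 1, 3, 2, 3, 4, 2, 3, 1, 2, 3, 5, 4, 3, 2, 1, 3, 5, 6, 3, 1, 2, 3, 4, 5, 3, 2, 1, 3, 2, 3, 4, 2, 3, 1, 2, 3, 5, 4, 3, 2, 1],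
  [5, 3, 1, 2, 3, 4, 5, 3, 2, 1, 3, 2, 3, 4, 2, 3, 1, 2, 3, 5, 4, 3, 2, 1, 3, 6, 5, 3],
  [5, 1, 2, 3, 4, 5, 3, 2, 1, 3, 2, 3, 4, 2, 3, 1, 2, 3, 5, 4, 3, 2, 1, 1, 2, 3, 4, 5, 3, 2, 1, 3, 2, 3, 4, 2, 3, 1, 2, 3, 5, 4, 3, 2, 1, 3, 5, 2, 3],
  [6, 3, 5, 1, 2, 3, 4, 5, 3, 2, 1, 3, 2, 3, 4, 2, 3, 1, 2, 3, 5, 4, 3, 2, 1, 3, 5, 6, 2, 3],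
  [6, 5, 1, 2, 3, 4, 5, 3, 2, 1, 3, 2, 3, 4, 2, 3, 1, 2, 3, 5, 4, 3, 2, 1, 3, 6, 5, 2, 3],
  [1, 2, 3, 4, 5, 3, 2, 1, 3, 2, 3, 4, 2, 3, 1, 2, 3, 5, 4, 3, 2, 1, 1, 0, 1, 6, 3, 5, 2, 3],
  [2, 1, 2, 3, 4, 5, 3, 2, 1, 3, 2, 3, 4, 2, 3, 1, 2, 3, 5, 4, 3, 2, 1, 3, 5, 6, 2, 3],
  [1, 0, 1, 3, 5, 1, 2, 3, 4, 5, 3, 2, 1, 3, 2, 3, 4, 2, 3, 1, 2, 3, 5, 4, 3, 2, 1, 6, 3],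
  [5, 2, 1, 2, 3, 4, 5, 3, 2, 1, 3, 2, 3, 4, 2, 3, 1, 2, 3, 5, 4, 3, 2, 1, 3, 5, 2, 3],
  [1, 2, 3, 4, 5, 3, 2, 1, 3, 2, 3, 4, 2, 3, 1, 2, 3, 5, 4, 3, 2, 1, 1, 2, 3, 4, 5, 3, 2, 1, 3, 2, 3, 4, 2, 3, 1, 2, 3, 5, 4, 3, 2, 1, 5, 3, 6, 5, 2, 3],
  [1, 0, 1, 1, 2, 3, 4, 5, 3, 2, 1, 3, 2, 3, 4, 2, 3, 1, 2, 3, 5, 4, 3, 2, 1, 2, 3, 5, 2, 3],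
  [3, 2, 3, 6, 3, 5, 2, 3],
  [3, 2, 3, 5, 6, 3],
  [2, 3, 6, 3, 2, 3],
  [1, 2, 3, 4, 5, 3, 2, 1, 3, 2, 3, 4, 2, 3, 1, 2, 3, 5, 4, 3, 2, 1, 5, 3, 1, 2, 3, 4, 5, 3, 2, 1, 3, 2, 3, 4, 2, 3, 1, 2, 3, 5, 4, 3, 2, 1, 6, 5, 1, 2, 3, 4, 5, 3, 2, 1, 3, 2, 3, 4, 2, 3, 1, 2, 3, 5, 4, 3, 2, 1, 3],
  [5, 2, 3, 6, 3, 2, 3],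
  [1, 2, 3, 4, 5, 3, 2, 1, 3, 2, 3, 4, 2, 3, 1, 2, 3, 5, 4, 3, 2, 1, 3, 1, 2, 3, 4, 5, 3, 2, 1, 3, 2, 3, 4, 2, 3, 1, 2, 3, 5, 4, 3, 2, 1, 6, 1, 2, 3, 4, 5, 3, 2, 1, 3, 2, 3, 4, 2, 3, 1, 2, 3, 5, 4, 3, 2, 1, 3],
  [1, 2, 3, 4, 5, 3, 2, 1, 3, 2, 3, 4, 2, 3, 1, 2, 3, 5, 4, 3, 2, 1, 5, 6, 1, 2, 3, 4, 5, 3, 2, 1, 3, 2, 3, 4, 2, 3, 1, 2, 3, 5, 4, 3, 2, 1, 3],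
  [3, 6, 1, 2, 3, 4, 5, 3, 2, 1, 3, 2, 3, 4, 2, 3, 1, 2, 3, 5, 4, 3, 2, 1, 3, 1, 2, 3, 4, 5, 3, 2, 1, 3, 2, 3, 4, 2, 3, 1, 2, 3, 5, 4, 3, 2, 1, 5, 6, 3],
  [1, 2, 3, 4, 5, 3, 2, 1, 3, 2, 3, 4, 2, 3, 1, 2, 3, 5, 4, 3, 2, 1, 6, 5, 2, 3, 2, 3],
  [2, 3, 6, 5, 1, 2, 3, 4, 5, 3, 2, 1, 3, 2, 3, 4, 2, 3, 1, 2, 3, 5, 4, 3, 2, 1, 6, 3],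
  [1, 0, 1, 1, 2, 3, 4, 5, 3, 2, 1, 3, 2, 3, 4, 2, 3, 1, 2, 3, 5, 4, 3, 2, 1, 6, 2, 3, 2, 3],
  [6, 1, 2, 3, 4, 5, 3, 2, 1, 3, 2, 3, 4, 2, 3, 1, 2, 3, 5, 4, 3, 2, 1, 6, 2, 3],
  [1, 2, 3, 4, 5, 3, 2, 1, 3, 2, 3, 4, 2, 3, 1, 2, 3, 5, 4, 3, 2, 1, 1, 0, 1, 2, 3, 5, 6, 1, 2, 3, 4, 5, 3, 2, 1, 3, 2, 3, 4, 2, 3, 1, 2, 3, 5, 4, 3, 2, 1, 3],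
  [6, 2, 3, 5, 3, 2, 3],
  [1, 0, 1, 2, 3, 5, 3, 2, 3],
  [1, 0, 1, 1, 2, 3, 4, 5, 3, 2, 1, 3, 2, 3, 4, 2, 3, 1, 2, 3, 5, 4, 3, 2, 1, 5, 6, 3, 5, 6, 3],
  [1, 2, 3, 4, 5, 3, 2, 1, 3, 2, 3, 4, 2, 3, 1, 2, 3, 5, 4, 3, 2, 1, 1, 0, 1, 6, 3, 1, 2, 3, 4, 5, 3, 2, 1, 3, 2, 3, 4, 2, 3, 1, 2, 3, 5, 4, 3, 2, 1, 5, 6, 3],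
  [1, 2, 3, 4, 5, 3, 2, 1, 3, 2, 3, 4, 2, 3, 1, 2, 3, 5, 4, 3, 2, 1, 6, 2, 3, 5, 6, 3],
  [1, 2, 3, 4, 5, 3, 2, 1, 3, 2, 3, 4, 2, 3, 1, 2, 3, 5, 4, 3, 2, 1, 1, 0, 1, 6, 3, 5, 6, 3, 1, 2, 3, 4, 5, 3, 2, 1, 3, 2, 3, 4, 2, 3, 1, 2, 3, 5, 4, 3, 2, 1],
  [3, 6, 3, 1, 2, 3, 4, 5, 3, 2, 1, 3, 2, 3, 4, 2, 3, 1, 2, 3, 5, 4, 3, 2, 1, 5, 6, 3]]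
def us22 : List (List Nat) := [[1, 2, 3, 4, 5, 3, 2, 1, 3, 2, 3, 4, 2, 3, 1, 2, 3, 5, 4, 3, 2, 1, 6, 3, 1, 2, 3, 4, 5, 3, 2, 1, 3, 2, 3, 4, 2, 3, 1, 2, 3, 5, 4, 3, 2, 1, 5, 6, 3],
  [3, 1, 2, 3, 4, 5, 3, 2, 1, 3, 2, 3, 4, 2, 3, 1, 2, 3, 5, 4, 3, 2, 1, 1, 0, 1, 5, 3, 1, 2, 3, 4, 5, 3, 2, 1, 3, 2, 3, 4, 2, 3, 1, 2, 3, 5, 4, 3, 2, 1],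
  [1, 2, 3, 4, 5, 3, 2, 1, 3, 2, 3, 4, 2, 3, 1, 2, 3, 5, 4, 3, 2, 1, 3, 5, 2, 1, 2, 3, 4, 5, 3, 2, 1, 3, 2, 3, 4, 2, 3, 1, 2, 3, 5, 4, 3, 2, 1, 3, 1, 2, 3, 4, 5, 3, 2, 1, 3, 2, 3, 4, 2, 3, 1, 2, 3, 5, 4, 3, 2, 1],
  [6, 1, 2, 3, 4, 5, 3, 2, 1, 3, 2, 3, 4, 2, 3, 1, 2, 3, 5, 4, 3, 2, 1, 3, 5, 3, 2, 3],
  [6, 1, 2, 3, 4, 5, 3, 2, 1, 3, 2, 3, 4, 2, 3, 1, 2, 3, 5, 4, 3, 2, 1, 3, 1, 2, 3, 4, 5, 3, 2, 1, 3, 2, 3, 4, 2, 3, 1, 2, 3, 5, 4, 3, 2, 1, 5, 3],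
  [6, 1, 2, 3, 4, 5, 3, 2, 1, 3, 2, 3, 4, 2, 3, 1, 2, 3, 5, 4, 3, 2, 1, 2, 3, 5, 6, 2, 3],
  [1, 2, 3, 4, 5, 3, 2, 1, 3, 2, 3, 4, 2, 3, 1, 2, 3, 5, 4, 3, 2, 1, 6, 5, 1, 2, 3, 4, 5, 3, 2, 1, 3, 2, 3, 4, 2, 3, 1, 2, 3, 5, 4, 3, 2, 1, 3, 5, 2, 3],
  [1, 2, 3, 4, 5, 3, 2, 1, 3, 2, 3, 4, 2, 3, 1, 2, 3, 5, 4, 3, 2, 1, 3, 6, 1, 2, 3, 4, 5, 3, 2, 1, 3, 2, 3, 4, 2, 3, 1, 2, 3, 5, 4, 3, 2, 1, 5, 3],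
  [1, 2, 3, 4, 5, 3, 2, 1, 3, 2, 3, 4, 2, 3, 1, 2, 3, 5, 4, 3, 2, 1, 3, 6, 5, 3, 2, 3],
  [1, 0, 1, 1, 2, 3, 4, 5, 3, 2, 1, 3, 2, 3, 4, 2, 3, 1, 2, 3, 5, 4, 3, 2, 1, 3, 5, 3, 2, 3],
  [1, 2, 3, 4, 5, 3, 2, 1, 3, 2, 3, 4, 2, 3, 1, 2, 3, 5, 4, 3, 2, 1, 3, 2, 3, 6, 5, 3],
  [2, 1, 2, 3, 4, 5, 3, 2, 1, 3, 2, 3, 4, 2, 3, 1, 2, 3, 5, 4, 3, 2, 1, 1, 2, 3, 4, 5, 3, 2, 1, 3, 2, 3, 4, 2, 3, 1, 2, 3, 5, 4, 3, 2, 1, 3, 6, 5, 2, 3],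
  [2, 1, 2, 3, 4, 5, 3, 2, 1, 3, 2, 3, 4, 2, 3, 1, 2, 3, 5, 4, 3, 2, 1, 3, 5, 2, 3],
  [3, 5, 6, 1, 2, 3, 4, 5, 3, 2, 1, 3, 2, 3, 4, 2, 3, 1, 2, 3, 5, 4, 3, 2, 1, 2, 3],
  [1, 0, 1, 3, 5, 3, 1, 2, 3, 4, 5, 3, 2, 1, 3, 2, 3, 4, 2, 3, 1, 2, 3, 5, 4, 3, 2, 1, 6, 3],
  [3, 2, 3, 5, 3, 6, 2, 3],
  [3, 2, 3, 6, 5, 3],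
  [2, 3, 5, 3, 2, 3],
  [5, 6, 1, 2, 3, 4, 5, 3, 2, 1, 3, 2, 3, 4, 2, 3, 1, 2, 3, 5, 4, 3, 2, 1, 3, 1, 2, 3, 4, 5, 3, 2, 1, 3, 2, 3, 4, 2, 3, 1, 2, 3, 5, 4, 3, 2, 1, 5, 3],
  [6, 2, 1, 2, 3, 4, 5, 3, 2, 1, 3, 2, 3, 4, 2, 3, 1, 2, 3, 5, 4, 3, 2, 1, 3, 5, 2, 3],
  [2, 1, 0, 1, 3, 6, 1, 2, 3, 4, 5, 3, 2, 1, 3, 2, 3, 4, 2, 3, 1, 2, 3, 5, 4, 3, 2, 1, 5, 3],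
  [2, 3, 6, 5, 2, 3, 1, 2, 3, 4, 5, 3, 2, 1, 3, 2, 3, 4, 2, 3, 1, 2, 3, 5, 4, 3, 2, 1],
  [1, 0, 1, 1, 2, 3, 4, 5, 3, 2, 1, 3, 2, 3, 4, 2, 3, 1, 2, 3, 5, 4, 3, 2, 1, 3, 6, 5, 3, 2, 3],
  [6, 3, 5, 6, 1, 2, 3, 4, 5, 3, 2, 1, 3, 2, 3, 4, 2, 3, 1, 2, 3, 5, 4, 3, 2, 1, 2, 3],
  [2, 3, 6, 1, 2, 3, 4, 5, 3, 2, 1, 3, 2, 3, 4, 2, 3, 1, 2, 3, 5, 4, 3, 2, 1, 5, 3],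
  [5, 6, 3, 5, 1, 2, 3, 4, 5, 3, 2, 1, 3, 2, 3, 4, 2, 3, 1, 2, 3, 5, 4, 3, 2, 1, 6, 3],
  [1, 0, 1, 5, 2, 3, 6, 1, 2, 3, 4, 5, 3, 2, 1, 3, 2, 3, 4, 2, 3, 1, 2, 3, 5, 4, 3, 2, 1, 5, 3],
  [1, 0, 1, 6, 3, 5, 1, 2, 3, 4, 5, 3, 2, 1, 3, 2, 3, 4, 2, 3, 1, 2, 3, 5, 4, 3, 2, 1, 6, 3],
  [3, 1, 2, 3, 4, 5, 3, 2, 1, 3, 2, 3, 4, 2, 3, 1, 2, 3, 5, 4, 3, 2, 1, 3, 5, 6, 3, 2, 3],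
  [1, 2, 3, 4, 5, 3, 2, 1, 3, 2, 3, 4, 2, 3, 1, 2, 3, 5, 4, 3, 2, 1, 1, 2, 3, 4, 5, 3, 2, 1, 3, 2, 3, 4, 2, 3, 1, 2, 3, 5, 4, 3, 2, 1, 3, 6, 5, 3, 2, 3],
  [1, 2, 3, 4, 5, 3, 2, 1, 3, 2, 3, 4, 2, 3, 1, 2, 3, 5, 4, 3, 2, 1, 1, 0, 1, 2, 3, 6, 1, 2, 3, 4, 5, 3, 2, 1, 3, 2, 3, 4, 2, 3, 1, 2, 3, 5, 4, 3, 2, 1, 5, 3],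
  [2, 1, 0, 1, 3, 6, 5, 3, 2, 3],
  [6, 3, 5, 6, 3, 2, 3],
  [1, 0, 1, 2, 3, 6, 1, 2, 3, 4, 5, 3, 2, 1, 3, 2, 3, 4, 2, 3, 1, 2, 3, 5, 4, 3, 2, 1, 5, 3],
  [5, 2, 3, 6, 1, 2, 3, 4, 5, 3, 2, 1, 3, 2, 3, 4, 2, 3, 1, 2, 3, 5, 4, 3, 2, 1, 5, 3],
  [1, 2, 3, 4, 5, 3, 2, 1, 3, 2, 3, 4, 2, 3, 1, 2, 3, 5, 4, 3, 2, 1, 6, 1, 2, 3, 4, 5, 3, 2, 1, 3, 2, 3, 4, 2, 3, 1, 2, 3, 5, 4, 3, 2, 1, 3, 5, 2, 3],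
  [6, 3, 5, 1, 2, 3, 4, 5, 3, 2, 1, 3, 2, 3, 4, 2, 3, 1, 2, 3, 5, 4, 3, 2, 1, 6, 3],
  [6, 1, 2, 3, 4, 5, 3, 2, 1, 3, 2, 3, 4, 2, 3, 1, 2, 3, 5, 4, 3, 2, 1, 2, 3, 5, 2, 3],
  [6, 5, 1, 2, 3, 4, 5, 3, 2, 1, 3, 2, 3, 4, 2, 3, 1, 2, 3, 5, 4, 3, 2, 1, 3, 1, 2, 3, 4, 5, 3, 2, 1, 3, 2, 3, 4, 2, 3, 1, 2, 3, 5, 4, 3, 2, 1, 5, 3],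
  [3, 1, 2, 3, 4, 5, 3, 2, 1, 3, 2, 3, 4, 2, 3, 1, 2, 3, 5, 4, 3, 2, 1, 5, 6, 3, 1, 2, 3, 4, 5, 3, 2, 1, 3, 2, 3, 4, 2, 3, 1, 2, 3, 5, 4, 3, 2, 1, 5, 3]]
def us23 : List (List Nat) := [[2, 1, 2, 3, 4, 5, 3, 2, 1, 3, 2, 3, 4, 2, 3, 1, 2, 3, 5, 4, 3, 2, 1, 2, 3, 6, 5, 2, 3],
  [3, 2, 1, 2, 3, 4, 5, 3, 2, 1, 3, 2, 3, 4, 2, 3, 1, 2, 3, 5, 4, 3, 2, 1, 6, 3, 5, 2, 3],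
  [6, 1, 2, 3, 4, 5, 3, 2, 1, 3, 2, 3, 4, 2, 3, 1, 2, 3, 5, 4, 3, 2, 1, 1, 2, 3, 4, 5, 3, 2, 1, 3, 2, 3, 4, 2, 3, 1, 2, 3, 5, 4, 3, 2, 1, 3, 5, 2, 3],
  [1, 2, 3, 4, 5, 3, 2, 1, 3, 2, 3, 4, 2, 3, 1, 2, 3, 5, 4, 3, 2, 1, 3, 5, 3, 2, 3, 1, 2, 3, 4, 5, 3, 2, 1, 3, 2, 3, 4, 2, 3, 1, 2, 3, 5, 4, 3, 2, 1],
  [2, 3, 1, 2, 3, 4, 5, 3, 2, 1, 3, 2, 3, 4, 2, 3, 1, 2, 3, 5, 4, 3, 2, 1, 5, 3],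
  [5, 6, 2, 3, 5, 3, 2, 3],
  [2, 1, 2, 3, 4, 5, 3, 2, 1, 3, 2, 3, 4, 2, 3, 1, 2, 3, 5, 4, 3, 2, 1, 1, 0, 1, 3, 5, 6, 1, 2, 3, 4, 5, 3, 2, 1, 3, 2, 3, 4, 2, 3, 1, 2, 3, 5, 4, 3, 2, 1, 3],
  [1, 0, 1, 2, 3, 5, 2, 3],
  [1, 2, 3, 4, 5, 3, 2, 1, 3, 2, 3, 4, 2, 3, 1, 2, 3, 5, 4, 3, 2, 1, 1, 2, 3, 4, 5, 3, 2, 1, 3, 2, 3, 4, 2, 3, 1, 2, 3, 5, 4, 3, 2, 1, 2, 3, 6, 1, 2, 3, 4, 5, 3, 2, 1, 3, 2, 3, 4, 2, 3, 1, 2, 3, 5, 4, 3, 2, 1, 5, 3],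
  [5, 6, 3, 5, 6, 3, 2, 3],
  [1, 0, 1, 6, 3, 5, 6, 3, 2, 3],
  [1, 2, 3, 4, 5, 3, 2, 1, 3, 2, 3, 4, 2, 3, 1, 2, 3, 5, 4, 3, 2, 1, 3, 1, 2, 3, 4, 5, 3, 2, 1, 3, 2, 3, 4, 2, 3, 1, 2, 3, 5, 4, 3, 2, 1, 1, 2, 3, 4, 5, 3, 2, 1, 3, 2, 3, 4, 2, 3, 1, 2, 3, 5, 4, 3, 2, 1, 5, 6, 3, 1, 2, 3, 4, 5, 3, 2, 1, 3, 2, 3, 4, 2, 3, 1, 2, 3, 5, 4, 3, 2, 1],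
  [1, 2, 3, 4, 5, 3, 2, 1, 3, 2, 3, 4, 2, 3, 1, 2, 3, 5, 4, 3, 2, 1, 1, 2, 3, 4, 5, 3, 2, 1, 3, 2, 3, 4, 2, 3, 1, 2, 3, 5, 4, 3, 2, 1, 2, 3, 5, 6, 2, 3],
  [1, 2, 3, 4, 5, 3, 2, 1, 3, 2, 3, 4, 2, 3, 1, 2, 3, 5, 4, 3, 2, 1, 3, 6, 1, 2, 3, 4, 5, 3, 2, 1, 3, 2, 3, 4, 2, 3, 1, 2, 3, 5, 4, 3, 2, 1, 5, 6, 3],
  [3, 1, 2, 3, 4, 5, 3, 2, 1, 3, 2, 3, 4, 2, 3, 1, 2, 3, 5, 4, 3, 2, 1, 3, 6, 5, 3],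
  [2, 3, 5, 1, 2, 3, 4, 5, 3, 2, 1, 3, 2, 3, 4, 2, 3, 1, 2, 3, 5, 4, 3, 2, 1, 3, 5, 2, 3],
  [1, 2, 3, 4, 5, 3, 2, 1, 3, 2, 3, 4, 2, 3, 1, 2, 3, 5, 4, 3, 2, 1, 1, 2, 3, 4, 5, 3, 2, 1, 3, 2, 3, 4, 2, 3, 1, 2, 3, 5, 4, 3, 2, 1, 3, 5, 2, 3],
  [1, 2, 3, 4, 5, 3, 2, 1, 3, 2, 3, 4, 2, 3, 1, 2, 3, 5, 4, 3, 2, 1, 5, 6, 3, 5, 6, 3],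
  [2, 3, 6, 2, 3, 5, 6, 3],
  [6, 3, 1, 2, 3, 4, 5, 3, 2, 1, 3, 2, 3, 4, 2, 3, 1, 2, 3, 5, 4, 3, 2, 1, 5, 6, 1, 2, 3, 4, 5, 3, 2, 1, 3, 2, 3, 4, 2, 3, 1, 2, 3, 5, 4, 3, 2, 1, 3],
  [6, 3, 1, 2, 3, 4, 5, 3, 2, 1, 3, 2, 3, 4, 2, 3, 1, 2, 3, 5, 4, 3, 2, 1, 5, 6, 3, 1, 2, 3, 4, 5, 3, 2, 1, 3, 2, 3, 4, 2, 3, 1, 2, 3, 5, 4, 3, 2, 1],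
  [3, 6, 3, 5, 2, 3, 2, 3],
  [6, 2, 3, 5, 6, 3, 1, 2, 3, 4, 5, 3, 2, 1, 3, 2, 3, 4, 2, 3, 1, 2, 3, 5, 4, 3, 2, 1],
  [3, 1, 2, 3, 4, 5, 3, 2, 1, 3, 2, 3, 4, 2, 3, 1, 2, 3, 5, 4, 3, 2, 1, 1, 2, 3, 4, 5, 3, 2, 1, 3, 2, 3, 4, 2, 3, 1, 2, 3, 5, 4, 3, 2, 1, 5, 3, 1, 2, 3, 4, 5, 3, 2, 1, 3, 2, 3, 4, 2, 3, 1, 2, 3, 5, 4, 3, 2, 1],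
  [3, 5, 1, 2, 3, 4, 5, 3, 2, 1, 3, 2, 3, 4, 2, 3, 1, 2, 3, 5, 4, 3, 2, 1, 1, 2, 3, 4, 5, 3, 2, 1, 3, 2, 3, 4, 2, 3, 1, 2, 3, 5, 4, 3, 2, 1, 3, 1, 2, 3, 4, 5, 3, 2, 1, 3, 2, 3, 4, 2, 3, 1, 2, 3, 5, 4, 3, 2, 1, 5, 3]]
def us : List (List Nat) := us0 ++ us1 ++ us2 ++ us3 ++ us4 ++ us5 ++ us6 ++ us7 ++ us8 ++ us9 ++ us10 ++ us11 ++ us12 ++ us13 ++ us14 ++ us15 ++ us16 ++ us17 ++ us18 ++ us19 ++ us20 ++ us21 ++ us22 ++ us23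
def chkPt (p : Nat) : Bool :=
  Bool.rec (motive := fun _ => Bool) true
    (andK (relsAt tpK rW p) (andK (eqAt THeNLT.tp cprs p) (fixAt THeNLT.tp 4 fl p)))
    (Nat.ble (Nat.succ p) 8330)

end Cfsg.Agent.Lib.Helper28.CeData
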