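import Cfsg.Agent.Lib.Helper28.TCKernel

/-!
Joining two half-range checks into one (used to split big kernel checks into several
declarations of moderate size).
-/

set_option autoImplicit false

namespace Cfsg.Agent.Lib.Helper28.TCJoin

open Cfsg.Agent.Lib.Helper28.TCKernel

theorem join (P : Nat → Bool) (d lo : Nat) (h1 : allTree P d lo = true)
    (h2 : allTree P d (lo + 2 ^ d) = true) : allTree P (d + 1) lo = true := by
  rw [allTree_succ, h1, h2]; rfl

end Cfsg.Agent.Lib.Helper28.TCJoin
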