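import Cfsg.Agent.Lib.Helper28.CeGen

set_option autoImplicit false

namespace Cfsg.Agent.Lib.Helper28.CeMData

open Cfsg.Agent.Lib.Helper28.TCKernel Cfsg.Agent.Lib.Helper28.SGS Cfsg.Agent.Lib.Helper28.CeGen

def mX : Matrix (Fin 5) (Fin 5) (ZMod 2) := !![1, 1, 0, 0, 1; 0, 1, 0, 0, 0; 0, 0, 1, 0, 1; 0, 0, 0, 1, 0; 0, 0, 0, 0, 1]
def mY : Matrix (Fin 5) (Fin 5) (ZMod 2) := !![1, 0, 0, 0, 0; 0, 1, 0, 0, 0; 0, 0, 0, 1, 0; 0, 0, 1, 0, 0; 0, 1, 1, 1, 1]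
def mZ : Matrix (Fin 5) (Fin 5) (ZMod 2) := !![1, 0, 0, 1, 0; 0, 1, 0, 0, 0; 0, 0, 1, 0, 0; 0, 0, 0, 1, 0; 0, 1, 1, 0, 1]
def mT : Matrix (Fin 5) (Fin 5) (ZMod 2) := !![1, 1, 0, 0, 0; 0, 1, 0, 0, 0; 0, 0, 1, 0, 0; 0, 0, 0, 1, 0; 0, 0, 0, 0, 1]
def mW : Matrix (Fin 5) (Fin 5) (ZMod 2) := !![0, 1, 0, 0, 0; 1, 0, 0, 0, 0; 0, 0, 1, 0, 0; 0, 0, 0, 1, 0; 0, 0, 0, 0, 1]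
def tbl : List (List Nat) := [[0, 1, 3, 2, 4, 5, 7, 6, 8, 9, 11, 10, 12, 13, 15, 14, 21, 20, 22, 23, 17, 16, 18, 19, 29, 28, 30, 31, 25, 24, 26, 27],
  [0, 1, 18, 19, 24, 25, 10, 11, 20, 21, 6, 7, 12, 13, 30, 31, 16, 17, 2, 3, 8, 9, 26, 27, 4, 5, 22, 23, 28, 29, 14, 15],
  [0, 1, 18, 19, 20, 21, 6, 7, 9, 8, 27, 26, 29, 28, 15, 14, 16, 17, 2, 3, 4, 5, 22, 23, 25, 24, 11, 10, 13, 12, 31, 30],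
  [0, 1, 3, 2, 4, 5, 7, 6, 8, 9, 11, 10, 12, 13, 15, 14, 16, 17, 19, 18, 20, 21, 23, 22, 24, 25, 27, 26, 28, 29, 31, 30],
  [0, 2, 1, 3, 4, 6, 5, 7, 8, 10, 9, 11, 12, 14, 13, 15, 16, 18, 17, 19, 20, 22, 21, 23, 24, 26, 25, 27, 28, 30, 29, 31]]
def tp (y a : Nat) : Nat := nthD 0 (nthD [] tbl y) a
def kws : List (List Nat) := [[0], [1], [2]]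
def tpK : Nat → Nat → Nat := tpOf tp kws
def rW : List (List Nat) := [[0, 1, 0, 1, 0, 1, 0, 1, 0, 1, 0, 1],
  [0, 2, 0, 2, 0, 2, 0, 2, 0, 2, 0, 2],
  [1, 2, 1, 2, 1, 2, 1, 2],
  [0, 1, 0, 1, 0, 2, 0, 2, 0, 1, 2, 0, 1, 0, 2, 1, 0, 2, 0, 1, 2],
  [0, 1, 0, 1, 0, 1, 2, 0, 1, 0, 1, 2, 0, 1, 0, 2, 1, 0, 1, 2, 0, 1, 0, 2, 0, 2],
  [0, 1, 0, 1, 0, 2, 0, 1, 2, 0, 2, 1, 0, 2, 0, 1, 2, 0, 2, 0, 1, 2, 0, 2, 0, 2],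
  [0, 0],
  [1, 1],
  [2, 2]]
def cprs : List (List Nat × List Nat) := [([0, 3], [3, 0]),
  ([1, 3], [3, 1]),
  ([2, 3], [3, 2])]
def fl : List Nat := [1, 4, 5, 8, 9, 12, 13, 16, 17, 20, 21, 24, 25, 28, 29]
def qs : List Nat := [1, 2, 4, 8, 16]
def us : List (List Nat) := [[4, 1, 4, 3, 1, 0, 4],
  [2, 0, 1, 4, 1, 0, 4],
  [1, 0, 2, 4, 1, 0, 4],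
  [3, 4, 1, 0, 4],
  [0, 4, 3, 0, 1, 4],
  [2, 1, 4, 1, 0, 4],
  [1, 2, 4, 1, 0, 4],
  [4, 1, 0, 4],
  [1, 0, 1, 0, 4, 2, 4],
  [0, 1, 4, 2, 4],
  [2, 1, 2, 4, 1, 0, 1, 4],
  [0, 4, 2, 1, 2, 4],
  [4, 3, 2, 4, 3, 0, 1, 4],
  [4, 2, 0, 2, 4],
  [1, 4, 3, 2, 1, 0, 1, 4],
  [4, 2, 0, 1, 4],
  [3, 4, 3, 0, 1, 4],
  [3, 2, 4, 3, 0, 1, 4],
  [3, 4, 3, 0, 2, 4],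
  [3, 2, 4, 3, 0, 2, 4],
  [4, 3, 0, 1, 4],
  [2, 4, 3, 0, 1, 4],
  [4, 3, 0, 2, 4],
  [2, 4, 3, 0, 2, 4],
  [2, 4, 1, 0, 1, 4],
  [4, 0, 4, 0, 1, 0, 2, 4],
  [2, 4, 1, 0, 2, 4],
  [1, 2, 0, 1, 4, 2, 4],
  [0, 1, 0, 4, 1, 0, 2, 4],
  [4, 1, 0, 2, 4],
  [4, 3, 1, 4, 3, 0, 1, 4],
  [4, 1, 0, 1, 4],
  [3, 4, 1, 0, 1, 0, 4],
  [3, 1, 2, 4, 3, 0, 1, 4],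
  [3, 1, 4, 3, 0, 2, 4],
  [3, 1, 4, 3, 0, 1, 4],
  [4, 1, 0, 1, 0, 4],
  [1, 2, 4, 3, 0, 1, 4],
  [1, 4, 3, 0, 2, 4],
  [1, 4, 3, 0, 1, 4],
  [2, 4, 1, 0, 1, 0, 1, 4],
  [4, 0, 4, 1, 2, 0, 2, 4],
  [1, 0, 4, 1, 0, 2, 4],
  [0, 4, 1, 0, 2, 4],
  [1, 4, 0, 1, 2, 0, 2, 4],
  [4, 0, 1, 2, 0, 2, 4],
  [0, 2, 4, 1, 0, 1, 4],
  [1, 0, 2, 4, 1, 0, 1, 4],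
  [3, 0, 4, 1, 0, 1, 0, 4],
  [2, 0, 4, 1, 0, 1, 0, 4],
  [2, 0, 1, 0, 4, 1, 0, 4],
  [3, 0, 1, 0, 4, 1, 0, 4],
  [0, 4, 1, 0, 1, 0, 4],
  [3, 2, 0, 4, 1, 0, 1, 0, 4],
  [0, 1, 4, 3, 0, 2, 4],
  [0, 1, 0, 4, 1, 0, 4],
  [4, 2, 4, 1, 0, 4, 1, 4],
  [2, 1, 0, 4, 1, 0, 4],
  [1, 0, 4, 2, 4, 0, 2, 4],
  [0, 4, 1, 4, 0, 1, 4],
  [2, 0, 2, 4, 1, 0, 2, 4],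
  [0, 2, 0, 2, 4, 1, 0, 1, 4],
  [0, 2, 0, 4, 1, 0, 2, 4],
  [2, 0, 4, 1, 0, 1, 4],
  [4, 2, 0, 4, 1, 2, 0, 1, 4],
  [0, 1, 0, 4, 1, 0, 1, 0, 4],
  [4, 2, 1, 0, 1, 2, 0, 1, 4],
  [1, 0, 1, 4, 3, 0, 1, 4],
  [0, 4, 1, 2, 1, 0, 2, 4],
  [0, 4, 2, 4, 0, 2, 4],
  [],
  [2, 0, 4, 1, 4],
  [4, 1, 0, 2, 1, 0, 1, 4],
  [1, 0, 4, 1, 4],
  [2, 1, 0, 4, 1, 4],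
  [2, 4, 0, 1, 2, 0, 1, 4],
  [4, 1, 0, 1, 2, 0, 1, 4],
  [4, 0, 4, 0, 1, 4],
  [4, 1, 4],
  [0, 4, 1, 4],
  [0, 4, 0, 4, 0, 1, 4],
  [1, 2, 0, 4, 1, 4],
  [2, 1, 2, 0, 4, 1, 4],
  [4, 0, 4, 1, 2, 0, 1, 4],
  [4, 0, 1, 2, 0, 1, 4],
  [0, 2, 4, 3, 0, 4],
  [4, 1, 2, 4],
  [4, 0, 2, 4, 3, 0, 4],
  [0, 4, 2, 4, 3, 0, 4],
  [4, 2, 4, 0, 4, 1, 0, 1, 4],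
  [4, 0, 1, 0, 1, 0, 2, 4],
  [0, 1, 0, 1, 4, 2, 4],
  [1, 0, 4, 2, 4],
  [0, 1, 4, 2, 0, 2, 4],
  [2, 1, 0, 4, 2, 4],
  [4, 0, 1, 4, 2, 0, 2, 4],
  [0, 2, 4, 1, 0, 1, 0, 4],
  [0, 2, 0, 1, 4, 1, 0, 4],
  [0, 2, 1, 4, 1, 0, 4],
  [0, 4, 3, 2, 4, 3, 0, 1, 4],
  [0, 4, 2, 0, 2, 4],
  [0, 1, 0, 1, 0, 4, 2, 4],
  [1, 4, 2, 4],
  [2, 4, 0, 2, 4, 3, 0, 4],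
  [0, 2, 4, 3, 0, 1, 4],
  [2, 0, 1, 2, 4, 3, 0, 1, 4],
  [0, 1, 2, 4, 3, 0, 1, 4],
  [0, 1, 4, 0, 1, 2, 0, 2, 4],
  [1, 2, 0, 4, 2, 4],
  [0, 2, 4, 1, 0, 1, 0, 1, 4],
  [2, 1, 2, 0, 4, 2, 4],
  [0, 2, 0, 4, 1, 0, 1, 0, 4],
  [2, 4, 0, 1, 4, 2, 0, 2, 4],
  [1, 0, 2, 4, 3, 0, 4],
  [4, 2, 1, 4],
  [0, 1, 4, 3, 0, 4],
  [4, 2, 1, 2, 1, 4],
  [4, 1, 0, 2, 4, 3, 0, 4],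
  [4, 0, 1, 4, 3, 0, 4],
  [1, 0, 2, 4, 3, 0, 1, 4],
  [0, 4, 1, 4, 3, 0, 4],
  [2, 1, 0, 1, 0, 1, 4, 2, 4],
  [2, 0, 4, 2, 4],
  [2, 1, 0, 1, 4, 2, 0, 2, 4],
  [2, 0, 4, 0, 4, 0, 2, 4],
  [1, 2, 1, 0, 4, 1, 0, 4],
  [1, 4, 0, 1, 4, 2, 0, 2, 4],
  [0, 4, 2, 4, 0, 1, 4],
  [1, 0, 2, 4, 1, 0, 1, 0, 4],
  [1, 0, 2, 0, 1, 4, 1, 0, 4],
  [3, 1, 0, 4, 1, 0, 4],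
  [1, 0, 2, 1, 4, 1, 0, 4],
  [1, 0, 4, 1, 0, 4],
  [0, 4, 3, 1, 4, 3, 0, 1, 4],
  [0, 4, 1, 0, 1, 4],
  [0, 2, 4, 1, 0, 2, 4],
  [4, 0, 1, 0, 2, 1, 2, 4],
  [2, 4, 3, 0, 1, 0, 2, 4],
  [2, 0, 1, 4, 3, 0, 1, 4],
  [4, 3, 0, 1, 0, 2, 4],
  [0, 1, 4, 3, 0, 1, 4],
  [0, 1, 0, 1, 4, 2, 0, 2, 4],
  [4, 0, 4, 0, 2, 4],
  [0, 1, 4, 3, 2, 1, 0, 1, 4],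
  [0, 4, 2, 0, 1, 4],
  [4, 1, 4, 0, 2, 4, 3, 0, 4],
  [4, 2, 4],
  [4, 1, 4, 0, 1, 4, 3, 0, 4],
  [4, 2, 1, 2, 4],
  [1, 4, 0, 2, 4, 3, 0, 4],
  [1, 4, 0, 1, 4, 3, 0, 4],
  [1, 0, 4, 2, 4, 3, 0, 4],
  [0, 2, 4, 3, 0, 2, 4],
  [1, 0, 1, 0, 1, 4, 2, 4],
  [0, 4, 2, 4],
  [1, 0, 1, 4, 2, 0, 2, 4],
  [0, 4, 0, 4, 0, 2, 4],
  [0, 1, 4, 0, 2, 4, 3, 0, 4],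
  [3, 0, 4, 1, 0, 4],
  [0, 1, 0, 4, 2, 4, 3, 0, 4],
  [0, 4, 1, 0, 4],
  [2, 0, 4, 1, 2, 4],
  [4, 3, 0, 4],
  [2, 4, 3, 0, 4],
  [0, 4, 1, 2, 4],
  [4, 0, 2, 4, 1, 0, 4],
  [2, 1, 4, 3, 0, 4],
  [1, 4, 3, 0, 4],
  [0, 4, 2, 1, 2, 1, 4],
  [0, 1, 4, 1, 0, 4],
  [4, 2, 4, 3, 0, 4],
  [0, 2, 4, 1, 0, 4],
  [4, 1, 4, 3, 0, 4],
  [1, 4, 1, 0, 4],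
  [1, 2, 1, 4, 1, 0, 4],
  [2, 4, 1, 0, 4],
  [2, 1, 2, 4, 1, 0, 4],
  [2, 0, 1, 4, 2, 4],
  [1, 2, 4, 1, 0, 2, 4],
  [2, 0, 4, 2, 1, 2, 4],
  [1, 2, 4, 1, 0, 1, 4],
  [1, 4, 1, 0, 1, 4],
  [4, 1, 2, 1, 0, 1, 0, 4],
  [2, 4, 2, 0, 1, 4],
  [2, 1, 4, 3, 2, 1, 0, 1, 4],
  [4, 2, 4, 0, 2, 4],
  [4, 1, 4, 1, 0, 1, 4],
  [4, 2, 4, 0, 1, 4],
  [4, 2, 4, 2, 0, 1, 4],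
  [4, 1, 2, 1, 0, 2, 4],
  [0, 4, 1, 4, 1, 0, 1, 4],
  [4, 1, 2, 1, 0, 1, 4],
  [2, 4, 1, 2, 1, 0, 1, 4],
  [1, 0, 4, 2, 1, 2, 4],
  [2, 1, 4, 2, 0, 2, 4],
  [1, 0, 1, 4, 2, 4],
  [0, 1, 0, 4, 2, 4],
  [1, 4, 2, 0, 1, 4],
  [4, 3, 2, 1, 0, 1, 4],
  [1, 4, 2, 0, 2, 4],
  [4, 0, 2, 1, 0, 2, 4],
  [4, 1, 4, 0, 2, 4],
  [4, 1, 4, 0, 1, 4],
  [4, 1, 4, 2, 0, 1, 4],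
  [2, 4, 1, 0, 1, 0, 4],
  [4, 2, 1, 2, 0, 2, 4],
  [4, 2, 1, 2, 0, 1, 4],
  [1, 4, 1, 2, 1, 0, 1, 4],
  [3, 2, 4, 1, 0, 1, 0, 4],
  [1, 4, 2, 4, 0, 1, 0, 1, 4],
  [2, 0, 2, 4, 1, 0, 1, 4],
  [2, 4, 0, 1, 2, 0, 2, 4],
  [4, 2, 4, 0, 1, 0, 1, 4],
  [2, 0, 4, 1, 0, 2, 4],
  [0, 2, 0, 4, 1, 0, 1, 4],
  [1, 0, 2, 0, 4, 1, 0, 1, 4],
  [4, 1, 0, 1, 0, 1, 4],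
  [2, 1, 0, 4, 1, 0, 1, 0, 4],
  [4, 2, 0, 4, 1, 0, 2, 4],
  [0, 1, 0, 1, 0, 4, 1, 0, 4],
  [1, 2, 0, 4, 1, 0, 1, 0, 4],
  [1, 0, 1, 4, 3, 0, 2, 4],
  [1, 0, 4, 1, 0, 1, 0, 4],
  [1, 0, 1, 0, 4, 1, 0, 4],
  [4, 0, 1, 0, 1, 2, 0, 2, 4]]
def ows : List (List Nat) := [[],
  [4],
  [4, 0],
  [4, 1, 4, 0, 2],
  [4, 1, 0, 4, 2],
  [4, 1, 0, 4, 2, 4],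
  [4, 1, 0, 1, 2, 1],
  [4, 1, 4, 0, 1],
  [4, 1, 0, 4, 1],
  [4, 0, 1, 0, 1, 2],
  [4, 1, 0, 1, 2],
  [4, 1, 0, 1, 0, 4, 2],
  [4, 1, 0, 1, 0, 1, 4],
  [4, 1, 0, 1, 0, 1],
  [4, 0, 1, 0, 1, 0, 1],
  [4, 1, 0, 4, 0],
  [4, 1, 4],
  [4, 1],
  [4, 0, 1],
  [4, 1, 4, 0],
  [4, 1, 0, 4],
  [4, 1, 0],
  [4, 0, 1, 0],
  [4, 1, 0, 1, 4, 2],
  [4, 1, 0, 1, 4],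
  [4, 1, 0, 1],
  [4, 0, 1, 0, 1],
  [4, 1, 0, 1, 4, 0],
  [4, 1, 0, 1, 0, 4],
  [4, 1, 0, 1, 0],
  [4, 0, 1, 0, 1, 0]]
def chkPt (p : Nat) : Bool :=
  andK (relsAt tpK rW p) (andK (eqAt tp cprs p) (fixAt tp 3 (0 :: fl) p))

end Cfsg.Agent.Lib.Helper28.CeMData
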