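import Cfsg.Agent.Lib.Helper28.SGS
import Cfsg.Agent.Lib.Helper28.CeMData
import Cfsg.Agent.Lib.Helper28.CeMD0

set_option autoImplicit false

namespace Cfsg.Agent.Lib.Helper28.CeMT

open Cfsg.Agent.Lib.Helper28.TCKernel Cfsg.Agent.Lib.Helper28.SGS

def x0top : List (List Nat) := [CeMD0.x0g0]
def x1top : List (List Nat) := [CeMD0.x1g0]
def x2top : List (List Nat) := [CeMD0.x2g0]
def x3top : List (List Nat) := [CeMD0.x3g0]
def x4top : List (List Nat) := [CeMD0.x4g0]
def x5top : List (List Nat) := [CeMD0.x5g0]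
def x6top : List (List Nat) := [CeMD0.x6g0]
def x7top : List (List Nat) := [CeMD0.x7g0]
def x8top : List (List Nat) := [CeMD0.x8g0]
def x9top : List (List Nat) := [CeMD0.x9g0]
def x10top : List (List Nat) := [CeMD0.x10g0]
def x11top : List (List Nat) := [CeMD0.x11g0]
def x12top : List (List Nat) := [CeMD0.x12g0]
def x13top : List (List Nat) := [CeMD0.x13g0]
def x14top : List (List Nat) := [CeMD0.x14g0]
def x15top : List (List Nat) := [CeMD0.x15g0]
def x16top : List (List Nat) := [CeMD0.x16g0]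
def x17top : List (List Nat) := [CeMD0.x17g0]
def x18top : List (List Nat) := [CeMD0.x18g0]
def x19top : List (List Nat) := [CeMD0.x19g0]
def x20top : List (List Nat) := [CeMD0.x20g0]
def x21top : List (List Nat) := [CeMD0.x21g0]
def x22top : List (List Nat) := [CeMD0.x22g0]
def x23top : List (List Nat) := [CeMD0.x23g0]
def x24top : List (List Nat) := [CeMD0.x24g0]
def x25top : List (List Nat) := [CeMD0.x25g0]
def x26top : List (List Nat) := [CeMD0.x26g0]
def x27top : List (List Nat) := [CeMD0.x27g0]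
def x28top : List (List Nat) := [CeMD0.x28g0]
def x29top : List (List Nat) := [CeMD0.x29g0]
def x30top : List (List Nat) := [CeMD0.x30g0]
def x31top : List (List Nat) := [CeMD0.x31g0]
def x32top : List (List Nat) := [CeMD0.x32g0]
def x33top : List (List Nat) := [CeMD0.x33g0]
def x34top : List (List Nat) := [CeMD0.x34g0]
def xq0 : List (List (List Nat)) := [x0top, x1top, x2top, x3top, x4top, x5top, x6top, x7top]
def xq1 : List (List (List Nat)) := [x8top, x9top, x10top, x11top, x12top, x13top, x14top, x15top]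
def xq2 : List (List (List Nat)) := [x16top, x17top, x18top, x19top, x20top, x21top, x22top, x23top]
def xq3 : List (List (List Nat)) := [x24top, x25top, x26top, x27top, x28top, x29top, x30top, x31top]
def xq4 : List (List (List Nat)) := [x32top, x33top, x34top]
def xtops : List (List (List (List Nat))) := [xq0, xq1, xq2, xq3, xq4]
def l0top : List (List Nat) := [CeMD0.l0g0]
def l1top : List (List Nat) := [CeMD0.l1g0]
def l2top : List (List Nat) := [CeMD0.l2g0]
def l3top : List (List Nat) := [CeMD0.l3g0]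
def l4top : List (List Nat) := [CeMD0.l4g0]
def ltops : List (List (List Nat)) := [l0top, l1top, l2top, l3top, l4top]
def xt : Nat → Nat → Nat := fld4z xtops 5 0 0 31 5 31
def rk : Nat → Nat → Nat := fld3 ltops 5 0 0 31 14 0 7
def par : Nat → Nat → Nat := fld3 ltops 5 0 0 31 14 3 31
def sy : Nat → Nat → Nat := fld3 ltops 5 0 0 31 14 8 63
def lvl : List Nat := [1, 1, 1, 2, 2, 2, 2, 2, 2, 2, 2, 3, 3, 3, 3, 3, 3, 3, 3, 4, 4, 4, 4, 4, 4, 4, 4, 5, 5, 5, 5, 5, 5, 5, 5]
def lv : Nat → Nat := nthD 0 lvl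
def bsl : List Nat := [0, 2, 4, 8, 16]
def bs : Nat → Nat := nthD 0 bsl
def nsl : List Nat := [1, 16, 14, 12, 8]
def ns : Nat → Nat := nthD 0 nsl
def defs : List (List Nat) := [[1],
  [2],
  [1],
  [0],
  [3, 6],
  [3, 9, 3, 5, 9, 7, 10, 4, 6, 4, 10, 4],
  [3, 9, 3, 9, 3, 5, 7, 6, 10, 4, 10, 4],
  [9, 3, 9, 3, 6, 10, 6, 4, 10, 4],
  [11, 14, 17, 12],
  [11, 14, 18, 16, 11],
  [12, 14, 16],
  [11, 11, 15, 12, 12],
  [20],
  [26],
  [23, 19, 23, 22, 22],
  [21, 24, 26, 20, 22]]
def prs : List (List Nat × List Nat) := []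
def cj : List (List Nat) := []
def wodd : List Nat := []
def chkPt (p : Nat) : Bool :=
  ptOK xt CeMData.tpK rk par sy lv bs defs prs 3 5 32 p

end Cfsg.Agent.Lib.Helper28.CeMT
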