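import Cfsg.Agent.Lib.Helper28.TCPerm
import Cfsg.Prelude.Def_SporCoxeter

/-!
Glue between the presentations `Cfsg.Spor.CoxPresented` (Coxeter graph relators plus extra
relators) and the letter words used by the coset-table certificates.
-/

set_option autoImplicit false

namespace Cfsg.Agent.Lib.Helper28.TCPres

open Cfsg.Agent.Lib.Helper28.TCKernel Cfsg.Agent.Lib.Helper28.TCSound
open Cfsg.Spor

/-- value of a letter: the decoded generator or its inverse. -/
def ltOf {α : Type} {P : Type*} [Group P] (dec : Nat → α × Bool) (f : α → P) (y : Nat) : P :=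
  cond (dec y).2 (f (dec y).1) (f (dec y).1)⁻¹

/-- letters of a free group element. -/
def toLetters {α : Type} [DecidableEq α] (code : α × Bool → Nat) (r : FreeGroup α) : List Nat :=
  r.toWord.map code

/-- the Coxeter relators of a list of pairs of nodes. -/
def coxSrc {α : Type} [DecidableEq α] (edges : List (α × ℕ × α)) (pairs : List (α × α)) :
    List (FreeGroup α) :=
  pairs.map (fun p => (FreeGroup.of p.1 * FreeGroup.of p.2) ^ coxLabel edges p.1 p.2)

/-- inverse word. -/
def invw (inv : Nat → Nat) (w : List Nat) : List Nat := w.reverse.map inv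

theorem wp_congr {P : Type*} [Group P] (lt1 lt2 : Nat → P) (w : List Nat)
    (h : ∀ y ∈ w, lt1 y = lt2 y) : wp lt1 w = wp lt2 w := by
  induction w with
  | nil => rfl
  | cons y w ih =>
    rw [wp_cons, wp_cons, h y List.mem_cons_self,
      ih (fun z hz => h z (List.mem_cons_of_mem _ hz))]

theorem wp_invw {P : Type*} [Group P] (lt : Nat → P) (inv : Nat → Nat) (L : Nat)
    (hI : ∀ y, y < L → lt (inv y) = (lt y)⁻¹) (w : List Nat) (hw : ∀ y ∈ w, y < L) :
    wp lt (invw inv w) = (wp lt w)⁻¹ := by
  induction w with
  | nil => simp [invw, wp]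
  | cons y w ih =>
    have e : invw inv (y :: w) = invw inv w ++ [inv y] := by simp [invw]
    rw [e, wp_append, wp_cons, wp_cons, wp_nil, mul_one,
      ih (fun z hz => hw z (List.mem_cons_of_mem _ hz)), hI y (hw y List.mem_cons_self),
      mul_inv_rev]

theorem invw_letters (inv : Nat → Nat) (L : Nat) (hI : ∀ y, y < L → inv y < L) (w : List Nat)
    (hw : ∀ y ∈ w, y < L) : ∀ y ∈ invw inv w, y < L := by
  intro y hy
  unfold invw at hy
  obtain ⟨z, hz, rfl⟩ := List.mem_map.mp hy
  exact hI z (hw z (List.mem_reverse.mp hz))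

theorem pow_comm_eq_one {P : Type*} [Group P] (a b : P) (m : Nat) (h : (b * a) ^ m = 1) :
    (a * b) ^ m = 1 := by
  have e : a * b = a * (b * a) * a⁻¹ := by group
  rw [e, conj_pow, h, mul_one, mul_inv_cancel]

theorem coxLabel_self {α : Type} [DecidableEq α] (edges : List (α × ℕ × α)) (x : α) :
    coxLabel edges x x = 1 := by
  unfold coxLabel
  rw [if_pos rfl]

section pres

variable {α : Type} [DecidableEq α]

/-- decidable side conditions relating a presentation and its letter words. -/
structure PresOK (edges : List (α × ℕ × α)) (extra : List (FreeGroup α)) (code : α × Bool → Nat)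
    (dec : Nat → α × Bool) (inv : Nat → Nat) (L : Nat) (gens : List α) (pairs : List (α × α))
    (relW : List (List Nat)) : Prop where
  gens_all : ∀ x : α, x ∈ gens
  code_true : ∀ x ∈ gens, code (x, true) < L ∧ dec (code (x, true)) = (x, true)
  code_false : ∀ x ∈ gens, code (x, false) < L ∧ (dec (code (x, false)) = (x, false) ∨
    (x ∈ coxNodes edges ∧ code (x, false) = code (x, true)))
  dec_code : ∀ y, y < L → code (dec y) = y
  inv_ok : ∀ y, y < L → inv y < L ∧ inv (inv y) = y ∧
    (dec (inv y) = ((dec y).1, !(dec y).2) ∨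
      ((dec y).1 ∈ coxNodes edges ∧ inv y = y ∧ (dec y).2 = true))
  node_inv : ∀ x ∈ coxNodes edges, inv (code (x, true)) = code (x, true)
  pairs_nodes : ∀ p ∈ pairs, p.1 ∈ coxNodes edges ∧ p.2 ∈ coxNodes edges
  pairs_all : ∀ x ∈ coxNodes edges, ∀ y ∈ coxNodes edges, x = y ∨ (x, y) ∈ pairs ∨ (y, x) ∈ pairs
  label_symm : ∀ x ∈ coxNodes edges, ∀ y ∈ coxNodes edges,
    coxLabel edges x y = coxLabel edges y x
  rel_words : (coxSrc edges pairs ++ extra).map (toLetters code) = relW
  rel_letters : ∀ w ∈ relW, ∀ y ∈ w, y < L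

variable {edges : List (α × ℕ × α)} {extra : List (FreeGroup α)} {code : α × Bool → Nat}
  {dec : Nat → α × Bool} {inv : Nat → Nat} {L : Nat} {gens : List α} {pairs : List (α × α)}
  {relW : List (List Nat)}

theorem ltOf_code {P : Type*} [Group P] (O : PresOK edges extra code dec inv L gens pairs relW)
    (f : α → P) (hinvol : ∀ x ∈ coxNodes edges, f x * f x = 1) (p : α × Bool) :
    ltOf dec f (code p) = cond p.2 (f p.1) (f p.1)⁻¹ := by
  obtain ⟨x, b⟩ := p
  cases b with
  | true =>
    unfold ltOf
    rw [(O.code_true x (O.gens_all x)).2]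
  | false =>
    rcases (O.code_false x (O.gens_all x)).2 with h | ⟨hx, h⟩
    · unfold ltOf
      rw [h]
    · unfold ltOf
      rw [h, (O.code_true x (O.gens_all x)).2]
      show f x = (f x)⁻¹
      exact eq_inv_of_mul_eq_one_left (hinvol x hx)

theorem lift_eq_wp {P : Type*} [Group P] (O : PresOK edges extra code dec inv L gens pairs relW)
    (f : α → P) (hinvol : ∀ x ∈ coxNodes edges, f x * f x = 1) (r : FreeGroup α) :
    FreeGroup.lift f r = wp (ltOf dec f) (toLetters code r) := by
  conv_lhs => rw [← FreeGroup.mk_toWord (x := r)]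
  rw [FreeGroup.lift_mk]
  unfold wp toLetters
  rw [List.map_map]
  congr 1
  apply List.map_congr_left
  intro p _
  exact (ltOf_code O f hinvol p).symm

theorem ltOf_inv {P : Type*} [Group P] (O : PresOK edges extra code dec inv L gens pairs relW)
    (f : α → P) (hinvol : ∀ x ∈ coxNodes edges, f x * f x = 1) (y : Nat) (hy : y < L) :
    ltOf dec f (inv y) = (ltOf dec f y)⁻¹ := by
  rcases (O.inv_ok y hy).2.2 with h | ⟨hx, h, hb⟩
  · unfold ltOf
    rw [h]
    cases (dec y).2 with
    | true => rfl
    | false => simp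
  · rw [h]
    unfold ltOf
    rw [hb]
    show f (dec y).1 = (f (dec y).1)⁻¹
    exact eq_inv_of_mul_eq_one_left (hinvol _ hx)

/-- the presented group. -/
abbrev Grp (edges : List (α × ℕ × α)) (extra : List (FreeGroup α)) : Type :=
  PresentedGroup (coxRelators edges ∪ {r | r ∈ extra})

/-- letters in the presented group. -/
noncomputable def ltG (edges : List (α × ℕ × α)) (extra : List (FreeGroup α))
    (dec : Nat → α × Bool) : Nat → Grp edges extra :=
  ltOf dec (fun x => (PresentedGroup.of x : Grp edges extra))

theorem invol_G (edges : List (α × ℕ × α)) (extra : List (FreeGroup α)) (x : α)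
    (hx : x ∈ coxNodes edges) :
    (PresentedGroup.of x : Grp edges extra) * PresentedGroup.of x = 1 := by
  have h : (FreeGroup.of x * FreeGroup.of x) ^ coxLabel edges x x ∈
      (coxRelators edges ∪ {r | r ∈ extra} : Set (FreeGroup α)) :=
    Or.inl ⟨x, hx, x, hx, rfl⟩
  have h1 := PresentedGroup.one_of_mem h
  rw [coxLabel_self, pow_one, map_mul] at h1
  exact h1

theorem lift_of_eq_mk (edges : List (α × ℕ × α)) (extra : List (FreeGroup α)) (r : FreeGroup α) :
    FreeGroup.lift (fun x => (PresentedGroup.of x : Grp edges extra)) r =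
      PresentedGroup.mk (coxRelators edges ∪ {r | r ∈ extra}) r :=
  (FreeGroup.lift_unique (PresentedGroup.mk (coxRelators edges ∪ {r | r ∈ extra}))
    (fun _ => rfl)).symm

theorem mk_eq_wp (O : PresOK edges extra code dec inv L gens pairs relW) (r : FreeGroup α) :
    PresentedGroup.mk (coxRelators edges ∪ {r | r ∈ extra}) r =
      wp (ltG edges extra dec) (toLetters code r) := by
  rw [← lift_of_eq_mk]
  exact lift_eq_wp O _ (invol_G edges extra) r

theorem ltG_inv (O : PresOK edges extra code dec inv L gens pairs relW) (y : Nat) (hy : y < L) :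
    ltG edges extra dec (inv y) = (ltG edges extra dec y)⁻¹ :=
  ltOf_inv O _ (invol_G edges extra) y hy

theorem src_mem (O : PresOK edges extra code dec inv L gens pairs relW) (r : FreeGroup α)
    (hr : r ∈ coxSrc edges pairs ++ extra) :
    r ∈ (coxRelators edges ∪ {r | r ∈ extra} : Set (FreeGroup α)) := by
  rcases List.mem_append.mp hr with h | h
  · unfold coxSrc at h
    obtain ⟨p, hp, rfl⟩ := List.mem_map.mp h
    exact Or.inl ⟨p.1, (O.pairs_nodes p hp).1, p.2, (O.pairs_nodes p hp).2, rfl⟩
  · exact Or.inr h

theorem relG (O : PresOK edges extra code dec inv L gens pairs relW) (w : List Nat)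
    (hw : w ∈ relW) : wp (ltG edges extra dec) w = 1 := by
  rw [← O.rel_words] at hw
  obtain ⟨r, hr, rfl⟩ := List.mem_map.mp hw
  rw [← mk_eq_wp O r]
  exact PresentedGroup.one_of_mem (src_mem O r hr)

theorem genG (O : PresOK edges extra code dec inv L gens pairs relW) :
    Subgroup.closure ((ltG edges extra dec) '' {y | y < L}) = ⊤ := by
  rw [eq_top_iff, ← PresentedGroup.closure_range_of, Subgroup.closure_le]
  rintro g ⟨x, rfl⟩
  apply Subgroup.subset_closure
  refine ⟨code (x, true), (O.code_true x (O.gens_all x)).1, ?_⟩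
  unfold ltG
  rw [ltOf_code O _ (invol_G edges extra) (x, true)]
  rfl

/-- universal property in terms of letters. -/
theorem exists_hom (O : PresOK edges extra code dec inv L gens pairs relW) {P : Type*} [Group P]
    (ltP : Nat → P) (hI : ∀ y, y < L → ltP (inv y) = (ltP y)⁻¹)
    (hR : ∀ w ∈ relW, wp ltP w = 1) :
    ∃ φ : Grp edges extra →* P, ∀ y, y < L → φ (ltG edges extra dec y) = ltP y := by
  let f : α → P := fun x => ltP (code (x, true))
  have hinvol : ∀ x ∈ coxNodes edges, f x * f x = 1 := by
    intro x hx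
    have h1 := hI (code (x, true)) (O.code_true x (O.gens_all x)).1
    rw [O.node_inv x hx] at h1
    show ltP (code (x, true)) * ltP (code (x, true)) = 1
    nth_rewrite 1 [h1]
    exact inv_mul_cancel _
  have hlt : ∀ y, y < L → ltOf dec f y = ltP y := by
    intro y hy
    have hc := O.dec_code y hy
    unfold ltOf
    rcases hb : dec y with ⟨x, b⟩
    cases b with
    | true =>
      show ltP (code (x, true)) = ltP y
      rw [← hb, hc]
    | false =>
      show (ltP (code (x, true)))⁻¹ = ltP y
      rcases (O.inv_ok y hy).2.2 with h | ⟨_, _, h⟩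
      · rw [hb] at h
        have h2 : code (x, true) = inv y := by
          have := O.dec_code (inv y) (O.inv_ok y hy).1
          rw [h] at this
          exact this
        rw [h2, hI y hy, inv_inv]
      · rw [hb] at h
        exact absurd h Bool.false_ne_true
  have hsrc : ∀ r ∈ coxSrc edges pairs ++ extra, FreeGroup.lift f r = 1 := by
    intro r hr
    rw [lift_eq_wp O f hinvol r]
    have hw : toLetters code r ∈ relW := by
      rw [← O.rel_words]
      exact List.mem_map_of_mem hr
    rw [wp_congr _ ltP _ (fun y hy => hlt y (O.rel_letters _ hw y hy))]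
    exact hR _ hw
  have hrel : ∀ r ∈ (coxRelators edges ∪ {r | r ∈ extra} : Set (FreeGroup α)),
      FreeGroup.lift f r = 1 := by
    rintro r (⟨x, hx, y, hy, rfl⟩ | hr)
    · rcases O.pairs_all x hx y hy with e | e | e
      · subst e
        rw [coxLabel_self, pow_one, map_mul, FreeGroup.lift_apply_of]
        exact hinvol x hx
      · apply hsrc
        apply List.mem_append_left
        unfold coxSrc
        exact List.mem_map_of_mem (f := fun p : α × α =>
          (FreeGroup.of p.1 * FreeGroup.of p.2) ^ coxLabel edges p.1 p.2) e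
      · have h1 : FreeGroup.lift f ((FreeGroup.of y * FreeGroup.of x) ^ coxLabel edges y x) = 1 := by
          apply hsrc
          apply List.mem_append_left
          unfold coxSrc
          exact List.mem_map_of_mem (f := fun p : α × α =>
            (FreeGroup.of p.1 * FreeGroup.of p.2) ^ coxLabel edges p.1 p.2) e
        rw [map_pow, map_mul, FreeGroup.lift_apply_of, FreeGroup.lift_apply_of] at h1 ⊢
        rw [O.label_symm x hx y hy]
        exact pow_comm_eq_one _ _ _ h1
    · exact hsrc r (List.mem_append_right _ hr)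
  refine ⟨PresentedGroup.toGroup hrel, ?_⟩
  intro y hy
  rw [← hlt y hy]
  unfold ltG ltOf
  cases (dec y).2 with
  | true => exact PresentedGroup.toGroup.of hrel
  | false =>
    show PresentedGroup.toGroup hrel (PresentedGroup.of (dec y).1)⁻¹ = (f (dec y).1)⁻¹
    rw [map_inv, PresentedGroup.toGroup.of hrel]

/-- the subgroup generated by the images of a list of words, in letter form. -/
theorem map_closure_eq (O : PresOK edges extra code dec inv L gens pairs relW)
    (S : Set (FreeGroup α)) (sgSrc : List (FreeGroup α)) (hS : S = {s | s ∈ sgSrc})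
    (sgW : List (List Nat)) (hsg : sgSrc.map (toLetters code) = sgW) :
    (Subgroup.closure S).map (PresentedGroup.mk (coxRelators edges ∪ {r | r ∈ extra})) =
      Subgroup.closure ((wp (ltG edges extra dec)) '' {w | w ∈ sgW}) := by
  rw [MonoidHom.map_closure]
  congr 1
  ext g
  constructor
  · rintro ⟨s, hs, rfl⟩
    rw [hS] at hs
    refine ⟨toLetters code s, ?_, (mk_eq_wp O s).symm⟩
    rw [← hsg]
    exact List.mem_map_of_mem hs
  · rintro ⟨w, hw, rfl⟩
    rw [← hsg] at hw
    obtain ⟨s, hs, rfl⟩ := List.mem_map.mp hw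
    refine ⟨s, ?_, mk_eq_wp O s⟩
    rw [hS]
    exact hs

end pres

/-! ### certificate words -/

/-- all relator-like words: relators, their inverses, and the trivial words `y y⁻¹`. -/
def relAll (inv : Nat → Nat) (L : Nat) (relW : List (List Nat)) : List (List Nat) :=
  relW ++ relW.map (invw inv) ++ (List.range L).map (fun y => [y, inv y])

/-- all subgroup words: generators and their inverses. -/
def sgAll (inv : Nat → Nat) (sgW : List (List Nat)) : List (List Nat) :=
  sgW ++ sgW.map (invw inv)

/-- check of one certificate word against the word lists (`h` is a hint: index and rotation). -/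
def certOK (rA sA : List (List Nat)) (L : Nat) (c : Cert) (h : Nat × Nat) : Bool :=
  c.pre.all (fun y => decide (y < L)) && c.post.all (fun y => decide (y < L)) &&
    (match c.kind with
    | 0 => decide ((nthD [] rA h.1).rotate h.2 = c.gap :: c.post)
    | 1 => decide (c.pre ++ c.gap :: c.post ∈ sA)
    | 2 => decide ((nthD [] rA h.1).rotate h.2 = c.post)
    | 3 => decide (c.pre ++ c.post ∈ sA)
    | _ => true)

/-- check of all certificate words. -/
def certsOK (rA sA : List (List Nat)) (L : Nat) : List Cert → List (Nat × Nat) → Bool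
  | [], _ => true
  | _ :: _, [] => false
  | c :: cs, h :: hs => certOK rA sA L c h && certsOK rA sA L cs hs

theorem relAll_one {P : Type*} [Group P] (lt : Nat → P) (inv : Nat → Nat) (L : Nat)
    (relW : List (List Nat)) (hI : ∀ y, y < L → lt (inv y) = (lt y)⁻¹)
    (hL : ∀ w ∈ relW, ∀ y ∈ w, y < L) (hR : ∀ w ∈ relW, wp lt w = 1) :
    ∀ w ∈ relAll inv L relW, wp lt w = 1 := by
  intro w hw
  unfold relAll at hw
  rcases List.mem_append.mp hw with h | h
  · rcases List.mem_append.mp h with h | h
    · exact hR w h
    · obtain ⟨u, hu, rfl⟩ := List.mem_map.mp h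
      rw [wp_invw lt inv L hI u (hL u hu), hR u hu, inv_one]
  · obtain ⟨y, hy, rfl⟩ := List.mem_map.mp h
    rw [wp_cons, wp_cons, wp_nil, mul_one, hI y (List.mem_range.mp hy), mul_inv_cancel]

theorem sgAll_mem {P : Type*} [Group P] (H : Subgroup P) (lt : Nat → P) (inv : Nat → Nat) (L : Nat)
    (sgW : List (List Nat)) (hI : ∀ y, y < L → lt (inv y) = (lt y)⁻¹)
    (hL : ∀ w ∈ sgW, ∀ y ∈ w, y < L) (hS : ∀ w ∈ sgW, wp lt w ∈ H) :
    ∀ w ∈ sgAll inv sgW, wp lt w ∈ H := by
  intro w hw
  unfold sgAll at hw
  rcases List.mem_append.mp hw with h | h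
  · exact hS w h
  · obtain ⟨u, hu, rfl⟩ := List.mem_map.mp h
    rw [wp_invw lt inv L hI u (hL u hu)]
    exact H.inv_mem (hS u hu)

theorem nthD_rel {P : Type*} [Group P] (lt : Nat → P) (rA : List (List Nat))
    (hR : ∀ w ∈ rA, wp lt w = 1) (j k : Nat) : wp lt ((nthD [] rA j).rotate k) = 1 := by
  have h1 : wp lt (nthD [] rA j) = 1 := by
    by_cases hj : j < rA.length
    · exact hR _ (nthD_mem [] rA j hj)
    · rw [nthD_of_length_le [] rA j (by omega)]; rfl
  unfold wp at h1 ⊢
  rw [List.map_rotate]
  exact List.prod_rotate_eq_one_of_prod_eq_one h1 k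

theorem certOK_good {P : Type*} [Group P] (H : Subgroup P) (lt : Nat → P) (rA sA : List (List Nat))
    (L : Nat) (hR : ∀ w ∈ rA, wp lt w = 1) (hS : ∀ w ∈ sA, wp lt w ∈ H) (c : Cert) (h : Nat × Nat)
    (hc : certOK rA sA L c h = true) : CertGood H lt L c := by
  unfold certOK at hc
  rw [Bool.and_eq_true, Bool.and_eq_true, List.all_eq_true, List.all_eq_true] at hc
  obtain ⟨⟨h1, h2⟩, h3⟩ := hc
  refine ⟨fun y hy => of_decide_eq_true (h1 y hy), fun y hy => of_decide_eq_true (h2 y hy),
    ?_, ?_, ?_, ?_⟩
  · intro hk
    rw [hk] at h3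
    have := of_decide_eq_true h3
    rw [← this]
    exact nthD_rel lt rA hR _ _
  · intro hk
    rw [hk] at h3
    exact hS _ (of_decide_eq_true h3)
  · intro hk
    rw [hk] at h3
    have := of_decide_eq_true h3
    rw [← this]
    exact nthD_rel lt rA hR _ _
  · intro hk
    rw [hk] at h3
    exact hS _ (of_decide_eq_true h3)

theorem certsOK_good {P : Type*} [Group P] (H : Subgroup P) (lt : Nat → P)
    (rA sA : List (List Nat)) (L : Nat) (hR : ∀ w ∈ rA, wp lt w = 1) (hS : ∀ w ∈ sA, wp lt w ∈ H)
    (certs : List Cert) (hints : List (Nat × Nat)) (hc : certsOK rA sA L certs hints = true) :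
    ∀ c ∈ certs, CertGood H lt L c := by
  induction certs generalizing hints with
  | nil => intro c hc'; simp at hc'
  | cons c cs ih =>
    cases hints with
    | nil => exact absurd hc (by simp [certsOK])
    | cons h hs =>
      have hc' : (certOK rA sA L c h && certsOK rA sA L cs hs) = true := hc
      rw [Bool.and_eq_true] at hc'
      intro c' hc''
      rcases List.mem_cons.mp hc'' with e | e
      · rw [e]; exact certOK_good H lt rA sA L hR hS c h hc'.1
      · exact ih hs hc'.2 c' e

end Cfsg.Agent.Lib.Helper28.TCPres
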