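import Cfsg.Agent.Lib.Helper28.OrdChain
import Cfsg.Agent.Lib.Helper28.TCPres

/-!
Steps of an order bound along a chain of subgroups of presented groups.
-/

set_option autoImplicit false

namespace Cfsg.Agent.Lib.Helper28.ChainStep

open Cfsg.Spor Cfsg.Agent.Lib.Helper28.TCPres

theorem chain_step {G P : Type*} [Group G] [Group P] (H : Subgroup G) (n m : Nat)
    (hidx : H.index = n) (hn : 0 < n) (F : P →* G) (hF : F.range = H)
    (hP : Finite P ∧ Nat.card P ≤ m) : Finite G ∧ Nat.card G ≤ n * m := by
  obtain ⟨hfin, hcard⟩ := hP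
  subst hF
  obtain ⟨h1, h2⟩ := OrdChain.card_range_le F m hcard
  exact OrdChain.card_le_of_index F.range n m hidx hn h1 h2

theorem chain_bottom {G : Type*} [Group G] (H : Subgroup G) (n : Nat) (hidx : H.index = n)
    (hn : 0 < n) (x : G) (hx : x * x = 1) (hH : H = Subgroup.closure {x}) :
    Finite G ∧ Nat.card G ≤ n * 2 := by
  have hz : H = Subgroup.zpowers x := by rw [hH, Subgroup.zpowers_eq_closure]
  have h2 : x ^ 2 = 1 := by rw [pow_two]; exact hx
  have hdvd : orderOf x ∣ 2 := orderOf_dvd_of_pow_eq_one h2
  have hle : orderOf x ≤ 2 := Nat.le_of_dvd (by norm_num) hdvd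
  have hpos : 0 < orderOf x := Nat.pos_of_dvd_of_pos hdvd (by norm_num)
  have hcard : Nat.card H = orderOf x := by rw [hz]; exact Nat.card_zpowers x
  have hfin : Finite H := Nat.finite_of_card_ne_zero (by rw [hcard]; omega)
  exact OrdChain.card_le_of_index H n 2 hidx hn hfin (by rw [hcard]; exact hle)

/-- the image of the subgroup generated by one generator. -/
theorem map_single {α : Type} [DecidableEq α] (edges : List (α × ℕ × α))
    (extra : List (FreeGroup α)) (x : α) :
    (Subgroup.closure {s | s ∈ [FreeGroup.of x]}).map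
        (PresentedGroup.mk (coxRelators edges ∪ {r | r ∈ extra})) =
      Subgroup.closure {(PresentedGroup.of x : Grp edges extra)} := by
  rw [MonoidHom.map_closure]
  congr 1
  ext g
  constructor
  · rintro ⟨s, hs, rfl⟩
    have : s = FreeGroup.of x := by simpa using hs
    rw [this]; rfl
  · intro hg
    rw [Set.mem_singleton_iff] at hg
    exact ⟨FreeGroup.of x, by simp, hg.symm⟩

end Cfsg.Agent.Lib.Helper28.ChainStep
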