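import Mathlib
import Cfsg.Agent.Lib.Helper89.DSStmt

/-! # S0508 piece SINV: in a dihedral group the elements outside a cyclic subgroup of index 2 are
involutions inverting it -/

set_option autoImplicit false
set_option linter.style.haveILetI false

namespace Cfsg.Agent.Lib.Helper28.DSSINV

universe u

open DihedralGroup

/-- the statement inside `DihedralGroup n` -/
theorem dih (n : ℕ) (hn : 2 ≤ n) (B : Subgroup (DihedralGroup n)) (hcyc : IsCyclic ↥B)
    (hidx : B.index = 2) (y : DihedralGroup n) (hy : y ∉ B) :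
    y * y = 1 ∧ ∀ x ∈ B, y * x * y⁻¹ = x⁻¹ := by
  rcases Nat.lt_or_ge n 3 with h3 | h3
  · have h2 : n = 2 := by omega
    subst h2
    have key : ∀ y x : DihedralGroup 2, y * y = 1 ∧ y * x * y⁻¹ = x⁻¹ := by decide
    exact ⟨(key y 1).1, fun x _ => (key y x).2⟩
  · have hcardB : Nat.card ↥B = n := by
      have := Subgroup.card_mul_index B
      rw [hidx, DihedralGroup.nat_card] at this
      omega
    obtain ⟨g, hg⟩ := IsCyclic.exists_generator (α := ↥B)
    have hord : orderOf (g : DihedralGroup n) = n := by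
      rw [Subgroup.orderOf_coe, orderOf_eq_card_of_forall_mem_zpowers hg, hcardB]
    obtain ⟨k, hk⟩ : ∃ k, (g : DihedralGroup n) = r k := by
      rcases hgv : (g : DihedralGroup n) with k | k
      · exact ⟨k, rfl⟩
      · rw [hgv, orderOf_sr] at hord
        omega
    have hrot : ∀ x ∈ B, ∃ i, x = r i := by
      intro x hx
      obtain ⟨m, hm⟩ := Subgroup.mem_zpowers_iff.mp (hg ⟨x, hx⟩)
      have h1 := congrArg Subtype.val hm
      simp only [Subgroup.coe_zpow] at h1
      rw [hk, r_zpow] at h1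
      exact ⟨_, h1.symm⟩
    have hsr : ∀ j, (sr j : DihedralGroup n) ∉ B := by
      intro j hj
      obtain ⟨i, hi⟩ := hrot _ hj
      cases hi
    obtain ⟨j, rfl⟩ : ∃ j, y = sr j := by
      rcases y with j | j
      · exfalso
        have h1 : r j * sr 0 ∈ B :=
          (Subgroup.mul_mem_iff_of_index_two hidx).mpr ⟨fun h => absurd h hy, fun h => absurd h (hsr 0)⟩
        rw [r_mul_sr] at h1
        exact hsr _ h1
      · exact ⟨j, rfl⟩
    refine ⟨sr_mul_self j, ?_⟩
    intro x hx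
    obtain ⟨i, rfl⟩ := hrot x hx
    rw [inv_sr, sr_mul_r, sr_mul_sr, inv_r]
    congr 1
    ring

theorem main : Cfsg.Agent.Lib.Helper89.DSStmt.SInv.{u} := by
  intro G _ S A n hn ⟨e⟩ hAS hcyc hrel s hs hsA
  let A₀ : Subgroup ↥S := A.subgroupOf S
  let B : Subgroup (DihedralGroup n) := A₀.map (e : ↥S →* DihedralGroup n)
  have hBidx : B.index = 2 := by
    rw [Subgroup.index_map_equiv]
    exact hrel
  have hBcyc : IsCyclic ↥B := by
    have e1 : ↥A ≃* ↥A₀ := (Subgroup.subgroupOfEquivOfLe hAS).symm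
    have e2 : ↥A₀ ≃* ↥B := e.subgroupMap A₀
    haveI := hcyc
    exact isCyclic_of_surjective (e1.trans e2) (e1.trans e2).surjective
  have hmemB : ∀ x : ↥S, e x ∈ B ↔ (x : G) ∈ A := by
    intro x
    constructor
    · rintro ⟨x', hx', hxx⟩
      have hxe : x' = x := e.injective hxx
      subst hxe
      exact Subgroup.mem_subgroupOf.mp hx'
    · intro hx
      exact ⟨x, Subgroup.mem_subgroupOf.mpr hx, rfl⟩
  have hy : e ⟨s, hs⟩ ∉ B := fun h => hsA ((hmemB _).mp h)
  obtain ⟨h1, h2⟩ := dih n hn B hBcyc hBidx (e ⟨s, hs⟩) hy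
  refine ⟨?_, ?_⟩
  · have h3 : e (⟨s, hs⟩ * ⟨s, hs⟩) = e 1 := by
      rw [map_mul, map_one]
      exact h1
    exact congrArg Subtype.val (e.injective h3)
  · intro a ha
    have hxB : e ⟨a, hAS ha⟩ ∈ B := (hmemB _).mpr ha
    have h3 := h2 _ hxB
    have h4 : e (⟨s, hs⟩ * ⟨a, hAS ha⟩ * ⟨s, hs⟩⁻¹) = e (⟨a, hAS ha⟩⁻¹) := by
      rw [map_mul, map_mul, map_inv, map_inv]
      exact h3
    exact congrArg Subtype.val (e.injective h4)

end Cfsg.Agent.Lib.Helper28.DSSINV
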