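import Cfsg.Agent.Lib.Helper28.DxStmt
import Cfsg.Agent.Lib.Helper52.TT3S5

/-!
The piece `Fin5` of `DxStmt`: the identification with the symmetric group of degree 5.
-/

set_option autoImplicit false

namespace Cfsg.Agent.Lib.Helper28.DxFIN5

open Cfsg Cfsg.Agent.Lib.Helper21.W3Class Cfsg.Agent.Lib.Helper28 Cfsg.Agent.Lib.Helper28.DxStmt

universe u

theorem main : Fin5.{u} := by
  intro G _ _ D hD T hL hmu
  have hconj : ∀ g : G, ∀ d ∈ D, g * d * g⁻¹ ∈ D := T.conj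
  obtain ⟨d, hd, -⟩ := T.w
  obtain ⟨a, b, ha, hb, hab⟩ := Cfsg.Agent.Lib.Helper52.TT3Basic.Pt_exists_pair hL hd
  have hdPa : d ∈ Pt D a := Cfsg.Agent.Lib.Helper52.TT3Basic.Pt_symm hd ha
  obtain ⟨u, v, hu, hv, huv⟩ := Cfsg.Agent.Lib.Helper52.TT3Basic.Pt_exists_pair hL ha.1
  obtain ⟨x, hx, hxd⟩ : ∃ x, x ∈ Pt D a ∧ x ≠ d := by
    by_cases h : u = d
    · refine ⟨v, hv, ?_⟩
      intro h'
      apply huv
      rw [h, h']
    · exact ⟨u, hu, h⟩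
  have hxb : ¬ Commute x b := by
    intro hxb
    have h1 : d ∈ Mu D a b := ⟨hd, hdPa.2.2, hb.2.2.symm⟩
    have h2 : x ∈ Mu D a b := ⟨hx.1, hx.2.2, hxb.symm⟩
    have h3 := hmu a ha.1 b hb.1 hab
    rw [Set.ncard_eq_one] at h3
    obtain ⟨z, hz⟩ := h3
    rw [hz] at h1 h2
    exact hxd ((Set.mem_singleton_iff.mp h2).trans (Set.mem_singleton_iff.mp h1).symm)
  have hd2 := Cfsg.Agent.Lib.Helper21.W3Apps.tt_sq hD hd
  have hx2 := Cfsg.Agent.Lib.Helper21.W3Apps.tt_sq hD hx.1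
  have hb2 := Cfsg.Agent.Lib.Helper21.W3Apps.tt_sq hD hb.1
  have ha2 := Cfsg.Agent.Lib.Helper21.W3Apps.tt_sq hD ha.1
  have hdx : ¬ Commute d x :=
    Cfsg.Agent.Lib.Helper52.TT3Basic.Pt_noncomm hD hL ha.1 hdPa hx (fun h => hxd h.symm)
  obtain ⟨φ, h0, h1, h2, h3⟩ := Cfsg.Agent.Lib.Helper52.TT3S5.exists_hom5 d x b a hd2 hx2 hb2 ha2
    (Cfsg.Agent.Lib.Helper52.TT3Basic.cube_of_not_comm hD hd hx.1 hdx)
    (Cfsg.Agent.Lib.Helper52.TT3Basic.cube_of_not_comm hD hx.1 hb.1 hxb)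
    (Cfsg.Agent.Lib.Helper52.TT3Basic.cube_of_not_comm hD hb.1 ha.1 (fun h => hab h.symm))
    hb.2.2 ha.2.2 hx.2.2.symm
  have hinj : Function.Injective φ := by
    apply Cfsg.Agent.Lib.Helper52.TT3S5.inj5 φ
    rw [h0, h1]
    intro h
    apply hdx
    rw [h]
  exact Cfsg.Agent.Lib.Helper52.TT3S5.iso5 hD hL hconj φ hinj (by rw [h0]; exact hd)

end Cfsg.Agent.Lib.Helper28.DxFIN5
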