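import Mathlib
import Cfsg.Agent.Lib.Helper45.EOStmt
import Cfsg.Agent.Lib.Helper28.MOGEO2
import Cfsg.Agent.Lib.Helper28.MOGE3
import Cfsg.Agent.Lib.Helper99.MOVALCLASS
import Cfsg.Agent.Lib.Helper99.MOCLAIMR

/-! # S2264 piece LCMB (call of helper45), from the landed `ClaimR` of helper46's call -/

set_option autoImplicit false

namespace Cfsg.Agent.Lib.Helper28.EOLCMB

open Cfsg.Agent.Lib.Helper45.EOStmt

theorem claimR : Cfsg.Agent.Lib.Helper46.MOStmt.ClaimR :=
  Cfsg.Agent.Lib.Helper99.MOCLAIMR.main Cfsg.Agent.Lib.Helper28.MOGEO2.main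
    (Cfsg.Agent.Lib.Helper99.MOVALCLASS.main Cfsg.Agent.Lib.Helper28.MOGE3.main)

theorem main : Ferm → LcmB := by
  intro _ q D hq hD
  have h := claimR q D hq (fun b hb => hD b hb)
  have e : D.sum id + 1 = 1 + ∑ b ∈ D, b := by
    simp only [id]
    omega
  rw [e]
  unfold SB
  omega

end Cfsg.Agent.Lib.Helper28.EOLCMB
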