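import Cfsg.Agent.Lib.Helper28.SGS
import Cfsg.Agent.Lib.Helper28.T1687LT
import Cfsg.Agent.Lib.Helper28.F22SD0

set_option autoImplicit false

namespace Cfsg.Agent.Lib.Helper28.F22ST

open Cfsg.Agent.Lib.Helper28.TCKernel Cfsg.Agent.Lib.Helper28.SGS

def x0top : List (List Nat) := [F22SD0.x0g0]
def x1top : List (List Nat) := [F22SD0.x1g0]
def x2top : List (List Nat) := [F22SD0.x2g0]
def x3top : List (List Nat) := [F22SD0.x3g0]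
def x4top : List (List Nat) := [F22SD0.x4g0]
def x5top : List (List Nat) := [F22SD0.x5g0]
def x6top : List (List Nat) := [F22SD0.x6g0]
def x7top : List (List Nat) := [F22SD0.x7g0]
def x8top : List (List Nat) := [F22SD0.x8g0]
def x9top : List (List Nat) := [F22SD0.x9g0]
def x10top : List (List Nat) := [F22SD0.x10g0]
def x11top : List (List Nat) := [F22SD0.x11g0]
def x12top : List (List Nat) := [F22SD0.x12g0]
def x13top : List (List Nat) := [F22SD0.x13g0]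
def x14top : List (List Nat) := [F22SD0.x14g0]
def x15top : List (List Nat) := [F22SD0.x15g0]
def x16top : List (List Nat) := [F22SD0.x16g0]
def x17top : List (List Nat) := [F22SD0.x17g0]
def x18top : List (List Nat) := [F22SD0.x18g0]
def x19top : List (List Nat) := [F22SD0.x19g0]
def x20top : List (List Nat) := [F22SD0.x20g0]
def x21top : List (List Nat) := [F22SD0.x21g0]
def x22top : List (List Nat) := [F22SD0.x22g0]
def x23top : List (List Nat) := [F22SD0.x23g0]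
def x24top : List (List Nat) := [F22SD0.x24g0]
def x25top : List (List Nat) := [F22SD0.x25g0]
def x26top : List (List Nat) := [F22SD0.x26g0]
def x27top : List (List Nat) := [F22SD0.x27g0]
def x28top : List (List Nat) := [F22SD0.x28g0]
def x29top : List (List Nat) := [F22SD0.x29g0]
def x30top : List (List Nat) := [F22SD0.x30g0]
def x31top : List (List Nat) := [F22SD0.x31g0]
def x32top : List (List Nat) := [F22SD0.x32g0]
def x33top : List (List Nat) := [F22SD0.x33g0]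
def x34top : List (List Nat) := [F22SD0.x34g0]
def x35top : List (List Nat) := [F22SD0.x35g0]
def x36top : List (List Nat) := [F22SD0.x36g0]
def x37top : List (List Nat) := [F22SD0.x37g0]
def x38top : List (List Nat) := [F22SD0.x38g0]
def x39top : List (List Nat) := [F22SD0.x39g0]
def x40top : List (List Nat) := [F22SD0.x40g0]
def x41top : List (List Nat) := [F22SD0.x41g0]
def x42top : List (List Nat) := [F22SD0.x42g0]
def x43top : List (List Nat) := [F22SD0.x43g0]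
def x44top : List (List Nat) := [F22SD0.x44g0]
def x45top : List (List Nat) := [F22SD0.x45g0]
def x46top : List (List Nat) := [F22SD0.x46g0]
def x47top : List (List Nat) := [F22SD0.x47g0]
def x48top : List (List Nat) := [F22SD0.x48g0]
def xq0 : List (List (List Nat)) := [x0top, x1top, x2top, x3top, x4top, x5top, x6top, x7top]
def xq1 : List (List (List Nat)) := [x8top, x9top, x10top, x11top, x12top, x13top, x14top, x15top]
def xq2 : List (List (List Nat)) := [x16top, x17top, x18top, x19top, x20top, x21top, x22top, x23top]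
def xq3 : List (List (List Nat)) := [x24top, x25top, x26top, x27top, x28top, x29top, x30top, x31top]
def xq4 : List (List (List Nat)) := [x32top, x33top, x34top, x35top, x36top, x37top, x38top, x39top]
def xq5 : List (List (List Nat)) := [x40top, x41top, x42top, x43top, x44top, x45top, x46top, x47top]
def xq6 : List (List (List Nat)) := [x48top]
def xtops : List (List (List (List Nat))) := [xq0, xq1, xq2, xq3, xq4, xq5, xq6]
def l0top : List (List Nat) := [F22SD0.l0g0]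
def l1top : List (List Nat) := [F22SD0.l1g0]
def l2top : List (List Nat) := [F22SD0.l2g0]
def l3top : List (List Nat) := [F22SD0.l3g0]
def l4top : List (List Nat) := [F22SD0.l4g0]
def ltops : List (List (List Nat)) := [l0top, l1top, l2top, l3top, l4top]
def xt : Nat → Nat → Nat := fld4z xtops 10 2 3 1023 12 4095
def rk : Nat → Nat → Nat := fld3 ltops 9 3 7 511 24 0 63
def par : Nat → Nat → Nat := fld3 ltops 9 3 7 511 24 6 4095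
def sy : Nat → Nat → Nat := fld3 ltops 9 3 7 511 24 18 63
def lvl : List Nat := [1, 1, 1, 1, 1, 1, 1, 1, 1, 2, 2, 2, 2, 2, 2, 2, 2, 2, 2, 3, 3, 3, 3, 3, 3, 3, 3, 3, 3, 4, 4, 4, 4, 4, 4, 4, 4, 4, 4, 5, 5, 5, 5, 5, 5, 5, 5, 5, 5]
def lv : Nat → Nat := nthD 0 lvl
def bsl : List Nat := [0, 1, 162, 17, 12]
def bs : Nat → Nat := nthD 0 bsl
def nsl : List Nat := [3510, 2816, 1680, 243, 16]
def ns : Nat → Nat := nthD 0 nsl
def defs : List (List Nat) := [[1, 2, 3, 4, 5, 6, 7, 3, 2, 1, 4, 3, 8, 7, 3, 2, 1, 0, 4, 5, 1, 5, 4, 0, 1, 2, 3, 7, 8, 3, 4, 1, 2, 3, 7, 6, 5, 4, 3, 2, 1],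
  [1, 2, 3, 4, 5, 6, 7, 3, 2, 1, 4, 3, 2, 5, 4, 8, 7, 3, 2, 1, 4, 3, 2, 7, 8, 6, 8, 7, 2, 3, 4, 1, 2, 3, 7, 8, 4, 5, 2, 3, 4, 1, 2, 3, 7, 6, 5, 4, 3, 2, 1],
  [1, 2, 3, 4, 5, 6, 7, 3, 2, 1, 4, 3, 5, 4, 8, 7, 3, 2, 1, 0, 4, 3, 2, 5, 4, 6, 7, 3, 8, 7, 3, 7, 8, 4, 3, 7, 6, 4, 5, 2, 3, 4, 1, 2, 3, 7, 8, 5, 3, 4, 1, 2, 3, 7, 6, 5, 4, 3, 2, 1],
  [1, 2, 3, 4, 5, 6, 7, 3, 2, 1, 4, 3, 2, 8, 7, 3, 2, 1, 4, 3, 5, 4, 6, 5, 0, 7, 4, 5, 2, 3, 4, 1, 2, 3, 7, 8, 3, 4, 1, 2, 3, 7, 6, 5, 4, 3, 2, 1],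
  [1, 0, 2, 1, 3, 2, 4, 5, 7, 8, 0, 8, 7, 5, 4, 2, 3, 1, 2, 0, 1],
  [15, 13, 15, 9, 15, 14, 17, 15, 13, 17, 10, 14, 16, 10, 13, 16, 13, 18],
  [13, 17, 14, 15, 14, 17, 15, 9, 13, 17, 12, 14, 10, 16, 18, 13, 16, 10, 14, 16],
  [9, 17, 15, 13, 9, 17, 15, 14, 9, 16, 10, 14, 12, 16, 14, 18],
  [13, 15, 13, 17, 13, 9, 17, 13, 16, 14, 10, 16, 13, 18, 13, 16, 13],
  [17, 14, 15, 13, 9, 17, 15, 14, 12, 13, 16, 18, 14, 18, 16, 13, 16],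
  [19, 25, 22, 23, 22, 19, 25, 20, 25],
  [24, 20, 25, 19, 22, 25, 28, 23, 20],
  [19, 19, 21, 21, 23, 26, 23, 21, 23, 20],
  [20, 22, 23, 26, 27, 19, 24, 22, 22],
  [23, 22, 20, 21, 20, 20, 20, 22, 28],
  [33, 30, 33, 37, 33],
  [31, 31, 34, 31, 36],
  [34, 36, 34, 37, 30, 34, 34],
  [37, 36, 37, 35, 33, 31, 29],
  [29, 36, 36, 32, 32, 29, 33]]
def prs : List (List Nat × List Nat) := [([0, 0], [0, 0]),
  ([0, 2], [2, 0]),
  ([0, 3], [3, 0]),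
  ([0, 4], [4, 0]),
  ([0, 5], [5, 0]),
  ([0, 6], [6, 0]),
  ([0, 7], [7, 0]),
  ([0, 8], [8, 0]),
  ([0, 0, 1, 2, 3, 4, 7, 0, 1, 2, 3, 4, 7, 0, 1, 2, 3, 4, 7, 0, 1, 2, 3, 4, 7, 0, 1, 2, 3, 4, 7], [0, 1, 2, 3, 4, 7, 0, 1, 2, 3, 4, 7, 0, 1, 2, 3, 4, 7, 0, 1, 2, 3, 4, 7, 0, 1, 2, 3, 4, 7, 0]),
  ([0, 0], []),
  ([0], [0]),
  ([1], [0, 1, 0, 1, 0]),
  ([2], [1, 2, 0, 1, 0, 1, 0, 2, 1]),
  ([3], [2, 3, 1, 2, 0, 1, 0, 1, 0, 2, 1, 3, 2]),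
  ([4], [3, 4, 2, 3, 1, 2, 0, 1, 0, 1, 0, 2, 1, 3, 2, 4, 3]),
  ([5], [4, 5, 3, 4, 2, 3, 1, 2, 0, 1, 0, 1, 0, 2, 1, 3, 2, 4, 3, 5, 4]),
  ([6], [5, 6, 4, 5, 3, 4, 2, 3, 1, 2, 0, 1, 0, 1, 0, 2, 1, 3, 2, 4, 3, 5, 4, 6, 5]),
  ([7], [3, 7, 2, 3, 1, 2, 0, 1, 0, 1, 0, 2, 1, 3, 2, 7, 3]),
  ([8], [7, 8, 3, 7, 2, 3, 1, 2, 0, 1, 0, 1, 0, 2, 1, 3, 2, 7, 3, 8, 7])]
def cj : List (List Nat) := [[],
  [0, 1],
  [1, 2, 0, 1],
  [2, 3, 1, 2, 0, 1],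
  [3, 4, 2, 3, 1, 2, 0, 1],
  [4, 5, 3, 4, 2, 3, 1, 2, 0, 1],
  [5, 6, 4, 5, 3, 4, 2, 3, 1, 2, 0, 1],
  [3, 7, 2, 3, 1, 2, 0, 1],
  [7, 8, 3, 7, 2, 3, 1, 2, 0, 1]]
def wodd : List Nat := [0, 1, 2, 3, 4, 5, 7, 0, 1, 2, 3, 4, 5, 7, 0, 1, 2, 3, 4, 5, 7, 0, 1, 2, 3, 4, 5, 7, 0, 1, 2, 3, 4, 5, 7, 0, 1, 2, 3, 4, 5, 7, 0, 1, 2, 3, 4, 5, 7, 0, 1, 2, 3, 4, 5, 7, 0, 1, 2, 3, 4, 5, 7]
def chkPt (p : Nat) : Bool :=
  ptOK xt T1687LT.tp rk par sy lv bs defs prs 9 5 3510 p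

end Cfsg.Agent.Lib.Helper28.F22ST
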