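import Cfsg.Agent.Lib.Helper28.SGS
import Cfsg.Agent.Lib.Helper28.T1689LT
import Cfsg.Agent.Lib.Helper28.F23SD0
import Cfsg.Agent.Lib.Helper28.F23SD1
import Cfsg.Agent.Lib.Helper28.F23SD2

set_option autoImplicit false

namespace Cfsg.Agent.Lib.Helper28.F23ST

open Cfsg.Agent.Lib.Helper28.TCKernel Cfsg.Agent.Lib.Helper28.SGS

def x0top : List (List Nat) := [F23SD0.x0g0]
def x1top : List (List Nat) := [F23SD0.x1g0]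
def x2top : List (List Nat) := [F23SD0.x2g0]
def x3top : List (List Nat) := [F23SD0.x3g0]
def x4top : List (List Nat) := [F23SD0.x4g0]
def x5top : List (List Nat) := [F23SD0.x5g0]
def x6top : List (List Nat) := [F23SD0.x6g0]
def x7top : List (List Nat) := [F23SD0.x7g0]
def x8top : List (List Nat) := [F23SD0.x8g0]
def x9top : List (List Nat) := [F23SD0.x9g0]
def x10top : List (List Nat) := [F23SD0.x10g0]
def x11top : List (List Nat) := [F23SD0.x11g0]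
def x12top : List (List Nat) := [F23SD0.x12g0]
def x13top : List (List Nat) := [F23SD0.x13g0]
def x14top : List (List Nat) := [F23SD0.x14g0]
def x15top : List (List Nat) := [F23SD0.x15g0]
def x16top : List (List Nat) := [F23SD0.x16g0]
def x17top : List (List Nat) := [F23SD0.x17g0]
def x18top : List (List Nat) := [F23SD0.x18g0]
def x19top : List (List Nat) := [F23SD0.x19g0]
def x20top : List (List Nat) := [F23SD0.x20g0]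
def x21top : List (List Nat) := [F23SD0.x21g0]
def x22top : List (List Nat) := [F23SD0.x22g0]
def x23top : List (List Nat) := [F23SD0.x23g0]
def x24top : List (List Nat) := [F23SD0.x24g0]
def x25top : List (List Nat) := [F23SD1.x25g0]
def x26top : List (List Nat) := [F23SD1.x26g0]
def x27top : List (List Nat) := [F23SD1.x27g0]
def x28top : List (List Nat) := [F23SD1.x28g0]
def x29top : List (List Nat) := [F23SD1.x29g0]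
def x30top : List (List Nat) := [F23SD1.x30g0]
def x31top : List (List Nat) := [F23SD1.x31g0]
def x32top : List (List Nat) := [F23SD1.x32g0]
def x33top : List (List Nat) := [F23SD1.x33g0]
def x34top : List (List Nat) := [F23SD1.x34g0]
def x35top : List (List Nat) := [F23SD1.x35g0]
def x36top : List (List Nat) := [F23SD1.x36g0]
def x37top : List (List Nat) := [F23SD1.x37g0]
def x38top : List (List Nat) := [F23SD1.x38g0]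
def x39top : List (List Nat) := [F23SD1.x39g0]
def x40top : List (List Nat) := [F23SD1.x40g0]
def x41top : List (List Nat) := [F23SD1.x41g0]
def x42top : List (List Nat) := [F23SD1.x42g0]
def x43top : List (List Nat) := [F23SD1.x43g0]
def x44top : List (List Nat) := [F23SD1.x44g0]
def x45top : List (List Nat) := [F23SD1.x45g0]
def x46top : List (List Nat) := [F23SD1.x46g0]
def x47top : List (List Nat) := [F23SD1.x47g0]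
def x48top : List (List Nat) := [F23SD1.x48g0]
def x49top : List (List Nat) := [F23SD1.x49g0]
def x50top : List (List Nat) := [F23SD2.x50g0]
def x51top : List (List Nat) := [F23SD2.x51g0]
def x52top : List (List Nat) := [F23SD2.x52g0]
def x53top : List (List Nat) := [F23SD2.x53g0]
def xq0 : List (List (List Nat)) := [x0top, x1top, x2top, x3top, x4top, x5top, x6top, x7top]
def xq1 : List (List (List Nat)) := [x8top, x9top, x10top, x11top, x12top, x13top, x14top, x15top]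
def xq2 : List (List (List Nat)) := [x16top, x17top, x18top, x19top, x20top, x21top, x22top, x23top]
def xq3 : List (List (List Nat)) := [x24top, x25top, x26top, x27top, x28top, x29top, x30top, x31top]
def xq4 : List (List (List Nat)) := [x32top, x33top, x34top, x35top, x36top, x37top, x38top, x39top]
def xq5 : List (List (List Nat)) := [x40top, x41top, x42top, x43top, x44top, x45top, x46top, x47top]
def xq6 : List (List (List Nat)) := [x48top, x49top, x50top, x51top, x52top, x53top]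
def xtops : List (List (List (List Nat))) := [xq0, xq1, xq2, xq3, xq4, xq5, xq6]
def l0top : List (List Nat) := [F23SD2.l0g0, F23SD2.l0g1]
def l1top : List (List Nat) := [F23SD2.l1g0, F23SD2.l1g1]
def l2top : List (List Nat) := [F23SD2.l2g0, F23SD2.l2g1]
def l3top : List (List Nat) := [F23SD2.l3g0, F23SD2.l3g1]
def l4top : List (List Nat) := [F23SD2.l4g0, F23SD2.l4g1]
def ltops : List (List (List Nat)) := [l0top, l1top, l2top, l3top, l4top]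
def xt : Nat → Nat → Nat := fld4z xtops 10 5 31 1023 15 32767
def rk : Nat → Nat → Nat := fld3 ltops 9 5 31 511 27 0 63
def par : Nat → Nat → Nat := fld3 ltops 9 5 31 511 27 6 32767
def sy : Nat → Nat → Nat := fld3 ltops 9 5 31 511 27 21 63
def lvl : List Nat := [1, 1, 1, 1, 1, 1, 1, 1, 1, 1, 2, 2, 2, 2, 2, 2, 2, 2, 2, 2, 3, 3, 3, 3, 3, 3, 3, 3, 3, 3, 4, 4, 4, 4, 4, 4, 4, 4, 4, 4, 5, 5, 5, 5, 5, 5, 5, 5, 5, 5, 1, 1, 1, 1]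
def lv : Nat → Nat := nthD 0 lvl
def bsl : List Nat := [0, 1, 203, 1230, 2]
def bs : Nat → Nat := nthD 0 bsl
def nsl : List Nat := [31671, 28160, 21840, 7776, 27]
def ns : Nat → Nat := nthD 0 nsl
def defs : List (List Nat) := [[7, 6, 5, 4, 3, 2, 1, 0, 8, 3, 2, 1, 4, 3, 2, 5, 6, 8, 3, 9, 8, 3, 2, 1, 4, 3, 2, 8, 3, 1, 3, 8, 2, 3, 4, 1, 2, 3, 8, 9, 3, 8, 6, 5, 2, 3, 4, 1, 2, 3, 8, 0, 1, 2, 3, 4, 5, 6, 7],
  [7, 6, 5, 4, 3, 2, 1, 0, 8, 3, 2, 1, 4, 3, 2, 5, 6, 8, 9, 8, 3, 2, 1, 4, 3, 2, 5, 4, 3, 6, 5, 7, 8, 3, 4, 9, 8, 3, 2, 3, 2, 3, 8, 9, 5, 4, 3, 8, 5, 6, 3, 4, 5, 2, 3, 4, 0, 1, 2, 3, 8, 9, 8, 6, 5, 2, 3, 4, 1, 2, 3, 8, 0, 1, 2, 3, 4, 5, 6, 7],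
  [7, 6, 5, 4, 3, 2, 1, 0, 8, 3, 2, 4, 3, 8, 9, 8, 3, 2, 4, 3, 5, 4, 8, 3, 7, 3, 8, 4, 5, 3, 4, 2, 3, 8, 9, 8, 3, 4, 2, 3, 8, 0, 1, 2, 3, 4, 5, 6, 7],
  [7, 6, 5, 4, 3, 2, 1, 0, 8, 3, 2, 1, 4, 3, 2, 5, 4, 9, 8, 3, 2, 1, 4, 3, 5, 4, 6, 8, 3, 2, 9, 8, 9, 8, 9, 2, 3, 8, 6, 4, 5, 3, 4, 1, 2, 3, 8, 9, 4, 5, 2, 3, 4, 1, 2, 3, 8, 0, 1, 2, 3, 4, 5, 6, 7],
  [7, 6, 5, 4, 3, 2, 1, 0, 8, 3, 2, 1, 4, 3, 5, 4, 9, 8, 3, 2, 1, 4, 3, 2, 5, 4, 3, 6, 5, 8, 3, 2, 1, 4, 5, 9, 7, 9, 4, 1, 2, 3, 8, 4, 5, 6, 3, 4, 5, 2, 3, 4, 1, 2, 3, 8, 9, 5, 3, 4, 1, 2, 3, 8, 0, 1, 2, 3, 4, 5, 6, 7],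
  [14, 18, 12, 14, 16, 12, 18, 12, 14, 16, 13, 19, 17, 13, 11, 19, 17, 15, 19, 13, 15],
  [12, 18, 10, 12, 10, 18, 16, 12, 10, 18, 12, 10, 19, 13, 11, 19, 11, 13, 15, 19, 13, 19, 13],
  [12, 18, 12, 16, 18, 12, 16, 18, 16, 12, 10, 16, 18, 11, 19, 13, 17, 15, 19, 13, 17, 19, 13, 15],
  [12, 18, 16, 12, 18, 12, 18, 12, 10, 16, 18, 14, 13, 11, 19, 17, 11, 13, 19, 11, 13, 19, 13, 11, 19],
  [12, 18, 16, 12, 18, 12, 16, 12, 14, 18, 12, 10, 19, 17, 19, 17, 13, 17, 11, 13, 19, 13, 19, 13],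
  [24, 22, 24, 24, 24, 23, 24, 21, 29, 25, 23],
  [22, 25, 29, 23, 24, 27, 23, 25, 23, 26, 22],
  [25, 20, 20, 20, 23, 23, 23, 28, 20, 24, 24, 20],
  [20, 23, 21, 27, 25, 27, 25, 21, 23, 28, 28],
  [20, 28, 23, 21, 25, 20, 27, 29, 22, 27, 21],
  [34, 39, 36, 36, 38, 37, 32, 30, 30, 30],
  [33, 33, 35, 37, 34, 31, 38, 33, 31, 32, 30],
  [30, 32, 39, 37, 35, 37, 37, 32, 39],
  [32, 34, 38, 36, 38, 38, 31, 31, 32, 32, 31],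
  [34, 33, 34, 36, 38, 36, 33, 38, 36, 34, 33],
  [1, 2, 3, 4, 5, 6, 8, 1, 2, 3, 4, 5, 6, 8, 1, 2, 3, 4, 5, 6, 8, 1, 2, 3, 4, 5, 6, 8, 1, 2, 3, 4, 5, 6, 8, 1, 2, 3, 4, 5, 6, 8, 1, 2, 3, 4, 5, 6, 8, 1, 2, 3, 4, 5, 6, 8, 1, 2, 3, 4, 5, 6, 8],
  [7, 6, 5, 4, 3, 2, 1, 8, 3, 2, 4, 3, 5, 4, 6, 5, 7, 6, 8, 3, 2, 4, 3, 5, 4, 8, 3, 2]]
def prs : List (List Nat × List Nat) := [([50, 0], [0, 50]),
  ([50, 1], [1, 50]),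
  ([50, 2], [2, 50]),
  ([50, 3], [3, 50]),
  ([50, 4], [4, 50]),
  ([50, 5], [5, 50]),
  ([50, 6], [6, 50]),
  ([50, 8], [8, 50]),
  ([50, 9], [9, 50]),
  ([50, 50], []),
  ([0], [1, 0, 53, 50, 52, 0, 1]),
  ([1, 0, 53, 52, 0, 1], []),
  ([1], [53, 50, 52]),
  ([53, 52], []),
  ([2], [1, 2, 53, 50, 52, 2, 1]),
  ([1, 2, 53, 52, 2, 1], []),
  ([3], [2, 3, 1, 2, 53, 50, 52, 2, 1, 3, 2]),
  ([2, 3, 1, 2, 53, 52, 2, 1, 3, 2], []),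
  ([4], [3, 4, 2, 3, 1, 2, 53, 50, 52, 2, 1, 3, 2, 4, 3]),
  ([3, 4, 2, 3, 1, 2, 53, 52, 2, 1, 3, 2, 4, 3], []),
  ([5], [4, 5, 3, 4, 2, 3, 1, 2, 53, 50, 52, 2, 1, 3, 2, 4, 3, 5, 4]),
  ([4, 5, 3, 4, 2, 3, 1, 2, 53, 52, 2, 1, 3, 2, 4, 3, 5, 4], []),
  ([6], [5, 6, 4, 5, 3, 4, 2, 3, 1, 2, 53, 50, 52, 2, 1, 3, 2, 4, 3, 5, 4, 6, 5]),
  ([5, 6, 4, 5, 3, 4, 2, 3, 1, 2, 53, 52, 2, 1, 3, 2, 4, 3, 5, 4, 6, 5], []),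
  ([7], [6, 7, 5, 6, 4, 5, 3, 4, 2, 3, 1, 2, 53, 50, 52, 2, 1, 3, 2, 4, 3, 5, 4, 6, 5, 7, 6]),
  ([6, 7, 5, 6, 4, 5, 3, 4, 2, 3, 1, 2, 53, 52, 2, 1, 3, 2, 4, 3, 5, 4, 6, 5, 7, 6], []),
  ([8], [3, 8, 2, 3, 1, 2, 53, 50, 52, 2, 1, 3, 2, 8, 3]),
  ([3, 8, 2, 3, 1, 2, 53, 52, 2, 1, 3, 2, 8, 3], []),
  ([9], [8, 9, 3, 8, 2, 3, 1, 2, 53, 50, 52, 2, 1, 3, 2, 8, 3, 9, 8]),
  ([8, 9, 3, 8, 2, 3, 1, 2, 53, 52, 2, 1, 3, 2, 8, 3, 9, 8], []),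
  ([50], [1, 2, 3, 4, 5, 6, 8, 1, 2, 3, 4, 5, 6, 8, 1, 2, 3, 4, 5, 6, 8, 1, 2, 3, 4, 5, 6, 8, 1, 2, 3, 4, 5, 6, 8, 1, 2, 3, 4, 5, 6, 8, 1, 2, 3, 4, 5, 6, 8, 1, 2, 3, 4, 5, 6, 8, 1, 2, 3, 4, 5, 6, 8]),
  ([50, 7, 50, 7, 50, 7, 50, 7, 50, 7, 50, 7], []),
  ([50, 7, 6, 5, 4, 3, 8, 2, 3, 4, 5, 6, 7, 50, 7, 6, 5, 4, 3, 2, 8, 3, 4, 5, 6, 7, 50, 7, 6, 5, 4, 3, 8, 2, 3, 4, 5, 6, 7, 50, 7, 6, 5, 4, 3, 2, 8, 3, 4, 5, 6, 7], []),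
  ([7, 6, 5, 4, 3, 2, 8, 3, 4, 5, 6, 7, 7, 6, 5, 4, 3, 8, 2, 3, 4, 5, 6, 7], [])]
def cj : List (List Nat × List Nat) := [([1, 0, 53], [52, 0, 1]),
  ([53], [52]),
  ([1, 2, 53], [52, 2, 1]),
  ([2, 3, 1, 2, 53], [52, 2, 1, 3, 2]),
  ([3, 4, 2, 3, 1, 2, 53], [52, 2, 1, 3, 2, 4, 3]),
  ([4, 5, 3, 4, 2, 3, 1, 2, 53], [52, 2, 1, 3, 2, 4, 3, 5, 4]),
  ([5, 6, 4, 5, 3, 4, 2, 3, 1, 2, 53], [52, 2, 1, 3, 2, 4, 3, 5, 4, 6, 5]),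
  ([6, 7, 5, 6, 4, 5, 3, 4, 2, 3, 1, 2, 53], [52, 2, 1, 3, 2, 4, 3, 5, 4, 6, 5, 7, 6]),
  ([3, 8, 2, 3, 1, 2, 53], [52, 2, 1, 3, 2, 8, 3]),
  ([8, 9, 3, 8, 2, 3, 1, 2, 53], [52, 2, 1, 3, 2, 8, 3, 9, 8])]
def wodd : List Nat := [0, 1, 2, 3, 4, 5, 8, 0, 1, 2, 3, 4, 5, 8, 0, 1, 2, 3, 4, 5, 8, 0, 1, 2, 3, 4, 5, 8, 0, 1, 2, 3, 4, 5, 8, 0, 1, 2, 3, 4, 5, 8, 0, 1, 2, 3, 4, 5, 8, 0, 1, 2, 3, 4, 5, 8, 0, 1, 2, 3, 4, 5, 8]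
def z0 : List Nat := [50]
def zw : List Nat := [1, 2, 3, 4, 5, 6, 8, 1, 2, 3, 4, 5, 6, 8, 1, 2, 3, 4, 5, 6, 8, 1, 2, 3, 4, 5, 6, 8, 1, 2, 3, 4, 5, 6, 8, 1, 2, 3, 4, 5, 6, 8, 1, 2, 3, 4, 5, 6, 8, 1, 2, 3, 4, 5, 6, 8, 1, 2, 3, 4, 5, 6, 8]
def tw1 : List Nat := [7, 6, 5, 4, 3, 2, 8, 3, 4, 5, 6, 7]
def tw1i : List Nat := [7, 6, 5, 4, 3, 8, 2, 3, 4, 5, 6, 7]
def chkPt (p : Nat) : Bool :=
  ptOK xt T1689LT.tp rk par sy lv bs defs prs 10 5 31671 p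

end Cfsg.Agent.Lib.Helper28.F23ST
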