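import Cfsg.Agent.Lib.Helper28.SGS
import Cfsg.Agent.Lib.Helper28.TF24pLT
import Cfsg.Agent.Lib.Helper28.F24pSD0
import Cfsg.Agent.Lib.Helper28.F24pSD1

set_option autoImplicit false

namespace Cfsg.Agent.Lib.Helper28.F24pST

open Cfsg.Agent.Lib.Helper28.TCKernel Cfsg.Agent.Lib.Helper28.SGS

def x0top : List (List Nat) := [F24pSD0.x0g0]
def x1top : List (List Nat) := [F24pSD0.x1g0]
def x2top : List (List Nat) := [F24pSD0.x2g0]
def x3top : List (List Nat) := [F24pSD0.x3g0]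
def x4top : List (List Nat) := [F24pSD0.x4g0]
def x5top : List (List Nat) := [F24pSD0.x5g0]
def x6top : List (List Nat) := [F24pSD0.x6g0]
def x7top : List (List Nat) := [F24pSD0.x7g0]
def x8top : List (List Nat) := [F24pSD0.x8g0]
def x9top : List (List Nat) := [F24pSD0.x9g0]
def x10top : List (List Nat) := [F24pSD0.x10g0]
def x11top : List (List Nat) := [F24pSD0.x11g0]
def x12top : List (List Nat) := [F24pSD0.x12g0]
def x13top : List (List Nat) := [F24pSD0.x13g0]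
def x14top : List (List Nat) := [F24pSD0.x14g0]
def x15top : List (List Nat) := [F24pSD0.x15g0]
def x16top : List (List Nat) := [F24pSD0.x16g0]
def x17top : List (List Nat) := [F24pSD0.x17g0]
def x18top : List (List Nat) := [F24pSD0.x18g0]
def x19top : List (List Nat) := [F24pSD0.x19g0]
def x20top : List (List Nat) := [F24pSD0.x20g0]
def x21top : List (List Nat) := [F24pSD0.x21g0]
def x22top : List (List Nat) := [F24pSD0.x22g0]
def x23top : List (List Nat) := [F24pSD0.x23g0]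
def x24top : List (List Nat) := [F24pSD0.x24g0]
def x25top : List (List Nat) := [F24pSD0.x25g0]
def x26top : List (List Nat) := [F24pSD0.x26g0]
def x27top : List (List Nat) := [F24pSD1.x27g0]
def x28top : List (List Nat) := [F24pSD1.x28g0]
def x29top : List (List Nat) := [F24pSD1.x29g0]
def x30top : List (List Nat) := [F24pSD1.x30g0]
def x31top : List (List Nat) := [F24pSD1.x31g0]
def x32top : List (List Nat) := [F24pSD1.x32g0]
def x33top : List (List Nat) := [F24pSD1.x33g0]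
def xq0 : List (List (List Nat)) := [x0top, x1top, x2top, x3top, x4top, x5top, x6top, x7top]
def xq1 : List (List (List Nat)) := [x8top, x9top, x10top, x11top, x12top, x13top, x14top, x15top]
def xq2 : List (List (List Nat)) := [x16top, x17top, x18top, x19top, x20top, x21top, x22top, x23top]
def xq3 : List (List (List Nat)) := [x24top, x25top, x26top, x27top, x28top, x29top, x30top, x31top]
def xq4 : List (List (List Nat)) := [x32top, x33top]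
def xtops : List (List (List (List Nat))) := [xq0, xq1, xq2, xq3, xq4]
def l0top : List (List Nat) := [F24pSD1.l0g0, F24pSD1.l0g1]
def l1top : List (List Nat) := [F24pSD1.l1g0, F24pSD1.l1g1]
def l2top : List (List Nat) := [F24pSD1.l2g0, F24pSD1.l2g1]
def l3top : List (List Nat) := [F24pSD1.l3g0, F24pSD1.l3g1]
def ltops : List (List (List Nat)) := [l0top, l1top, l2top, l3top]
def xt : Nat → Nat → Nat := fld4z xtops 10 5 31 1023 15 32767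
def rk : Nat → Nat → Nat := fld3 ltops 9 5 31 511 27 0 63
def par : Nat → Nat → Nat := fld3 ltops 9 5 31 511 27 6 32767
def sy : Nat → Nat → Nat := fld3 ltops 9 5 31 511 27 21 63
def lvl : List Nat := [1, 1, 1, 1, 1, 1, 1, 1, 1, 1, 2, 2, 2, 2, 2, 2, 2, 2, 3, 3, 3, 3, 3, 3, 3, 3, 4, 4, 4, 4, 4, 4, 4, 4]
def lv : Nat → Nat := nthD 0 lvl
def bsl : List Nat := [0, 4111, 4265, 13]
def bs : Nat → Nat := nthD 0 bsl
def nsl : List Nat := [28431, 22400, 7776, 2]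
def ns : Nat → Nat := nthD 0 nsl
def defs : List (List Nat) := [[9, 8, 5, 4, 3, 2, 1, 0, 6, 5, 4, 3, 7, 6, 5, 4, 8, 5, 4, 3, 2, 6, 5, 4, 3, 9, 8, 5, 4, 3, 6, 5, 4, 7, 6, 5, 8, 5, 4, 6, 5, 7, 1, 7, 5, 6, 4, 5, 8, 5, 6, 7, 4, 5, 6, 3, 4, 5, 8, 9, 8, 4, 5, 6, 2, 3, 4, 5, 8, 5, 6, 7, 3, 4, 5, 6, 0, 1, 2, 3, 4, 5, 8, 9],
  [9, 8, 5, 4, 3, 2, 1, 6, 5, 4, 3, 2, 7, 6, 5, 4, 8, 5, 4, 3, 2, 9, 8, 5, 4, 6, 5, 7, 6, 8, 5, 4, 7, 4, 5, 6, 0, 1, 2, 3, 4, 5, 8, 9, 5, 6, 4, 5, 8, 4, 5, 6, 7, 2, 3, 4, 5, 6, 0, 1, 2, 3, 4, 5, 8, 9],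
  [9, 8, 5, 4, 3, 6, 5, 4, 7, 6, 8, 5, 4, 3, 2, 6, 7, 9, 6, 9, 7, 6, 2, 3, 4, 5, 8, 6, 7, 4, 5, 6, 3, 4, 5, 8, 9],
  [9, 8, 5, 4, 3, 2, 1, 0, 6, 5, 4, 7, 6, 5, 8, 5, 4, 3, 2, 6, 7, 9, 8, 5, 4, 6, 5, 7, 6, 8, 5, 9, 5, 6, 2, 3, 4, 5, 8, 9, 6, 7, 4, 5, 6, 3, 4, 5, 8, 5, 6, 7, 3, 4, 5, 6, 0, 1, 2, 3, 4, 5, 8, 9],
  [17, 12, 10, 14, 13, 16, 14, 13, 13, 15, 16, 11, 16, 15, 17, 13, 11],
  [10, 12, 10, 17, 14, 17, 10, 14, 17, 10, 13, 16, 13, 15, 11, 16, 12, 11],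
  [17, 10, 13, 14, 17, 14, 12, 14, 10, 14, 10, 15, 17, 13, 11, 15, 12, 17, 15, 12, 16],
  [10, 13, 16, 12, 16, 12, 10, 14, 10, 13, 11, 12, 11, 17, 15, 12, 11, 13, 16],
  [18, 24, 22, 20, 20, 18, 23, 24, 23, 18, 25, 19],
  [19, 24, 19, 22, 19, 21, 19, 21, 25, 25],
  [23, 18, 25, 20, 20, 25, 18, 21, 23, 19, 19],
  [19, 22, 21, 21, 22, 22, 25, 20, 24, 19, 25, 23, 19]]
def prs : List (List Nat × List Nat) := [([5, 4, 3, 5, 6, 7, 5, 8, 9, 5, 4, 3, 5, 6, 7, 5, 8, 9, 5, 4, 3, 5, 6, 7, 5, 8, 9, 5, 4, 3, 5, 6, 7, 5, 8, 9, 5, 4, 3, 5, 6, 7, 5, 8, 9, 5, 4, 3, 5, 6, 7, 5, 8, 9, 5, 4, 3, 5, 6, 7, 5, 8, 9, 5, 4, 3, 5, 6, 7, 5, 8, 9, 5, 4, 3, 5, 6, 7, 5, 8, 9, 5, 4, 3, 5, 6, 7, 5, 8, 9], [])]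
def cj : List (List Nat) := []
def wodd : List Nat := []
def chkPt (p : Nat) : Bool :=
  ptOK xt TF24pLT.tp rk par sy lv bs defs prs 10 4 28431 p

end Cfsg.Agent.Lib.Helper28.F24pST
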