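import Cfsg.Agent.Lib.Helper28.TCPerm

/-!
Simplicity of a group with a faithful primitive permutation representation in which a point
stabiliser centralises an element whose conjugates generate (Iwasawa's criterion), and
primitivity of rank 3 representations read off from the checked coset tables.
-/

set_option autoImplicit false

namespace Cfsg.Agent.Lib.Helper28.Iwa

open Cfsg.Agent.Lib.Helper28.TCKernel Cfsg.Agent.Lib.Helper28.TCSound
open Cfsg.Agent.Lib.Helper28.TCPerm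
open scoped Pointwise

variable {G : Type*} [Group G] {n : Nat}

theorem pmul (φ : G →* Equiv.Perm (Fin n)) (g h : G) (a : Fin n) :
    φ (g * h) a = φ g (φ h a) := by rw [map_mul, Equiv.Perm.mul_apply]

theorem pinv1 (φ : G →* Equiv.Perm (Fin n)) (g : G) (a : Fin n) :
    φ g⁻¹ (φ g a) = a := by rw [map_inv]; exact perm_inv_apply (φ g) a

theorem pinv2 (φ : G →* Equiv.Perm (Fin n)) (g : G) (a : Fin n) :
    φ g (φ g⁻¹ a) = a := by rw [map_inv]; exact perm_apply_inv (φ g) a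

/-- number of points in an interval. -/
theorem ncard_Ico (n lo hi : Nat) (hhi : hi ≤ n) :
    Set.ncard {b : Fin n | lo ≤ b.1 ∧ b.1 < hi} = hi - lo := by
  have e : {b : Fin n | lo ≤ b.1 ∧ b.1 < hi} =
      ((Finset.univ.filter (fun b : Fin n => lo ≤ b.1 ∧ b.1 < hi) : Finset (Fin n)) :
        Set (Fin n)) := by
    ext b
    simp
  rw [e, Set.ncard_coe_finset]
  have : (Finset.univ.filter (fun b : Fin n => lo ≤ b.1 ∧ b.1 < hi)).card =
      (Finset.Ico lo hi).card := by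
    apply Finset.card_bij (fun b _ => b.1)
    · intro b hb
      simp only [Finset.mem_filter, Finset.mem_univ, true_and] at hb
      exact Finset.mem_Ico.mpr hb
    · intro a _ b _ hab
      exact Fin.ext hab
    · intro b hb
      have hb' := Finset.mem_Ico.mp hb
      exact ⟨⟨b, by omega⟩, by simp [hb'.1, hb'.2], rfl⟩
  rw [this, Nat.card_Ico]

/-- the size of a block through `0` divides the degree. -/
theorem block_dvd (hn : 0 < n) (φ : G →* Equiv.Perm (Fin n))
    (htr : ∀ b : Fin n, ∃ g : G, φ g ⟨0, hn⟩ = b)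
    (B : Set (Fin n)) (h0 : (⟨0, hn⟩ : Fin n) ∈ B)
    (hB : ∀ g : G, φ g '' B = B ∨ Disjoint (φ g '' B) B) : B.ncard ∣ n := by
  let _ : MulAction G (Fin n) := MulAction.compHom (Fin n) φ
  have hsmul : ∀ (g : G) (a : Fin n), g • a = φ g a := fun g a => rfl
  have hpt : MulAction.IsPretransitive G (Fin n) := by
    constructor
    intro x y
    obtain ⟨g1, h1⟩ := htr x
    obtain ⟨g2, h2⟩ := htr y
    refine ⟨g2 * g1⁻¹, ?_⟩
    rw [hsmul, map_mul, Equiv.Perm.mul_apply, map_inv, ← h1, perm_inv_apply, h2]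
  have hblock : MulAction.IsBlock G B := by
    rw [MulAction.isBlock_iff_smul_eq_or_disjoint]
    intro g
    have e : g • B = φ g '' B := rfl
    rw [e]; exact hB g
  have := hblock.ncard_dvd_card ⟨_, h0⟩
  rwa [Nat.card_fin] at this

/-- points reached from the roots of the classes by elements of a subgroup containing the
subgroup words. -/
theorem reach {tp : Nat → Nat → Nat} {inv pa pl : Nat → Nat} {ws sgw tw : List (List Nat)}
    {K : Nat} {roots : List Nat} {L : Nat}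
    (C : PermChecks n tp inv pa pl ws sgw tw K roots L)
    (lt : Nat → G) (φ : G →* Equiv.Perm (Fin n))
    (hφ : ∀ y, y < L → φ (lt y) = letterPerm C y)
    (H : Subgroup G) (hK : ∀ k, k < K → wp lt (nthD [] tw k) ∈ H) :
    ∀ b, ∀ hb : b < n, ∃ r0, ∃ hr0 : r0 < n, (r0 = 0 ∨ r0 ∈ roots) ∧
      clsOf roots r0 = clsOf roots b ∧ ∃ h ∈ H, φ h ⟨r0, hr0⟩ = ⟨b, hb⟩ := by
  have hφ' : ∀ y, y < L → ∀ a : Fin n, (((φ (lt y))⁻¹ a : Fin n) : Nat) = tp y a := by
    intro y hy a
    rw [hφ y hy]; exact letterPerm_inv_apply C y hy a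
  intro b
  induction b using Nat.strong_induction_on with
  | _ b ih =>
    intro hb
    by_cases h0 : b = 0
    · subst h0
      exact ⟨0, hb, Or.inl rfl, rfl, 1, H.one_mem, by rw [map_one]; rfl⟩
    · obtain ⟨h1, h2, h3, h4⟩ := C.tree b hb h0
      rcases Nat.lt_or_ge (pl b) K with hk | hk
      · obtain ⟨r0, hr0, hr, hc, h', hh', e⟩ := ih (pa b) h1 (by omega)
        refine ⟨r0, hr0, hr, hc.trans (h3 hk), (wp lt (nthD [] tw (pl b)))⁻¹ * h',
          H.mul_mem (H.inv_mem (hK _ hk)) hh', ?_⟩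
        rw [map_mul, Equiv.Perm.mul_apply, e, map_inv]
        apply Fin.ext
        rw [scan_eq φ lt hφ' _ (C.twL' (pl b))]
        exact h2
      · exact ⟨b, hb, Or.inr (h4 hk), rfl, 1, H.one_mem, by rw [map_one]; rfl⟩

/-- primitivity of a rank 3 representation: the blocks through `0` are trivial. -/
theorem prim_rank3 (hn : 0 < n) (φ : G →* Equiv.Perm (Fin n))
    (htr : ∀ b : Fin n, ∃ g : G, φ g ⟨0, hn⟩ = b) (r : Nat) (hr1 : 1 < r) (hr2 : r < n)
    (hc1 : ∀ a b : Fin n, 1 ≤ a.1 → a.1 < r → 1 ≤ b.1 → b.1 < r →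
      ∃ h : G, φ h ⟨0, hn⟩ = ⟨0, hn⟩ ∧ φ h a = b)
    (hc2 : ∀ a b : Fin n, r ≤ a.1 → r ≤ b.1 → ∃ h : G, φ h ⟨0, hn⟩ = ⟨0, hn⟩ ∧ φ h a = b)
    (hd1 : ¬ r ∣ n) (hd2 : ¬ (n - r + 1) ∣ n)
    (B : Set (Fin n)) (h0 : (⟨0, hn⟩ : Fin n) ∈ B)
    (hB : ∀ g : G, φ g '' B = B ∨ Disjoint (φ g '' B) B) :
    B = {⟨0, hn⟩} ∨ B = Set.univ := by
  have hinv : ∀ h : G, φ h ⟨0, hn⟩ = ⟨0, hn⟩ → ∀ b ∈ B, φ h b ∈ B := by
    intro h hh b hb
    rcases hB h with e | e
    · rw [← e]; exact ⟨b, hb, rfl⟩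
    · exact absurd e (Set.not_disjoint_iff.mpr ⟨⟨0, hn⟩, ⟨⟨0, hn⟩, h0, hh⟩, h0⟩)
  have hdvd := block_dvd hn φ htr B h0 hB
  by_cases e1 : ∃ a ∈ B, 1 ≤ a.1 ∧ a.1 < r
  · obtain ⟨a1, ha1, ha1l, ha1r⟩ := e1
    have hall1 : ∀ b : Fin n, 1 ≤ b.1 → b.1 < r → b ∈ B := by
      intro b hb1 hb2
      obtain ⟨h, hh, e⟩ := hc1 a1 b ha1l ha1r hb1 hb2
      rw [← e]; exact hinv h hh a1 ha1
    by_cases e2 : ∃ a ∈ B, r ≤ a.1
    · obtain ⟨a2, ha2, ha2r⟩ := e2
      right
      rw [Set.eq_univ_iff_forall]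
      intro b
      rcases Nat.lt_or_ge b.1 r with hb | hb
      · by_cases hb0 : b.1 = 0
        · have : b = ⟨0, hn⟩ := Fin.ext hb0
          rw [this]; exact h0
        · exact hall1 b (by omega) hb
      · obtain ⟨h, hh, e⟩ := hc2 a2 b ha2r hb
        rw [← e]; exact hinv h hh a2 ha2
    · exfalso
      have hBe : B = {b : Fin n | 0 ≤ b.1 ∧ b.1 < r} := by
        ext b
        constructor
        · intro hb
          refine ⟨Nat.zero_le _, ?_⟩
          by_contra hc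
          exact e2 ⟨b, hb, by omega⟩
        · rintro ⟨_, hb⟩
          by_cases hb0 : b.1 = 0
          · have : b = ⟨0, hn⟩ := Fin.ext hb0
            rw [this]; exact h0
          · exact hall1 b (by omega) hb
      rw [hBe, ncard_Ico n 0 r (by omega)] at hdvd
      exact hd1 hdvd
  · by_cases e2 : ∃ a ∈ B, r ≤ a.1
    · exfalso
      obtain ⟨a2, ha2, ha2r⟩ := e2
      have hBe : B = {b : Fin n | 1 ≤ b.1 ∧ b.1 < r}ᶜ := by
        ext b
        simp only [Set.mem_compl_iff, Set.mem_ofPred_eq]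
        constructor
        · intro hb hc
          exact e1 ⟨b, hb, hc⟩
        · intro hb
          by_cases hb0 : b.1 = 0
          · have : b = ⟨0, hn⟩ := Fin.ext hb0
            rw [this]; exact h0
          · obtain ⟨h, hh, e⟩ := hc2 a2 b ha2r (by omega)
            rw [← e]; exact hinv h hh a2 ha2
      rw [hBe, Set.ncard_compl _ (Set.toFinite _) (Set.toFinite _), Nat.card_fin,
        ncard_Ico n 1 r (by omega)] at hdvd
      have : n - (r - 1) = n - r + 1 := by omega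
      rw [this] at hdvd
      exact hd2 hdvd
    · left
      ext b
      simp only [Set.mem_singleton_iff]
      constructor
      · intro hb
        apply Fin.ext
        show b.1 = 0
        by_contra hc
        rcases Nat.lt_or_ge b.1 r with h | h
        · exact e1 ⟨b, hb, by omega, h⟩
        · exact e2 ⟨b, hb, h⟩
      · intro hb
        rw [hb]; exact h0

/-- Iwasawa's criterion for a faithful primitive representation: a point stabiliser
centralises `a`, the conjugates of `a` generate `G`, and `G` is perfect. -/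
theorem simple_of_iwasawa [Nontrivial G] (hn : 0 < n) (φ : G →* Equiv.Perm (Fin n))
    (hinj : Function.Injective φ)
    (htr : ∀ b : Fin n, ∃ g : G, φ g ⟨0, hn⟩ = b)
    (hprim : ∀ B : Set (Fin n), (⟨0, hn⟩ : Fin n) ∈ B →
      (∀ g : G, φ g '' B = B ∨ Disjoint (φ g '' B) B) → B = {⟨0, hn⟩} ∨ B = Set.univ)
    (a : G) (ha : ∀ h : G, φ h ⟨0, hn⟩ = ⟨0, hn⟩ → h * a = a * h)
    (S : Set G) (hS : Subgroup.closure S = ⊤) (hconj : ∀ x ∈ S, ∃ g : G, x = g * a * g⁻¹)
    (hperf : commutator G = ⊤) : IsSimpleGroup G := by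
  refine ⟨fun N hN => ?_⟩
  by_cases hbot : N = ⊥
  · exact Or.inl hbot
  right
  let B : Set (Fin n) := {b | ∃ m ∈ N, φ m ⟨0, hn⟩ = b}
  have h0 : (⟨0, hn⟩ : Fin n) ∈ B := ⟨1, N.one_mem, by rw [map_one]; rfl⟩
  have hB : ∀ g : G, φ g '' B = B ∨ Disjoint (φ g '' B) B := by
    intro g
    by_cases hd : Disjoint (φ g '' B) B
    · exact Or.inr hd
    · left
      rw [Set.not_disjoint_iff] at hd
      obtain ⟨x, ⟨b, ⟨m, hm, rfl⟩, rfl⟩, ⟨m', hm', e⟩⟩ := hd
      have hg0 : ∃ m0 ∈ N, φ m0 ⟨0, hn⟩ = φ g ⟨0, hn⟩ := by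
        refine ⟨g * m⁻¹ * g⁻¹ * m', N.mul_mem (hN.conj_mem _ (N.inv_mem hm) g) hm', ?_⟩
        rw [pmul, e, pmul, pmul, pinv1, pinv1]
      obtain ⟨m0, hm0, e0⟩ := hg0
      ext y
      constructor
      · rintro ⟨b, ⟨m1, hm1, rfl⟩, rfl⟩
        refine ⟨g * m1 * g⁻¹ * m0, N.mul_mem (hN.conj_mem _ hm1 g) hm0, ?_⟩
        rw [pmul, e0, pmul, pmul, pinv1]
      · rintro ⟨m1, hm1, rfl⟩
        refine ⟨φ (g⁻¹ * m1 * m0⁻¹ * g) ⟨0, hn⟩, ⟨g⁻¹ * (m1 * m0⁻¹) * g⁻¹⁻¹, ?_, ?_⟩, ?_⟩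
        · exact hN.conj_mem _ (N.mul_mem hm1 (N.inv_mem hm0)) g⁻¹
        · rw [inv_inv, mul_assoc g⁻¹ m1 m0⁻¹]
        · rw [pmul, pmul, pmul, ← e0, pinv1, pinv2]
  rcases hprim B h0 hB with hB1 | hB2
  · exfalso
    apply hbot
    rw [Subgroup.eq_bot_iff_forall]
    intro m hm
    apply hinj
    rw [map_one]
    ext b
    obtain ⟨g, rfl⟩ := htr b
    have h1 : φ (g⁻¹ * m * g⁻¹⁻¹) ⟨0, hn⟩ ∈ B := ⟨_, hN.conj_mem _ hm g⁻¹, rfl⟩
    rw [hB1, Set.mem_singleton_iff, inv_inv, pmul, pmul] at h1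
    have h2 := congrArg (φ g) h1
    rw [pinv2] at h2
    rw [h2]; rfl
  · have hQ : N ⊔ Subgroup.zpowers a = ⊤ := by
      rw [eq_top_iff, ← hS, Subgroup.closure_le]
      intro x hx
      obtain ⟨g, rfl⟩ := hconj x hx
      have hgB : φ g ⟨0, hn⟩ ∈ B := by rw [hB2]; trivial
      obtain ⟨m, hm, e⟩ := hgB
      have hfix : φ (m⁻¹ * g) ⟨0, hn⟩ = ⟨0, hn⟩ := by
        rw [pmul, ← e, pinv1]
      have hc := ha _ hfix
      have h3 : (m⁻¹ * g) * a * (m⁻¹ * g)⁻¹ = a := by rw [hc]; group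
      have e2 : g * a * g⁻¹ = m * (a * m⁻¹ * a⁻¹) * a := by
        calc g * a * g⁻¹ = m * ((m⁻¹ * g) * a * (m⁻¹ * g)⁻¹) * m⁻¹ := by group
          _ = m * a * m⁻¹ := by rw [h3]
          _ = m * (a * m⁻¹ * a⁻¹) * a := by group
      rw [SetLike.mem_coe, e2]
      exact Subgroup.mul_mem _
        (Subgroup.mem_sup_left (N.mul_mem hm (hN.conj_mem _ (N.inv_mem hm) a)))
        (Subgroup.mem_sup_right (Subgroup.mem_zpowers a))
    have hcomm : commutator G ≤ N :=
      hN.commutator_le_of_self_sup_commutative_eq_top hQ (Subgroup.zpowers_isMulCommutative a)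
    rw [hperf] at hcomm
    exact top_le_iff.mp hcomm

/-- a group generated by conjugates of an involution `a`, with a relator of odd length in
the generators, is perfect. -/
theorem perfect_of_odd (a : G) (ha : a * a = 1) (lt : Nat → G) (L : Nat)
    (hgen : Subgroup.closure (lt '' {y | y < L}) = ⊤)
    (hconj : ∀ y, y < L → ∃ g : G, lt y = g * a * g⁻¹)
    (w : List Nat) (hw : ∀ y ∈ w, y < L) (hodd : w.length % 2 = 1) (hrel : wp lt w = 1) :
    commutator G = ⊤ := by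
  let π : G →* Abelianization G := Abelianization.of
  have h1 : ∀ y, y < L → π (lt y) = π a := by
    intro y hy
    obtain ⟨g, e⟩ := hconj y hy
    rw [e, map_mul, map_mul, map_inv, mul_comm (π g), mul_assoc, mul_inv_cancel, mul_one]
  have h2 : ∀ u : List Nat, (∀ y ∈ u, y < L) → π (wp lt u) = π a ^ u.length := by
    intro u
    induction u with
    | nil => intro _; rw [wp_nil, map_one, List.length_nil, pow_zero]
    | cons y u ih =>
      intro hu
      rw [wp_cons, map_mul, h1 y (hu y List.mem_cons_self),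
        ih (fun z hz => hu z (List.mem_cons_of_mem _ hz)), List.length_cons, pow_succ, mul_comm]
  have h3 : π a ^ 2 = 1 := by rw [pow_two, ← map_mul, ha, map_one]
  have h4 : π a = 1 := by
    have h5 := h2 w hw
    rw [hrel, map_one] at h5
    have h6 : w.length = 2 * (w.length / 2) + 1 := by omega
    rw [h6, pow_succ, pow_mul, h3, one_pow, one_mul] at h5
    exact h5.symm
  rw [eq_top_iff, ← hgen, Subgroup.closure_le]
  rintro x ⟨y, hy, rfl⟩
  have h5 : π (lt y) = 1 := by rw [h1 y hy, h4]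
  have h6 : lt y ∈ (Abelianization.of : G →* Abelianization G).ker := h5
  rw [Abelianization.ker_of] at h6
  exact h6

end Cfsg.Agent.Lib.Helper28.Iwa
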