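import Cfsg.Agent.Lib.Helper28.TCPerm

/-!
Kernel-checked stabiliser chains: a permutation representation of a group `G` on `n` points,
given by a checked coset table, together with strong generators (each defined as a word in
earlier ones and stored as a packed permutation), base points and Schreier trees of the basic
orbits.  The checks give a lower bound for the order of the image, and word identities in `G`
when the representation is faithful.
-/

set_option autoImplicit false

namespace Cfsg.Agent.Lib.Helper28.SGS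

open Cfsg.Agent.Lib.Helper28.TCKernel Cfsg.Agent.Lib.Helper28.TCSound
open Cfsg.Agent.Lib.Helper28.TCPerm

/-! ### kernel functions -/

/-- chunk `c` of the table of the symbol `y` (symbols in groups of 8). -/
def chunkAt4 (tops : List (List (List (List Nat)))) (y g mg c : Nat) : Nat :=
  nthD 0 (nthD [] (nthD [] (nthD [] tops (Nat.shiftRight y 3)) (Nat.land y 7))
    (Nat.shiftRight c g)) (Nat.land c mg)

/-- entry `(y, v)` of the per-symbol packed tables. -/
def fld4z (tops : List (List (List (List Nat)))) (s g mg ms W m : Nat) (y v : Nat) : Nat :=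
  strictNat (fun c => Nat.land (Nat.shiftRight (chunkAt4 tops y g mg c)
    (Nat.mul (Nat.land v ms) W)) m) (Nat.shiftRight v s)

/-- the letters of the extended table agree with the coset table at `p`. -/
def lettersAt (xt tp : Nat → Nat → Nat) (L p : Nat) : Bool :=
  allLt (fun y => Nat.beq (xt y p) (tp y p)) L

theorem lettersAt_spec (xt tp : Nat → Nat → Nat) (L p : Nat) :
    lettersAt xt tp L p = true ↔ ∀ y, y < L → xt y p = tp y p := by
  unfold lettersAt
  rw [allLt_spec]
  constructor
  · intro h y hy; exact Nat.eq_of_beq_eq_true (h y hy)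
  · intro h y hy; rw [h y hy]; exact Nat.beq_refl _

/-- the strong generators (symbols `s, s+2, …`, with inverses `s+1, s+3, …`) satisfy their
definitions at the point `p`. -/
def defsAt (xt : Nat → Nat → Nat) (defs : List (List Nat)) (p : Nat) : Nat → Bool :=
  List.rec (motive := fun _ => Nat → Bool) (fun _ => true)
    (fun w _ ih s => andK (Nat.beq (xt s p) (scanP xt w p))
      (andK (Nat.beq (xt (Nat.succ s) (xt s p)) p) (strictNat ih (Nat.add s 2)))) defs

theorem defsAt_cons (xt : Nat → Nat → Nat) (w : List Nat) (t : List (List Nat)) (p s : Nat) :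
    defsAt xt (w :: t) p s = (Nat.beq (xt s p) (scanP xt w p) &&
      (Nat.beq (xt (s + 1) (xt s p)) p && defsAt xt t p (s + 2))) := by
  show andK _ (andK _ _) = _
  rw [andK_eq, andK_eq]; rfl

theorem defsAt_spec (xt : Nat → Nat → Nat) (defs : List (List Nat)) (p s : Nat) :
    defsAt xt defs p s = true ↔ ∀ m, m < defs.length →
      xt (s + 2 * m) p = scanP xt (nthD [] defs m) p ∧
        xt (s + 2 * m + 1) (xt (s + 2 * m) p) = p := by
  induction defs generalizing s with
  | nil => simp [defsAt]
  | cons w t ih =>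
    rw [defsAt_cons, Bool.and_eq_true, Bool.and_eq_true, ih]
    constructor
    · rintro ⟨h1, h2, h3⟩ m hm
      cases m with
      | zero =>
        exact ⟨Nat.eq_of_beq_eq_true h1, Nat.eq_of_beq_eq_true h2⟩
      | succ m =>
        have := h3 m (by simpa using hm)
        rw [nthD_cons_succ]
        have e : s + 2 * (m + 1) = s + 2 + 2 * m := by ring
        rw [e]
        exact this
    · intro h
      refine ⟨?_, ?_, ?_⟩
      · have := (h 0 (by simp)).1
        rw [nthD_cons_zero] at this
        simp only [Nat.mul_zero, Nat.add_zero] at this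
        rw [this]; exact Nat.beq_refl _
      · have := (h 0 (by simp)).2
        simp only [Nat.mul_zero, Nat.add_zero] at this
        rw [this]; exact Nat.beq_refl _
      · intro m hm
        have := h (m + 1) (by simpa using hm)
        rw [nthD_cons_succ] at this
        have e : s + 2 * (m + 1) = s + 2 + 2 * m := by ring
        rw [e] at this
        exact this

/-- Schreier tree check of the level `i` at the point `p`: rank `0` means not in the orbit,
rank `1` is the base point, and a point of larger rank is the image of a point `q < n` of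
smaller positive rank under a symbol of level above `i`. -/
def levAt (xt rk par sy : Nat → Nat → Nat) (lv bs : Nat → Nat) (n i p : Nat) : Bool :=
  strictNat (fun r =>
    Nat.rec (motive := fun _ => Bool) true
      (fun r' _ => Nat.rec (motive := fun _ => Bool) (Nat.beq p (bs i))
        (fun _ _ => strictNat (fun q => strictNat (fun s =>
          strictNat (fun rq => andK (Nat.ble 1 rq) (andK (Nat.ble (Nat.succ rq) r)
            (andK (Nat.ble (Nat.succ i) (lv s)) (andK (Nat.ble (Nat.succ q) n)
              (Nat.beq (xt s q) p))))) (rk i q)) (sy i p))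
            (par i p)) r') r)
    (rk i p)

theorem levAt_spec (xt rk par sy : Nat → Nat → Nat) (lv bs : Nat → Nat) (n i p : Nat)
    (h : levAt xt rk par sy lv bs n i p = true) :
    (rk i p = 1 → p = bs i) ∧ (2 ≤ rk i p → 1 ≤ rk i (par i p) ∧ rk i (par i p) < rk i p ∧
      i + 1 ≤ lv (sy i p) ∧ par i p < n ∧ xt (sy i p) (par i p) = p) := by
  unfold levAt at h
  generalize hr : rk i p = r at h ⊢
  cases r with
  | zero => exact ⟨fun h0 => absurd h0 (by omega), fun h0 => absurd h0 (by omega)⟩
  | succ r' =>
    cases r' with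
    | zero =>
      have h' : Nat.beq p (bs i) = true := h
      exact ⟨fun _ => Nat.eq_of_beq_eq_true h', fun h0 => absurd h0 (by omega)⟩
    | succ r'' =>
      have h' : andK (Nat.ble 1 (rk i (par i p)))
          (andK (Nat.ble (Nat.succ (rk i (par i p))) (r'' + 1 + 1))
            (andK (Nat.ble (Nat.succ i) (lv (sy i p))) (andK (Nat.ble (Nat.succ (par i p)) n)
              (Nat.beq (xt (sy i p) (par i p)) p)))) = true := h
      rw [andK_true, andK_true, andK_true, andK_true] at h'
      obtain ⟨h1, h2, h3, h4, h5⟩ := h'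
      refine ⟨fun h0 => absurd h0 (by omega), fun _ => ⟨Nat.le_of_ble_eq_true h1, ?_,
        Nat.le_of_ble_eq_true h3, Nat.le_of_ble_eq_true h4, Nat.eq_of_beq_eq_true h5⟩⟩
      have := Nat.le_of_ble_eq_true h2
      omega

/-- every symbol `s < X` fixes the first `lv s - 1` base points. -/
def fixOK (xt : Nat → Nat → Nat) (lv bs : Nat → Nat) (X : Nat) : Bool :=
  allLt (fun s => allLt (fun t => Nat.beq (xt s (bs t)) (bs t)) (Nat.pred (lv s))) X

theorem fixOK_spec (xt : Nat → Nat → Nat) (lv bs : Nat → Nat) (X : Nat) :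
    fixOK xt lv bs X = true ↔ ∀ s, s < X → ∀ t, t + 1 < lv s → xt s (bs t) = bs t := by
  unfold fixOK
  rw [allLt_spec]
  constructor
  · intro h s hs t ht
    have := (allLt_spec _ _).mp (h s hs) t (by show t < (lv s).pred; rw [Nat.pred_eq_sub_one]; omega)
    exact Nat.eq_of_beq_eq_true this
  · intro h s hs
    rw [allLt_spec]
    intro t ht
    have ht' : t < (lv s).pred := ht
    rw [Nat.pred_eq_sub_one] at ht'
    rw [h s hs t (by omega)]; exact Nat.beq_refl _

/-- the basic orbits have the stated sizes. -/
def cntOK (rk : Nat → Nat → Nat) (ns : Nat → Nat) (n d k : Nat) : Bool :=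
  allLt (fun i => Nat.beq (cntTree (fun p => andK (Nat.ble (Nat.succ p) n) (Nat.ble 1 (rk i p)))
    d 0) (ns i)) k

theorem cntOK_spec (rk : Nat → Nat → Nat) (ns : Nat → Nat) (n d k : Nat) :
    cntOK rk ns n d k = true ↔ ∀ i, i < k →
      cntTree (fun p => andK (Nat.ble (Nat.succ p) n) (Nat.ble 1 (rk i p))) d 0 = ns i := by
  unfold cntOK
  rw [allLt_spec]
  constructor
  · intro h i hi; exact Nat.eq_of_beq_eq_true (h i hi)
  · intro h i hi; rw [h i hi]; exact Nat.beq_refl _

/-- pairs of words with the same action at `p`. -/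
def eqAt (xt : Nat → Nat → Nat) (prs : List (List Nat × List Nat)) (p : Nat) : Bool :=
  List.rec (motive := fun _ => Bool) true
    (fun uv _ ih => andK (Nat.beq (scanP xt uv.1 p) (scanP xt uv.2 p)) ih) prs

theorem eqAt_spec (xt : Nat → Nat → Nat) (prs : List (List Nat × List Nat)) (p : Nat) :
    eqAt xt prs p = true ↔ ∀ uv ∈ prs, scanP xt uv.1 p = scanP xt uv.2 p := by
  induction prs with
  | nil => simp [eqAt]
  | cons uv t ih =>
    have : eqAt xt (uv :: t) p =
        (Nat.beq (scanP xt uv.1 p) (scanP xt uv.2 p) && eqAt xt t p) := by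
      show andK _ _ = _
      rw [andK_eq]; rfl
    rw [this, Bool.and_eq_true, ih]
    simp

/-- all checks at the point `p` (vacuous for `p ≥ n`). -/
def ptOK (xt tp rk par sy : Nat → Nat → Nat) (lv bs : Nat → Nat) (defs : List (List Nat))
    (prs : List (List Nat × List Nat)) (L k n p : Nat) : Bool :=
  Bool.rec (motive := fun _ => Bool) true
    (andK (lettersAt xt tp L p) (andK (defsAt xt defs p L)
      (andK (allLt (fun i => levAt xt rk par sy lv bs n i p) k) (eqAt xt prs p))))
    (Nat.ble (Nat.succ p) n)

theorem ptOK_spec (xt tp rk par sy : Nat → Nat → Nat) (lv bs : Nat → Nat) (defs : List (List Nat))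
    (prs : List (List Nat × List Nat)) (L k n p : Nat)
    (h : ptOK xt tp rk par sy lv bs defs prs L k n p = true) (hp : p < n) :
    lettersAt xt tp L p = true ∧ defsAt xt defs p L = true ∧
      (∀ i, i < k → levAt xt rk par sy lv bs n i p = true) ∧ eqAt xt prs p = true := by
  unfold ptOK at h
  rw [Nat.ble_eq_true_of_le hp] at h
  have h' : andK (lettersAt xt tp L p) (andK (defsAt xt defs p L)
      (andK (allLt (fun i => levAt xt rk par sy lv bs n i p) k) (eqAt xt prs p))) = true := h
  rw [andK_true, andK_true, andK_true, allLt_spec] at h'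
  exact h'

/-- symbols of the definition words are earlier symbols. -/
def defsBd (L : Nat) (defs : List (List Nat)) : Prop :=
  ∀ m, m < defs.length → ∀ s ∈ nthD [] defs m, s < L + 2 * m

instance (L : Nat) (defs : List (List Nat)) : Decidable (defsBd L defs) := by
  unfold defsBd; infer_instance

/-- symbols of the word pairs are below `X`. -/
def prsBd (X : Nat) (prs : List (List Nat × List Nat)) : Prop :=
  ∀ uv ∈ prs, (∀ s ∈ uv.1, s < X) ∧ (∀ s ∈ uv.2, s < X)

instance (X : Nat) (prs : List (List Nat × List Nat)) : Decidable (prsBd X prs) := by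
  unfold prsBd; infer_instance

/-- the facts established by the kernel checks. -/
structure Checks (n L X k d : Nat) (tp xt rk par sy : Nat → Nat → Nat) (lv bs ns : Nat → Nat)
    (defs : List (List Nat)) (prs : List (List Nat × List Nat)) : Prop where
  point : ∀ p, p < n → ptOK xt tp rk par sy lv bs defs prs L k n p = true
  hX : X = L + 2 * defs.length
  bd : defsBd L defs
  pbd : prsBd X prs
  fix : fixOK xt lv bs X = true
  lvX : ∀ s, X ≤ s → lv s = 0
  bsn : ∀ i, i < k → bs i < n
  cnt : cntOK rk ns n d k = true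
  hd : n ≤ 2 ^ d

/-- product of the first `j` orbit sizes. -/
def prodN (ns : Nat → Nat) : Nat → Nat
  | 0 => 1
  | j + 1 => prodN ns j * ns j

section

variable {n L X k d : Nat} {tp xt rk par sy : Nat → Nat → Nat} {lv bs ns : Nat → Nat}
  {defs : List (List Nat)} {prs : List (List Nat × List Nat)}
  {G : Type*} [Group G]

/-- elements of the group for all symbols. -/
theorem exists_el (C : Checks n L X k d tp xt rk par sy lv bs ns defs prs)
    (φ : G →* Equiv.Perm (Fin n)) (lt : Nat → G)
    (hφ : ∀ y, y < L → ∀ a : Fin n, (((φ (lt y))⁻¹ a : Fin n) : Nat) = tp y a) :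
    ∃ el : Nat → G, (∀ y, y < L → el y = lt y) ∧
      ∀ s, s < X → ∀ a : Fin n, (((φ (el s))⁻¹ a : Fin n) : Nat) = xt s a := by
  have key : ∀ m, m ≤ defs.length → ∃ el : Nat → G, (∀ y, y < L → el y = lt y) ∧
      ∀ s, s < L + 2 * m → ∀ a : Fin n, (((φ (el s))⁻¹ a : Fin n) : Nat) = xt s a := by
    intro m
    induction m with
    | zero =>
      intro _
      refine ⟨lt, fun _ _ => rfl, ?_⟩
      intro s hs a
      have hs' : s < L := by omega
      rw [hφ s hs' a]
      exact ((lettersAt_spec xt tp L a).mp (ptOK_spec _ _ _ _ _ _ _ _ _ _ _ _ _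
        (C.point a a.2) a.2).1 s hs').symm
    | succ m ih =>
      intro hm
      obtain ⟨el, hel1, hel2⟩ := ih (by omega)
      have hm' : m < defs.length := by omega
      have hw : ∀ y ∈ nthD [] defs m, y < L + 2 * m := C.bd m hm'
      let g : G := wp el (nthD [] defs m)
      have hdef : ∀ a : Fin n, xt (L + 2 * m) a = scanP xt (nthD [] defs m) a ∧
          xt (L + 2 * m + 1) (xt (L + 2 * m) a) = a := fun a =>
        (defsAt_spec xt defs a L).mp (ptOK_spec _ _ _ _ _ _ _ _ _ _ _ _ _
          (C.point a a.2) a.2).2.1 m hm'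
      have hg : ∀ a : Fin n, (((φ g)⁻¹ a : Fin n) : Nat) = xt (L + 2 * m) a := by
        intro a
        rw [scan_eq φ el hel2 _ hw a]
        exact (hdef a).1.symm
      refine ⟨fun s => if s = L + 2 * m then g else if s = L + 2 * m + 1 then g⁻¹ else el s,
        ?_, ?_⟩
      · intro y hy
        show (if y = L + 2 * m then g else if y = L + 2 * m + 1 then g⁻¹ else el y) = lt y
        rw [if_neg (by omega), if_neg (by omega)]
        exact hel1 y hy
      · intro s hs a
        show (((φ (if s = L + 2 * m then g else if s = L + 2 * m + 1 then g⁻¹ else el s))⁻¹ a :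
          Fin n) : Nat) = xt s a
        by_cases h1 : s = L + 2 * m
        · rw [if_pos h1, h1]; exact hg a
        · rw [if_neg h1]
          by_cases h2 : s = L + 2 * m + 1
          · rw [if_pos h2, h2, map_inv, inv_inv]
            have e1 : (φ g)⁻¹ (φ g a) = a := perm_inv_apply (φ g) a
            have e2 := hg (φ g a)
            rw [e1] at e2
            have e3 := (hdef (φ g a)).2
            rw [← e2] at e3
            exact e3.symm
          · rw [if_neg h2]
            exact hel2 s (by omega) a
  obtain ⟨el, h1, h2⟩ := key defs.length le_rfl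
  exact ⟨el, h1, fun s hs a => h2 s (by rw [← C.hX]; exact hs) a⟩

/-- pointwise stabiliser of the first `j` base points. -/
def pstab (φ : G →* Equiv.Perm (Fin n)) (bs : Nat → Nat) (j : Nat) : Subgroup G where
  carrier := {g | ∀ t, t < j → ∀ h : bs t < n, φ g ⟨bs t, h⟩ = ⟨bs t, h⟩}
  mul_mem' := by
    intro a b ha hb t ht h
    rw [map_mul, Equiv.Perm.mul_apply, hb t ht h, ha t ht h]
  one_mem' := by
    intro t _ h
    rw [map_one]; rfl
  inv_mem' := by
    intro a ha t ht h
    have := ha t ht h
    rw [map_inv]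
    conv_lhs => rw [← this]
    exact perm_inv_apply (φ a) _

theorem mem_pstab (φ : G →* Equiv.Perm (Fin n)) (bs : Nat → Nat) (j : Nat) (g : G) :
    g ∈ pstab φ bs j ↔ ∀ t, t < j → ∀ h : bs t < n, φ g ⟨bs t, h⟩ = ⟨bs t, h⟩ := Iff.rfl

/-- the points of positive rank lie in the basic orbit. -/
theorem level_orbit (C : Checks n L X k d tp xt rk par sy lv bs ns defs prs)
    (φ : G →* Equiv.Perm (Fin n)) (el : Nat → G)
    (hel : ∀ s, s < X → ∀ a : Fin n, (((φ (el s))⁻¹ a : Fin n) : Nat) = xt s a)
    (i : Nat) (hi : i < k) :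
    ∀ r p, ∀ hp : p < n, rk i p = r → 1 ≤ r → ∃ g, g ∈ pstab φ bs i ∧
      φ g ⟨bs i, C.bsn i hi⟩ = ⟨p, hp⟩ := by
  intro r
  induction r using Nat.strong_induction_on with
  | _ r ih =>
    intro p hp hr h1
    have hlev := levAt_spec xt rk par sy lv bs n i p
      ((ptOK_spec _ _ _ _ _ _ _ _ _ _ _ _ _ (C.point p hp) hp).2.2.1 i hi)
    rcases Nat.lt_or_ge r 2 with h2 | h2
    · have hr1 : rk i p = 1 := by omega
      have hpb := hlev.1 hr1
      subst hpb
      exact ⟨1, Subgroup.one_mem _, by rw [map_one]; rfl⟩
    · obtain ⟨h3, h4, h5, h6, h7⟩ := hlev.2 (by omega)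
      obtain ⟨g', hg', e⟩ := ih (rk i (par i p)) (by omega) (par i p) h6 rfl h3
      have hsX : sy i p < X := by
        by_contra hc
        have := C.lvX (sy i p) (by omega)
        omega
      have hfix := (fixOK_spec xt lv bs X).mp C.fix (sy i p) hsX
      have hmem : (el (sy i p))⁻¹ ∈ pstab φ bs i := by
        intro t ht h
        rw [map_inv]
        apply Fin.ext
        rw [hel (sy i p) hsX]
        exact hfix t (by omega)
      refine ⟨(el (sy i p))⁻¹ * g', Subgroup.mul_mem _ hmem hg', ?_⟩
      rw [map_mul, Equiv.Perm.mul_apply, e, map_inv]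
      apply Fin.ext
      rw [hel (sy i p) hsX]
      exact h7

/-- number of points of positive rank. -/
theorem ncard_rank (rk : Nat → Nat) (n d m : Nat) (hd : n ≤ 2 ^ d)
    (h : cntTree (fun p => andK (Nat.ble (Nat.succ p) n) (Nat.ble 1 (rk p))) d 0 = m) :
    Set.ncard {p : Fin n | 1 ≤ rk p.1} = m := by
  rw [cntTree_spec] at h
  have e : {p : Fin n | 1 ≤ rk p.1} =
      ((Finset.univ.filter (fun p : Fin n => 1 ≤ rk p.1) : Finset (Fin n)) : Set (Fin n)) := by
    ext p
    simp
  rw [e, Set.ncard_coe_finset, ← h]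
  apply Finset.card_bij (fun p _ => p.1)
  · intro p hp
    simp only [Finset.mem_filter, Finset.mem_univ, true_and] at hp
    simp only [Finset.mem_filter, Finset.mem_Ico, Nat.zero_le, true_and, Nat.zero_add]
    refine ⟨lt_of_lt_of_le p.2 hd, ?_⟩
    rw [andK_true]
    exact ⟨Nat.ble_eq_true_of_le p.2, Nat.ble_eq_true_of_le hp⟩
  · intro a _ b _ hab
    exact Fin.ext hab
  · intro b hb
    simp only [Finset.mem_filter, Finset.mem_Ico, Nat.zero_le, true_and, Nat.zero_add] at hb
    obtain ⟨_, hb2⟩ := hb
    rw [andK_true] at hb2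
    have h1 : b < n := Nat.le_of_ble_eq_true hb2.1
    have h2 : 1 ≤ rk b := Nat.le_of_ble_eq_true hb2.2
    exact ⟨⟨b, h1⟩, by simp [h2], rfl⟩

/-- orbit-stabiliser step along the chain. -/
theorem card_step [Finite G] (C : Checks n L X k d tp xt rk par sy lv bs ns defs prs)
    (φ : G →* Equiv.Perm (Fin n)) (el : Nat → G)
    (hel : ∀ s, s < X → ∀ a : Fin n, (((φ (el s))⁻¹ a : Fin n) : Nat) = xt s a)
    (i : Nat) (hi : i < k) :
    ns i * Nat.card (pstab φ bs (i + 1)) ≤ Nat.card (pstab φ bs i) := by
  let P : Subgroup G := pstab φ bs i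
  let β : Fin n := ⟨bs i, C.bsn i hi⟩
  let _ : MulAction P (Fin n) := MulAction.compHom (Fin n) (φ.comp P.subtype)
  have hsmul : ∀ (g : P) (a : Fin n), g • a = φ g.1 a := fun g a => rfl
  have h1 := Subgroup.index_mul_card (MulAction.stabilizer P β)
  rw [MulAction.index_stabilizer] at h1
  have h2 : Nat.card (MulAction.stabilizer P β) = Nat.card (pstab φ bs (i + 1)) := by
    apply Nat.card_congr
    refine
      { toFun := fun g => ⟨g.1.1, ?_⟩
        invFun := fun g => ⟨⟨g.1, ?_⟩, ?_⟩
        left_inv := fun g => rfl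
        right_inv := fun g => rfl }
    · intro t ht h
      rcases Nat.lt_or_ge t i with h' | h'
      · exact g.1.2 t h' h
      · have : t = i := by omega
        subst this
        have := g.2
        rw [MulAction.mem_stabilizer_iff, hsmul] at this
        exact this
    · intro t ht h
      exact g.2 t (by omega) h
    · rw [MulAction.mem_stabilizer_iff, hsmul]
      exact g.2 i (by omega) (C.bsn i hi)
  have h3 : ns i ≤ (MulAction.orbit P β).ncard := by
    have hc := (cntOK_spec rk ns n d k).mp C.cnt i hi
    rw [← ncard_rank (rk i) n d (ns i) C.hd hc]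
    apply Set.ncard_le_ncard _ (Set.toFinite _)
    intro p hp
    obtain ⟨g, hg, e⟩ := level_orbit C φ el hel i hi (rk i p.1) p.1 p.2 rfl hp
    exact ⟨⟨g, hg⟩, by show (⟨g, hg⟩ : P) • β = p; rw [hsmul]; exact e⟩
  calc ns i * Nat.card (pstab φ bs (i + 1))
      ≤ (MulAction.orbit P β).ncard * Nat.card (pstab φ bs (i + 1)) := Nat.mul_le_mul_right _ h3
    _ = Nat.card P := by rw [← h2]; exact h1

/-- lower bound for the order. -/
theorem card_ge [Finite G] (C : Checks n L X k d tp xt rk par sy lv bs ns defs prs)
    (φ : G →* Equiv.Perm (Fin n)) (el : Nat → G)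
    (hel : ∀ s, s < X → ∀ a : Fin n, (((φ (el s))⁻¹ a : Fin n) : Nat) = xt s a) :
    ∀ j, j ≤ k → prodN ns j * Nat.card (pstab φ bs j) ≤ Nat.card G := by
  intro j
  induction j with
  | zero =>
    intro _
    have : pstab φ bs 0 = ⊤ := by
      rw [eq_top_iff]
      intro g _ t ht
      omega
    rw [this, Subgroup.card_top]
    show 1 * _ ≤ _
    rw [one_mul]
  | succ j ih =>
    intro hj
    have h1 := card_step C φ el hel j (by omega)
    have h2 := ih (by omega)
    calc prodN ns (j + 1) * Nat.card (pstab φ bs (j + 1))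
        = prodN ns j * (ns j * Nat.card (pstab φ bs (j + 1))) := by
          show prodN ns j * ns j * _ = _
          rw [mul_assoc]
      _ ≤ prodN ns j * Nat.card (pstab φ bs j) := Nat.mul_le_mul_left _ h1
      _ ≤ Nat.card G := h2

/-- with a matching upper bound: the order, faithfulness, and the checked word identities. -/
theorem main [Finite G] (C : Checks n L X k d tp xt rk par sy lv bs ns defs prs)
    (φ : G →* Equiv.Perm (Fin n)) (lt : Nat → G)
    (hφ : ∀ y, y < L → ∀ a : Fin n, (((φ (lt y))⁻¹ a : Fin n) : Nat) = tp y a)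
    (N : Nat) (hN : prodN ns k = N) (hle : Nat.card G ≤ N) :
    Nat.card G = N ∧ Function.Injective φ ∧
      ∃ el : Nat → G, (∀ y, y < L → el y = lt y) ∧
        ∀ uv ∈ prs, wp el uv.1 = wp el uv.2 := by
  obtain ⟨el, hel1, hel2⟩ := exists_el C φ lt hφ
  have h1 := card_ge C φ el hel2 k le_rfl
  rw [hN] at h1
  have hpos : 0 < Nat.card (pstab φ bs k) := Nat.card_pos
  have hGpos : 0 < Nat.card G := Nat.card_pos
  have hNpos : 0 < N := lt_of_lt_of_le hGpos hle
  have hc1 : Nat.card (pstab φ bs k) = 1 := by
    by_contra hne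
    have h2 : 2 ≤ Nat.card (pstab φ bs k) := by omega
    have : N * 2 ≤ N * Nat.card (pstab φ bs k) := Nat.mul_le_mul_left _ h2
    omega
  have hcard : Nat.card G = N := by
    rw [hc1, mul_one] at h1
    omega
  have hbot : pstab φ bs k = ⊥ := Subgroup.card_eq_one.mp hc1
  have hinj : Function.Injective φ := by
    rw [injective_iff_map_eq_one]
    intro g hg
    have : g ∈ pstab φ bs k := by
      intro t _ h
      rw [hg]; rfl
    rw [hbot] at this
    exact Subgroup.mem_bot.mp this
  refine ⟨hcard, hinj, el, hel1, ?_⟩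
  intro uv huv
  obtain ⟨hb1, hb2⟩ := C.pbd uv huv
  have key : (φ (wp el uv.1))⁻¹ = (φ (wp el uv.2))⁻¹ := by
    ext a
    rw [scan_eq φ el hel2 _ hb1 a, scan_eq φ el hel2 _ hb2 a]
    exact (eqAt_spec xt prs a).mp (ptOK_spec _ _ _ _ _ _ _ _ _ _ _ _ _ (C.point a a.2) a.2).2.2.2
      uv huv
  exact hinj (inv_injective key)

end

end Cfsg.Agent.Lib.Helper28.SGS
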