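import Mathlib
import Cfsg.Agent.Lib.Helper96.HallConjStmt

namespace Cfsg.Agent.Lib.Helper28.HCBINP

open Equiv Cfsg.Agent.Lib.Helper96.HallSymStmt Cfsg.Agent.Lib.Helper96.HallConjStmt
open scoped Pointwise

theorem choose_ge_aux (N k : ℕ) (hk : 1 ≤ k) (hN : k + 2 ≤ N) : k + 2 ≤ Nat.choose N k := by
  have h1 : Nat.choose (k + 2) k ≤ Nat.choose N k := Nat.choose_le_choose k hN
  have h2 : Nat.choose (k + 2) k = Nat.choose (k + 2) 2 := by
    have := Nat.choose_symm (n := k + 2) (k := 2) (by omega)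
    simpa using this
  have h3 : Nat.choose (k + 2) 2 = Nat.choose (k + 1) 1 + Nat.choose (k + 1) 2 := by
    rw [Nat.choose_succ_succ']
  have h4 : Nat.choose (k + 1) 2 = Nat.choose k 1 + Nat.choose k 2 := by
    rw [Nat.choose_succ_succ']
  have h5 : Nat.choose (k + 1) 1 = k + 1 := Nat.choose_one_right _
  have h6 : Nat.choose k 1 = k := Nat.choose_one_right _
  omega

theorem main : Cfsg.Agent.Lib.Helper96.HallConjStmt.BINP := by
  intro n m hn hm hmn
  obtain ⟨N, rfl⟩ : ∃ N, n = N + 1 := ⟨n - 1, by omega⟩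
  obtain ⟨k, rfl⟩ : ∃ k, m = k + 1 := ⟨m - 1, by omega⟩
  have hdvd : (N + 1) ∣ Nat.choose (N + 1) (k + 1) :=
    hn.dvd_choose_self (by omega) (by omega)
  obtain ⟨c, hc⟩ := hdvd
  have hsucc : (N + 1) * Nat.choose N k = Nat.choose (N + 1) (k + 1) * (k + 1) :=
    Nat.add_one_mul_choose_eq N k
  have hNk : Nat.choose N k = c * (k + 1) := by
    rw [hc, mul_assoc] at hsucc
    exact Nat.eq_of_mul_eq_mul_left (by omega) hsucc
  have hge : k + 2 ≤ Nat.choose N k := choose_ge_aux N k (by omega) (by omega)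
  have hc2 : 2 ≤ c := by
    by_contra hlt
    have hc1 : c ≤ 1 := by omega
    have : c * (k + 1) ≤ 1 * (k + 1) := Nat.mul_le_mul_right _ hc1
    omega
  have hq : (Nat.minFac c).Prime := Nat.minFac_prime (by omega)
  refine ⟨Nat.minFac c, hq, ?_, ?_⟩
  · have hqd : Nat.minFac c ∣ Nat.choose N k := by
      rw [hNk]; exact Dvd.dvd.mul_right (Nat.minFac_dvd c) _
    have hkN : k ≤ N := by omega
    have hfac : Nat.choose N k ∣ N.factorial := by
      have := Nat.choose_mul_factorial_mul_factorial hkN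
      exact ⟨k.factorial * (N - k).factorial, by rw [← this, mul_assoc]⟩
    have : Nat.minFac c ≤ N := (hq.dvd_factorial).1 (hqd.trans hfac)
    omega
  · rw [hc]; exact Dvd.dvd.mul_left (Nat.minFac_dvd c) _

end Cfsg.Agent.Lib.Helper28.HCBINP
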