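import Mathlib
import Cfsg.Agent.Lib.Helper96.HallConjStmt

namespace Cfsg.Agent.Lib.Helper28.HCSETTR

open Equiv Cfsg.Agent.Lib.Helper96.HallSymStmt Cfsg.Agent.Lib.Helper96.HallConjStmt
open scoped Pointwise

theorem main : Cfsg.Agent.Lib.Helper96.HallConjStmt.SETTR := by
  classical
  intro Ω _ _ Δ Δ' hcard
  have hc : Nat.card (↥Δ) = Nat.card (↥Δ') := by
    rw [Nat.card_coe_set_eq, Nat.card_coe_set_eq]; exact hcard
  obtain ⟨e⟩ := (Finite.card_eq (α := ↥Δ) (β := ↥Δ')).1 hc
  have hmem : ∀ x : Ω, x ∈ Δ → e.extendSubtype x ∈ Δ' := by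
    intro x hx
    have := Equiv.extendSubtype_mem e x hx
    exact this
  have hnmem : ∀ x : Ω, x ∉ Δ → e.extendSubtype x ∉ Δ' := by
    intro x hx
    have := Equiv.extendSubtype_not_mem e x hx
    exact this
  refine ⟨e.extendSubtype, ?_⟩
  ext y
  constructor
  · rintro ⟨x, hx, rfl⟩
    exact hmem x hx
  · intro hy
    refine ⟨(e.extendSubtype).symm y, ?_, ?_⟩
    · by_contra hx
      have := hnmem _ hx
      simp at this
      exact this hy
    · simp

end Cfsg.Agent.Lib.Helper28.HCSETTR
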