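import Mathlib
import Cfsg.Agent.Lib.Helper96.HallConjStmt

namespace Cfsg.Agent.Lib.Helper28.HCSP2

open Equiv Cfsg.Agent.Lib.Helper96.HallSymStmt Cfsg.Agent.Lib.Helper96.HallConjStmt
open scoped Pointwise

theorem main : Cfsg.Agent.Lib.Helper96.HallConjStmt.SP2 := by
  intro Ω _ _ π x hπ p hp hdvd
  apply hπ p hp
  have hidx : (MulAction.stabilizer (Perm Ω) x).index = Nat.card Ω :=
    MulAction.index_stabilizer_of_transitive (Perm Ω) x
  have hmul : Nat.card (MulAction.stabilizer (Perm Ω) x) *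
      (MulAction.stabilizer (Perm Ω) x).index = Nat.card (Perm Ω) :=
    Subgroup.card_mul_index _
  have hΩ : Nat.card Ω = Fintype.card Ω := Nat.card_eq_fintype_card
  rw [hidx, Nat.card_perm, hΩ] at hmul
  have hpos : 0 < Fintype.card Ω := Fintype.card_pos_iff.2 ⟨x⟩
  obtain ⟨N, hN⟩ : ∃ N, Fintype.card Ω = N + 1 := ⟨Fintype.card Ω - 1, by omega⟩
  rw [hN, Nat.factorial_succ, mul_comm] at hmul
  have hcard : Nat.card (MulAction.stabilizer (Perm Ω) x) = N.factorial :=
    Nat.eq_of_mul_eq_mul_left (Nat.succ_pos N) hmul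
  rw [hcard] at hdvd
  have : p ≤ N := (hp.dvd_factorial).1 hdvd
  omega

end Cfsg.Agent.Lib.Helper28.HCSP2
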