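import Cfsg.Agent.Lib.Helper28.SGS
import Cfsg.Agent.Lib.Helper28.THeNLT
import Cfsg.Agent.Lib.Helper28.HeSD0

set_option autoImplicit false

namespace Cfsg.Agent.Lib.Helper28.HeST

open Cfsg.Agent.Lib.Helper28.TCKernel Cfsg.Agent.Lib.Helper28.SGS

def x0top : List (List Nat) := [HeSD0.x0g0]
def x1top : List (List Nat) := [HeSD0.x1g0]
def x2top : List (List Nat) := [HeSD0.x2g0]
def x3top : List (List Nat) := [HeSD0.x3g0]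
def x4top : List (List Nat) := [HeSD0.x4g0]
def x5top : List (List Nat) := [HeSD0.x5g0]
def x6top : List (List Nat) := [HeSD0.x6g0]
def x7top : List (List Nat) := [HeSD0.x7g0]
def x8top : List (List Nat) := [HeSD0.x8g0]
def x9top : List (List Nat) := [HeSD0.x9g0]
def x10top : List (List Nat) := [HeSD0.x10g0]
def x11top : List (List Nat) := [HeSD0.x11g0]
def x12top : List (List Nat) := [HeSD0.x12g0]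
def x13top : List (List Nat) := [HeSD0.x13g0]
def x14top : List (List Nat) := [HeSD0.x14g0]
def x15top : List (List Nat) := [HeSD0.x15g0]
def x16top : List (List Nat) := [HeSD0.x16g0]
def x17top : List (List Nat) := [HeSD0.x17g0]
def x18top : List (List Nat) := [HeSD0.x18g0]
def x19top : List (List Nat) := [HeSD0.x19g0]
def x20top : List (List Nat) := [HeSD0.x20g0]
def x21top : List (List Nat) := [HeSD0.x21g0]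
def x22top : List (List Nat) := [HeSD0.x22g0]
def xq0 : List (List (List Nat)) := [x0top, x1top, x2top, x3top, x4top, x5top, x6top, x7top]
def xq1 : List (List (List Nat)) := [x8top, x9top, x10top, x11top, x12top, x13top, x14top, x15top]
def xq2 : List (List (List Nat)) := [x16top, x17top, x18top, x19top, x20top, x21top, x22top]
def xtops : List (List (List (List Nat))) := [xq0, xq1, xq2]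
def l0top : List (List Nat) := [HeSD0.l0g0]
def l1top : List (List Nat) := [HeSD0.l1g0]
def l2top : List (List Nat) := [HeSD0.l2g0]
def ltops : List (List (List Nat)) := [l0top, l1top, l2top]
def xt : Nat → Nat → Nat := fld4z xtops 10 4 15 1023 14 16383
def rk : Nat → Nat → Nat := fld3 ltops 9 5 31 511 24 0 31
def par : Nat → Nat → Nat := fld3 ltops 9 5 31 511 24 5 16383
def sy : Nat → Nat → Nat := fld3 ltops 9 5 31 511 24 19 31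
def lvl : List Nat := [1, 1, 1, 1, 1, 1, 1, 2, 2, 2, 2, 2, 2, 2, 2, 3, 3, 3, 3, 3, 3, 3, 3]
def lv : Nat → Nat := nthD 0 lvl
def bsl : List Nat := [0, 2065, 6]
def bs : Nat → Nat := nthD 0 bsl
def nsl : List Nat := [8330, 4480, 108]
def ns : Nat → Nat := nthD 0 nsl
def defs : List (List Nat) := [[1, 2, 3, 2, 1, 0, 5, 3, 2, 1, 3, 4, 5, 3, 2, 3, 2, 6, 5, 3, 6, 4, 2, 3, 2, 3, 5, 1, 2, 3, 2, 3, 1, 2, 3, 2, 1],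
  [1, 2, 3, 6, 5, 3, 2, 1, 0, 3, 2, 6, 3, 2, 1, 4, 5, 2, 4, 3, 6, 5, 3, 2, 3, 4, 3, 1, 2, 3, 5, 2, 3, 2, 1],
  [1, 2, 3, 2, 1, 0, 3, 2, 3, 2, 1, 0, 5, 3, 2, 1, 6, 3, 4, 5, 3, 2, 3, 6, 3, 2, 3, 1, 2, 3, 5, 3, 2, 3, 2, 1],
  [1, 2, 3, 2, 1, 3, 2, 3, 2, 1, 0, 5, 3, 2, 3, 2, 1, 5, 3, 4, 2, 3, 6, 5, 3, 6, 2, 3, 1, 2, 3, 5, 3, 2, 3, 2, 1],
  [10, 7, 10, 8, 10, 10, 11, 14, 11, 8],
  [7, 10, 7, 7, 12, 7, 11, 14, 12, 9, 7],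
  [7, 7, 10, 11, 7, 14, 9, 9, 14, 11, 7],
  [8, 9, 12, 14, 8, 13, 10, 7, 14, 10]]
def prs : List (List Nat × List Nat) := [([0, 2, 3, 2, 3, 2, 5, 3, 2, 3, 2, 5, 3, 2, 3, 5], [2, 3, 2, 3, 2, 5, 3, 2, 3, 2, 5, 3, 2, 3, 5, 0]),
  ([2, 0, 2], [0]),
  ([2, 2, 3, 2, 3, 2, 5, 3, 2, 3, 2, 5, 3, 2, 3, 5, 2], [2, 3, 2, 3, 2, 5, 3, 2, 3, 2, 5, 3, 2, 3, 5]),
  ([3, 0, 3], [0]),
  ([3, 2, 3, 2, 3, 2, 5, 3, 2, 3, 2, 5, 3, 2, 3, 5, 3], [2, 3, 2, 3, 2, 5, 3, 2, 3, 2, 5, 3, 2, 3, 5]),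
  ([5, 0, 5], [0]),
  ([5, 2, 3, 2, 3, 2, 5, 3, 2, 3, 2, 5, 3, 2, 3, 5, 5], [2, 3, 2, 3, 2, 5, 3, 2, 3, 2, 5, 3, 2, 3, 5]),
  ([6, 0, 6], [0]),
  ([6, 2, 3, 2, 3, 2, 5, 3, 2, 3, 2, 5, 3, 2, 3, 5, 6], [2, 3, 2, 3, 2, 5, 3, 2, 3, 2, 5, 3, 2, 3, 5]),
  ([1, 0, 1, 0, 1, 0, 1], [0]),
  ([1, 0, 1, 2, 3, 2, 3, 2, 5, 3, 2, 3, 2, 5, 3, 2, 3, 5, 1, 0, 1], [0, 2, 3, 2, 3, 2, 5, 3, 2, 3, 2, 5, 3, 2, 3, 5]),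
  ([1, 2, 3, 4, 5, 3, 2, 1, 3, 2, 4, 3, 2, 3, 1, 2, 3, 5, 4, 3, 2, 1, 0, 1, 2, 3, 4, 5, 3, 2, 1, 3, 2, 3, 4, 2, 3, 1, 2, 3, 5, 4, 3, 2, 1], [2, 3, 2, 3, 2, 5, 3, 2, 3, 2, 5, 3, 2, 3, 5]),
  ([1, 2, 3, 4, 5, 3, 2, 1, 3, 2, 3, 4, 2, 3, 1, 2, 3, 5, 4, 3, 2, 1, 0, 1, 2, 3, 4, 5, 3, 2, 1, 3, 2, 4, 3, 2, 3, 1, 2, 3, 5, 4, 3, 2, 1], [0, 2, 3, 2, 3, 2, 5, 3, 2, 3, 2, 5, 3, 2, 3, 5]),
  ([1, 2, 3, 4, 5, 3, 2, 1, 3, 2, 4, 3, 2, 3, 1, 2, 3, 5, 4, 3, 2, 1, 2, 3, 2, 3, 2, 5, 3, 2, 3, 2, 5, 3, 2, 3, 5, 1, 2, 3, 4, 5, 3, 2, 1, 3, 2, 3, 4, 2, 3, 1, 2, 3, 5, 4, 3, 2, 1], [0, 2, 3, 2, 3, 2, 5, 3, 2, 3, 2, 5, 3, 2, 3, 5]),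
  ([1, 2, 3, 4, 5, 3, 2, 1, 3, 2, 3, 4, 2, 3, 1, 2, 3, 5, 4, 3, 2, 1, 2, 3, 2, 3, 2, 5, 3, 2, 3, 2, 5, 3, 2, 3, 5, 1, 2, 3, 4, 5, 3, 2, 1, 3, 2, 4, 3, 2, 3, 1, 2, 3, 5, 4, 3, 2, 1], [0]),
  ([2, 3, 5, 2, 3, 2, 3, 5, 3, 2, 3, 2, 1, 1, 2, 3, 4, 5, 3, 2, 1, 3, 2, 3, 4, 2, 3, 1, 2, 3, 5, 4, 3, 2, 1, 0, 1, 2, 3, 4, 5, 3, 2, 1, 3, 2, 4, 3, 2, 3, 1, 2, 3, 5, 4, 3, 2, 1, 1, 2, 3, 2, 3, 5, 3, 2, 3, 2, 5, 3, 2], [1]),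
  ([3, 5, 1, 2, 3, 2, 3, 5, 3, 2, 3, 2, 1, 1, 2, 3, 4, 5, 3, 2, 1, 3, 2, 3, 4, 2, 3, 1, 2, 3, 5, 4, 3, 2, 1, 0, 1, 2, 3, 4, 5, 3, 2, 1, 3, 2, 4, 3, 2, 3, 1, 2, 3, 5, 4, 3, 2, 1, 1, 2, 3, 2, 3, 5, 3, 2, 3, 2, 1, 5, 3], [2]),
  ([0, 1, 2, 0, 1, 2, 0, 1, 2], [4]),
  ([4, 3, 4, 3, 4], [3]),
  ([3, 5, 3, 5, 3], [5]),
  ([3, 6, 3, 6, 3], [6])]
def cj : List (List Nat) := []
def wodd : List Nat := []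
def chkPt (p : Nat) : Bool :=
  ptOK xt THeNLT.tp rk par sy lv bs defs prs 7 3 8330 p

end Cfsg.Agent.Lib.Helper28.HeST
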