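import Cfsg.Agent.Lib.Helper28.PresCyc
import Cfsg.Agent.Lib.Helper28.TJ1cX
import Cfsg.Agent.S0457

/-!
The group presented by `a, b` with `a^2, b^3, (ab)^7, (ab(abab⁻¹)^3)^5` and
`(ab(abab⁻¹)^6 abab(ab⁻¹)^2)^2` is simple of order 175560.

Order at most `25080 * 7` by coset enumeration over `<ab>`; it maps onto Janko's matrix group
`J1` of that order (helper60), which is simple.
-/

set_option autoImplicit false

namespace Cfsg.Agent.Lib.Helper28.J1pMain

open Cfsg.Spor Cfsg.Agent.Lib.Helper28.TCKernel Cfsg.Agent.Lib.Helper28.TCSound Cfsg.Agent.Lib.Helper28.TCPres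
open Cfsg.Agent.Lib.Helper60.J1

theorem bound : Finite (Grp J1p.edges J1p.extra) ∧
    Nat.card (Grp J1p.edges J1p.extra) ≤ 175560 := by
  have h := PresCyc.pres_cyc_bound J1p.edges J1p.extra (J1p.a * J1p.b) 25080 7 (by decide)
    (by unfold J1p.extra; exact List.mem_cons_of_mem _ List.mem_cons_self) TJ1cX.final_le
  exact ⟨h.1, le_trans h.2 (by decide)⟩

/-- the involution `a` as a word in Janko's generators -/
def wa : List ℕ := [0, 1, 1, 1, 1, 0, 1]
/-- the element `b` of order 3 -/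
def wb : List ℕ := [1, 0, 1, 0, 0, 0, 1, 1, 0]
/-- the words of the letters `a, b, b⁻¹` -/
def sub (y : ℕ) : List ℕ := if y = 0 then wa else if y = 1 then wb else wb ++ wb
/-- Janko's generators as words in `a, b, b⁻¹` -/
def wX : List ℕ := [0, 1, 0, 2, 0, 2, 0, 1, 0, 2, 0, 2, 0, 1, 0, 1, 0, 2, 0, 1, 0, 2, 0, 1, 0, 1, 0, 2]
def wY : List ℕ := [2, 0, 1, 0, 1, 0, 2, 0, 1, 0, 2, 0, 1, 0, 2, 0, 1, 0, 1, 0, 2, 0, 1, 0, 2, 0, 2, 0, 1, 0, 2, 0, 2, 0, 1, 0]

/-- the images of the letters -/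
def ltJ (y : ℕ) : ↥Cfsg.Spor.J1 := ev gen1 (sub y)

theorem wp_ltJ (w : List ℕ) : wp ltJ w = ev gen1 (w.flatMap sub) := by
  induction w with
  | nil => simp [wp, ev]
  | cons y w ih => rw [wp_cons, ih, List.flatMap_cons, ev_append]; rfl

theorem rel_chk : ∀ w ∈ PresJ1p.relW, M7.beq (evN g1 (w.flatMap sub)) M7.one = true := by
  decide +kernel

theorem inv_chk : M7.beq (evN g1 (wa ++ wa)) M7.one = true ∧
    M7.beq (evN g1 (wb ++ (wb ++ wb))) M7.one = true := by decide +kernel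

theorem gen_chk : M7.beq (evN g1 [0]) (evN g1 (wX.flatMap sub)) = true ∧
    M7.beq (evN g1 [1]) (evN g1 (wY.flatMap sub)) = true := by decide +kernel

theorem hI : ∀ y, y < 3 → ltJ (PresJ1p.inv y) = (ltJ y)⁻¹ := by
  have ha : ltJ 0 * ltJ 0 = 1 := by
    show ev gen1 wa * ev gen1 wa = 1
    rw [← ev_append]; exact ev_eq_one _ inv_chk.1
  have hb : ltJ 1 * ltJ 2 = 1 := by
    show ev gen1 wb * ev gen1 (wb ++ wb) = 1
    rw [← ev_append]; exact ev_eq_one _ inv_chk.2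
  intro y hy
  interval_cases y
  · show ltJ 0 = (ltJ 0)⁻¹
    exact eq_inv_of_mul_eq_one_left ha
  · show ltJ 2 = (ltJ 1)⁻¹
    exact eq_inv_of_mul_eq_one_right hb
  · show ltJ 1 = (ltJ 2)⁻¹
    exact eq_inv_of_mul_eq_one_left hb

theorem simple_card : IsSimpleGroup (Grp J1p.edges J1p.extra) ∧
    Nat.card (Grp J1p.edges J1p.extra) = 175560 := by
  have hb := bound
  have hfin := hb.1
  obtain ⟨ψ, hψ⟩ := exists_hom PresJ1p.ok ltJ hI
    (fun w hw => by rw [wp_ltJ]; exact ev_eq_one _ (rel_chk w hw))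
  have hwp : ∀ w : List ℕ, (∀ y ∈ w, y < 3) →
      ψ (wp (ltG J1p.edges J1p.extra PresJ1p.dec) w) = wp ltJ w := by
    intro w hw
    induction w with
    | nil => simp [wp]
    | cons y w ih =>
      rw [wp_cons, wp_cons, map_mul, hψ y (hw y List.mem_cons_self),
        ih (fun z hz => hw z (List.mem_cons_of_mem _ hz))]
  have hX : gX ∈ ψ.range := by
    refine ⟨wp (ltG J1p.edges J1p.extra PresJ1p.dec) wX, ?_⟩
    rw [hwp wX (by decide), wp_ltJ, ← Cfsg.Agent.S0457.ev0]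
    exact (ev_eq_ev _ _ gen_chk.1).symm
  have hY : gY ∈ ψ.range := by
    refine ⟨wp (ltG J1p.edges J1p.extra PresJ1p.dec) wY, ?_⟩
    rw [hwp wY (by decide), wp_ltJ, ← Cfsg.Agent.S0457.ev1]
    exact (ev_eq_ev _ _ gen_chk.2).symm
  have htop := Cfsg.Agent.S0457.top_of_gens ψ.range hX hY
  have hsurj : Function.Surjective ψ := MonoidHom.range_eq_top.mp htop
  have hbij : Function.Bijective ψ :=
    hsurj.bijective_of_nat_card_le (by rw [card_J1]; exact hb.2)
  let e : Grp J1p.edges J1p.extra ≃* ↥Cfsg.Spor.J1 := MulEquiv.ofBijective ψ hbij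
  have := Cfsg.Agent.S0457.simple_J1
  exact ⟨e.isSimpleGroup, by rw [Nat.card_congr e.toEquiv, card_J1]⟩

end Cfsg.Agent.Lib.Helper28.J1pMain
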