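import Cfsg.Agent.Lib.Helper68.MixStmt

/-!
# S4017 piece A1F2 (helper68's call): sharply 3-transitive on 5 points is impossible in the
boundary context with `a = 2` (a 5-cycle `k` inverted by an involution; `N_G(⟨k⟩)` is a proper
subgroup of order divisible by 10).  Does not use SIMPLE.
-/

set_option autoImplicit false

namespace Cfsg.Agent.Lib.Helper28.MixA1F2

universe u

open Subgroup Cfsg.Agent.Lib.Helper68

theorem swap_aux {G X : Type*} [Group G] [MulAction G X]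
    (hsh : ∀ g : G, ∀ x₁ x₂ x₃ : X, x₁ ≠ x₂ → x₁ ≠ x₃ → x₂ ≠ x₃ →
      g • x₁ = x₁ → g • x₂ = x₂ → g • x₃ = x₃ → g = 1)
    (x1 x2 x3 x4 x5 : X) (h12 : x1 ≠ x2) (h15 : x1 ≠ x5) (h25 : x2 ≠ x5)
    (h13 : x1 ≠ x3) (h14 : x1 ≠ x4) (h23 : x2 ≠ x3) (h24 : x2 ≠ x4) (h34 : x3 ≠ x4)
    (h35 : x3 ≠ x5) (h45 : x4 ≠ x5)
    (hall : ∀ z : X, z = x1 ∨ z = x2 ∨ z = x3 ∨ z = x4 ∨ z = x5)
    (t : G) (h1 : t • x1 = x2) (h2 : t • x2 = x1) (h5 : t • x5 = x5) :
    t • x3 = x4 ∧ t • x4 = x3 ∧ t * t = 1 := by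
  have htt : t * t = 1 := by
    apply hsh (t * t) x1 x2 x5 h12 h15 h25 <;> simp [mul_smul, h1, h2, h5]
  have inj : ∀ a b : X, t • a = t • b → a = b := fun a b h => MulAction.injective t h
  have h3 : t • x3 = x4 := by
    rcases hall (t • x3) with h | h | h | h | h
    · exact absurd (inj _ _ (h.trans h2.symm)) h23.symm
    · exact absurd (inj _ _ (h.trans h1.symm)) h13.symm
    · exfalso
      rcases hall (t • x4) with h' | h' | h' | h' | h'
      · exact h24 (inj _ _ (h'.trans h2.symm)).symm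
      · exact h14 (inj _ _ (h'.trans h1.symm)).symm
      · exact h34 (inj _ _ (h'.trans h.symm)).symm
      · have := hsh t x3 x4 x5 h34 h35 h45 h h' h5
        rw [this, one_smul] at h1
        exact h12 h1
      · exact h45 (inj _ _ (h'.trans h5.symm))
    · exact h
    · exact absurd (inj _ _ (h.trans h5.symm)) h35
  refine ⟨h3, ?_, htt⟩
  rw [← h3, ← mul_smul, htt, one_smul]

theorem main : MixStmt.A1F2.{u} := by
  intro G _ _ p Q y hB hS hcard
  obtain ⟨htr, hsh⟩ := hS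
  obtain ⟨e⟩ : Nonempty (Fin 5 ≃ (G ⧸ normalizer (Q : Set G))) :=
    ⟨(Finite.equivFinOfCardEq (hcard.trans (by norm_num))).symm⟩
  have h01 : e 0 ≠ e 1 := e.injective.ne (by decide)
  have h02 : e 0 ≠ e 2 := e.injective.ne (by decide)
  have h03 : e 0 ≠ e 3 := e.injective.ne (by decide)
  have h04 : e 0 ≠ e 4 := e.injective.ne (by decide)
  have h12 : e 1 ≠ e 2 := e.injective.ne (by decide)
  have h13 : e 1 ≠ e 3 := e.injective.ne (by decide)
  have h14 : e 1 ≠ e 4 := e.injective.ne (by decide)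
  have h23 : e 2 ≠ e 3 := e.injective.ne (by decide)
  have h24 : e 2 ≠ e 4 := e.injective.ne (by decide)
  have h34 : e 3 ≠ e 4 := e.injective.ne (by decide)
  have hall : ∀ z, z = e 0 ∨ z = e 1 ∨ z = e 2 ∨ z = e 3 ∨ z = e 4 := by
    intro z
    obtain ⟨i, rfl⟩ := e.surjective z
    fin_cases i <;> simp
  -- τ₁ = (01)(23), fixing 4
  obtain ⟨t1, ha1, ha2, ha3⟩ := htr (e 0) (e 1) (e 4) (e 1) (e 0) (e 4) h01 h04 h14 h01.symm
    h14 h04
  obtain ⟨ha4, ha5, ht1⟩ := swap_aux hsh (e 0) (e 1) (e 2) (e 3) (e 4) h01 h04 h14 h02 h03 h12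
    h13 h23 h24 h34 hall t1 ha1 ha2 ha3
  -- τ₂ = (02)(14), fixing 3
  obtain ⟨t2, hb1, hb2, hb3⟩ := htr (e 0) (e 2) (e 3) (e 2) (e 0) (e 3) h02 h03 h23 h02.symm
    h23 h03
  obtain ⟨hb4, hb5, ht2⟩ := swap_aux hsh (e 0) (e 2) (e 1) (e 4) (e 3) h02 h03 h23 h01 h04
    h12.symm h24 h14 h13 h34.symm (fun z => by have := hall z; tauto) t2 hb1 hb2 hb3
  -- k = τ₁ τ₂ = (0 3 2 1 4)
  obtain ⟨k, hk⟩ : ∃ k : G, k = t1 * t2 := ⟨_, rfl⟩
  have hk0 : k • e 0 = e 3 := by rw [hk, mul_smul, hb1, ha4]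
  have hk3 : k • e 3 = e 2 := by rw [hk, mul_smul, hb3, ha5]
  have hk2 : k • e 2 = e 1 := by rw [hk, mul_smul, hb2, ha1]
  have hk1 : k • e 1 = e 4 := by rw [hk, mul_smul, hb4, ha3]
  have hk4 : k • e 4 = e 0 := by rw [hk, mul_smul, hb5, ha2]
  have hk5 : k ^ 5 = 1 := by
    apply hsh (k ^ 5) (e 0) (e 1) (e 2) h01 h02 h12 <;>
      simp [pow_succ, mul_smul, hk0, hk1, hk2, hk3, hk4]
  have hkne : k ≠ 1 := by
    rintro rfl
    rw [one_smul] at hk0
    exact h03 hk0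
  haveI : Fact (Nat.Prime 5) := ⟨by norm_num⟩
  have hok : orderOf k = 5 := orderOf_eq_prime hk5 hkne
  have ht1ne : t1 ≠ 1 := by
    rintro rfl
    rw [one_smul] at ha1
    exact h01 ha1
  haveI : Fact (Nat.Prime 2) := ⟨by norm_num⟩
  have hot1 : orderOf t1 = 2 := orderOf_eq_prime (by rw [pow_two]; exact ht1) ht1ne
  have ht1inv : t1⁻¹ = t1 := inv_eq_of_mul_eq_one_left ht1
  have ht2inv : t2⁻¹ = t2 := inv_eq_of_mul_eq_one_left ht2
  have hconj : t1 * k * t1⁻¹ = k⁻¹ := by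
    rw [hk, mul_inv_rev, ht1inv, ht2inv, ← mul_assoc, ht1, one_mul]
  have hfwd : ∀ n : G, n ∈ zpowers k → t1 * n * t1⁻¹ ∈ zpowers k := by
    rintro n ⟨j, rfl⟩
    have : t1 * k ^ j * t1⁻¹ = (k⁻¹) ^ j := by rw [← conj_zpow, hconj]
    rw [this]
    exact Subgroup.zpow_mem _ (Subgroup.inv_mem _ (Subgroup.mem_zpowers k)) j
  have ht1H : t1 ∈ normalizer ((zpowers k : Subgroup G) : Set G) := by
    rw [Subgroup.mem_normalizer_iff]
    intro n
    refine ⟨hfwd n, fun hn => ?_⟩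
    have := hfwd _ hn
    rw [ht1inv] at this
    have e2 : t1 * (t1 * n * t1) * t1 = n := by
      calc t1 * (t1 * n * t1) * t1 = (t1 * t1) * n * (t1 * t1) := by group
        _ = n := by rw [ht1, one_mul, mul_one]
    rwa [e2] at this
  have hkH : k ∈ normalizer ((zpowers k : Subgroup G) : Set G) :=
    Subgroup.le_normalizer (Subgroup.mem_zpowers k)
  -- the normalizer is proper
  obtain ⟨h, hh1, hh2, hh3⟩ := htr (e 0) (e 3) (e 2) (e 0) (e 3) (e 1) h03 h02 h23.symm h03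
    h01 h13.symm
  have hHtop : normalizer ((zpowers k : Subgroup G) : Set G) ≠ ⊤ := by
    intro htop
    have hmem : h ∈ normalizer ((zpowers k : Subgroup G) : Set G) := htop ▸ Subgroup.mem_top h
    obtain ⟨j, hj⟩ := (Subgroup.mem_normalizer_iff.1 hmem k).1 (Subgroup.mem_zpowers k)
    have hj' : k ^ j = h * k * h⁻¹ := hj
    have hcomm : k * (h * k * h⁻¹) = (h * k * h⁻¹) * k := by
      rw [← hj']
      exact ((Commute.refl k).zpow_right j).eq
    have hi0 : h⁻¹ • e 0 = e 0 := inv_smul_eq_iff.2 hh1.symm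
    have hi3 : h⁻¹ • e 3 = e 3 := inv_smul_eq_iff.2 hh2.symm
    have c0 : (h * k * h⁻¹) • e 0 = e 3 := by
      rw [mul_smul, mul_smul, hi0, hk0, hh2]
    have c3 : (h * k * h⁻¹) • e 3 = e 1 := by
      rw [mul_smul, mul_smul, hi3, hk3, hh3]
    have c3' : (h * k * h⁻¹) • e 3 = e 2 := by
      rw [← hk0, ← mul_smul, ← hcomm, mul_smul, c0, hk3]
    exact h12 (c3.symm.trans c3')
  have h2dvd : 2 ∣ Nat.card (normalizer ((zpowers k : Subgroup G) : Set G)) := by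
    have := orderOf_dvd_natCard
      (⟨t1, ht1H⟩ : normalizer ((zpowers k : Subgroup G) : Set G))
    rwa [Subgroup.orderOf_mk, hot1] at this
  have h5dvd : 5 ∣ Nat.card (normalizer ((zpowers k : Subgroup G) : Set G)) := by
    have := orderOf_dvd_natCard
      (⟨k, hkH⟩ : normalizer ((zpowers k : Subgroup G) : Set G))
    rwa [Subgroup.orderOf_mk, hok] at this
  have hPQ := hB.hE _ hHtop h2dvd
  have hpa := hB.hpa
  rcases hPQ 5 (by norm_num) h5dvd with h5 | h5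
  · omega
  · omega

end Cfsg.Agent.Lib.Helper28.MixA1F2
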