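import Cfsg.Agent.Lib.Helper68.MixStmt

/-!
# S4017 piece A1F3 (helper68's call): sharply 3-transitive on `≥ 9` points is impossible
-/

set_option autoImplicit false

namespace Cfsg.Agent.Lib.Helper28.MixA1F3

universe u

open Subgroup Cfsg.Agent.Lib.Helper68 Pointwise

theorem main : MixStmt.A1F3.{u} := by
  intro G _ _ p a Q y hB hS hcard ha
  obtain ⟨htr, hsh⟩ := hS
  have h8 : 2 ^ 3 ≤ 2 ^ a := Nat.pow_le_pow_right (by norm_num) ha
  have h4 : 4 ≤ Nat.card (G ⧸ normalizer (Q : Set G)) := by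
    rw [hcard]; omega
  obtain ⟨e⟩ : Nonempty (Fin 4 ↪ (G ⧸ normalizer (Q : Set G))) := by
    classical
    haveI := Fintype.ofFinite (G ⧸ normalizer (Q : Set G))
    apply Function.Embedding.nonempty_of_card_le
    rw [Fintype.card_fin, ← Nat.card_eq_fintype_card]; exact h4
  have h12 : e 0 ≠ e 1 := e.injective.ne (by decide)
  have h13 : e 0 ≠ e 2 := e.injective.ne (by decide)
  have h14 : e 0 ≠ e 3 := e.injective.ne (by decide)
  have h23 : e 1 ≠ e 2 := e.injective.ne (by decide)
  have h24 : e 1 ≠ e 3 := e.injective.ne (by decide)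
  have h34 : e 2 ≠ e 3 := e.injective.ne (by decide)
  -- the 3-cycle
  obtain ⟨g, hg1, hg2, hg3⟩ := htr (e 0) (e 1) (e 2) (e 1) (e 2) (e 0) h12 h13 h23 h23 h12.symm
    h13.symm
  have hg3' : g ^ 3 = 1 := by
    apply hsh (g ^ 3) (e 0) (e 1) (e 2) h12 h13 h23 <;>
      simp [pow_succ, mul_smul, hg1, hg2, hg3]
  have hgne : g ≠ 1 := by
    rintro rfl
    rw [one_smul] at hg1
    exact h12 hg1
  haveI : Fact (Nat.Prime 3) := ⟨by norm_num⟩
  have hog : orderOf g = 3 := orderOf_eq_prime hg3' hgne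
  -- the transposition-like element
  obtain ⟨t, ht1, ht2, ht3⟩ := htr (e 0) (e 1) (e 2) (e 1) (e 0) (e 2) h12 h13 h23 h12.symm h23
    h13
  have ht2' : t ^ 2 = 1 := by
    apply hsh (t ^ 2) (e 0) (e 1) (e 2) h12 h13 h23 <;>
      simp [pow_succ, mul_smul, ht1, ht2, ht3]
  have htne : t ≠ 1 := by
    rintro rfl
    rw [one_smul] at ht1
    exact h12 ht1
  haveI : Fact (Nat.Prime 2) := ⟨by norm_num⟩
  have hot : orderOf t = 2 := orderOf_eq_prime ht2' htne
  -- an element moving the triple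
  obtain ⟨h, hh1, hh2, hh3⟩ := htr (e 0) (e 1) (e 2) (e 0) (e 1) (e 3) h12 h13 h23 h12 h14 h24
  -- the setwise stabilizer
  set s : Set (G ⧸ normalizer (Q : Set G)) := {e 0, e 1, e 2} with hs
  have hgH : g ∈ MulAction.stabilizer G s := by
    rw [MulAction.mem_stabilizer_iff]
    simp only [hs, Set.smul_set_insert, Set.smul_set_singleton, hg1, hg2, hg3]
    ext z; simp only [Set.mem_insert_iff, Set.mem_singleton_iff]; tauto
  have htH : t ∈ MulAction.stabilizer G s := by
    rw [MulAction.mem_stabilizer_iff]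
    simp only [hs, Set.smul_set_insert, Set.smul_set_singleton, ht1, ht2, ht3]
    ext z; simp only [Set.mem_insert_iff, Set.mem_singleton_iff]; tauto
  have hhH : h ∉ MulAction.stabilizer G s := by
    intro hmem
    rw [MulAction.mem_stabilizer_iff] at hmem
    have h3 : e 3 ∈ h • s := by
      rw [← hh3]
      exact Set.smul_mem_smul_set (by simp [hs])
    rw [hmem] at h3
    simp only [hs, Set.mem_insert_iff, Set.mem_singleton_iff] at h3
    rcases h3 with h3 | h3 | h3
    · exact h14 h3.symm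
    · exact h24 h3.symm
    · exact h34 h3.symm
  have hHtop : MulAction.stabilizer G s ≠ ⊤ := by
    intro htop
    exact hhH (htop ▸ Subgroup.mem_top h)
  have h2dvd : 2 ∣ Nat.card (MulAction.stabilizer G s) := by
    have := orderOf_dvd_natCard (⟨t, htH⟩ : MulAction.stabilizer G s)
    rwa [Subgroup.orderOf_mk, hot] at this
  have h3dvd : 3 ∣ Nat.card (MulAction.stabilizer G s) := by
    have := orderOf_dvd_natCard (⟨g, hgH⟩ : MulAction.stabilizer G s)
    rwa [Subgroup.orderOf_mk, hog] at this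
  have hPQ := hB.hE _ hHtop h2dvd
  rcases hPQ 3 (by norm_num) h3dvd with h3 | h3
  · have := hB.hpa
    omega
  · omega

end Cfsg.Agent.Lib.Helper28.MixA1F3
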