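import Cfsg.Agent.Lib.Helper68.MixStmt
import Cfsg.Agent.S4018

/-!
# S4017 piece BFIN (helper68's call; second seat): `a = 2`, `p = 3`, apply S4018 to `V`
-/

set_option autoImplicit false

namespace Cfsg.Agent.Lib.Helper28.MixBFIN

universe u

open Subgroup Cfsg.Agent.Lib.Helper68

theorem main (hEXP : MixStmt.EXP.{u}) : MixStmt.BFIN.{u} := by
  classical
  intro G _ _ p Q y ctx t₀ ht₀ ht₀1 V hV hStar hcen hinv
  obtain ⟨hQV, hNV, hVt, v₀, hv₀, hv₀1, hv₀t⟩ := hV
  have hp3 : p = 3 := by have := ctx.hpa; omega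
  subst hp3
  haveI : Fact (Nat.Prime 3) := ⟨by norm_num⟩
  haveI : Fact (Nat.Prime 2) := ⟨by norm_num⟩
  have hexp := hEXP G 3 2 Q y ctx
  have htt : t₀ * t₀ = 1 := hexp t₀ ht₀
  have hot : orderOf t₀ = 2 := orderOf_eq_prime (by rw [pow_two]; exact htt) ht₀1
  have htinv : t₀⁻¹ = t₀ := inv_eq_of_mul_eq_one_left htt
  have hcommV : ∀ v ∈ V, ∀ w ∈ V, v * w = w * v := by
    intro v hv w hw
    have := (ctx.hab V).is_comm.comm ⟨v, hv⟩ ⟨w, hw⟩
    exact congrArg Subtype.val this
  have hQ2 : IsPGroup 2 Q := IsPGroup.of_card ctx.hQ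
  have hdisj : ∀ x : G, x ∈ Q → x ∈ V → x = 1 := by
    intro x hxQ hxV
    have := IsPGroup.disjoint_of_ne 2 3 (by norm_num) Q (V : Subgroup G) hQ2 V.2
    exact (Subgroup.disjoint_def.mp this) hxQ hxV
  have htV : t₀ ∉ V := fun h => ht₀1 (hdisj t₀ ht₀ h)
  -- elements of `V` of order dividing 2 are trivial
  have hsq : ∀ v ∈ V, v * v = 1 → v = 1 := by
    intro v hv h
    have h1 : orderOf v ∣ 2 := orderOf_dvd_of_pow_eq_one (by rw [pow_two]; exact h)
    obtain ⟨j, hj⟩ := (IsPGroup.iff_orderOf.mp V.2) ⟨v, hv⟩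
    rw [Subgroup.orderOf_mk] at hj
    rw [hj] at h1
    have hj0 : j = 0 := by
      by_contra hj0
      have : 3 ∣ 2 := (dvd_pow_self 3 hj0).trans h1
      omega
    rw [hj0, pow_zero] at hj
    exact orderOf_eq_one_iff.1 hj
  -- centralizer facts
  have hVC : (V : Subgroup G) ≤ centralizer ((V : Subgroup G) : Set G) := by
    intro v hv
    rw [mem_centralizer_iff]
    intro w hw
    exact hcommV w hw v hv
  have htC : t₀ ∈ centralizer ((V : Subgroup G) : Set G) := by
    rw [mem_centralizer_iff]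
    intro w hw
    exact (hcen w hw).symm
  have hCN : centralizer ((V : Subgroup G) : Set G) ≤ normalizer ((V : Subgroup G) : Set G) :=
    centralizer_le_normalizer _
  have hN : Nat.card (normalizer ((V : Subgroup G) : Set G)) = 4 * Nat.card V := by
    rw [hNV]; norm_num
  -- an element of `Q` outside `{1, t₀}`
  have hex : ∃ s ∈ Q, s ≠ 1 ∧ s ≠ t₀ := by
    by_contra hcon
    push_neg at hcon
    have hle : Q ≤ zpowers t₀ := by
      intro s hs
      by_cases hs1 : s = 1
      · rw [hs1]; exact one_mem _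
      · rw [hcon s hs hs1]; exact mem_zpowers t₀
    have := Subgroup.card_le_of_le hle
    rw [Nat.card_zpowers, hot, ctx.hQ] at this
    omega
  -- the order of the centralizer
  have hV3 : ∃ n, Nat.card V = 3 ^ n := IsPGroup.iff_card.mp V.2
  have hVodd : ¬ 2 ∣ Nat.card V := by
    obtain ⟨n, hn⟩ := hV3
    rw [hn]
    intro h
    have := Nat.Prime.dvd_of_dvd_pow Nat.prime_two h
    omega
  have hVpos : 0 < Nat.card V := Nat.card_pos
  have hC : Nat.card (centralizer ((V : Subgroup G) : Set G)) = 2 * Nat.card V := by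
    have h1 : Nat.card V ∣ Nat.card (centralizer ((V : Subgroup G) : Set G)) :=
      Subgroup.card_dvd_of_le hVC
    have h2 : Nat.card (centralizer ((V : Subgroup G) : Set G)) ∣ 4 * Nat.card V := by
      rw [← hN]; exact Subgroup.card_dvd_of_le hCN
    have h3 : 2 ∣ Nat.card (centralizer ((V : Subgroup G) : Set G)) := by
      have := orderOf_dvd_natCard (⟨t₀, htC⟩ : centralizer ((V : Subgroup G) : Set G))
      rwa [Subgroup.orderOf_mk, hot] at this
    obtain ⟨m, hm⟩ := h1
    rw [hm] at h2 h3 ⊢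
    have hm4 : m ∣ 4 := by
      rw [mul_comm 4] at h2
      exact Nat.dvd_of_mul_dvd_mul_left hVpos h2
    have hm2 : 2 ∣ m := by
      rcases (Nat.Prime.dvd_mul Nat.prime_two).1 h3 with h | h
      · exact absurd h hVodd
      · exact h
    have hmle : m ≤ 4 := Nat.le_of_dvd (by norm_num) hm4
    have hmcases : m = 2 ∨ m = 4 := by
      interval_cases m <;> omega
    rcases hmcases with rfl | rfl
    · rw [mul_comm]
    · exfalso
      have hEq : centralizer ((V : Subgroup G) : Set G) = normalizer ((V : Subgroup G) : Set G) := by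
        apply Subgroup.eq_of_le_of_card_ge hCN
        rw [hN, hm, mul_comm]
      obtain ⟨s, hs, hs1, hst⟩ := hex
      have hsC : s ∈ centralizer ((V : Subgroup G) : Set G) := by
        rw [hEq]; exact hQV hs
      have h5 : v₀ * s = s * v₀ := (mem_centralizer_iff.1 hsC) v₀ hv₀
      have h6 := hinv s hs hs1 hst v₀ hv₀
      rw [← h5, mul_inv_cancel_right] at h6
      apply hv₀1
      apply hsq v₀ hv₀
      nth_rewrite 2 [h6]
      exact mul_inv_cancel v₀
  -- decomposition of the centralizer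
  have hdec : ∀ x ∈ centralizer ((V : Subgroup G) : Set G), x ∈ V ∨ x * t₀ ∈ V := by
    intro x hx
    have hidx : ((V : Subgroup G).subgroupOf (centralizer ((V : Subgroup G) : Set G))).index = 2 := by
      have h1 := ((V : Subgroup G).subgroupOf (centralizer ((V : Subgroup G) : Set G))).card_mul_index
      rw [Nat.card_congr (Subgroup.subgroupOfEquivOfLe hVC).toEquiv, hC] at h1
      have h2 : Nat.card V * 2 = 2 * Nat.card V := mul_comm _ _
      rw [← h2] at h1
      exact Nat.eq_of_mul_eq_mul_left hVpos h1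
    have h3 := Subgroup.mul_mem_iff_of_index_two hidx
      (a := (⟨x, hx⟩ : centralizer ((V : Subgroup G) : Set G))) (b := ⟨t₀, htC⟩)
    rw [Subgroup.mem_subgroupOf, Subgroup.mem_subgroupOf, Subgroup.mem_subgroupOf] at h3
    by_cases hxV : x ∈ V
    · exact Or.inl hxV
    · right
      exact h3.2 ⟨fun h => absurd h hxV, fun h => absurd h htV⟩
  have hsqV : ∀ z ∈ centralizer ((V : Subgroup G) : Set G), z * z ∈ V ∧
      (z * z = 1 → z ≠ 1 → z = t₀) := by
    intro z hz
    rcases hdec z hz with h | h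
    · refine ⟨mul_mem h h, fun h1 h2 => absurd (hsq z h h1) h2⟩
    · have hc := hcen _ h
      have e1 : z * z = (z * t₀) * (z * t₀) := by
        calc z * z = z * (t₀ * t₀) * z := by rw [htt, mul_one]
          _ = (z * t₀) * (t₀ * z) := by group
          _ = (z * t₀) * (t₀ * z * (t₀ * t₀)) := by rw [htt, mul_one]
          _ = (z * t₀) * (t₀ * (z * t₀) * t₀) := by group
          _ = (z * t₀) * ((z * t₀) * t₀ * t₀) := by rw [hc]
          _ = (z * t₀) * ((z * t₀) * (t₀ * t₀)) := by group
          _ = (z * t₀) * (z * t₀) := by rw [htt, mul_one]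
      refine ⟨e1 ▸ mul_mem h h, fun h1 _ => ?_⟩
      rw [e1] at h1
      have := hsq _ h h1
      have h4 : z = t₀⁻¹ := eq_inv_of_mul_eq_one_left this
      rw [h4, htinv]
  -- elements commuting with `t₀` normalize `V`
  have hconjV : ∀ g : G, g * t₀ = t₀ * g → ∀ v ∈ V, g * v * g⁻¹ ∈ V := by
    intro g hg v hv
    apply hVt
    · have hc := hcen v hv
      calc g * v * g⁻¹ * t₀ = g * v * (g⁻¹ * (t₀ * g) * g⁻¹) := by group
        _ = g * v * (g⁻¹ * (g * t₀) * g⁻¹) := by rw [hg]
        _ = g * (v * t₀) * g⁻¹ := by group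
        _ = g * (t₀ * v) * g⁻¹ := by rw [hc]
        _ = (g * t₀) * v * g⁻¹ := by group
        _ = (t₀ * g) * v * g⁻¹ := by rw [hg]
        _ = t₀ * (g * v * g⁻¹) := by group
    · obtain ⟨j, hj⟩ := (IsPGroup.iff_orderOf.mp V.2) ⟨v, hv⟩
      refine ⟨j, ?_⟩
      rw [← hj, Subgroup.orderOf_mk]
      have hsc : SemiconjBy g v (g * v * g⁻¹) := by
        unfold SemiconjBy
        group
      exact (SemiconjBy.orderOf_eq g hsc).symm
  -- the normalizer of `V` normalizes the centralizer of `V`
  have hcc : ∀ g ∈ normalizer ((V : Subgroup G) : Set G),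
      ∀ n ∈ centralizer ((V : Subgroup G) : Set G),
        g * n * g⁻¹ ∈ centralizer ((V : Subgroup G) : Set G) := by
    intro g hg n hn
    rw [mem_centralizer_iff]
    intro w hw
    have hw' : g⁻¹ * w * g ∈ (V : Subgroup G) := (Subgroup.mem_normalizer_iff''.1 hg w).1 hw
    have h1 := (mem_centralizer_iff.1 hn) _ hw'
    calc w * (g * n * g⁻¹) = g * ((g⁻¹ * w * g) * n) * g⁻¹ := by group
      _ = g * (n * (g⁻¹ * w * g)) * g⁻¹ := by rw [h1]
      _ = g * n * g⁻¹ * w := by group
  have hNC : ∀ g ∈ normalizer ((V : Subgroup G) : Set G),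
      g ∈ normalizer ((centralizer ((V : Subgroup G) : Set G) : Subgroup G) : Set G) := by
    intro g hg
    rw [Subgroup.mem_normalizer_iff]
    intro n
    refine ⟨hcc g hg n, fun h => ?_⟩
    have := hcc g⁻¹ (inv_mem hg) _ h
    have e : g⁻¹ * (g * n * g⁻¹) * g⁻¹⁻¹ = n := by group
    rwa [e] at this
  -- TI
  have hTI : Cfsg.IsTISubset ((centralizer ((V : Subgroup G) : Set G) : Subgroup G) : Set G) := by
    intro g hg x hx hgx
    by_contra hx1
    apply hg
    apply hNC
    have hx' : x ∈ centralizer ((V : Subgroup G) : Set G) := hx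
    have hgx' : g * x * g⁻¹ ∈ centralizer ((V : Subgroup G) : Set G) := hgx
    by_cases hxx : x * x = 1
    · -- `x = t₀` and `g x g⁻¹ = t₀`
      have e1 : x = t₀ := (hsqV x hx').2 hxx hx1
      have e2 : g * x * g⁻¹ = t₀ := by
        apply (hsqV _ hgx').2
        · calc g * x * g⁻¹ * (g * x * g⁻¹) = g * (x * x) * g⁻¹ := by group
            _ = 1 := by rw [hxx, mul_one, mul_inv_cancel]
        · intro h
          apply hx1
          have : x = g⁻¹ * (g * x * g⁻¹) * g := by group
          rw [this, h, mul_one, inv_mul_cancel]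
      rw [e1] at e2
      have hgt : g * t₀ = t₀ * g := by
        calc g * t₀ = g * t₀ * g⁻¹ * g := by group
          _ = t₀ * g := by rw [e2]
      have hgt' : g⁻¹ * t₀ = t₀ * g⁻¹ := by
        calc g⁻¹ * t₀ = g⁻¹ * (t₀ * g) * g⁻¹ := by group
          _ = g⁻¹ * (g * t₀) * g⁻¹ := by rw [hgt]
          _ = t₀ * g⁻¹ := by group
      rw [Subgroup.mem_normalizer_iff]
      intro h
      refine ⟨hconjV g hgt h, fun hh => ?_⟩
      have := hconjV g⁻¹ hgt' _ hh
      have e : g⁻¹ * (g * h * g⁻¹) * g⁻¹⁻¹ = h := by group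
      rwa [e] at this
    · -- Star
      have he1 : g * (x * x) * g⁻¹ ∈ (V : Subgroup G) := by
        have := (hsqV _ hgx').1
        have e : g * x * g⁻¹ * (g * x * g⁻¹) = g * (x * x) * g⁻¹ := by group
        rwa [e] at this
      have he2 : g * (x * x) * g⁻¹ ∈ (g • V : Sylow 3 G) := by
        show g * (x * x) * g⁻¹ ∈ ((g • V : Sylow 3 G) : Subgroup G)
        rw [Sylow.coe_subgroup_smul, Subgroup.mem_pointwise_smul_iff_inv_smul_mem]
        simp only [MulAut.smul_def, MulAut.conj_inv_apply]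
        have e : g⁻¹ * (g * (x * x) * g⁻¹) * g = x * x := by group
        rw [e]
        exact (hsqV x hx').1
      have hne : g * (x * x) * g⁻¹ ≠ 1 := by
        intro h
        apply hxx
        have : x * x = g⁻¹ * (g * (x * x) * g⁻¹) * g := by group
        rw [this, h, mul_one, inv_mul_cancel]
      have hEq : V = g • V :=
        hStar V (g • V) _ t₀ he1 he2 hne hot (hcen _ he1).symm
      exact Sylow.smul_eq_iff_mem_normalizer.mp hEq.symm
  -- proper even subgroups
  have heven : ∀ H : Subgroup G, H ≠ ⊤ → 2 ∣ Nat.card H → Nat.card H ∣ 4 * Nat.card V := by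
    intro H hH h2
    have hPQ := ctx.hE H hH h2
    have hH0 : Nat.card H ≠ 0 := Nat.card_pos.ne'
    have hG0 : Nat.card G ≠ 0 := Nat.card_pos.ne'
    have h4V0 : 4 * Nat.card V ≠ 0 := by omega
    have hHG : Nat.card H ∣ Nat.card G := Subgroup.card_subgroup_dvd_card H
    have hle := (Nat.factorization_le_iff_dvd hH0 hG0).2 hHG
    rw [← Nat.factorization_le_iff_dvd hH0 h4V0]
    intro r
    by_cases hr : r.Prime ∧ r ∣ Nat.card H
    · rcases hPQ r hr.1 hr.2 with rfl | rfl
      · refine (hle 3).trans ?_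
        have h3 : 3 ^ (Nat.card G).factorization 3 ∣ 4 * Nat.card V := by
          rw [← Sylow.card_eq_multiplicity V]
          exact Dvd.intro_left 4 rfl
        exact (Nat.Prime.pow_dvd_iff_le_factorization (by norm_num) h4V0).1 h3
      · refine (hle 2).trans ?_
        rw [ctx.hfac]
        have h3 : 2 ^ 2 ∣ 4 * Nat.card V := Dvd.intro _ rfl
        exact (Nat.Prime.pow_dvd_iff_le_factorization Nat.prime_two h4V0).1 h3
    · rcases not_and_or.1 hr with h | h
      · rw [Nat.factorization_eq_zero_of_not_prime _ h]; exact Nat.zero_le _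
      · rw [Nat.factorization_eq_zero_of_not_dvd h]; exact Nat.zero_le _
  exact Cfsg.Agent.S4018.result V (ctx.hab V) hN hC hTI heven

end Cfsg.Agent.Lib.Helper28.MixBFIN
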