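import Mathlib

set_option autoImplicit false

namespace Cfsg.Agent.Lib.Helper28.ONData

def ows1c0 : List (List Nat) := [[],
  [3],
  [3, 2],
  [3, 4],
  [3, 2, 4],
  [3, 4, 5],
  [3, 2, 4, 3],
  [3, 2, 4, 5],
  [3, 4, 5, 4],
  [3, 4, 5, 6],
  [3, 2, 4, 3, 5],
  [3, 2, 4, 5, 4],
  [3, 2, 4, 5, 6],
  [3, 4, 5, 4, 3],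
  [3, 4, 5, 4, 6],
  [3, 4, 5, 6, 7],
  [3, 2, 4, 3, 5, 4],
  [3, 2, 4, 3, 5, 6],
  [3, 2, 4, 5, 4, 3],
  [3, 2, 4, 5, 4, 6],
  [3, 2, 4, 5, 6, 7],
  [3, 4, 5, 4, 3, 2],
  [3, 4, 5, 4, 3, 6],
  [3, 4, 5, 4, 6, 5],
  [3, 4, 5, 4, 6, 7],
  [3, 2, 4, 3, 5, 4, 3],
  [3, 2, 4, 3, 5, 4, 5],
  [3, 2, 4, 3, 5, 4, 6],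
  [3, 2, 4, 3, 5, 6, 7],
  [3, 2, 4, 5, 4, 3, 2],
  [3, 2, 4, 5, 4, 3, 6],
  [3, 2, 4, 5, 4, 6, 5],
  [3, 2, 4, 5, 4, 6, 7],
  [3, 4, 5, 4, 3, 2, 6],
  [3, 4, 5, 4, 3, 6, 5],
  [3, 4, 5, 4, 3, 6, 7],
  [3, 4, 5, 4, 6, 5, 4],
  [3, 4, 5, 4, 6, 5, 7],
  [3, 2, 4, 3, 5, 4, 3, 2],
  [3, 2, 4, 3, 5, 4, 3, 5],
  [3, 2, 4, 3, 5, 4, 3, 6],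
  [3, 2, 4, 3, 5, 4, 5, 6],
  [3, 2, 4, 3, 5, 4, 6, 5],
  [3, 2, 4, 3, 5, 4, 6, 7],
  [3, 2, 4, 5, 4, 3, 2, 6],
  [3, 2, 4, 5, 4, 3, 6, 5],
  [3, 2, 4, 5, 4, 3, 6, 7],
  [3, 2, 4, 5, 4, 6, 5, 4],
  [3, 2, 4, 5, 4, 6, 5, 7],
  [3, 4, 5, 4, 3, 2, 6, 5],
  [3, 4, 5, 4, 3, 2, 6, 7],
  [3, 4, 5, 4, 3, 6, 5, 4],
  [3, 4, 5, 4, 3, 6, 5, 7],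
  [3, 4, 5, 4, 6, 5, 4, 3],
  [3, 4, 5, 4, 6, 5, 4, 5],
  [3, 4, 5, 4, 6, 5, 4, 7],
  [3, 4, 5, 4, 6, 5, 7, 6],
  [3, 2, 4, 3, 5, 4, 3, 2, 5],
  [3, 2, 4, 3, 5, 4, 3, 2, 6],
  [3, 2, 4, 3, 5, 4, 3, 5, 6],
  [3, 2, 4, 3, 5, 4, 3, 6, 5],
  [3, 2, 4, 3, 5, 4, 3, 6, 7],
  [3, 2, 4, 3, 5, 4, 5, 6, 5],
  [3, 2, 4, 3, 5, 4, 5, 6, 7],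
  [3, 2, 4, 3, 5, 4, 6, 5, 4],
  [3, 2, 4, 3, 5, 4, 6, 5, 7],
  [3, 2, 4, 5, 4, 3, 2, 6, 5],
  [3, 2, 4, 5, 4, 3, 2, 6, 7],
  [3, 2, 4, 5, 4, 3, 6, 5, 4],
  [3, 2, 4, 5, 4, 3, 6, 5, 7],
  [3, 2, 4, 5, 4, 6, 5, 4, 3],
  [3, 2, 4, 5, 4, 6, 5, 7, 6],
  [3, 4, 5, 4, 3, 2, 6, 5, 4],
  [3, 4, 5, 4, 3, 2, 6, 5, 7],
  [3, 4, 5, 4, 3, 6, 5, 4, 3],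
  [3, 4, 5, 4, 3, 6, 5, 4, 5],
  [3, 4, 5, 4, 3, 6, 5, 4, 7],
  [3, 4, 5, 4, 3, 6, 5, 7, 6],
  [3, 4, 5, 4, 6, 5, 4, 3, 2],
  [3, 4, 5, 4, 6, 5, 4, 3, 5],
  [3, 4, 5, 4, 6, 5, 4, 3, 7],
  [3, 4, 5, 4, 6, 5, 4, 5, 6],
  [3, 4, 5, 4, 6, 5, 4, 7, 6],
  [3, 2, 4, 3, 5, 4, 3, 2, 5, 6],
  [3, 2, 4, 3, 5, 4, 3, 2, 6, 5],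
  [3, 2, 4, 3, 5, 4, 3, 2, 6, 7],
  [3, 2, 4, 3, 5, 4, 3, 5, 6, 5],
  [3, 2, 4, 3, 5, 4, 3, 5, 6, 7],
  [3, 2, 4, 3, 5, 4, 3, 6, 5, 4],
  [3, 2, 4, 3, 5, 4, 3, 6, 5, 7],
  [3, 2, 4, 3, 5, 4, 5, 6, 5, 4],
  [3, 2, 4, 3, 5, 4, 5, 6, 5, 7],
  [3, 2, 4, 3, 5, 4, 6, 5, 4, 3],
  [3, 2, 4, 3, 5, 4, 6, 5, 4, 5],
  [3, 2, 4, 3, 5, 4, 6, 5, 7, 6],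
  [3, 2, 4, 5, 4, 3, 2, 6, 5, 4],
  [3, 2, 4, 5, 4, 3, 2, 6, 5, 7],
  [3, 2, 4, 5, 4, 3, 6, 5, 4, 3],
  [3, 2, 4, 5, 4, 3, 6, 5, 4, 5],
  [3, 2, 4, 5, 4, 3, 6, 5, 4, 7],
  [3, 2, 4, 5, 4, 3, 6, 5, 7, 6],
  [3, 2, 4, 5, 4, 6, 5, 4, 3, 2],
  [3, 4, 5, 4, 3, 2, 6, 5, 4, 3],
  [3, 4, 5, 4, 3, 2, 6, 5, 4, 5],
  [3, 4, 5, 4, 3, 2, 6, 5, 4, 7],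
  [3, 4, 5, 4, 3, 2, 6, 5, 7, 6],
  [3, 4, 5, 4, 3, 6, 5, 4, 3, 2],
  [3, 4, 5, 4, 3, 6, 5, 4, 3, 5],
  [3, 4, 5, 4, 3, 6, 5, 4, 3, 7],
  [3, 4, 5, 4, 3, 6, 5, 4, 5, 4],
  [3, 4, 5, 4, 3, 6, 5, 4, 5, 6],
  [3, 4, 5, 4, 3, 6, 5, 4, 5, 7],
  [3, 4, 5, 4, 3, 6, 5, 4, 7, 6],
  [3, 4, 5, 4, 6, 5, 4, 3, 2, 5],
  [3, 4, 5, 4, 6, 5, 4, 3, 2, 7],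
  [3, 4, 5, 4, 6, 5, 4, 3, 5, 4],
  [3, 4, 5, 4, 6, 5, 4, 3, 5, 6],
  [3, 4, 5, 4, 6, 5, 4, 3, 7, 6],
  [3, 2, 4, 3, 5, 4, 3, 2, 5, 6, 5],
  [3, 2, 4, 3, 5, 4, 3, 2, 5, 6, 7],
  [3, 2, 4, 3, 5, 4, 3, 2, 6, 5, 4],
  [3, 2, 4, 3, 5, 4, 3, 2, 6, 5, 7],
  [3, 2, 4, 3, 5, 4, 3, 5, 6, 5, 4],
  [3, 2, 4, 3, 5, 4, 3, 5, 6, 5, 7],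
  [3, 2, 4, 3, 5, 4, 3, 6, 5, 4, 3],
  [3, 2, 4, 3, 5, 4, 3, 6, 5, 4, 5],
  [3, 2, 4, 3, 5, 4, 3, 6, 5, 4, 7],
  [3, 2, 4, 3, 5, 4, 3, 6, 5, 7, 6],
  [3, 2, 4, 3, 5, 4, 5, 6, 5, 4, 3],
  [3, 2, 4, 3, 5, 4, 5, 6, 5, 4, 5],
  [3, 2, 4, 3, 5, 4, 5, 6, 5, 4, 7],
  [3, 2, 4, 3, 5, 4, 5, 6, 5, 7, 6],
  [3, 2, 4, 3, 5, 4, 6, 5, 4, 3, 2],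
  [3, 2, 4, 3, 5, 4, 6, 5, 4, 3, 5],
  [3, 2, 4, 3, 5, 4, 6, 5, 4, 5, 6],
  [3, 2, 4, 5, 4, 3, 2, 6, 5, 4, 3],
  [3, 2, 4, 5, 4, 3, 2, 6, 5, 4, 5],
  [3, 2, 4, 5, 4, 3, 2, 6, 5, 4, 7],
  [3, 2, 4, 5, 4, 3, 2, 6, 5, 7, 6],
  [3, 2, 4, 5, 4, 3, 6, 5, 4, 3, 2],
  [3, 2, 4, 5, 4, 3, 6, 5, 4, 3, 5],
  [3, 2, 4, 5, 4, 3, 6, 5, 4, 5, 4],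
  [3, 2, 4, 5, 4, 3, 6, 5, 4, 5, 6],
  [3, 2, 4, 5, 4, 3, 6, 5, 4, 5, 7],
  [3, 2, 4, 5, 4, 3, 6, 5, 4, 7, 6],
  [3, 4, 5, 4, 3, 2, 6, 5, 4, 3, 2],
  [3, 4, 5, 4, 3, 2, 6, 5, 4, 3, 5],
  [3, 4, 5, 4, 3, 2, 6, 5, 4, 3, 7],
  [3, 4, 5, 4, 3, 2, 6, 5, 4, 5, 6],
  [3, 4, 5, 4, 3, 2, 6, 5, 4, 7, 6],
  [3, 4, 5, 4, 3, 6, 5, 4, 3, 2, 5],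
  [3, 4, 5, 4, 3, 6, 5, 4, 3, 2, 7],
  [3, 4, 5, 4, 3, 6, 5, 4, 3, 5, 4],
  [3, 4, 5, 4, 3, 6, 5, 4, 3, 5, 6],
  [3, 4, 5, 4, 3, 6, 5, 4, 3, 5, 7],
  [3, 4, 5, 4, 3, 6, 5, 4, 3, 7, 6],
  [3, 4, 5, 4, 3, 6, 5, 4, 5, 4, 3],
  [3, 4, 5, 4, 3, 6, 5, 4, 5, 4, 6],
  [3, 4, 5, 4, 3, 6, 5, 4, 5, 6, 7],
  [3, 4, 5, 4, 3, 6, 5, 4, 5, 7, 6],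
  [3, 4, 5, 4, 3, 6, 5, 4, 7, 6, 5],
  [3, 4, 5, 4, 6, 5, 4, 3, 2, 5, 4],
  [3, 4, 5, 4, 6, 5, 4, 3, 2, 5, 6],
  [3, 4, 5, 4, 6, 5, 4, 3, 2, 7, 6],
  [3, 4, 5, 4, 6, 5, 4, 3, 5, 4, 5],
  [3, 4, 5, 4, 6, 5, 4, 3, 5, 4, 6],
  [3, 2, 4, 3, 5, 4, 3, 2, 5, 6, 5, 4],
  [3, 2, 4, 3, 5, 4, 3, 2, 5, 6, 5, 7],
  [3, 2, 4, 3, 5, 4, 3, 2, 6, 5, 4, 3],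
  [3, 2, 4, 3, 5, 4, 3, 2, 6, 5, 4, 5],
  [3, 2, 4, 3, 5, 4, 3, 2, 6, 5, 4, 7],
  [3, 2, 4, 3, 5, 4, 3, 2, 6, 5, 7, 6],
  [3, 2, 4, 3, 5, 4, 3, 5, 6, 5, 4, 3],
  [3, 2, 4, 3, 5, 4, 3, 5, 6, 5, 4, 5],
  [3, 2, 4, 3, 5, 4, 3, 5, 6, 5, 4, 7],
  [3, 2, 4, 3, 5, 4, 3, 5, 6, 5, 7, 6],
  [3, 2, 4, 3, 5, 4, 3, 6, 5, 4, 3, 2],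
  [3, 2, 4, 3, 5, 4, 3, 6, 5, 4, 3, 5],
  [3, 2, 4, 3, 5, 4, 3, 6, 5, 4, 3, 7],
  [3, 2, 4, 3, 5, 4, 3, 6, 5, 4, 5, 4],
  [3, 2, 4, 3, 5, 4, 3, 6, 5, 4, 5, 6],
  [3, 2, 4, 3, 5, 4, 3, 6, 5, 4, 5, 7],
  [3, 2, 4, 3, 5, 4, 3, 6, 5, 4, 7, 6],
  [3, 2, 4, 3, 5, 4, 5, 6, 5, 4, 3, 2],
  [3, 2, 4, 3, 5, 4, 5, 6, 5, 4, 3, 5],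
  [3, 2, 4, 3, 5, 4, 5, 6, 5, 4, 3, 7],
  [3, 2, 4, 3, 5, 4, 5, 6, 5, 4, 5, 4],
  [3, 2, 4, 3, 5, 4, 5, 6, 5, 4, 5, 6],
  [3, 2, 4, 3, 5, 4, 5, 6, 5, 4, 7, 6],
  [3, 2, 4, 3, 5, 4, 6, 5, 4, 3, 2, 5],
  [3, 2, 4, 3, 5, 4, 6, 5, 4, 3, 5, 6],
  [3, 2, 4, 5, 4, 3, 2, 6, 5, 4, 3, 2],
  [3, 2, 4, 5, 4, 3, 2, 6, 5, 4, 3, 5],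
  [3, 2, 4, 5, 4, 3, 2, 6, 5, 4, 3, 7],
  [3, 2, 4, 5, 4, 3, 2, 6, 5, 4, 5, 6],
  [3, 2, 4, 5, 4, 3, 2, 6, 5, 4, 7, 6],
  [3, 2, 4, 5, 4, 3, 6, 5, 4, 3, 2, 5],
  [3, 2, 4, 5, 4, 3, 6, 5, 4, 3, 5, 4],
  [3, 2, 4, 5, 4, 3, 6, 5, 4, 3, 5, 6],
  [3, 2, 4, 5, 4, 3, 6, 5, 4, 5, 4, 3]]
def ows1c1 : List (List Nat) := [[3, 2, 4, 5, 4, 3, 6, 5, 4, 5, 4, 6],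
  [3, 2, 4, 5, 4, 3, 6, 5, 4, 5, 6, 7],
  [3, 2, 4, 5, 4, 3, 6, 5, 4, 5, 7, 6],
  [3, 2, 4, 5, 4, 3, 6, 5, 4, 7, 6, 5],
  [3, 4, 5, 4, 3, 2, 6, 5, 4, 3, 2, 5],
  [3, 4, 5, 4, 3, 2, 6, 5, 4, 3, 2, 7],
  [3, 4, 5, 4, 3, 2, 6, 5, 4, 3, 5, 4],
  [3, 4, 5, 4, 3, 2, 6, 5, 4, 3, 5, 6],
  [3, 4, 5, 4, 3, 2, 6, 5, 4, 3, 7, 6],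
  [3, 4, 5, 4, 3, 2, 6, 5, 4, 5, 6, 7],
  [3, 4, 5, 4, 3, 2, 6, 5, 4, 7, 6, 5],
  [3, 4, 5, 4, 3, 6, 5, 4, 3, 2, 5, 4],
  [3, 4, 5, 4, 3, 6, 5, 4, 3, 2, 5, 6],
  [3, 4, 5, 4, 3, 6, 5, 4, 3, 2, 5, 7],
  [3, 4, 5, 4, 3, 6, 5, 4, 3, 2, 7, 6],
  [3, 4, 5, 4, 3, 6, 5, 4, 3, 5, 4, 3],
  [3, 4, 5, 4, 3, 6, 5, 4, 3, 5, 4, 5],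
  [3, 4, 5, 4, 3, 6, 5, 4, 3, 5, 4, 6],
  [3, 4, 5, 4, 3, 6, 5, 4, 3, 5, 4, 7],
  [3, 4, 5, 4, 3, 6, 5, 4, 3, 5, 6, 7],
  [3, 4, 5, 4, 3, 6, 5, 4, 3, 5, 7, 6],
  [3, 4, 5, 4, 3, 6, 5, 4, 3, 7, 6, 5],
  [3, 4, 5, 4, 3, 6, 5, 4, 5, 4, 3, 2],
  [3, 4, 5, 4, 3, 6, 5, 4, 5, 4, 3, 6],
  [3, 4, 5, 4, 3, 6, 5, 4, 5, 4, 6, 5],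
  [3, 4, 5, 4, 3, 6, 5, 4, 5, 4, 6, 7],
  [3, 4, 5, 4, 3, 6, 5, 4, 5, 6, 7, 6],
  [3, 4, 5, 4, 3, 6, 5, 4, 5, 7, 6, 5],
  [3, 4, 5, 4, 3, 6, 5, 4, 7, 6, 5, 4],
  [3, 4, 5, 4, 6, 5, 4, 3, 2, 5, 4, 3],
  [3, 4, 5, 4, 6, 5, 4, 3, 2, 5, 4, 5],
  [3, 4, 5, 4, 6, 5, 4, 3, 2, 5, 4, 6],
  [3, 4, 5, 4, 6, 5, 4, 3, 5, 4, 5, 4],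
  [3, 4, 5, 4, 6, 5, 4, 3, 5, 4, 5, 6],
  [3, 4, 5, 4, 6, 5, 4, 3, 5, 4, 6, 5],
  [3, 2, 4, 3, 5, 4, 3, 2, 5, 6, 5, 4, 3],
  [3, 2, 4, 3, 5, 4, 3, 2, 5, 6, 5, 4, 5],
  [3, 2, 4, 3, 5, 4, 3, 2, 5, 6, 5, 4, 7],
  [3, 2, 4, 3, 5, 4, 3, 2, 5, 6, 5, 7, 6],
  [3, 2, 4, 3, 5, 4, 3, 2, 6, 5, 4, 3, 2],
  [3, 2, 4, 3, 5, 4, 3, 2, 6, 5, 4, 3, 5],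
  [3, 2, 4, 3, 5, 4, 3, 2, 6, 5, 4, 3, 7],
  [3, 2, 4, 3, 5, 4, 3, 2, 6, 5, 4, 5, 6],
  [3, 2, 4, 3, 5, 4, 3, 2, 6, 5, 4, 7, 6],
  [3, 2, 4, 3, 5, 4, 3, 5, 6, 5, 4, 3, 2],
  [3, 2, 4, 3, 5, 4, 3, 5, 6, 5, 4, 3, 5],
  [3, 2, 4, 3, 5, 4, 3, 5, 6, 5, 4, 3, 7],
  [3, 2, 4, 3, 5, 4, 3, 5, 6, 5, 4, 5, 4],
  [3, 2, 4, 3, 5, 4, 3, 5, 6, 5, 4, 5, 6],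
  [3, 2, 4, 3, 5, 4, 3, 5, 6, 5, 4, 7, 6],
  [3, 2, 4, 3, 5, 4, 3, 6, 5, 4, 3, 2, 5],
  [3, 2, 4, 3, 5, 4, 3, 6, 5, 4, 3, 2, 7],
  [3, 2, 4, 3, 5, 4, 3, 6, 5, 4, 3, 5, 4],
  [3, 2, 4, 3, 5, 4, 3, 6, 5, 4, 3, 5, 6],
  [3, 2, 4, 3, 5, 4, 3, 6, 5, 4, 3, 5, 7],
  [3, 2, 4, 3, 5, 4, 3, 6, 5, 4, 3, 7, 6],
  [3, 2, 4, 3, 5, 4, 3, 6, 5, 4, 5, 4, 3],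
  [3, 2, 4, 3, 5, 4, 3, 6, 5, 4, 5, 4, 6],
  [3, 2, 4, 3, 5, 4, 3, 6, 5, 4, 5, 6, 7],
  [3, 2, 4, 3, 5, 4, 3, 6, 5, 4, 5, 7, 6],
  [3, 2, 4, 3, 5, 4, 3, 6, 5, 4, 7, 6, 5],
  [3, 2, 4, 3, 5, 4, 5, 6, 5, 4, 3, 2, 5],
  [3, 2, 4, 3, 5, 4, 5, 6, 5, 4, 3, 2, 7],
  [3, 2, 4, 3, 5, 4, 5, 6, 5, 4, 3, 5, 4],
  [3, 2, 4, 3, 5, 4, 5, 6, 5, 4, 3, 5, 6],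
  [3, 2, 4, 3, 5, 4, 5, 6, 5, 4, 3, 5, 7],
  [3, 2, 4, 3, 5, 4, 5, 6, 5, 4, 3, 7, 6],
  [3, 2, 4, 3, 5, 4, 5, 6, 5, 4, 5, 4, 6],
  [3, 2, 4, 3, 5, 4, 5, 6, 5, 4, 5, 6, 7],
  [3, 2, 4, 3, 5, 4, 6, 5, 4, 3, 2, 5, 6],
  [3, 2, 4, 5, 4, 3, 2, 6, 5, 4, 3, 2, 5],
  [3, 2, 4, 5, 4, 3, 2, 6, 5, 4, 3, 5, 4],
  [3, 2, 4, 5, 4, 3, 2, 6, 5, 4, 3, 5, 6],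
  [3, 2, 4, 5, 4, 3, 2, 6, 5, 4, 3, 7, 6],
  [3, 2, 4, 5, 4, 3, 2, 6, 5, 4, 5, 6, 7],
  [3, 2, 4, 5, 4, 3, 2, 6, 5, 4, 7, 6, 5],
  [3, 2, 4, 5, 4, 3, 6, 5, 4, 3, 2, 5, 6],
  [3, 2, 4, 5, 4, 3, 6, 5, 4, 3, 5, 4, 3],
  [3, 2, 4, 5, 4, 3, 6, 5, 4, 3, 5, 4, 6],
  [3, 2, 4, 5, 4, 3, 6, 5, 4, 3, 5, 6, 7],
  [3, 2, 4, 5, 4, 3, 6, 5, 4, 5, 4, 3, 2],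
  [3, 2, 4, 5, 4, 3, 6, 5, 4, 5, 4, 3, 6],
  [3, 2, 4, 5, 4, 3, 6, 5, 4, 5, 4, 6, 5],
  [3, 2, 4, 5, 4, 3, 6, 5, 4, 5, 4, 6, 7],
  [3, 2, 4, 5, 4, 3, 6, 5, 4, 5, 6, 7, 6],
  [3, 2, 4, 5, 4, 3, 6, 5, 4, 5, 7, 6, 5],
  [3, 2, 4, 5, 4, 3, 6, 5, 4, 7, 6, 5, 4],
  [3, 4, 5, 4, 3, 2, 6, 5, 4, 3, 2, 5, 4],
  [3, 4, 5, 4, 3, 2, 6, 5, 4, 3, 2, 5, 6],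
  [3, 4, 5, 4, 3, 2, 6, 5, 4, 3, 2, 7, 6],
  [3, 4, 5, 4, 3, 2, 6, 5, 4, 3, 5, 4, 5],
  [3, 4, 5, 4, 3, 2, 6, 5, 4, 3, 5, 4, 6],
  [3, 4, 5, 4, 3, 2, 6, 5, 4, 3, 5, 6, 7],
  [3, 4, 5, 4, 3, 2, 6, 5, 4, 3, 7, 6, 5],
  [3, 4, 5, 4, 3, 2, 6, 5, 4, 7, 6, 5, 4],
  [3, 4, 5, 4, 3, 6, 5, 4, 3, 2, 5, 4, 3],
  [3, 4, 5, 4, 3, 6, 5, 4, 3, 2, 5, 4, 6],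
  [3, 4, 5, 4, 3, 6, 5, 4, 3, 2, 5, 4, 7],
  [3, 4, 5, 4, 3, 6, 5, 4, 3, 2, 5, 6, 7],
  [3, 4, 5, 4, 3, 6, 5, 4, 3, 2, 5, 7, 6],
  [3, 4, 5, 4, 3, 6, 5, 4, 3, 2, 7, 6, 5],
  [3, 4, 5, 4, 3, 6, 5, 4, 3, 5, 4, 3, 2],
  [3, 4, 5, 4, 3, 6, 5, 4, 3, 5, 4, 3, 5],
  [3, 4, 5, 4, 3, 6, 5, 4, 3, 5, 4, 3, 6],
  [3, 4, 5, 4, 3, 6, 5, 4, 3, 5, 4, 5, 6],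
  [3, 4, 5, 4, 3, 6, 5, 4, 3, 5, 4, 5, 7],
  [3, 4, 5, 4, 3, 6, 5, 4, 3, 5, 4, 6, 5],
  [3, 4, 5, 4, 3, 6, 5, 4, 3, 5, 4, 6, 7],
  [3, 4, 5, 4, 3, 6, 5, 4, 3, 5, 4, 7, 6],
  [3, 4, 5, 4, 3, 6, 5, 4, 3, 5, 6, 7, 6],
  [3, 4, 5, 4, 3, 6, 5, 4, 3, 5, 7, 6, 5],
  [3, 4, 5, 4, 3, 6, 5, 4, 3, 7, 6, 5, 4],
  [3, 4, 5, 4, 3, 6, 5, 4, 5, 4, 3, 2, 6],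
  [3, 4, 5, 4, 3, 6, 5, 4, 5, 4, 3, 6, 5],
  [3, 4, 5, 4, 3, 6, 5, 4, 5, 4, 3, 6, 7],
  [3, 4, 5, 4, 3, 6, 5, 4, 5, 4, 6, 5, 4],
  [3, 4, 5, 4, 3, 6, 5, 4, 5, 4, 6, 5, 7],
  [3, 4, 5, 4, 3, 6, 5, 4, 5, 6, 7, 6, 5],
  [3, 4, 5, 4, 3, 6, 5, 4, 5, 7, 6, 5, 4],
  [3, 4, 5, 4, 3, 6, 5, 4, 7, 6, 5, 4, 3],
  [3, 4, 5, 4, 3, 6, 5, 4, 7, 6, 5, 4, 5],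
  [3, 4, 5, 4, 6, 5, 4, 3, 2, 5, 4, 3, 5],
  [3, 4, 5, 4, 6, 5, 4, 3, 2, 5, 4, 3, 6],
  [3, 4, 5, 4, 6, 5, 4, 3, 2, 5, 4, 5, 6],
  [3, 4, 5, 4, 6, 5, 4, 3, 2, 5, 4, 6, 5],
  [3, 4, 5, 4, 6, 5, 4, 3, 5, 4, 5, 4, 3],
  [3, 4, 5, 4, 6, 5, 4, 3, 5, 4, 5, 4, 6],
  [3, 4, 5, 4, 6, 5, 4, 3, 5, 4, 5, 6, 5],
  [3, 4, 5, 4, 6, 5, 4, 3, 5, 4, 5, 6, 7],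
  [3, 4, 5, 4, 6, 5, 4, 3, 5, 4, 6, 5, 4],
  [3, 2, 4, 3, 5, 4, 3, 2, 5, 6, 5, 4, 3, 2],
  [3, 2, 4, 3, 5, 4, 3, 2, 5, 6, 5, 4, 3, 5],
  [3, 2, 4, 3, 5, 4, 3, 2, 5, 6, 5, 4, 3, 7],
  [3, 2, 4, 3, 5, 4, 3, 2, 5, 6, 5, 4, 5, 4],
  [3, 2, 4, 3, 5, 4, 3, 2, 5, 6, 5, 4, 5, 6],
  [3, 2, 4, 3, 5, 4, 3, 2, 5, 6, 5, 4, 7, 6],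
  [3, 2, 4, 3, 5, 4, 3, 2, 6, 5, 4, 3, 2, 5],
  [3, 2, 4, 3, 5, 4, 3, 2, 6, 5, 4, 3, 2, 7],
  [3, 2, 4, 3, 5, 4, 3, 2, 6, 5, 4, 3, 5, 6],
  [3, 2, 4, 3, 5, 4, 3, 2, 6, 5, 4, 3, 7, 6],
  [3, 2, 4, 3, 5, 4, 3, 2, 6, 5, 4, 5, 6, 7],
  [3, 2, 4, 3, 5, 4, 3, 2, 6, 5, 4, 7, 6, 5],
  [3, 2, 4, 3, 5, 4, 3, 5, 6, 5, 4, 3, 2, 5],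
  [3, 2, 4, 3, 5, 4, 3, 5, 6, 5, 4, 3, 2, 7],
  [3, 2, 4, 3, 5, 4, 3, 5, 6, 5, 4, 3, 5, 4],
  [3, 2, 4, 3, 5, 4, 3, 5, 6, 5, 4, 3, 5, 6],
  [3, 2, 4, 3, 5, 4, 3, 5, 6, 5, 4, 3, 5, 7],
  [3, 2, 4, 3, 5, 4, 3, 5, 6, 5, 4, 3, 7, 6],
  [3, 2, 4, 3, 5, 4, 3, 5, 6, 5, 4, 5, 4, 6],
  [3, 2, 4, 3, 5, 4, 3, 5, 6, 5, 4, 5, 6, 7],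
  [3, 2, 4, 3, 5, 4, 3, 5, 6, 5, 4, 7, 6, 5],
  [3, 2, 4, 3, 5, 4, 3, 6, 5, 4, 3, 2, 5, 4],
  [3, 2, 4, 3, 5, 4, 3, 6, 5, 4, 3, 2, 5, 6],
  [3, 2, 4, 3, 5, 4, 3, 6, 5, 4, 3, 2, 5, 7],
  [3, 2, 4, 3, 5, 4, 3, 6, 5, 4, 3, 2, 7, 6],
  [3, 2, 4, 3, 5, 4, 3, 6, 5, 4, 3, 5, 4, 3],
  [3, 2, 4, 3, 5, 4, 3, 6, 5, 4, 3, 5, 4, 6],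
  [3, 2, 4, 3, 5, 4, 3, 6, 5, 4, 3, 5, 4, 7],
  [3, 2, 4, 3, 5, 4, 3, 6, 5, 4, 3, 5, 6, 7],
  [3, 2, 4, 3, 5, 4, 3, 6, 5, 4, 3, 5, 7, 6],
  [3, 2, 4, 3, 5, 4, 3, 6, 5, 4, 3, 7, 6, 5],
  [3, 2, 4, 3, 5, 4, 3, 6, 5, 4, 5, 4, 3, 6],
  [3, 2, 4, 3, 5, 4, 3, 6, 5, 4, 5, 4, 6, 5],
  [3, 2, 4, 3, 5, 4, 3, 6, 5, 4, 5, 4, 6, 7],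
  [3, 2, 4, 3, 5, 4, 3, 6, 5, 4, 5, 6, 7, 6],
  [3, 2, 4, 3, 5, 4, 3, 6, 5, 4, 5, 7, 6, 5],
  [3, 2, 4, 3, 5, 4, 3, 6, 5, 4, 7, 6, 5, 4],
  [3, 2, 4, 3, 5, 4, 5, 6, 5, 4, 3, 2, 5, 4],
  [3, 2, 4, 3, 5, 4, 5, 6, 5, 4, 3, 2, 5, 6],
  [3, 2, 4, 3, 5, 4, 5, 6, 5, 4, 3, 2, 5, 7],
  [3, 2, 4, 3, 5, 4, 5, 6, 5, 4, 3, 2, 7, 6],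
  [3, 2, 4, 3, 5, 4, 5, 6, 5, 4, 3, 5, 4, 3],
  [3, 2, 4, 3, 5, 4, 5, 6, 5, 4, 3, 5, 4, 5],
  [3, 2, 4, 3, 5, 4, 5, 6, 5, 4, 3, 5, 4, 6],
  [3, 2, 4, 3, 5, 4, 5, 6, 5, 4, 3, 5, 6, 7],
  [3, 2, 4, 3, 5, 4, 5, 6, 5, 4, 3, 5, 7, 6],
  [3, 2, 4, 3, 5, 4, 5, 6, 5, 4, 5, 4, 6, 5],
  [3, 2, 4, 5, 4, 3, 2, 6, 5, 4, 3, 2, 5, 4],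
  [3, 2, 4, 5, 4, 3, 2, 6, 5, 4, 3, 2, 5, 6],
  [3, 2, 4, 5, 4, 3, 2, 6, 5, 4, 3, 5, 4, 5],
  [3, 2, 4, 5, 4, 3, 2, 6, 5, 4, 3, 5, 4, 6],
  [3, 2, 4, 5, 4, 3, 2, 6, 5, 4, 3, 5, 6, 7],
  [3, 2, 4, 5, 4, 3, 2, 6, 5, 4, 3, 7, 6, 5],
  [3, 2, 4, 5, 4, 3, 6, 5, 4, 3, 2, 5, 6, 7],
  [3, 2, 4, 5, 4, 3, 6, 5, 4, 3, 5, 4, 3, 2],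
  [3, 2, 4, 5, 4, 3, 6, 5, 4, 3, 5, 4, 3, 6],
  [3, 2, 4, 5, 4, 3, 6, 5, 4, 3, 5, 4, 6, 5],
  [3, 2, 4, 5, 4, 3, 6, 5, 4, 3, 5, 4, 6, 7],
  [3, 2, 4, 5, 4, 3, 6, 5, 4, 5, 4, 3, 2, 6],
  [3, 2, 4, 5, 4, 3, 6, 5, 4, 5, 4, 3, 6, 5],
  [3, 2, 4, 5, 4, 3, 6, 5, 4, 5, 4, 3, 6, 7],
  [3, 2, 4, 5, 4, 3, 6, 5, 4, 5, 4, 6, 5, 4],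
  [3, 2, 4, 5, 4, 3, 6, 5, 4, 5, 4, 6, 5, 7],
  [3, 2, 4, 5, 4, 3, 6, 5, 4, 5, 6, 7, 6, 5],
  [3, 2, 4, 5, 4, 3, 6, 5, 4, 5, 7, 6, 5, 4],
  [3, 2, 4, 5, 4, 3, 6, 5, 4, 7, 6, 5, 4, 3],
  [3, 4, 5, 4, 3, 2, 6, 5, 4, 3, 2, 5, 4, 3],
  [3, 4, 5, 4, 3, 2, 6, 5, 4, 3, 2, 5, 4, 5],
  [3, 4, 5, 4, 3, 2, 6, 5, 4, 3, 2, 5, 4, 6],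
  [3, 4, 5, 4, 3, 2, 6, 5, 4, 3, 2, 5, 6, 7]]
def ows1c2 : List (List Nat) := [[3, 4, 5, 4, 3, 2, 6, 5, 4, 3, 2, 7, 6, 5],
  [3, 4, 5, 4, 3, 2, 6, 5, 4, 3, 5, 4, 5, 4],
  [3, 4, 5, 4, 3, 2, 6, 5, 4, 3, 5, 4, 5, 6],
  [3, 4, 5, 4, 3, 2, 6, 5, 4, 3, 5, 4, 6, 5],
  [3, 4, 5, 4, 3, 2, 6, 5, 4, 3, 5, 4, 6, 7],
  [3, 4, 5, 4, 3, 2, 6, 5, 4, 3, 7, 6, 5, 4],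
  [3, 4, 5, 4, 3, 2, 6, 5, 4, 7, 6, 5, 4, 3],
  [3, 4, 5, 4, 3, 6, 5, 4, 3, 2, 5, 4, 3, 2],
  [3, 4, 5, 4, 3, 6, 5, 4, 3, 2, 5, 4, 3, 6],
  [3, 4, 5, 4, 3, 6, 5, 4, 3, 2, 5, 4, 3, 7],
  [3, 4, 5, 4, 3, 6, 5, 4, 3, 2, 5, 4, 6, 5],
  [3, 4, 5, 4, 3, 6, 5, 4, 3, 2, 5, 4, 6, 7],
  [3, 4, 5, 4, 3, 6, 5, 4, 3, 2, 5, 4, 7, 6],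
  [3, 4, 5, 4, 3, 6, 5, 4, 3, 2, 5, 6, 7, 6],
  [3, 4, 5, 4, 3, 6, 5, 4, 3, 2, 5, 7, 6, 5],
  [3, 4, 5, 4, 3, 6, 5, 4, 3, 2, 7, 6, 5, 4],
  [3, 4, 5, 4, 3, 6, 5, 4, 3, 5, 4, 3, 2, 5],
  [3, 4, 5, 4, 3, 6, 5, 4, 3, 5, 4, 3, 2, 6],
  [3, 4, 5, 4, 3, 6, 5, 4, 3, 5, 4, 3, 5, 4],
  [3, 4, 5, 4, 3, 6, 5, 4, 3, 5, 4, 3, 5, 6],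
  [3, 4, 5, 4, 3, 6, 5, 4, 3, 5, 4, 3, 6, 5],
  [3, 4, 5, 4, 3, 6, 5, 4, 3, 5, 4, 3, 6, 7],
  [3, 4, 5, 4, 3, 6, 5, 4, 3, 5, 4, 5, 6, 5],
  [3, 4, 5, 4, 3, 6, 5, 4, 3, 5, 4, 5, 6, 7],
  [3, 4, 5, 4, 3, 6, 5, 4, 3, 5, 4, 5, 7, 6],
  [3, 4, 5, 4, 3, 6, 5, 4, 3, 5, 4, 6, 5, 4],
  [3, 4, 5, 4, 3, 6, 5, 4, 3, 5, 4, 6, 5, 7],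
  [3, 4, 5, 4, 3, 6, 5, 4, 3, 5, 4, 6, 7, 6],
  [3, 4, 5, 4, 3, 6, 5, 4, 3, 5, 4, 7, 6, 5],
  [3, 4, 5, 4, 3, 6, 5, 4, 3, 5, 6, 7, 6, 5],
  [3, 4, 5, 4, 3, 6, 5, 4, 3, 5, 7, 6, 5, 4],
  [3, 4, 5, 4, 3, 6, 5, 4, 3, 7, 6, 5, 4, 3],
  [3, 4, 5, 4, 3, 6, 5, 4, 5, 4, 3, 2, 6, 5],
  [3, 4, 5, 4, 3, 6, 5, 4, 5, 4, 3, 2, 6, 7],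
  [3, 4, 5, 4, 3, 6, 5, 4, 5, 4, 3, 6, 5, 4],
  [3, 4, 5, 4, 3, 6, 5, 4, 5, 4, 3, 6, 5, 7],
  [3, 4, 5, 4, 3, 6, 5, 4, 5, 4, 6, 5, 4, 3],
  [3, 4, 5, 4, 3, 6, 5, 4, 5, 4, 6, 5, 4, 5],
  [3, 4, 5, 4, 3, 6, 5, 4, 5, 4, 6, 5, 4, 7],
  [3, 4, 5, 4, 3, 6, 5, 4, 5, 4, 6, 5, 7, 6],
  [3, 4, 5, 4, 3, 6, 5, 4, 5, 6, 7, 6, 5, 4],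
  [3, 4, 5, 4, 3, 6, 5, 4, 5, 7, 6, 5, 4, 3],
  [3, 4, 5, 4, 3, 6, 5, 4, 5, 7, 6, 5, 4, 5],
  [3, 4, 5, 4, 3, 6, 5, 4, 7, 6, 5, 4, 3, 2],
  [3, 4, 5, 4, 3, 6, 5, 4, 7, 6, 5, 4, 3, 5],
  [3, 4, 5, 4, 3, 6, 5, 4, 7, 6, 5, 4, 5, 6],
  [3, 4, 5, 4, 6, 5, 4, 3, 2, 5, 4, 3, 5, 4],
  [3, 4, 5, 4, 6, 5, 4, 3, 2, 5, 4, 3, 5, 6],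
  [3, 4, 5, 4, 6, 5, 4, 3, 2, 5, 4, 3, 6, 5],
  [3, 4, 5, 4, 6, 5, 4, 3, 2, 5, 4, 5, 6, 5],
  [3, 4, 5, 4, 6, 5, 4, 3, 2, 5, 4, 5, 6, 7],
  [3, 4, 5, 4, 6, 5, 4, 3, 2, 5, 4, 6, 5, 4],
  [3, 4, 5, 4, 6, 5, 4, 3, 5, 4, 5, 4, 3, 2],
  [3, 4, 5, 4, 6, 5, 4, 3, 5, 4, 5, 4, 3, 6],
  [3, 4, 5, 4, 6, 5, 4, 3, 5, 4, 5, 4, 6, 5],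
  [3, 4, 5, 4, 6, 5, 4, 3, 5, 4, 5, 4, 6, 7],
  [3, 4, 5, 4, 6, 5, 4, 3, 5, 4, 5, 6, 5, 4],
  [3, 4, 5, 4, 6, 5, 4, 3, 5, 4, 5, 6, 5, 7],
  [3, 4, 5, 4, 6, 5, 4, 3, 5, 4, 6, 5, 4, 3],
  [3, 2, 4, 3, 5, 4, 3, 2, 5, 6, 5, 4, 3, 2, 5],
  [3, 2, 4, 3, 5, 4, 3, 2, 5, 6, 5, 4, 3, 2, 7],
  [3, 2, 4, 3, 5, 4, 3, 2, 5, 6, 5, 4, 3, 5, 4],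
  [3, 2, 4, 3, 5, 4, 3, 2, 5, 6, 5, 4, 3, 5, 6],
  [3, 2, 4, 3, 5, 4, 3, 2, 5, 6, 5, 4, 3, 5, 7],
  [3, 2, 4, 3, 5, 4, 3, 2, 5, 6, 5, 4, 3, 7, 6],
  [3, 2, 4, 3, 5, 4, 3, 2, 5, 6, 5, 4, 5, 4, 6],
  [3, 2, 4, 3, 5, 4, 3, 2, 5, 6, 5, 4, 5, 6, 7],
  [3, 2, 4, 3, 5, 4, 3, 2, 5, 6, 5, 4, 7, 6, 5],
  [3, 2, 4, 3, 5, 4, 3, 2, 6, 5, 4, 3, 2, 5, 6],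
  [3, 2, 4, 3, 5, 4, 3, 2, 6, 5, 4, 3, 2, 7, 6],
  [3, 2, 4, 3, 5, 4, 3, 2, 6, 5, 4, 3, 5, 6, 7],
  [3, 2, 4, 3, 5, 4, 3, 2, 6, 5, 4, 3, 7, 6, 5],
  [3, 2, 4, 3, 5, 4, 3, 2, 6, 5, 4, 7, 6, 5, 4],
  [3, 2, 4, 3, 5, 4, 3, 5, 6, 5, 4, 3, 2, 5, 4],
  [3, 2, 4, 3, 5, 4, 3, 5, 6, 5, 4, 3, 2, 5, 6],
  [3, 2, 4, 3, 5, 4, 3, 5, 6, 5, 4, 3, 2, 5, 7],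
  [3, 2, 4, 3, 5, 4, 3, 5, 6, 5, 4, 3, 2, 7, 6],
  [3, 2, 4, 3, 5, 4, 3, 5, 6, 5, 4, 3, 5, 4, 3],
  [3, 2, 4, 3, 5, 4, 3, 5, 6, 5, 4, 3, 5, 4, 5],
  [3, 2, 4, 3, 5, 4, 3, 5, 6, 5, 4, 3, 5, 4, 6],
  [3, 2, 4, 3, 5, 4, 3, 5, 6, 5, 4, 3, 5, 6, 7],
  [3, 2, 4, 3, 5, 4, 3, 5, 6, 5, 4, 3, 5, 7, 6],
  [3, 2, 4, 3, 5, 4, 3, 5, 6, 5, 4, 3, 7, 6, 5],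
  [3, 2, 4, 3, 5, 4, 3, 5, 6, 5, 4, 5, 4, 6, 5],
  [3, 2, 4, 3, 5, 4, 3, 5, 6, 5, 4, 5, 4, 6, 7],
  [3, 2, 4, 3, 5, 4, 3, 5, 6, 5, 4, 7, 6, 5, 4],
  [3, 2, 4, 3, 5, 4, 3, 6, 5, 4, 3, 2, 5, 4, 3],
  [3, 2, 4, 3, 5, 4, 3, 6, 5, 4, 3, 2, 5, 4, 6],
  [3, 2, 4, 3, 5, 4, 3, 6, 5, 4, 3, 2, 5, 4, 7],
  [3, 2, 4, 3, 5, 4, 3, 6, 5, 4, 3, 2, 5, 6, 7],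
  [3, 2, 4, 3, 5, 4, 3, 6, 5, 4, 3, 2, 5, 7, 6],
  [3, 2, 4, 3, 5, 4, 3, 6, 5, 4, 3, 2, 7, 6, 5],
  [3, 2, 4, 3, 5, 4, 3, 6, 5, 4, 3, 5, 4, 3, 6],
  [3, 2, 4, 3, 5, 4, 3, 6, 5, 4, 3, 5, 4, 6, 5],
  [3, 2, 4, 3, 5, 4, 3, 6, 5, 4, 3, 5, 4, 6, 7],
  [3, 2, 4, 3, 5, 4, 3, 6, 5, 4, 3, 5, 4, 7, 6],
  [3, 2, 4, 3, 5, 4, 3, 6, 5, 4, 3, 5, 6, 7, 6],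
  [3, 2, 4, 3, 5, 4, 3, 6, 5, 4, 3, 5, 7, 6, 5],
  [3, 2, 4, 3, 5, 4, 3, 6, 5, 4, 3, 7, 6, 5, 4],
  [3, 2, 4, 3, 5, 4, 3, 6, 5, 4, 5, 4, 3, 6, 5],
  [3, 2, 4, 3, 5, 4, 3, 6, 5, 4, 5, 4, 3, 6, 7],
  [3, 2, 4, 3, 5, 4, 3, 6, 5, 4, 5, 6, 7, 6, 5],
  [3, 2, 4, 3, 5, 4, 3, 6, 5, 4, 5, 7, 6, 5, 4],
  [3, 2, 4, 3, 5, 4, 3, 6, 5, 4, 7, 6, 5, 4, 3],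
  [3, 2, 4, 3, 5, 4, 3, 6, 5, 4, 7, 6, 5, 4, 5],
  [3, 2, 4, 3, 5, 4, 5, 6, 5, 4, 3, 2, 5, 4, 3],
  [3, 2, 4, 3, 5, 4, 5, 6, 5, 4, 3, 2, 5, 4, 5],
  [3, 2, 4, 3, 5, 4, 5, 6, 5, 4, 3, 2, 5, 4, 6],
  [3, 2, 4, 3, 5, 4, 5, 6, 5, 4, 3, 2, 5, 4, 7],
  [3, 2, 4, 3, 5, 4, 5, 6, 5, 4, 3, 2, 5, 6, 7],
  [3, 2, 4, 3, 5, 4, 5, 6, 5, 4, 3, 2, 5, 7, 6],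
  [3, 2, 4, 3, 5, 4, 5, 6, 5, 4, 3, 5, 4, 3, 5],
  [3, 2, 4, 3, 5, 4, 5, 6, 5, 4, 3, 5, 4, 3, 6],
  [3, 2, 4, 3, 5, 4, 5, 6, 5, 4, 3, 5, 4, 5, 4],
  [3, 2, 4, 3, 5, 4, 5, 6, 5, 4, 3, 5, 4, 5, 6],
  [3, 2, 4, 3, 5, 4, 5, 6, 5, 4, 3, 5, 4, 6, 5],
  [3, 2, 4, 3, 5, 4, 5, 6, 5, 4, 3, 5, 4, 6, 7],
  [3, 2, 4, 3, 5, 4, 5, 6, 5, 4, 3, 5, 6, 7, 6],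
  [3, 2, 4, 5, 4, 3, 2, 6, 5, 4, 3, 2, 5, 4, 6],
  [3, 2, 4, 5, 4, 3, 2, 6, 5, 4, 3, 2, 5, 6, 7],
  [3, 2, 4, 5, 4, 3, 2, 6, 5, 4, 3, 5, 4, 5, 6],
  [3, 2, 4, 5, 4, 3, 2, 6, 5, 4, 3, 5, 4, 6, 5],
  [3, 2, 4, 5, 4, 3, 2, 6, 5, 4, 3, 5, 4, 6, 7],
  [3, 2, 4, 5, 4, 3, 2, 6, 5, 4, 3, 7, 6, 5, 4],
  [3, 2, 4, 5, 4, 3, 6, 5, 4, 3, 5, 4, 3, 2, 6],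
  [3, 2, 4, 5, 4, 3, 6, 5, 4, 3, 5, 4, 3, 6, 5],
  [3, 2, 4, 5, 4, 3, 6, 5, 4, 3, 5, 4, 3, 6, 7],
  [3, 2, 4, 5, 4, 3, 6, 5, 4, 3, 5, 4, 6, 5, 4],
  [3, 2, 4, 5, 4, 3, 6, 5, 4, 3, 5, 4, 6, 5, 7],
  [3, 2, 4, 5, 4, 3, 6, 5, 4, 5, 4, 3, 2, 6, 5],
  [3, 2, 4, 5, 4, 3, 6, 5, 4, 5, 4, 3, 2, 6, 7],
  [3, 2, 4, 5, 4, 3, 6, 5, 4, 5, 4, 3, 6, 5, 4],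
  [3, 2, 4, 5, 4, 3, 6, 5, 4, 5, 4, 3, 6, 5, 7],
  [3, 2, 4, 5, 4, 3, 6, 5, 4, 5, 4, 6, 5, 4, 3],
  [3, 2, 4, 5, 4, 3, 6, 5, 4, 5, 4, 6, 5, 7, 6],
  [3, 2, 4, 5, 4, 3, 6, 5, 4, 5, 6, 7, 6, 5, 4],
  [3, 2, 4, 5, 4, 3, 6, 5, 4, 5, 7, 6, 5, 4, 3],
  [3, 2, 4, 5, 4, 3, 6, 5, 4, 5, 7, 6, 5, 4, 5],
  [3, 2, 4, 5, 4, 3, 6, 5, 4, 7, 6, 5, 4, 3, 2],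
  [3, 4, 5, 4, 3, 2, 6, 5, 4, 3, 2, 5, 4, 3, 6],
  [3, 4, 5, 4, 3, 2, 6, 5, 4, 3, 2, 5, 4, 5, 6],
  [3, 4, 5, 4, 3, 2, 6, 5, 4, 3, 2, 5, 4, 6, 5],
  [3, 4, 5, 4, 3, 2, 6, 5, 4, 3, 2, 5, 4, 6, 7],
  [3, 4, 5, 4, 3, 2, 6, 5, 4, 3, 2, 7, 6, 5, 4],
  [3, 4, 5, 4, 3, 2, 6, 5, 4, 3, 5, 4, 5, 4, 6],
  [3, 4, 5, 4, 3, 2, 6, 5, 4, 3, 5, 4, 5, 6, 5],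
  [3, 4, 5, 4, 3, 2, 6, 5, 4, 3, 5, 4, 5, 6, 7],
  [3, 4, 5, 4, 3, 2, 6, 5, 4, 3, 5, 4, 6, 5, 4],
  [3, 4, 5, 4, 3, 2, 6, 5, 4, 3, 5, 4, 6, 5, 7],
  [3, 4, 5, 4, 3, 2, 6, 5, 4, 3, 7, 6, 5, 4, 3],
  [3, 4, 5, 4, 3, 2, 6, 5, 4, 3, 7, 6, 5, 4, 5],
  [3, 4, 5, 4, 3, 2, 6, 5, 4, 7, 6, 5, 4, 3, 2],
  [3, 4, 5, 4, 3, 6, 5, 4, 3, 2, 5, 4, 3, 2, 6],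
  [3, 4, 5, 4, 3, 6, 5, 4, 3, 2, 5, 4, 3, 6, 5],
  [3, 4, 5, 4, 3, 6, 5, 4, 3, 2, 5, 4, 3, 6, 7],
  [3, 4, 5, 4, 3, 6, 5, 4, 3, 2, 5, 4, 3, 7, 6],
  [3, 4, 5, 4, 3, 6, 5, 4, 3, 2, 5, 4, 6, 5, 4],
  [3, 4, 5, 4, 3, 6, 5, 4, 3, 2, 5, 4, 6, 5, 7],
  [3, 4, 5, 4, 3, 6, 5, 4, 3, 2, 5, 4, 6, 7, 6],
  [3, 4, 5, 4, 3, 6, 5, 4, 3, 2, 5, 4, 7, 6, 5],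
  [3, 4, 5, 4, 3, 6, 5, 4, 3, 2, 5, 6, 7, 6, 5],
  [3, 4, 5, 4, 3, 6, 5, 4, 3, 2, 5, 7, 6, 5, 4],
  [3, 4, 5, 4, 3, 6, 5, 4, 3, 2, 7, 6, 5, 4, 3],
  [3, 4, 5, 4, 3, 6, 5, 4, 3, 5, 4, 3, 2, 5, 6],
  [3, 4, 5, 4, 3, 6, 5, 4, 3, 5, 4, 3, 2, 6, 5],
  [3, 4, 5, 4, 3, 6, 5, 4, 3, 5, 4, 3, 2, 6, 7],
  [3, 4, 5, 4, 3, 6, 5, 4, 3, 5, 4, 3, 5, 4, 6],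
  [3, 4, 5, 4, 3, 6, 5, 4, 3, 5, 4, 3, 5, 6, 5],
  [3, 4, 5, 4, 3, 6, 5, 4, 3, 5, 4, 3, 5, 6, 7],
  [3, 4, 5, 4, 3, 6, 5, 4, 3, 5, 4, 3, 6, 5, 4],
  [3, 4, 5, 4, 3, 6, 5, 4, 3, 5, 4, 3, 6, 5, 7],
  [3, 4, 5, 4, 3, 6, 5, 4, 3, 5, 4, 5, 6, 5, 4],
  [3, 4, 5, 4, 3, 6, 5, 4, 3, 5, 4, 5, 6, 5, 7],
  [3, 4, 5, 4, 3, 6, 5, 4, 3, 5, 4, 5, 6, 7, 6],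
  [3, 4, 5, 4, 3, 6, 5, 4, 3, 5, 4, 5, 7, 6, 5],
  [3, 4, 5, 4, 3, 6, 5, 4, 3, 5, 4, 6, 5, 4, 3],
  [3, 4, 5, 4, 3, 6, 5, 4, 3, 5, 4, 6, 5, 4, 5],
  [3, 4, 5, 4, 3, 6, 5, 4, 3, 5, 4, 6, 5, 4, 7],
  [3, 4, 5, 4, 3, 6, 5, 4, 3, 5, 4, 6, 5, 7, 6],
  [3, 4, 5, 4, 3, 6, 5, 4, 3, 5, 4, 6, 7, 6, 5],
  [3, 4, 5, 4, 3, 6, 5, 4, 3, 5, 4, 7, 6, 5, 4],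
  [3, 4, 5, 4, 3, 6, 5, 4, 3, 5, 6, 7, 6, 5, 4],
  [3, 4, 5, 4, 3, 6, 5, 4, 3, 5, 7, 6, 5, 4, 3],
  [3, 4, 5, 4, 3, 6, 5, 4, 3, 5, 7, 6, 5, 4, 5],
  [3, 4, 5, 4, 3, 6, 5, 4, 3, 7, 6, 5, 4, 3, 2],
  [3, 4, 5, 4, 3, 6, 5, 4, 5, 4, 3, 2, 6, 5, 4],
  [3, 4, 5, 4, 3, 6, 5, 4, 5, 4, 3, 2, 6, 5, 7],
  [3, 4, 5, 4, 3, 6, 5, 4, 5, 4, 3, 6, 5, 4, 3],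
  [3, 4, 5, 4, 3, 6, 5, 4, 5, 4, 3, 6, 5, 4, 5],
  [3, 4, 5, 4, 3, 6, 5, 4, 5, 4, 3, 6, 5, 4, 7],
  [3, 4, 5, 4, 3, 6, 5, 4, 5, 4, 3, 6, 5, 7, 6],
  [3, 4, 5, 4, 3, 6, 5, 4, 5, 4, 6, 5, 4, 3, 2],
  [3, 4, 5, 4, 3, 6, 5, 4, 5, 4, 6, 5, 4, 3, 5],
  [3, 4, 5, 4, 3, 6, 5, 4, 5, 4, 6, 5, 4, 3, 7],
  [3, 4, 5, 4, 3, 6, 5, 4, 5, 4, 6, 5, 4, 7, 6],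
  [3, 4, 5, 4, 3, 6, 5, 4, 5, 6, 7, 6, 5, 4, 3],
  [3, 4, 5, 4, 3, 6, 5, 4, 5, 7, 6, 5, 4, 3, 2],
  [3, 4, 5, 4, 3, 6, 5, 4, 5, 7, 6, 5, 4, 3, 5],
  [3, 4, 5, 4, 3, 6, 5, 4, 5, 7, 6, 5, 4, 5, 6],
  [3, 4, 5, 4, 3, 6, 5, 4, 7, 6, 5, 4, 3, 2, 5]]
def ows1c3 : List (List Nat) := [[3, 4, 5, 4, 3, 6, 5, 4, 7, 6, 5, 4, 3, 5, 4],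
  [3, 4, 5, 4, 3, 6, 5, 4, 7, 6, 5, 4, 3, 5, 6],
  [3, 4, 5, 4, 6, 5, 4, 3, 2, 5, 4, 3, 5, 4, 6],
  [3, 4, 5, 4, 6, 5, 4, 3, 2, 5, 4, 3, 5, 6, 5],
  [3, 4, 5, 4, 6, 5, 4, 3, 2, 5, 4, 3, 5, 6, 7],
  [3, 4, 5, 4, 6, 5, 4, 3, 2, 5, 4, 3, 6, 5, 4],
  [3, 4, 5, 4, 6, 5, 4, 3, 2, 5, 4, 5, 6, 5, 4],
  [3, 4, 5, 4, 6, 5, 4, 3, 2, 5, 4, 5, 6, 5, 7],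
  [3, 4, 5, 4, 6, 5, 4, 3, 2, 5, 4, 6, 5, 4, 3],
  [3, 4, 5, 4, 6, 5, 4, 3, 5, 4, 5, 4, 3, 2, 6],
  [3, 4, 5, 4, 6, 5, 4, 3, 5, 4, 5, 4, 3, 6, 5],
  [3, 4, 5, 4, 6, 5, 4, 3, 5, 4, 5, 4, 3, 6, 7],
  [3, 4, 5, 4, 6, 5, 4, 3, 5, 4, 5, 4, 6, 5, 4],
  [3, 4, 5, 4, 6, 5, 4, 3, 5, 4, 5, 4, 6, 5, 7],
  [3, 4, 5, 4, 6, 5, 4, 3, 5, 4, 5, 6, 5, 4, 3],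
  [3, 4, 5, 4, 6, 5, 4, 3, 5, 4, 5, 6, 5, 4, 5],
  [3, 4, 5, 4, 6, 5, 4, 3, 5, 4, 5, 6, 5, 4, 7],
  [3, 4, 5, 4, 6, 5, 4, 3, 5, 4, 6, 5, 4, 3, 2],
  [3, 2, 4, 3, 5, 4, 3, 2, 5, 6, 5, 4, 3, 2, 5, 4],
  [3, 2, 4, 3, 5, 4, 3, 2, 5, 6, 5, 4, 3, 2, 5, 6],
  [3, 2, 4, 3, 5, 4, 3, 2, 5, 6, 5, 4, 3, 2, 5, 7],
  [3, 2, 4, 3, 5, 4, 3, 2, 5, 6, 5, 4, 3, 2, 7, 6],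
  [3, 2, 4, 3, 5, 4, 3, 2, 5, 6, 5, 4, 3, 5, 4, 3],
  [3, 2, 4, 3, 5, 4, 3, 2, 5, 6, 5, 4, 3, 5, 4, 5],
  [3, 2, 4, 3, 5, 4, 3, 2, 5, 6, 5, 4, 3, 5, 4, 6],
  [3, 2, 4, 3, 5, 4, 3, 2, 5, 6, 5, 4, 3, 5, 6, 7],
  [3, 2, 4, 3, 5, 4, 3, 2, 5, 6, 5, 4, 3, 5, 7, 6],
  [3, 2, 4, 3, 5, 4, 3, 2, 5, 6, 5, 4, 3, 7, 6, 5],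
  [3, 2, 4, 3, 5, 4, 3, 2, 5, 6, 5, 4, 5, 4, 6, 5],
  [3, 2, 4, 3, 5, 4, 3, 2, 5, 6, 5, 4, 5, 4, 6, 7],
  [3, 2, 4, 3, 5, 4, 3, 2, 6, 5, 4, 3, 2, 5, 6, 7],
  [3, 2, 4, 3, 5, 4, 3, 2, 6, 5, 4, 3, 2, 7, 6, 5],
  [3, 2, 4, 3, 5, 4, 3, 2, 6, 5, 4, 3, 7, 6, 5, 4],
  [3, 2, 4, 3, 5, 4, 3, 2, 6, 5, 4, 7, 6, 5, 4, 3],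
  [3, 2, 4, 3, 5, 4, 3, 5, 6, 5, 4, 3, 2, 5, 4, 3],
  [3, 2, 4, 3, 5, 4, 3, 5, 6, 5, 4, 3, 2, 5, 4, 5],
  [3, 2, 4, 3, 5, 4, 3, 5, 6, 5, 4, 3, 2, 5, 4, 6],
  [3, 2, 4, 3, 5, 4, 3, 5, 6, 5, 4, 3, 2, 5, 4, 7],
  [3, 2, 4, 3, 5, 4, 3, 5, 6, 5, 4, 3, 2, 5, 6, 7],
  [3, 2, 4, 3, 5, 4, 3, 5, 6, 5, 4, 3, 2, 5, 7, 6],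
  [3, 2, 4, 3, 5, 4, 3, 5, 6, 5, 4, 3, 2, 7, 6, 5],
  [3, 2, 4, 3, 5, 4, 3, 5, 6, 5, 4, 3, 5, 4, 3, 5],
  [3, 2, 4, 3, 5, 4, 3, 5, 6, 5, 4, 3, 5, 4, 3, 6],
  [3, 2, 4, 3, 5, 4, 3, 5, 6, 5, 4, 3, 5, 4, 5, 4],
  [3, 2, 4, 3, 5, 4, 3, 5, 6, 5, 4, 3, 5, 4, 5, 6],
  [3, 2, 4, 3, 5, 4, 3, 5, 6, 5, 4, 3, 5, 4, 6, 5],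
  [3, 2, 4, 3, 5, 4, 3, 5, 6, 5, 4, 3, 5, 4, 6, 7],
  [3, 2, 4, 3, 5, 4, 3, 5, 6, 5, 4, 3, 5, 6, 7, 6],
  [3, 2, 4, 3, 5, 4, 3, 5, 6, 5, 4, 3, 5, 7, 6, 5],
  [3, 2, 4, 3, 5, 4, 3, 5, 6, 5, 4, 3, 7, 6, 5, 4],
  [3, 2, 4, 3, 5, 4, 3, 5, 6, 5, 4, 5, 4, 6, 5, 4],
  [3, 2, 4, 3, 5, 4, 3, 5, 6, 5, 4, 5, 4, 6, 5, 7],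
  [3, 2, 4, 3, 5, 4, 3, 5, 6, 5, 4, 7, 6, 5, 4, 3],
  [3, 2, 4, 3, 5, 4, 3, 6, 5, 4, 3, 2, 5, 4, 3, 6],
  [3, 2, 4, 3, 5, 4, 3, 6, 5, 4, 3, 2, 5, 4, 6, 5],
  [3, 2, 4, 3, 5, 4, 3, 6, 5, 4, 3, 2, 5, 4, 6, 7],
  [3, 2, 4, 3, 5, 4, 3, 6, 5, 4, 3, 2, 5, 4, 7, 6],
  [3, 2, 4, 3, 5, 4, 3, 6, 5, 4, 3, 2, 5, 6, 7, 6],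
  [3, 2, 4, 3, 5, 4, 3, 6, 5, 4, 3, 2, 5, 7, 6, 5],
  [3, 2, 4, 3, 5, 4, 3, 6, 5, 4, 3, 2, 7, 6, 5, 4],
  [3, 2, 4, 3, 5, 4, 3, 6, 5, 4, 3, 5, 4, 3, 6, 5],
  [3, 2, 4, 3, 5, 4, 3, 6, 5, 4, 3, 5, 4, 3, 6, 7],
  [3, 2, 4, 3, 5, 4, 3, 6, 5, 4, 3, 5, 4, 6, 5, 4],
  [3, 2, 4, 3, 5, 4, 3, 6, 5, 4, 3, 5, 4, 6, 5, 7],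
  [3, 2, 4, 3, 5, 4, 3, 6, 5, 4, 3, 5, 4, 6, 7, 6],
  [3, 2, 4, 3, 5, 4, 3, 6, 5, 4, 3, 5, 4, 7, 6, 5],
  [3, 2, 4, 3, 5, 4, 3, 6, 5, 4, 3, 5, 6, 7, 6, 5],
  [3, 2, 4, 3, 5, 4, 3, 6, 5, 4, 3, 5, 7, 6, 5, 4],
  [3, 2, 4, 3, 5, 4, 3, 6, 5, 4, 3, 7, 6, 5, 4, 3],
  [3, 2, 4, 3, 5, 4, 3, 6, 5, 4, 3, 7, 6, 5, 4, 5],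
  [3, 2, 4, 3, 5, 4, 3, 6, 5, 4, 5, 4, 3, 6, 5, 4],
  [3, 2, 4, 3, 5, 4, 3, 6, 5, 4, 5, 7, 6, 5, 4, 3],
  [3, 2, 4, 3, 5, 4, 3, 6, 5, 4, 7, 6, 5, 4, 3, 2],
  [3, 2, 4, 3, 5, 4, 3, 6, 5, 4, 7, 6, 5, 4, 3, 5],
  [3, 2, 4, 3, 5, 4, 3, 6, 5, 4, 7, 6, 5, 4, 5, 6],
  [3, 2, 4, 3, 5, 4, 5, 6, 5, 4, 3, 2, 5, 4, 3, 2],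
  [3, 2, 4, 3, 5, 4, 5, 6, 5, 4, 3, 2, 5, 4, 3, 5],
  [3, 2, 4, 3, 5, 4, 5, 6, 5, 4, 3, 2, 5, 4, 3, 6],
  [3, 2, 4, 3, 5, 4, 5, 6, 5, 4, 3, 2, 5, 4, 5, 6],
  [3, 2, 4, 3, 5, 4, 5, 6, 5, 4, 3, 2, 5, 4, 6, 5],
  [3, 2, 4, 3, 5, 4, 5, 6, 5, 4, 3, 2, 5, 4, 6, 7],
  [3, 2, 4, 3, 5, 4, 5, 6, 5, 4, 3, 2, 5, 4, 7, 6],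
  [3, 2, 4, 3, 5, 4, 5, 6, 5, 4, 3, 2, 5, 6, 7, 6],
  [3, 2, 4, 3, 5, 4, 5, 6, 5, 4, 3, 5, 4, 3, 5, 6],
  [3, 2, 4, 3, 5, 4, 5, 6, 5, 4, 3, 5, 4, 3, 6, 5],
  [3, 2, 4, 3, 5, 4, 5, 6, 5, 4, 3, 5, 4, 3, 6, 7],
  [3, 2, 4, 3, 5, 4, 5, 6, 5, 4, 3, 5, 4, 5, 4, 3],
  [3, 2, 4, 3, 5, 4, 5, 6, 5, 4, 3, 5, 4, 5, 4, 6],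
  [3, 2, 4, 3, 5, 4, 5, 6, 5, 4, 3, 5, 4, 5, 6, 5],
  [3, 2, 4, 3, 5, 4, 5, 6, 5, 4, 3, 5, 4, 5, 6, 7],
  [3, 2, 4, 3, 5, 4, 5, 6, 5, 4, 3, 5, 4, 6, 5, 4],
  [3, 2, 4, 3, 5, 4, 5, 6, 5, 4, 3, 5, 4, 6, 5, 7],
  [3, 2, 4, 5, 4, 3, 2, 6, 5, 4, 3, 2, 5, 4, 6, 5],
  [3, 2, 4, 5, 4, 3, 2, 6, 5, 4, 3, 2, 5, 4, 6, 7],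
  [3, 2, 4, 5, 4, 3, 2, 6, 5, 4, 3, 5, 4, 5, 6, 5],
  [3, 2, 4, 5, 4, 3, 2, 6, 5, 4, 3, 5, 4, 5, 6, 7],
  [3, 2, 4, 5, 4, 3, 2, 6, 5, 4, 3, 5, 4, 6, 5, 4],
  [3, 2, 4, 5, 4, 3, 2, 6, 5, 4, 3, 5, 4, 6, 5, 7],
  [3, 2, 4, 5, 4, 3, 2, 6, 5, 4, 3, 7, 6, 5, 4, 5],
  [3, 2, 4, 5, 4, 3, 6, 5, 4, 3, 5, 4, 3, 2, 6, 5],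
  [3, 2, 4, 5, 4, 3, 6, 5, 4, 3, 5, 4, 3, 2, 6, 7],
  [3, 2, 4, 5, 4, 3, 6, 5, 4, 3, 5, 4, 3, 6, 5, 4],
  [3, 2, 4, 5, 4, 3, 6, 5, 4, 3, 5, 4, 3, 6, 5, 7],
  [3, 2, 4, 5, 4, 3, 6, 5, 4, 3, 5, 4, 6, 5, 4, 3],
  [3, 2, 4, 5, 4, 3, 6, 5, 4, 3, 5, 4, 6, 5, 4, 5],
  [3, 2, 4, 5, 4, 3, 6, 5, 4, 3, 5, 4, 6, 5, 4, 7],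
  [3, 2, 4, 5, 4, 3, 6, 5, 4, 3, 5, 4, 6, 5, 7, 6],
  [3, 2, 4, 5, 4, 3, 6, 5, 4, 5, 4, 3, 2, 6, 5, 4],
  [3, 2, 4, 5, 4, 3, 6, 5, 4, 5, 4, 3, 2, 6, 5, 7],
  [3, 2, 4, 5, 4, 3, 6, 5, 4, 5, 4, 3, 6, 5, 4, 3],
  [3, 2, 4, 5, 4, 3, 6, 5, 4, 5, 4, 3, 6, 5, 4, 5],
  [3, 2, 4, 5, 4, 3, 6, 5, 4, 5, 4, 3, 6, 5, 4, 7],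
  [3, 2, 4, 5, 4, 3, 6, 5, 4, 5, 4, 3, 6, 5, 7, 6],
  [3, 2, 4, 5, 4, 3, 6, 5, 4, 5, 4, 6, 5, 4, 3, 2],
  [3, 2, 4, 5, 4, 3, 6, 5, 4, 5, 6, 7, 6, 5, 4, 3],
  [3, 2, 4, 5, 4, 3, 6, 5, 4, 5, 7, 6, 5, 4, 3, 2],
  [3, 2, 4, 5, 4, 3, 6, 5, 4, 5, 7, 6, 5, 4, 3, 5],
  [3, 4, 5, 4, 3, 2, 6, 5, 4, 3, 2, 5, 4, 3, 6, 5],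
  [3, 4, 5, 4, 3, 2, 6, 5, 4, 3, 2, 5, 4, 3, 6, 7],
  [3, 4, 5, 4, 3, 2, 6, 5, 4, 3, 2, 5, 4, 5, 6, 5],
  [3, 4, 5, 4, 3, 2, 6, 5, 4, 3, 2, 5, 4, 5, 6, 7],
  [3, 4, 5, 4, 3, 2, 6, 5, 4, 3, 2, 5, 4, 6, 5, 4],
  [3, 4, 5, 4, 3, 2, 6, 5, 4, 3, 2, 5, 4, 6, 5, 7],
  [3, 4, 5, 4, 3, 2, 6, 5, 4, 3, 2, 7, 6, 5, 4, 3],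
  [3, 4, 5, 4, 3, 2, 6, 5, 4, 3, 2, 7, 6, 5, 4, 5],
  [3, 4, 5, 4, 3, 2, 6, 5, 4, 3, 5, 4, 5, 4, 6, 5],
  [3, 4, 5, 4, 3, 2, 6, 5, 4, 3, 5, 4, 5, 4, 6, 7],
  [3, 4, 5, 4, 3, 2, 6, 5, 4, 3, 5, 4, 5, 6, 5, 4],
  [3, 4, 5, 4, 3, 2, 6, 5, 4, 3, 5, 4, 5, 6, 5, 7],
  [3, 4, 5, 4, 3, 2, 6, 5, 4, 3, 5, 4, 6, 5, 4, 3],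
  [3, 4, 5, 4, 3, 2, 6, 5, 4, 3, 5, 4, 6, 5, 4, 5],
  [3, 4, 5, 4, 3, 2, 6, 5, 4, 3, 5, 4, 6, 5, 4, 7],
  [3, 4, 5, 4, 3, 2, 6, 5, 4, 3, 5, 4, 6, 5, 7, 6],
  [3, 4, 5, 4, 3, 2, 6, 5, 4, 3, 7, 6, 5, 4, 3, 2],
  [3, 4, 5, 4, 3, 2, 6, 5, 4, 3, 7, 6, 5, 4, 3, 5],
  [3, 4, 5, 4, 3, 2, 6, 5, 4, 3, 7, 6, 5, 4, 5, 6],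
  [3, 4, 5, 4, 3, 6, 5, 4, 3, 2, 5, 4, 3, 2, 6, 5],
  [3, 4, 5, 4, 3, 6, 5, 4, 3, 2, 5, 4, 3, 2, 6, 7],
  [3, 4, 5, 4, 3, 6, 5, 4, 3, 2, 5, 4, 3, 6, 5, 4],
  [3, 4, 5, 4, 3, 6, 5, 4, 3, 2, 5, 4, 3, 6, 5, 7],
  [3, 4, 5, 4, 3, 6, 5, 4, 3, 2, 5, 4, 3, 6, 7, 6],
  [3, 4, 5, 4, 3, 6, 5, 4, 3, 2, 5, 4, 3, 7, 6, 5],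
  [3, 4, 5, 4, 3, 6, 5, 4, 3, 2, 5, 4, 6, 5, 4, 3],
  [3, 4, 5, 4, 3, 6, 5, 4, 3, 2, 5, 4, 6, 5, 7, 6],
  [3, 4, 5, 4, 3, 6, 5, 4, 3, 2, 5, 4, 6, 7, 6, 5],
  [3, 4, 5, 4, 3, 6, 5, 4, 3, 2, 5, 4, 7, 6, 5, 4],
  [3, 4, 5, 4, 3, 6, 5, 4, 3, 2, 5, 6, 7, 6, 5, 4],
  [3, 4, 5, 4, 3, 6, 5, 4, 3, 2, 5, 7, 6, 5, 4, 3],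
  [3, 4, 5, 4, 3, 6, 5, 4, 3, 2, 5, 7, 6, 5, 4, 5],
  [3, 4, 5, 4, 3, 6, 5, 4, 3, 2, 7, 6, 5, 4, 3, 2],
  [3, 4, 5, 4, 3, 6, 5, 4, 3, 5, 4, 3, 2, 5, 6, 5],
  [3, 4, 5, 4, 3, 6, 5, 4, 3, 5, 4, 3, 2, 5, 6, 7],
  [3, 4, 5, 4, 3, 6, 5, 4, 3, 5, 4, 3, 2, 6, 5, 4],
  [3, 4, 5, 4, 3, 6, 5, 4, 3, 5, 4, 3, 2, 6, 5, 7],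
  [3, 4, 5, 4, 3, 6, 5, 4, 3, 5, 4, 3, 5, 4, 6, 5],
  [3, 4, 5, 4, 3, 6, 5, 4, 3, 5, 4, 3, 5, 4, 6, 7],
  [3, 4, 5, 4, 3, 6, 5, 4, 3, 5, 4, 3, 5, 6, 5, 4],
  [3, 4, 5, 4, 3, 6, 5, 4, 3, 5, 4, 3, 5, 6, 5, 7],
  [3, 4, 5, 4, 3, 6, 5, 4, 3, 5, 4, 3, 6, 5, 4, 3],
  [3, 4, 5, 4, 3, 6, 5, 4, 3, 5, 4, 3, 6, 5, 4, 5],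
  [3, 4, 5, 4, 3, 6, 5, 4, 3, 5, 4, 3, 6, 5, 4, 7],
  [3, 4, 5, 4, 3, 6, 5, 4, 3, 5, 4, 3, 6, 5, 7, 6],
  [3, 4, 5, 4, 3, 6, 5, 4, 3, 5, 4, 5, 6, 5, 4, 3],
  [3, 4, 5, 4, 3, 6, 5, 4, 3, 5, 4, 5, 6, 5, 7, 6],
  [3, 4, 5, 4, 3, 6, 5, 4, 3, 5, 4, 5, 6, 7, 6, 5],
  [3, 4, 5, 4, 3, 6, 5, 4, 3, 5, 4, 5, 7, 6, 5, 4],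
  [3, 4, 5, 4, 3, 6, 5, 4, 3, 5, 4, 6, 5, 4, 3, 2],
  [3, 4, 5, 4, 3, 6, 5, 4, 3, 5, 4, 6, 5, 4, 3, 5],
  [3, 4, 5, 4, 3, 6, 5, 4, 3, 5, 4, 6, 5, 4, 3, 7],
  [3, 4, 5, 4, 3, 6, 5, 4, 3, 5, 4, 6, 5, 4, 5, 6],
  [3, 4, 5, 4, 3, 6, 5, 4, 3, 5, 4, 6, 5, 4, 7, 6],
  [3, 4, 5, 4, 3, 6, 5, 4, 3, 5, 4, 6, 5, 7, 6, 5],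
  [3, 4, 5, 4, 3, 6, 5, 4, 3, 5, 4, 6, 7, 6, 5, 4],
  [3, 4, 5, 4, 3, 6, 5, 4, 3, 5, 4, 7, 6, 5, 4, 3],
  [3, 4, 5, 4, 3, 6, 5, 4, 3, 5, 4, 7, 6, 5, 4, 5],
  [3, 4, 5, 4, 3, 6, 5, 4, 3, 5, 6, 7, 6, 5, 4, 3],
  [3, 4, 5, 4, 3, 6, 5, 4, 3, 5, 6, 7, 6, 5, 4, 5],
  [3, 4, 5, 4, 3, 6, 5, 4, 3, 5, 7, 6, 5, 4, 3, 2],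
  [3, 4, 5, 4, 3, 6, 5, 4, 3, 5, 7, 6, 5, 4, 3, 5],
  [3, 4, 5, 4, 3, 6, 5, 4, 3, 5, 7, 6, 5, 4, 5, 4],
  [3, 4, 5, 4, 3, 6, 5, 4, 5, 4, 3, 2, 6, 5, 4, 3],
  [3, 4, 5, 4, 3, 6, 5, 4, 5, 4, 3, 2, 6, 5, 4, 5],
  [3, 4, 5, 4, 3, 6, 5, 4, 5, 4, 3, 2, 6, 5, 4, 7],
  [3, 4, 5, 4, 3, 6, 5, 4, 5, 4, 3, 2, 6, 5, 7, 6],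
  [3, 4, 5, 4, 3, 6, 5, 4, 5, 4, 3, 6, 5, 4, 3, 2],
  [3, 4, 5, 4, 3, 6, 5, 4, 5, 4, 3, 6, 5, 4, 3, 5],
  [3, 4, 5, 4, 3, 6, 5, 4, 5, 4, 3, 6, 5, 4, 3, 7],
  [3, 4, 5, 4, 3, 6, 5, 4, 5, 4, 3, 6, 5, 4, 5, 4],
  [3, 4, 5, 4, 3, 6, 5, 4, 5, 4, 3, 6, 5, 4, 5, 6],
  [3, 4, 5, 4, 3, 6, 5, 4, 5, 4, 3, 6, 5, 4, 5, 7],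
  [3, 4, 5, 4, 3, 6, 5, 4, 5, 4, 3, 6, 5, 4, 7, 6],
  [3, 4, 5, 4, 3, 6, 5, 4, 5, 4, 6, 5, 4, 3, 2, 5],
  [3, 4, 5, 4, 3, 6, 5, 4, 5, 4, 6, 5, 4, 3, 2, 7],
  [3, 4, 5, 4, 3, 6, 5, 4, 5, 4, 6, 5, 4, 3, 5, 4],
  [3, 4, 5, 4, 3, 6, 5, 4, 5, 4, 6, 5, 4, 3, 7, 6],
  [3, 4, 5, 4, 3, 6, 5, 4, 5, 6, 7, 6, 5, 4, 3, 2],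
  [3, 4, 5, 4, 3, 6, 5, 4, 5, 7, 6, 5, 4, 3, 2, 5],
  [3, 4, 5, 4, 3, 6, 5, 4, 5, 7, 6, 5, 4, 3, 5, 4],
  [3, 4, 5, 4, 3, 6, 5, 4, 5, 7, 6, 5, 4, 3, 5, 6],
  [3, 4, 5, 4, 3, 6, 5, 4, 7, 6, 5, 4, 3, 2, 5, 4]]
def ows1c4 : List (List Nat) := [[3, 4, 5, 4, 3, 6, 5, 4, 7, 6, 5, 4, 3, 2, 5, 6],
  [3, 4, 5, 4, 3, 6, 5, 4, 7, 6, 5, 4, 3, 5, 4, 5],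
  [3, 4, 5, 4, 3, 6, 5, 4, 7, 6, 5, 4, 3, 5, 4, 6],
  [3, 4, 5, 4, 6, 5, 4, 3, 2, 5, 4, 3, 5, 4, 6, 5],
  [3, 4, 5, 4, 6, 5, 4, 3, 2, 5, 4, 3, 5, 4, 6, 7],
  [3, 4, 5, 4, 6, 5, 4, 3, 2, 5, 4, 3, 5, 6, 5, 4],
  [3, 4, 5, 4, 6, 5, 4, 3, 2, 5, 4, 3, 6, 5, 4, 3],
  [3, 4, 5, 4, 6, 5, 4, 3, 2, 5, 4, 3, 6, 5, 4, 5],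
  [3, 4, 5, 4, 6, 5, 4, 3, 2, 5, 4, 5, 6, 5, 4, 3],
  [3, 4, 5, 4, 6, 5, 4, 3, 2, 5, 4, 5, 6, 5, 4, 5],
  [3, 4, 5, 4, 6, 5, 4, 3, 2, 5, 4, 5, 6, 5, 4, 7],
  [3, 4, 5, 4, 6, 5, 4, 3, 2, 5, 4, 6, 5, 4, 3, 2],
  [3, 4, 5, 4, 6, 5, 4, 3, 5, 4, 5, 4, 3, 2, 6, 5],
  [3, 4, 5, 4, 6, 5, 4, 3, 5, 4, 5, 4, 3, 2, 6, 7],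
  [3, 4, 5, 4, 6, 5, 4, 3, 5, 4, 5, 4, 3, 6, 5, 4],
  [3, 4, 5, 4, 6, 5, 4, 3, 5, 4, 5, 4, 3, 6, 5, 7],
  [3, 4, 5, 4, 6, 5, 4, 3, 5, 4, 5, 4, 6, 5, 4, 3],
  [3, 4, 5, 4, 6, 5, 4, 3, 5, 4, 5, 4, 6, 5, 4, 5],
  [3, 4, 5, 4, 6, 5, 4, 3, 5, 4, 5, 4, 6, 5, 4, 7],
  [3, 4, 5, 4, 6, 5, 4, 3, 5, 4, 5, 4, 6, 5, 7, 6],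
  [3, 4, 5, 4, 6, 5, 4, 3, 5, 4, 5, 6, 5, 4, 3, 2],
  [3, 4, 5, 4, 6, 5, 4, 3, 5, 4, 5, 6, 5, 4, 3, 5],
  [3, 4, 5, 4, 6, 5, 4, 3, 5, 4, 5, 6, 5, 4, 3, 7],
  [3, 4, 5, 4, 6, 5, 4, 3, 5, 4, 5, 6, 5, 4, 5, 4],
  [3, 4, 5, 4, 6, 5, 4, 3, 5, 4, 5, 6, 5, 4, 5, 7],
  [3, 2, 4, 3, 5, 4, 3, 2, 5, 6, 5, 4, 3, 2, 5, 4, 3],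
  [3, 2, 4, 3, 5, 4, 3, 2, 5, 6, 5, 4, 3, 2, 5, 4, 5],
  [3, 2, 4, 3, 5, 4, 3, 2, 5, 6, 5, 4, 3, 2, 5, 4, 6],
  [3, 2, 4, 3, 5, 4, 3, 2, 5, 6, 5, 4, 3, 2, 5, 4, 7],
  [3, 2, 4, 3, 5, 4, 3, 2, 5, 6, 5, 4, 3, 2, 5, 6, 7],
  [3, 2, 4, 3, 5, 4, 3, 2, 5, 6, 5, 4, 3, 2, 5, 7, 6],
  [3, 2, 4, 3, 5, 4, 3, 2, 5, 6, 5, 4, 3, 2, 7, 6, 5],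
  [3, 2, 4, 3, 5, 4, 3, 2, 5, 6, 5, 4, 3, 5, 4, 3, 5],
  [3, 2, 4, 3, 5, 4, 3, 2, 5, 6, 5, 4, 3, 5, 4, 3, 6],
  [3, 2, 4, 3, 5, 4, 3, 2, 5, 6, 5, 4, 3, 5, 4, 5, 4],
  [3, 2, 4, 3, 5, 4, 3, 2, 5, 6, 5, 4, 3, 5, 4, 5, 6],
  [3, 2, 4, 3, 5, 4, 3, 2, 5, 6, 5, 4, 3, 5, 4, 6, 5],
  [3, 2, 4, 3, 5, 4, 3, 2, 5, 6, 5, 4, 3, 5, 4, 6, 7],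
  [3, 2, 4, 3, 5, 4, 3, 2, 5, 6, 5, 4, 3, 5, 6, 7, 6],
  [3, 2, 4, 3, 5, 4, 3, 2, 5, 6, 5, 4, 3, 5, 7, 6, 5],
  [3, 2, 4, 3, 5, 4, 3, 2, 5, 6, 5, 4, 3, 7, 6, 5, 4],
  [3, 2, 4, 3, 5, 4, 3, 2, 6, 5, 4, 3, 2, 7, 6, 5, 4],
  [3, 2, 4, 3, 5, 4, 3, 2, 6, 5, 4, 3, 7, 6, 5, 4, 3],
  [3, 2, 4, 3, 5, 4, 3, 2, 6, 5, 4, 3, 7, 6, 5, 4, 5],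
  [3, 2, 4, 3, 5, 4, 3, 2, 6, 5, 4, 7, 6, 5, 4, 3, 2],
  [3, 2, 4, 3, 5, 4, 3, 5, 6, 5, 4, 3, 2, 5, 4, 3, 2],
  [3, 2, 4, 3, 5, 4, 3, 5, 6, 5, 4, 3, 2, 5, 4, 3, 5],
  [3, 2, 4, 3, 5, 4, 3, 5, 6, 5, 4, 3, 2, 5, 4, 3, 6],
  [3, 2, 4, 3, 5, 4, 3, 5, 6, 5, 4, 3, 2, 5, 4, 5, 6],
  [3, 2, 4, 3, 5, 4, 3, 5, 6, 5, 4, 3, 2, 5, 4, 6, 5],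
  [3, 2, 4, 3, 5, 4, 3, 5, 6, 5, 4, 3, 2, 5, 4, 6, 7],
  [3, 2, 4, 3, 5, 4, 3, 5, 6, 5, 4, 3, 2, 5, 4, 7, 6],
  [3, 2, 4, 3, 5, 4, 3, 5, 6, 5, 4, 3, 2, 5, 6, 7, 6],
  [3, 2, 4, 3, 5, 4, 3, 5, 6, 5, 4, 3, 2, 5, 7, 6, 5],
  [3, 2, 4, 3, 5, 4, 3, 5, 6, 5, 4, 3, 2, 7, 6, 5, 4],
  [3, 2, 4, 3, 5, 4, 3, 5, 6, 5, 4, 3, 5, 4, 3, 5, 6],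
  [3, 2, 4, 3, 5, 4, 3, 5, 6, 5, 4, 3, 5, 4, 3, 6, 5],
  [3, 2, 4, 3, 5, 4, 3, 5, 6, 5, 4, 3, 5, 4, 3, 6, 7],
  [3, 2, 4, 3, 5, 4, 3, 5, 6, 5, 4, 3, 5, 4, 5, 4, 3],
  [3, 2, 4, 3, 5, 4, 3, 5, 6, 5, 4, 3, 5, 4, 5, 4, 6],
  [3, 2, 4, 3, 5, 4, 3, 5, 6, 5, 4, 3, 5, 4, 5, 6, 5],
  [3, 2, 4, 3, 5, 4, 3, 5, 6, 5, 4, 3, 5, 4, 5, 6, 7],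
  [3, 2, 4, 3, 5, 4, 3, 5, 6, 5, 4, 3, 5, 4, 6, 5, 4],
  [3, 2, 4, 3, 5, 4, 3, 5, 6, 5, 4, 3, 5, 4, 6, 5, 7],
  [3, 2, 4, 3, 5, 4, 3, 5, 6, 5, 4, 3, 5, 6, 7, 6, 5],
  [3, 2, 4, 3, 5, 4, 3, 5, 6, 5, 4, 3, 5, 7, 6, 5, 4],
  [3, 2, 4, 3, 5, 4, 3, 5, 6, 5, 4, 3, 7, 6, 5, 4, 3],
  [3, 2, 4, 3, 5, 4, 3, 5, 6, 5, 4, 3, 7, 6, 5, 4, 5],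
  [3, 2, 4, 3, 5, 4, 3, 5, 6, 5, 4, 5, 4, 6, 5, 4, 3],
  [3, 2, 4, 3, 5, 4, 3, 5, 6, 5, 4, 7, 6, 5, 4, 3, 2],
  [3, 2, 4, 3, 5, 4, 3, 6, 5, 4, 3, 2, 5, 4, 3, 6, 5],
  [3, 2, 4, 3, 5, 4, 3, 6, 5, 4, 3, 2, 5, 4, 3, 6, 7],
  [3, 2, 4, 3, 5, 4, 3, 6, 5, 4, 3, 2, 5, 4, 6, 5, 4],
  [3, 2, 4, 3, 5, 4, 3, 6, 5, 4, 3, 2, 5, 4, 6, 5, 7],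
  [3, 2, 4, 3, 5, 4, 3, 6, 5, 4, 3, 2, 5, 4, 6, 7, 6],
  [3, 2, 4, 3, 5, 4, 3, 6, 5, 4, 3, 2, 5, 4, 7, 6, 5],
  [3, 2, 4, 3, 5, 4, 3, 6, 5, 4, 3, 2, 5, 6, 7, 6, 5],
  [3, 2, 4, 3, 5, 4, 3, 6, 5, 4, 3, 2, 5, 7, 6, 5, 4],
  [3, 2, 4, 3, 5, 4, 3, 6, 5, 4, 3, 2, 7, 6, 5, 4, 3],
  [3, 2, 4, 3, 5, 4, 3, 6, 5, 4, 3, 2, 7, 6, 5, 4, 5],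
  [3, 2, 4, 3, 5, 4, 3, 6, 5, 4, 3, 5, 4, 3, 6, 5, 4],
  [3, 2, 4, 3, 5, 4, 3, 6, 5, 4, 3, 5, 4, 3, 6, 5, 7],
  [3, 2, 4, 3, 5, 4, 3, 6, 5, 4, 3, 5, 4, 6, 5, 4, 3],
  [3, 2, 4, 3, 5, 4, 3, 6, 5, 4, 3, 5, 4, 6, 5, 4, 5],
  [3, 2, 4, 3, 5, 4, 3, 6, 5, 4, 3, 5, 4, 6, 5, 4, 7],
  [3, 2, 4, 3, 5, 4, 3, 6, 5, 4, 3, 5, 4, 6, 5, 7, 6],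
  [3, 2, 4, 3, 5, 4, 3, 6, 5, 4, 3, 5, 4, 6, 7, 6, 5],
  [3, 2, 4, 3, 5, 4, 3, 6, 5, 4, 3, 5, 4, 7, 6, 5, 4],
  [3, 2, 4, 3, 5, 4, 3, 6, 5, 4, 3, 5, 6, 7, 6, 5, 4],
  [3, 2, 4, 3, 5, 4, 3, 6, 5, 4, 3, 5, 7, 6, 5, 4, 3],
  [3, 2, 4, 3, 5, 4, 3, 6, 5, 4, 3, 5, 7, 6, 5, 4, 5],
  [3, 2, 4, 3, 5, 4, 3, 6, 5, 4, 3, 7, 6, 5, 4, 3, 2],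
  [3, 2, 4, 3, 5, 4, 3, 6, 5, 4, 3, 7, 6, 5, 4, 3, 5],
  [3, 2, 4, 3, 5, 4, 3, 6, 5, 4, 3, 7, 6, 5, 4, 5, 4],
  [3, 2, 4, 3, 5, 4, 3, 6, 5, 4, 3, 7, 6, 5, 4, 5, 6],
  [3, 2, 4, 3, 5, 4, 3, 6, 5, 4, 5, 4, 3, 6, 5, 4, 5],
  [3, 2, 4, 3, 5, 4, 3, 6, 5, 4, 5, 7, 6, 5, 4, 3, 2],
  [3, 2, 4, 3, 5, 4, 3, 6, 5, 4, 7, 6, 5, 4, 3, 2, 5],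
  [3, 2, 4, 3, 5, 4, 3, 6, 5, 4, 7, 6, 5, 4, 3, 5, 4],
  [3, 2, 4, 3, 5, 4, 3, 6, 5, 4, 7, 6, 5, 4, 3, 5, 6],
  [3, 2, 4, 3, 5, 4, 5, 6, 5, 4, 3, 2, 5, 4, 3, 2, 6],
  [3, 2, 4, 3, 5, 4, 5, 6, 5, 4, 3, 2, 5, 4, 3, 5, 6],
  [3, 2, 4, 3, 5, 4, 5, 6, 5, 4, 3, 2, 5, 4, 3, 6, 5],
  [3, 2, 4, 3, 5, 4, 5, 6, 5, 4, 3, 2, 5, 4, 3, 6, 7],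
  [3, 2, 4, 3, 5, 4, 5, 6, 5, 4, 3, 2, 5, 4, 5, 6, 5],
  [3, 2, 4, 3, 5, 4, 5, 6, 5, 4, 3, 2, 5, 4, 5, 6, 7],
  [3, 2, 4, 3, 5, 4, 5, 6, 5, 4, 3, 2, 5, 4, 6, 7, 6],
  [3, 2, 4, 3, 5, 4, 5, 6, 5, 4, 3, 2, 5, 4, 7, 6, 5],
  [3, 2, 4, 3, 5, 4, 5, 6, 5, 4, 3, 5, 4, 3, 5, 6, 5],
  [3, 2, 4, 3, 5, 4, 5, 6, 5, 4, 3, 5, 4, 3, 5, 6, 7],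
  [3, 2, 4, 3, 5, 4, 5, 6, 5, 4, 3, 5, 4, 3, 6, 5, 4],
  [3, 2, 4, 3, 5, 4, 5, 6, 5, 4, 3, 5, 4, 3, 6, 5, 7],
  [3, 2, 4, 3, 5, 4, 5, 6, 5, 4, 3, 5, 4, 5, 4, 3, 6],
  [3, 2, 4, 3, 5, 4, 5, 6, 5, 4, 3, 5, 4, 5, 4, 6, 5],
  [3, 2, 4, 3, 5, 4, 5, 6, 5, 4, 3, 5, 4, 5, 4, 6, 7],
  [3, 2, 4, 3, 5, 4, 5, 6, 5, 4, 3, 5, 4, 5, 6, 5, 4],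
  [3, 2, 4, 3, 5, 4, 5, 6, 5, 4, 3, 5, 4, 5, 6, 5, 7],
  [3, 2, 4, 3, 5, 4, 5, 6, 5, 4, 3, 5, 4, 6, 5, 4, 3],
  [3, 2, 4, 3, 5, 4, 5, 6, 5, 4, 3, 5, 4, 6, 5, 7, 6],
  [3, 2, 4, 5, 4, 3, 2, 6, 5, 4, 3, 2, 5, 4, 6, 5, 4],
  [3, 2, 4, 5, 4, 3, 2, 6, 5, 4, 3, 2, 5, 4, 6, 5, 7],
  [3, 2, 4, 5, 4, 3, 2, 6, 5, 4, 3, 5, 4, 5, 6, 5, 4],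
  [3, 2, 4, 5, 4, 3, 2, 6, 5, 4, 3, 5, 4, 5, 6, 5, 7],
  [3, 2, 4, 5, 4, 3, 2, 6, 5, 4, 3, 5, 4, 6, 5, 4, 3],
  [3, 2, 4, 5, 4, 3, 2, 6, 5, 4, 3, 5, 4, 6, 5, 4, 5],
  [3, 2, 4, 5, 4, 3, 2, 6, 5, 4, 3, 5, 4, 6, 5, 4, 7],
  [3, 2, 4, 5, 4, 3, 2, 6, 5, 4, 3, 5, 4, 6, 5, 7, 6],
  [3, 2, 4, 5, 4, 3, 2, 6, 5, 4, 3, 7, 6, 5, 4, 5, 6],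
  [3, 2, 4, 5, 4, 3, 6, 5, 4, 3, 5, 4, 3, 2, 6, 5, 4],
  [3, 2, 4, 5, 4, 3, 6, 5, 4, 3, 5, 4, 3, 2, 6, 5, 7],
  [3, 2, 4, 5, 4, 3, 6, 5, 4, 3, 5, 4, 3, 6, 5, 4, 3],
  [3, 2, 4, 5, 4, 3, 6, 5, 4, 3, 5, 4, 3, 6, 5, 4, 5],
  [3, 2, 4, 5, 4, 3, 6, 5, 4, 3, 5, 4, 3, 6, 5, 4, 7],
  [3, 2, 4, 5, 4, 3, 6, 5, 4, 3, 5, 4, 3, 6, 5, 7, 6],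
  [3, 2, 4, 5, 4, 3, 6, 5, 4, 3, 5, 4, 6, 5, 4, 3, 2],
  [3, 2, 4, 5, 4, 3, 6, 5, 4, 3, 5, 4, 6, 5, 4, 3, 5],
  [3, 2, 4, 5, 4, 3, 6, 5, 4, 3, 5, 4, 6, 5, 4, 3, 7],
  [3, 2, 4, 5, 4, 3, 6, 5, 4, 3, 5, 4, 6, 5, 4, 5, 6],
  [3, 2, 4, 5, 4, 3, 6, 5, 4, 3, 5, 4, 6, 5, 4, 7, 6],
  [3, 2, 4, 5, 4, 3, 6, 5, 4, 5, 4, 3, 2, 6, 5, 4, 3],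
  [3, 2, 4, 5, 4, 3, 6, 5, 4, 5, 4, 3, 2, 6, 5, 4, 5],
  [3, 2, 4, 5, 4, 3, 6, 5, 4, 5, 4, 3, 2, 6, 5, 4, 7],
  [3, 2, 4, 5, 4, 3, 6, 5, 4, 5, 4, 3, 2, 6, 5, 7, 6],
  [3, 2, 4, 5, 4, 3, 6, 5, 4, 5, 4, 3, 6, 5, 4, 3, 2],
  [3, 2, 4, 5, 4, 3, 6, 5, 4, 5, 4, 3, 6, 5, 4, 3, 5],
  [3, 2, 4, 5, 4, 3, 6, 5, 4, 5, 4, 3, 6, 5, 4, 5, 4],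
  [3, 2, 4, 5, 4, 3, 6, 5, 4, 5, 4, 3, 6, 5, 4, 5, 6],
  [3, 2, 4, 5, 4, 3, 6, 5, 4, 5, 4, 3, 6, 5, 4, 5, 7],
  [3, 2, 4, 5, 4, 3, 6, 5, 4, 5, 4, 3, 6, 5, 4, 7, 6],
  [3, 2, 4, 5, 4, 3, 6, 5, 4, 5, 6, 7, 6, 5, 4, 3, 2],
  [3, 2, 4, 5, 4, 3, 6, 5, 4, 5, 7, 6, 5, 4, 3, 2, 5],
  [3, 2, 4, 5, 4, 3, 6, 5, 4, 5, 7, 6, 5, 4, 3, 5, 4],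
  [3, 4, 5, 4, 3, 2, 6, 5, 4, 3, 2, 5, 4, 3, 6, 5, 4],
  [3, 4, 5, 4, 3, 2, 6, 5, 4, 3, 2, 5, 4, 3, 6, 5, 7],
  [3, 4, 5, 4, 3, 2, 6, 5, 4, 3, 2, 5, 4, 5, 6, 5, 4],
  [3, 4, 5, 4, 3, 2, 6, 5, 4, 3, 2, 5, 4, 5, 6, 5, 7],
  [3, 4, 5, 4, 3, 2, 6, 5, 4, 3, 2, 5, 4, 6, 5, 4, 3],
  [3, 4, 5, 4, 3, 2, 6, 5, 4, 3, 2, 5, 4, 6, 5, 7, 6],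
  [3, 4, 5, 4, 3, 2, 6, 5, 4, 3, 2, 7, 6, 5, 4, 3, 2],
  [3, 4, 5, 4, 3, 2, 6, 5, 4, 3, 2, 7, 6, 5, 4, 3, 5],
  [3, 4, 5, 4, 3, 2, 6, 5, 4, 3, 2, 7, 6, 5, 4, 5, 6],
  [3, 4, 5, 4, 3, 2, 6, 5, 4, 3, 5, 4, 5, 4, 6, 5, 4],
  [3, 4, 5, 4, 3, 2, 6, 5, 4, 3, 5, 4, 5, 4, 6, 5, 7],
  [3, 4, 5, 4, 3, 2, 6, 5, 4, 3, 5, 4, 5, 6, 5, 4, 3],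
  [3, 4, 5, 4, 3, 2, 6, 5, 4, 3, 5, 4, 5, 6, 5, 4, 5],
  [3, 4, 5, 4, 3, 2, 6, 5, 4, 3, 5, 4, 5, 6, 5, 4, 7],
  [3, 4, 5, 4, 3, 2, 6, 5, 4, 3, 5, 4, 5, 6, 5, 7, 6],
  [3, 4, 5, 4, 3, 2, 6, 5, 4, 3, 5, 4, 6, 5, 4, 3, 2],
  [3, 4, 5, 4, 3, 2, 6, 5, 4, 3, 5, 4, 6, 5, 4, 3, 5],
  [3, 4, 5, 4, 3, 2, 6, 5, 4, 3, 5, 4, 6, 5, 4, 3, 7],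
  [3, 4, 5, 4, 3, 2, 6, 5, 4, 3, 5, 4, 6, 5, 4, 5, 6],
  [3, 4, 5, 4, 3, 2, 6, 5, 4, 3, 5, 4, 6, 5, 4, 7, 6],
  [3, 4, 5, 4, 3, 2, 6, 5, 4, 3, 7, 6, 5, 4, 3, 2, 5],
  [3, 4, 5, 4, 3, 2, 6, 5, 4, 3, 7, 6, 5, 4, 3, 5, 4],
  [3, 4, 5, 4, 3, 2, 6, 5, 4, 3, 7, 6, 5, 4, 3, 5, 6],
  [3, 4, 5, 4, 3, 2, 6, 5, 4, 3, 7, 6, 5, 4, 5, 6, 7],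
  [3, 4, 5, 4, 3, 6, 5, 4, 3, 2, 5, 4, 3, 2, 6, 5, 4],
  [3, 4, 5, 4, 3, 6, 5, 4, 3, 2, 5, 4, 3, 2, 6, 5, 7],
  [3, 4, 5, 4, 3, 6, 5, 4, 3, 2, 5, 4, 3, 6, 5, 4, 3],
  [3, 4, 5, 4, 3, 6, 5, 4, 3, 2, 5, 4, 3, 6, 5, 4, 5],
  [3, 4, 5, 4, 3, 6, 5, 4, 3, 2, 5, 4, 3, 6, 5, 4, 7],
  [3, 4, 5, 4, 3, 6, 5, 4, 3, 2, 5, 4, 3, 6, 5, 7, 6],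
  [3, 4, 5, 4, 3, 6, 5, 4, 3, 2, 5, 4, 3, 6, 7, 6, 5],
  [3, 4, 5, 4, 3, 6, 5, 4, 3, 2, 5, 4, 3, 7, 6, 5, 4],
  [3, 4, 5, 4, 3, 6, 5, 4, 3, 2, 5, 4, 6, 5, 4, 3, 2],
  [3, 4, 5, 4, 3, 6, 5, 4, 3, 2, 5, 4, 6, 5, 7, 6, 5],
  [3, 4, 5, 4, 3, 6, 5, 4, 3, 2, 5, 4, 6, 7, 6, 5, 4],
  [3, 4, 5, 4, 3, 6, 5, 4, 3, 2, 5, 4, 7, 6, 5, 4, 3],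
  [3, 4, 5, 4, 3, 6, 5, 4, 3, 2, 5, 4, 7, 6, 5, 4, 5],
  [3, 4, 5, 4, 3, 6, 5, 4, 3, 2, 5, 6, 7, 6, 5, 4, 3],
  [3, 4, 5, 4, 3, 6, 5, 4, 3, 2, 5, 6, 7, 6, 5, 4, 5],
  [3, 4, 5, 4, 3, 6, 5, 4, 3, 2, 5, 7, 6, 5, 4, 3, 2],
  [3, 4, 5, 4, 3, 6, 5, 4, 3, 2, 5, 7, 6, 5, 4, 3, 5],
  [3, 4, 5, 4, 3, 6, 5, 4, 3, 2, 5, 7, 6, 5, 4, 5, 4],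
  [3, 4, 5, 4, 3, 6, 5, 4, 3, 5, 4, 3, 2, 5, 6, 5, 4],
  [3, 4, 5, 4, 3, 6, 5, 4, 3, 5, 4, 3, 2, 5, 6, 5, 7],
  [3, 4, 5, 4, 3, 6, 5, 4, 3, 5, 4, 3, 2, 6, 5, 4, 3],
  [3, 4, 5, 4, 3, 6, 5, 4, 3, 5, 4, 3, 2, 6, 5, 4, 5],
  [3, 4, 5, 4, 3, 6, 5, 4, 3, 5, 4, 3, 2, 6, 5, 4, 7],
  [3, 4, 5, 4, 3, 6, 5, 4, 3, 5, 4, 3, 2, 6, 5, 7, 6]]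
def ows1c5 : List (List Nat) := [[3, 4, 5, 4, 3, 6, 5, 4, 3, 5, 4, 3, 5, 4, 6, 5, 4],
  [3, 4, 5, 4, 3, 6, 5, 4, 3, 5, 4, 3, 5, 4, 6, 5, 7],
  [3, 4, 5, 4, 3, 6, 5, 4, 3, 5, 4, 3, 5, 6, 5, 4, 3],
  [3, 4, 5, 4, 3, 6, 5, 4, 3, 5, 4, 3, 5, 6, 5, 4, 5],
  [3, 4, 5, 4, 3, 6, 5, 4, 3, 5, 4, 3, 5, 6, 5, 4, 7],
  [3, 4, 5, 4, 3, 6, 5, 4, 3, 5, 4, 3, 5, 6, 5, 7, 6],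
  [3, 4, 5, 4, 3, 6, 5, 4, 3, 5, 4, 3, 6, 5, 4, 3, 2],
  [3, 4, 5, 4, 3, 6, 5, 4, 3, 5, 4, 3, 6, 5, 4, 3, 5],
  [3, 4, 5, 4, 3, 6, 5, 4, 3, 5, 4, 3, 6, 5, 4, 3, 7],
  [3, 4, 5, 4, 3, 6, 5, 4, 3, 5, 4, 3, 6, 5, 4, 5, 4],
  [3, 4, 5, 4, 3, 6, 5, 4, 3, 5, 4, 3, 6, 5, 4, 5, 6],
  [3, 4, 5, 4, 3, 6, 5, 4, 3, 5, 4, 3, 6, 5, 4, 5, 7],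
  [3, 4, 5, 4, 3, 6, 5, 4, 3, 5, 4, 3, 6, 5, 4, 7, 6],
  [3, 4, 5, 4, 3, 6, 5, 4, 3, 5, 4, 5, 6, 5, 4, 3, 2],
  [3, 4, 5, 4, 3, 6, 5, 4, 3, 5, 4, 5, 6, 5, 7, 6, 5],
  [3, 4, 5, 4, 3, 6, 5, 4, 3, 5, 4, 5, 6, 7, 6, 5, 4],
  [3, 4, 5, 4, 3, 6, 5, 4, 3, 5, 4, 5, 7, 6, 5, 4, 3],
  [3, 4, 5, 4, 3, 6, 5, 4, 3, 5, 4, 5, 7, 6, 5, 4, 5],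
  [3, 4, 5, 4, 3, 6, 5, 4, 3, 5, 4, 6, 5, 4, 3, 2, 5],
  [3, 4, 5, 4, 3, 6, 5, 4, 3, 5, 4, 6, 5, 4, 3, 2, 7],
  [3, 4, 5, 4, 3, 6, 5, 4, 3, 5, 4, 6, 5, 4, 3, 5, 4],
  [3, 4, 5, 4, 3, 6, 5, 4, 3, 5, 4, 6, 5, 4, 3, 5, 6],
  [3, 4, 5, 4, 3, 6, 5, 4, 3, 5, 4, 6, 5, 4, 3, 7, 6],
  [3, 4, 5, 4, 3, 6, 5, 4, 3, 5, 4, 6, 5, 7, 6, 5, 4],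
  [3, 4, 5, 4, 3, 6, 5, 4, 3, 5, 4, 6, 7, 6, 5, 4, 3],
  [3, 4, 5, 4, 3, 6, 5, 4, 3, 5, 4, 7, 6, 5, 4, 3, 2],
  [3, 4, 5, 4, 3, 6, 5, 4, 3, 5, 4, 7, 6, 5, 4, 3, 5],
  [3, 4, 5, 4, 3, 6, 5, 4, 3, 5, 4, 7, 6, 5, 4, 5, 6],
  [3, 4, 5, 4, 3, 6, 5, 4, 3, 5, 6, 7, 6, 5, 4, 3, 2],
  [3, 4, 5, 4, 3, 6, 5, 4, 3, 5, 6, 7, 6, 5, 4, 3, 5],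
  [3, 4, 5, 4, 3, 6, 5, 4, 3, 5, 6, 7, 6, 5, 4, 5, 6],
  [3, 4, 5, 4, 3, 6, 5, 4, 3, 5, 7, 6, 5, 4, 3, 2, 5],
  [3, 4, 5, 4, 3, 6, 5, 4, 3, 5, 7, 6, 5, 4, 3, 5, 4],
  [3, 4, 5, 4, 3, 6, 5, 4, 3, 5, 7, 6, 5, 4, 5, 4, 3],
  [3, 4, 5, 4, 3, 6, 5, 4, 5, 4, 3, 2, 6, 5, 4, 3, 2],
  [3, 4, 5, 4, 3, 6, 5, 4, 5, 4, 3, 2, 6, 5, 4, 3, 5],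
  [3, 4, 5, 4, 3, 6, 5, 4, 5, 4, 3, 2, 6, 5, 4, 3, 7],
  [3, 4, 5, 4, 3, 6, 5, 4, 5, 4, 3, 2, 6, 5, 4, 5, 6],
  [3, 4, 5, 4, 3, 6, 5, 4, 5, 4, 3, 2, 6, 5, 4, 7, 6],
  [3, 4, 5, 4, 3, 6, 5, 4, 5, 4, 3, 6, 5, 4, 3, 2, 5],
  [3, 4, 5, 4, 3, 6, 5, 4, 5, 4, 3, 6, 5, 4, 3, 2, 7],
  [3, 4, 5, 4, 3, 6, 5, 4, 5, 4, 3, 6, 5, 4, 3, 5, 4],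
  [3, 4, 5, 4, 3, 6, 5, 4, 5, 4, 3, 6, 5, 4, 3, 5, 6],
  [3, 4, 5, 4, 3, 6, 5, 4, 5, 4, 3, 6, 5, 4, 3, 5, 7],
  [3, 4, 5, 4, 3, 6, 5, 4, 5, 4, 3, 6, 5, 4, 3, 7, 6],
  [3, 4, 5, 4, 3, 6, 5, 4, 5, 4, 3, 6, 5, 4, 5, 4, 3],
  [3, 4, 5, 4, 3, 6, 5, 4, 5, 4, 3, 6, 5, 4, 5, 4, 6],
  [3, 4, 5, 4, 3, 6, 5, 4, 5, 4, 3, 6, 5, 4, 5, 6, 7],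
  [3, 4, 5, 4, 3, 6, 5, 4, 5, 4, 3, 6, 5, 4, 5, 7, 6],
  [3, 4, 5, 4, 3, 6, 5, 4, 5, 4, 3, 6, 5, 4, 7, 6, 5],
  [3, 4, 5, 4, 3, 6, 5, 4, 5, 4, 6, 5, 4, 3, 2, 5, 4],
  [3, 4, 5, 4, 3, 6, 5, 4, 5, 4, 6, 5, 4, 3, 2, 7, 6],
  [3, 4, 5, 4, 3, 6, 5, 4, 5, 4, 6, 5, 4, 3, 5, 4, 5],
  [3, 4, 5, 4, 3, 6, 5, 4, 5, 7, 6, 5, 4, 3, 2, 5, 4],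
  [3, 4, 5, 4, 3, 6, 5, 4, 5, 7, 6, 5, 4, 3, 2, 5, 6],
  [3, 4, 5, 4, 3, 6, 5, 4, 5, 7, 6, 5, 4, 3, 5, 4, 5],
  [3, 4, 5, 4, 3, 6, 5, 4, 5, 7, 6, 5, 4, 3, 5, 4, 6],
  [3, 4, 5, 4, 3, 6, 5, 4, 7, 6, 5, 4, 3, 2, 5, 4, 3],
  [3, 4, 5, 4, 3, 6, 5, 4, 7, 6, 5, 4, 3, 2, 5, 4, 5],
  [3, 4, 5, 4, 3, 6, 5, 4, 7, 6, 5, 4, 3, 2, 5, 4, 6],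
  [3, 4, 5, 4, 3, 6, 5, 4, 7, 6, 5, 4, 3, 5, 4, 5, 4],
  [3, 4, 5, 4, 3, 6, 5, 4, 7, 6, 5, 4, 3, 5, 4, 5, 6],
  [3, 4, 5, 4, 3, 6, 5, 4, 7, 6, 5, 4, 3, 5, 4, 6, 5],
  [3, 4, 5, 4, 6, 5, 4, 3, 2, 5, 4, 3, 5, 4, 6, 5, 4],
  [3, 4, 5, 4, 6, 5, 4, 3, 2, 5, 4, 3, 5, 4, 6, 5, 7],
  [3, 4, 5, 4, 6, 5, 4, 3, 2, 5, 4, 3, 5, 6, 5, 4, 3],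
  [3, 4, 5, 4, 6, 5, 4, 3, 2, 5, 4, 3, 5, 6, 5, 4, 5],
  [3, 4, 5, 4, 6, 5, 4, 3, 2, 5, 4, 3, 6, 5, 4, 3, 5],
  [3, 4, 5, 4, 6, 5, 4, 3, 2, 5, 4, 3, 6, 5, 4, 5, 6],
  [3, 4, 5, 4, 6, 5, 4, 3, 2, 5, 4, 5, 6, 5, 4, 3, 2],
  [3, 4, 5, 4, 6, 5, 4, 3, 2, 5, 4, 5, 6, 5, 4, 3, 5],
  [3, 4, 5, 4, 6, 5, 4, 3, 2, 5, 4, 5, 6, 5, 4, 3, 7],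
  [3, 4, 5, 4, 6, 5, 4, 3, 2, 5, 4, 5, 6, 5, 4, 5, 4],
  [3, 4, 5, 4, 6, 5, 4, 3, 2, 5, 4, 5, 6, 5, 4, 5, 7],
  [3, 4, 5, 4, 6, 5, 4, 3, 5, 4, 5, 4, 3, 2, 6, 5, 4],
  [3, 4, 5, 4, 6, 5, 4, 3, 5, 4, 5, 4, 3, 2, 6, 5, 7],
  [3, 4, 5, 4, 6, 5, 4, 3, 5, 4, 5, 4, 3, 6, 5, 4, 3],
  [3, 4, 5, 4, 6, 5, 4, 3, 5, 4, 5, 4, 3, 6, 5, 4, 5],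
  [3, 4, 5, 4, 6, 5, 4, 3, 5, 4, 5, 4, 3, 6, 5, 4, 7],
  [3, 4, 5, 4, 6, 5, 4, 3, 5, 4, 5, 4, 3, 6, 5, 7, 6],
  [3, 4, 5, 4, 6, 5, 4, 3, 5, 4, 5, 4, 6, 5, 4, 3, 2],
  [3, 4, 5, 4, 6, 5, 4, 3, 5, 4, 5, 4, 6, 5, 4, 3, 5],
  [3, 4, 5, 4, 6, 5, 4, 3, 5, 4, 5, 4, 6, 5, 4, 3, 7],
  [3, 4, 5, 4, 6, 5, 4, 3, 5, 4, 5, 4, 6, 5, 4, 5, 6],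
  [3, 4, 5, 4, 6, 5, 4, 3, 5, 4, 5, 4, 6, 5, 4, 7, 6],
  [3, 4, 5, 4, 6, 5, 4, 3, 5, 4, 5, 6, 5, 4, 3, 2, 5],
  [3, 4, 5, 4, 6, 5, 4, 3, 5, 4, 5, 6, 5, 4, 3, 2, 7],
  [3, 4, 5, 4, 6, 5, 4, 3, 5, 4, 5, 6, 5, 4, 3, 5, 4],
  [3, 4, 5, 4, 6, 5, 4, 3, 5, 4, 5, 6, 5, 4, 3, 5, 7],
  [3, 4, 5, 4, 6, 5, 4, 3, 5, 4, 5, 6, 5, 4, 5, 4, 3],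
  [3, 4, 5, 4, 6, 5, 4, 3, 5, 4, 5, 6, 5, 4, 5, 7, 6],
  [3, 2, 4, 3, 5, 4, 3, 2, 5, 6, 5, 4, 3, 2, 5, 4, 3, 2],
  [3, 2, 4, 3, 5, 4, 3, 2, 5, 6, 5, 4, 3, 2, 5, 4, 3, 5],
  [3, 2, 4, 3, 5, 4, 3, 2, 5, 6, 5, 4, 3, 2, 5, 4, 3, 6],
  [3, 2, 4, 3, 5, 4, 3, 2, 5, 6, 5, 4, 3, 2, 5, 4, 5, 6],
  [3, 2, 4, 3, 5, 4, 3, 2, 5, 6, 5, 4, 3, 2, 5, 4, 6, 5],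
  [3, 2, 4, 3, 5, 4, 3, 2, 5, 6, 5, 4, 3, 2, 5, 4, 6, 7],
  [3, 2, 4, 3, 5, 4, 3, 2, 5, 6, 5, 4, 3, 2, 5, 4, 7, 6],
  [3, 2, 4, 3, 5, 4, 3, 2, 5, 6, 5, 4, 3, 2, 5, 6, 7, 6],
  [3, 2, 4, 3, 5, 4, 3, 2, 5, 6, 5, 4, 3, 2, 5, 7, 6, 5],
  [3, 2, 4, 3, 5, 4, 3, 2, 5, 6, 5, 4, 3, 2, 7, 6, 5, 4],
  [3, 2, 4, 3, 5, 4, 3, 2, 5, 6, 5, 4, 3, 5, 4, 3, 5, 6],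
  [3, 2, 4, 3, 5, 4, 3, 2, 5, 6, 5, 4, 3, 5, 4, 3, 6, 5],
  [3, 2, 4, 3, 5, 4, 3, 2, 5, 6, 5, 4, 3, 5, 4, 3, 6, 7],
  [3, 2, 4, 3, 5, 4, 3, 2, 5, 6, 5, 4, 3, 5, 4, 5, 4, 3],
  [3, 2, 4, 3, 5, 4, 3, 2, 5, 6, 5, 4, 3, 5, 4, 5, 4, 6],
  [3, 2, 4, 3, 5, 4, 3, 2, 5, 6, 5, 4, 3, 5, 4, 5, 6, 5],
  [3, 2, 4, 3, 5, 4, 3, 2, 5, 6, 5, 4, 3, 5, 4, 5, 6, 7],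
  [3, 2, 4, 3, 5, 4, 3, 2, 5, 6, 5, 4, 3, 5, 4, 6, 5, 4],
  [3, 2, 4, 3, 5, 4, 3, 2, 5, 6, 5, 4, 3, 5, 4, 6, 5, 7],
  [3, 2, 4, 3, 5, 4, 3, 2, 5, 6, 5, 4, 3, 5, 7, 6, 5, 4],
  [3, 2, 4, 3, 5, 4, 3, 2, 5, 6, 5, 4, 3, 7, 6, 5, 4, 5],
  [3, 2, 4, 3, 5, 4, 3, 2, 6, 5, 4, 3, 2, 7, 6, 5, 4, 3],
  [3, 2, 4, 3, 5, 4, 3, 2, 6, 5, 4, 3, 2, 7, 6, 5, 4, 5],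
  [3, 2, 4, 3, 5, 4, 3, 2, 6, 5, 4, 3, 7, 6, 5, 4, 3, 2],
  [3, 2, 4, 3, 5, 4, 3, 2, 6, 5, 4, 3, 7, 6, 5, 4, 3, 5],
  [3, 2, 4, 3, 5, 4, 3, 2, 6, 5, 4, 3, 7, 6, 5, 4, 5, 4],
  [3, 2, 4, 3, 5, 4, 3, 2, 6, 5, 4, 3, 7, 6, 5, 4, 5, 6],
  [3, 2, 4, 3, 5, 4, 3, 5, 6, 5, 4, 3, 2, 5, 4, 3, 2, 6],
  [3, 2, 4, 3, 5, 4, 3, 5, 6, 5, 4, 3, 2, 5, 4, 3, 5, 6],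
  [3, 2, 4, 3, 5, 4, 3, 5, 6, 5, 4, 3, 2, 5, 4, 3, 6, 5],
  [3, 2, 4, 3, 5, 4, 3, 5, 6, 5, 4, 3, 2, 5, 4, 3, 6, 7],
  [3, 2, 4, 3, 5, 4, 3, 5, 6, 5, 4, 3, 2, 5, 4, 5, 6, 5],
  [3, 2, 4, 3, 5, 4, 3, 5, 6, 5, 4, 3, 2, 5, 4, 5, 6, 7],
  [3, 2, 4, 3, 5, 4, 3, 5, 6, 5, 4, 3, 2, 5, 4, 6, 5, 4],
  [3, 2, 4, 3, 5, 4, 3, 5, 6, 5, 4, 3, 2, 5, 4, 6, 5, 7],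
  [3, 2, 4, 3, 5, 4, 3, 5, 6, 5, 4, 3, 2, 5, 4, 6, 7, 6],
  [3, 2, 4, 3, 5, 4, 3, 5, 6, 5, 4, 3, 2, 5, 4, 7, 6, 5],
  [3, 2, 4, 3, 5, 4, 3, 5, 6, 5, 4, 3, 2, 5, 6, 7, 6, 5],
  [3, 2, 4, 3, 5, 4, 3, 5, 6, 5, 4, 3, 2, 5, 7, 6, 5, 4],
  [3, 2, 4, 3, 5, 4, 3, 5, 6, 5, 4, 3, 2, 7, 6, 5, 4, 3],
  [3, 2, 4, 3, 5, 4, 3, 5, 6, 5, 4, 3, 5, 4, 3, 5, 6, 5],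
  [3, 2, 4, 3, 5, 4, 3, 5, 6, 5, 4, 3, 5, 4, 3, 5, 6, 7],
  [3, 2, 4, 3, 5, 4, 3, 5, 6, 5, 4, 3, 5, 4, 3, 6, 5, 4],
  [3, 2, 4, 3, 5, 4, 3, 5, 6, 5, 4, 3, 5, 4, 3, 6, 5, 7],
  [3, 2, 4, 3, 5, 4, 3, 5, 6, 5, 4, 3, 5, 4, 5, 4, 3, 6],
  [3, 2, 4, 3, 5, 4, 3, 5, 6, 5, 4, 3, 5, 4, 5, 4, 6, 5],
  [3, 2, 4, 3, 5, 4, 3, 5, 6, 5, 4, 3, 5, 4, 5, 4, 6, 7],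
  [3, 2, 4, 3, 5, 4, 3, 5, 6, 5, 4, 3, 5, 4, 5, 6, 5, 4],
  [3, 2, 4, 3, 5, 4, 3, 5, 6, 5, 4, 3, 5, 4, 5, 6, 5, 7],
  [3, 2, 4, 3, 5, 4, 3, 5, 6, 5, 4, 3, 5, 4, 6, 5, 4, 3],
  [3, 2, 4, 3, 5, 4, 3, 5, 6, 5, 4, 3, 5, 4, 6, 5, 4, 5],
  [3, 2, 4, 3, 5, 4, 3, 5, 6, 5, 4, 3, 5, 4, 6, 5, 4, 7],
  [3, 2, 4, 3, 5, 4, 3, 5, 6, 5, 4, 3, 5, 4, 6, 5, 7, 6],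
  [3, 2, 4, 3, 5, 4, 3, 5, 6, 5, 4, 3, 5, 6, 7, 6, 5, 4],
  [3, 2, 4, 3, 5, 4, 3, 5, 6, 5, 4, 3, 5, 7, 6, 5, 4, 3],
  [3, 2, 4, 3, 5, 4, 3, 5, 6, 5, 4, 3, 5, 7, 6, 5, 4, 5],
  [3, 2, 4, 3, 5, 4, 3, 5, 6, 5, 4, 3, 7, 6, 5, 4, 3, 2],
  [3, 2, 4, 3, 5, 4, 3, 5, 6, 5, 4, 3, 7, 6, 5, 4, 3, 5],
  [3, 2, 4, 3, 5, 4, 3, 5, 6, 5, 4, 3, 7, 6, 5, 4, 5, 6],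
  [3, 2, 4, 3, 5, 4, 3, 5, 6, 5, 4, 5, 4, 6, 5, 4, 3, 2],
  [3, 2, 4, 3, 5, 4, 3, 6, 5, 4, 3, 2, 5, 4, 3, 6, 5, 4],
  [3, 2, 4, 3, 5, 4, 3, 6, 5, 4, 3, 2, 5, 4, 3, 6, 5, 7],
  [3, 2, 4, 3, 5, 4, 3, 6, 5, 4, 3, 2, 5, 4, 6, 5, 4, 3],
  [3, 2, 4, 3, 5, 4, 3, 6, 5, 4, 3, 2, 5, 4, 6, 5, 7, 6],
  [3, 2, 4, 3, 5, 4, 3, 6, 5, 4, 3, 2, 5, 4, 6, 7, 6, 5],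
  [3, 2, 4, 3, 5, 4, 3, 6, 5, 4, 3, 2, 5, 4, 7, 6, 5, 4],
  [3, 2, 4, 3, 5, 4, 3, 6, 5, 4, 3, 2, 5, 6, 7, 6, 5, 4],
  [3, 2, 4, 3, 5, 4, 3, 6, 5, 4, 3, 2, 5, 7, 6, 5, 4, 3],
  [3, 2, 4, 3, 5, 4, 3, 6, 5, 4, 3, 2, 5, 7, 6, 5, 4, 5],
  [3, 2, 4, 3, 5, 4, 3, 6, 5, 4, 3, 2, 7, 6, 5, 4, 3, 2],
  [3, 2, 4, 3, 5, 4, 3, 6, 5, 4, 3, 2, 7, 6, 5, 4, 3, 5],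
  [3, 2, 4, 3, 5, 4, 3, 6, 5, 4, 3, 2, 7, 6, 5, 4, 5, 6],
  [3, 2, 4, 3, 5, 4, 3, 6, 5, 4, 3, 5, 4, 3, 6, 5, 4, 3],
  [3, 2, 4, 3, 5, 4, 3, 6, 5, 4, 3, 5, 4, 3, 6, 5, 4, 5],
  [3, 2, 4, 3, 5, 4, 3, 6, 5, 4, 3, 5, 4, 3, 6, 5, 4, 7],
  [3, 2, 4, 3, 5, 4, 3, 6, 5, 4, 3, 5, 4, 3, 6, 5, 7, 6],
  [3, 2, 4, 3, 5, 4, 3, 6, 5, 4, 3, 5, 4, 6, 5, 4, 3, 2],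
  [3, 2, 4, 3, 5, 4, 3, 6, 5, 4, 3, 5, 4, 6, 5, 4, 3, 5],
  [3, 2, 4, 3, 5, 4, 3, 6, 5, 4, 3, 5, 4, 6, 5, 4, 3, 7],
  [3, 2, 4, 3, 5, 4, 3, 6, 5, 4, 3, 5, 4, 6, 5, 4, 5, 6],
  [3, 2, 4, 3, 5, 4, 3, 6, 5, 4, 3, 5, 4, 6, 5, 4, 7, 6],
  [3, 2, 4, 3, 5, 4, 3, 6, 5, 4, 3, 5, 4, 6, 5, 7, 6, 5],
  [3, 2, 4, 3, 5, 4, 3, 6, 5, 4, 3, 5, 4, 6, 7, 6, 5, 4],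
  [3, 2, 4, 3, 5, 4, 3, 6, 5, 4, 3, 5, 4, 7, 6, 5, 4, 3],
  [3, 2, 4, 3, 5, 4, 3, 6, 5, 4, 3, 5, 4, 7, 6, 5, 4, 5],
  [3, 2, 4, 3, 5, 4, 3, 6, 5, 4, 3, 5, 6, 7, 6, 5, 4, 5],
  [3, 2, 4, 3, 5, 4, 3, 6, 5, 4, 3, 5, 7, 6, 5, 4, 3, 2],
  [3, 2, 4, 3, 5, 4, 3, 6, 5, 4, 3, 5, 7, 6, 5, 4, 3, 5],
  [3, 2, 4, 3, 5, 4, 3, 6, 5, 4, 3, 5, 7, 6, 5, 4, 5, 4],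
  [3, 2, 4, 3, 5, 4, 3, 6, 5, 4, 3, 5, 7, 6, 5, 4, 5, 6],
  [3, 2, 4, 3, 5, 4, 3, 6, 5, 4, 3, 7, 6, 5, 4, 3, 2, 5],
  [3, 2, 4, 3, 5, 4, 3, 6, 5, 4, 3, 7, 6, 5, 4, 3, 5, 4],
  [3, 2, 4, 3, 5, 4, 3, 6, 5, 4, 3, 7, 6, 5, 4, 3, 5, 6],
  [3, 2, 4, 3, 5, 4, 3, 6, 5, 4, 3, 7, 6, 5, 4, 5, 4, 3],
  [3, 2, 4, 3, 5, 4, 3, 6, 5, 4, 3, 7, 6, 5, 4, 5, 4, 6],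
  [3, 2, 4, 3, 5, 4, 3, 6, 5, 4, 3, 7, 6, 5, 4, 5, 6, 7],
  [3, 2, 4, 3, 5, 4, 3, 6, 5, 4, 5, 4, 3, 6, 5, 4, 5, 4],
  [3, 2, 4, 3, 5, 4, 3, 6, 5, 4, 5, 4, 3, 6, 5, 4, 5, 6],
  [3, 2, 4, 3, 5, 4, 3, 6, 5, 4, 7, 6, 5, 4, 3, 2, 5, 4],
  [3, 2, 4, 3, 5, 4, 3, 6, 5, 4, 7, 6, 5, 4, 3, 2, 5, 6],
  [3, 2, 4, 3, 5, 4, 3, 6, 5, 4, 7, 6, 5, 4, 3, 5, 4, 5],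
  [3, 2, 4, 3, 5, 4, 3, 6, 5, 4, 7, 6, 5, 4, 3, 5, 4, 6],
  [3, 2, 4, 3, 5, 4, 5, 6, 5, 4, 3, 2, 5, 4, 3, 2, 6, 5],
  [3, 2, 4, 3, 5, 4, 5, 6, 5, 4, 3, 2, 5, 4, 3, 2, 6, 7],
  [3, 2, 4, 3, 5, 4, 5, 6, 5, 4, 3, 2, 5, 4, 3, 5, 6, 5],
  [3, 2, 4, 3, 5, 4, 5, 6, 5, 4, 3, 2, 5, 4, 3, 5, 6, 7],
  [3, 2, 4, 3, 5, 4, 5, 6, 5, 4, 3, 2, 5, 4, 3, 6, 5, 4],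
  [3, 2, 4, 3, 5, 4, 5, 6, 5, 4, 3, 2, 5, 4, 5, 6, 5, 7],
  [3, 2, 4, 3, 5, 4, 5, 6, 5, 4, 3, 2, 5, 4, 6, 7, 6, 5]]
def ows1c6 : List (List Nat) := [[3, 2, 4, 3, 5, 4, 5, 6, 5, 4, 3, 2, 5, 4, 7, 6, 5, 4],
  [3, 2, 4, 3, 5, 4, 5, 6, 5, 4, 3, 5, 4, 3, 5, 6, 5, 4],
  [3, 2, 4, 3, 5, 4, 5, 6, 5, 4, 3, 5, 4, 3, 5, 6, 5, 7],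
  [3, 2, 4, 3, 5, 4, 5, 6, 5, 4, 3, 5, 4, 3, 6, 5, 4, 3],
  [3, 2, 4, 3, 5, 4, 5, 6, 5, 4, 3, 5, 4, 3, 6, 5, 4, 7],
  [3, 2, 4, 3, 5, 4, 5, 6, 5, 4, 3, 5, 4, 3, 6, 5, 7, 6],
  [3, 2, 4, 3, 5, 4, 5, 6, 5, 4, 3, 5, 4, 5, 4, 3, 6, 5],
  [3, 2, 4, 3, 5, 4, 5, 6, 5, 4, 3, 5, 4, 5, 4, 3, 6, 7],
  [3, 2, 4, 3, 5, 4, 5, 6, 5, 4, 3, 5, 4, 5, 4, 6, 5, 4],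
  [3, 2, 4, 3, 5, 4, 5, 6, 5, 4, 3, 5, 4, 5, 4, 6, 5, 7],
  [3, 2, 4, 3, 5, 4, 5, 6, 5, 4, 3, 5, 4, 5, 6, 5, 4, 3],
  [3, 2, 4, 3, 5, 4, 5, 6, 5, 4, 3, 5, 4, 5, 6, 5, 4, 5],
  [3, 2, 4, 3, 5, 4, 5, 6, 5, 4, 3, 5, 4, 5, 6, 5, 4, 7],
  [3, 2, 4, 3, 5, 4, 5, 6, 5, 4, 3, 5, 4, 5, 6, 5, 7, 6],
  [3, 2, 4, 3, 5, 4, 5, 6, 5, 4, 3, 5, 4, 6, 5, 4, 3, 2],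
  [3, 2, 4, 5, 4, 3, 2, 6, 5, 4, 3, 2, 5, 4, 6, 5, 4, 3],
  [3, 2, 4, 5, 4, 3, 2, 6, 5, 4, 3, 2, 5, 4, 6, 5, 7, 6],
  [3, 2, 4, 5, 4, 3, 2, 6, 5, 4, 3, 5, 4, 5, 6, 5, 4, 3],
  [3, 2, 4, 5, 4, 3, 2, 6, 5, 4, 3, 5, 4, 5, 6, 5, 4, 5],
  [3, 2, 4, 5, 4, 3, 2, 6, 5, 4, 3, 5, 4, 5, 6, 5, 4, 7],
  [3, 2, 4, 5, 4, 3, 2, 6, 5, 4, 3, 5, 4, 5, 6, 5, 7, 6],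
  [3, 2, 4, 5, 4, 3, 2, 6, 5, 4, 3, 5, 4, 6, 5, 4, 3, 2],
  [3, 2, 4, 5, 4, 3, 2, 6, 5, 4, 3, 5, 4, 6, 5, 4, 3, 5],
  [3, 2, 4, 5, 4, 3, 2, 6, 5, 4, 3, 5, 4, 6, 5, 4, 3, 7],
  [3, 2, 4, 5, 4, 3, 2, 6, 5, 4, 3, 5, 4, 6, 5, 4, 5, 6],
  [3, 2, 4, 5, 4, 3, 2, 6, 5, 4, 3, 5, 4, 6, 5, 4, 7, 6],
  [3, 2, 4, 5, 4, 3, 2, 6, 5, 4, 3, 7, 6, 5, 4, 5, 6, 7],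
  [3, 2, 4, 5, 4, 3, 6, 5, 4, 3, 5, 4, 3, 2, 6, 5, 4, 3],
  [3, 2, 4, 5, 4, 3, 6, 5, 4, 3, 5, 4, 3, 2, 6, 5, 4, 5],
  [3, 2, 4, 5, 4, 3, 6, 5, 4, 3, 5, 4, 3, 2, 6, 5, 4, 7],
  [3, 2, 4, 5, 4, 3, 6, 5, 4, 3, 5, 4, 3, 2, 6, 5, 7, 6],
  [3, 2, 4, 5, 4, 3, 6, 5, 4, 3, 5, 4, 3, 6, 5, 4, 3, 2],
  [3, 2, 4, 5, 4, 3, 6, 5, 4, 3, 5, 4, 3, 6, 5, 4, 3, 5],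
  [3, 2, 4, 5, 4, 3, 6, 5, 4, 3, 5, 4, 3, 6, 5, 4, 3, 7],
  [3, 2, 4, 5, 4, 3, 6, 5, 4, 3, 5, 4, 3, 6, 5, 4, 5, 4],
  [3, 2, 4, 5, 4, 3, 6, 5, 4, 3, 5, 4, 3, 6, 5, 4, 5, 6],
  [3, 2, 4, 5, 4, 3, 6, 5, 4, 3, 5, 4, 3, 6, 5, 4, 5, 7],
  [3, 2, 4, 5, 4, 3, 6, 5, 4, 3, 5, 4, 3, 6, 5, 4, 7, 6],
  [3, 2, 4, 5, 4, 3, 6, 5, 4, 3, 5, 4, 6, 5, 4, 3, 2, 5],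
  [3, 2, 4, 5, 4, 3, 6, 5, 4, 3, 5, 4, 6, 5, 4, 3, 2, 7],
  [3, 2, 4, 5, 4, 3, 6, 5, 4, 3, 5, 4, 6, 5, 4, 3, 5, 4],
  [3, 2, 4, 5, 4, 3, 6, 5, 4, 3, 5, 4, 6, 5, 4, 3, 5, 6],
  [3, 2, 4, 5, 4, 3, 6, 5, 4, 3, 5, 4, 6, 5, 4, 3, 7, 6],
  [3, 2, 4, 5, 4, 3, 6, 5, 4, 5, 4, 3, 2, 6, 5, 4, 3, 2],
  [3, 2, 4, 5, 4, 3, 6, 5, 4, 5, 4, 3, 2, 6, 5, 4, 3, 5],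
  [3, 2, 4, 5, 4, 3, 6, 5, 4, 5, 4, 3, 2, 6, 5, 4, 3, 7],
  [3, 2, 4, 5, 4, 3, 6, 5, 4, 5, 4, 3, 2, 6, 5, 4, 5, 6],
  [3, 2, 4, 5, 4, 3, 6, 5, 4, 5, 4, 3, 2, 6, 5, 4, 7, 6],
  [3, 2, 4, 5, 4, 3, 6, 5, 4, 5, 4, 3, 6, 5, 4, 3, 2, 5],
  [3, 2, 4, 5, 4, 3, 6, 5, 4, 5, 4, 3, 6, 5, 4, 3, 5, 4],
  [3, 2, 4, 5, 4, 3, 6, 5, 4, 5, 4, 3, 6, 5, 4, 3, 5, 6],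
  [3, 2, 4, 5, 4, 3, 6, 5, 4, 5, 4, 3, 6, 5, 4, 5, 4, 3],
  [3, 2, 4, 5, 4, 3, 6, 5, 4, 5, 4, 3, 6, 5, 4, 5, 4, 6],
  [3, 2, 4, 5, 4, 3, 6, 5, 4, 5, 4, 3, 6, 5, 4, 5, 6, 7],
  [3, 2, 4, 5, 4, 3, 6, 5, 4, 5, 4, 3, 6, 5, 4, 5, 7, 6],
  [3, 2, 4, 5, 4, 3, 6, 5, 4, 5, 4, 3, 6, 5, 4, 7, 6, 5],
  [3, 2, 4, 5, 4, 3, 6, 5, 4, 5, 7, 6, 5, 4, 3, 2, 5, 4],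
  [3, 2, 4, 5, 4, 3, 6, 5, 4, 5, 7, 6, 5, 4, 3, 5, 4, 5],
  [3, 4, 5, 4, 3, 2, 6, 5, 4, 3, 2, 5, 4, 3, 6, 5, 4, 3],
  [3, 4, 5, 4, 3, 2, 6, 5, 4, 3, 2, 5, 4, 3, 6, 5, 4, 5],
  [3, 4, 5, 4, 3, 2, 6, 5, 4, 3, 2, 5, 4, 3, 6, 5, 4, 7],
  [3, 4, 5, 4, 3, 2, 6, 5, 4, 3, 2, 5, 4, 3, 6, 5, 7, 6],
  [3, 4, 5, 4, 3, 2, 6, 5, 4, 3, 2, 5, 4, 5, 6, 5, 4, 3],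
  [3, 4, 5, 4, 3, 2, 6, 5, 4, 3, 2, 5, 4, 5, 6, 5, 4, 5],
  [3, 4, 5, 4, 3, 2, 6, 5, 4, 3, 2, 5, 4, 5, 6, 5, 4, 7],
  [3, 4, 5, 4, 3, 2, 6, 5, 4, 3, 2, 5, 4, 5, 6, 5, 7, 6],
  [3, 4, 5, 4, 3, 2, 6, 5, 4, 3, 2, 5, 4, 6, 5, 4, 3, 2],
  [3, 4, 5, 4, 3, 2, 6, 5, 4, 3, 2, 7, 6, 5, 4, 3, 5, 6],
  [3, 4, 5, 4, 3, 2, 6, 5, 4, 3, 2, 7, 6, 5, 4, 5, 6, 7],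
  [3, 4, 5, 4, 3, 2, 6, 5, 4, 3, 5, 4, 5, 4, 6, 5, 4, 3],
  [3, 4, 5, 4, 3, 2, 6, 5, 4, 3, 5, 4, 5, 4, 6, 5, 4, 5],
  [3, 4, 5, 4, 3, 2, 6, 5, 4, 3, 5, 4, 5, 4, 6, 5, 4, 7],
  [3, 4, 5, 4, 3, 2, 6, 5, 4, 3, 5, 4, 5, 4, 6, 5, 7, 6],
  [3, 4, 5, 4, 3, 2, 6, 5, 4, 3, 5, 4, 5, 6, 5, 4, 3, 2],
  [3, 4, 5, 4, 3, 2, 6, 5, 4, 3, 5, 4, 5, 6, 5, 4, 3, 5],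
  [3, 4, 5, 4, 3, 2, 6, 5, 4, 3, 5, 4, 5, 6, 5, 4, 3, 7],
  [3, 4, 5, 4, 3, 2, 6, 5, 4, 3, 5, 4, 5, 6, 5, 4, 5, 4],
  [3, 4, 5, 4, 3, 2, 6, 5, 4, 3, 5, 4, 5, 6, 5, 4, 5, 6],
  [3, 4, 5, 4, 3, 2, 6, 5, 4, 3, 5, 4, 5, 6, 5, 4, 5, 7],
  [3, 4, 5, 4, 3, 2, 6, 5, 4, 3, 5, 4, 5, 6, 5, 4, 7, 6],
  [3, 4, 5, 4, 3, 2, 6, 5, 4, 3, 5, 4, 6, 5, 4, 3, 2, 5],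
  [3, 4, 5, 4, 3, 2, 6, 5, 4, 3, 5, 4, 6, 5, 4, 3, 2, 7],
  [3, 4, 5, 4, 3, 2, 6, 5, 4, 3, 5, 4, 6, 5, 4, 3, 5, 4],
  [3, 4, 5, 4, 3, 2, 6, 5, 4, 3, 5, 4, 6, 5, 4, 3, 5, 6],
  [3, 4, 5, 4, 3, 2, 6, 5, 4, 3, 5, 4, 6, 5, 4, 3, 7, 6],
  [3, 4, 5, 4, 3, 2, 6, 5, 4, 3, 5, 4, 6, 5, 4, 5, 6, 7],
  [3, 4, 5, 4, 3, 2, 6, 5, 4, 3, 5, 4, 6, 5, 4, 7, 6, 5],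
  [3, 4, 5, 4, 3, 2, 6, 5, 4, 3, 7, 6, 5, 4, 3, 2, 5, 6],
  [3, 4, 5, 4, 3, 2, 6, 5, 4, 3, 7, 6, 5, 4, 3, 5, 4, 6],
  [3, 4, 5, 4, 3, 2, 6, 5, 4, 3, 7, 6, 5, 4, 3, 5, 6, 7],
  [3, 4, 5, 4, 3, 6, 5, 4, 3, 2, 5, 4, 3, 2, 6, 5, 4, 3],
  [3, 4, 5, 4, 3, 6, 5, 4, 3, 2, 5, 4, 3, 2, 6, 5, 4, 5],
  [3, 4, 5, 4, 3, 6, 5, 4, 3, 2, 5, 4, 3, 2, 6, 5, 4, 7],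
  [3, 4, 5, 4, 3, 6, 5, 4, 3, 2, 5, 4, 3, 2, 6, 5, 7, 6],
  [3, 4, 5, 4, 3, 6, 5, 4, 3, 2, 5, 4, 3, 6, 5, 4, 3, 2],
  [3, 4, 5, 4, 3, 6, 5, 4, 3, 2, 5, 4, 3, 6, 5, 4, 3, 5],
  [3, 4, 5, 4, 3, 6, 5, 4, 3, 2, 5, 4, 3, 6, 5, 4, 5, 4],
  [3, 4, 5, 4, 3, 6, 5, 4, 3, 2, 5, 4, 3, 6, 5, 4, 5, 6],
  [3, 4, 5, 4, 3, 6, 5, 4, 3, 2, 5, 4, 3, 6, 5, 4, 5, 7],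
  [3, 4, 5, 4, 3, 6, 5, 4, 3, 2, 5, 4, 3, 6, 5, 4, 7, 6],
  [3, 4, 5, 4, 3, 6, 5, 4, 3, 2, 5, 4, 3, 6, 5, 7, 6, 5],
  [3, 4, 5, 4, 3, 6, 5, 4, 3, 2, 5, 4, 3, 6, 7, 6, 5, 4],
  [3, 4, 5, 4, 3, 6, 5, 4, 3, 2, 5, 4, 3, 7, 6, 5, 4, 3],
  [3, 4, 5, 4, 3, 6, 5, 4, 3, 2, 5, 4, 3, 7, 6, 5, 4, 5],
  [3, 4, 5, 4, 3, 6, 5, 4, 3, 2, 5, 4, 6, 5, 7, 6, 5, 4],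
  [3, 4, 5, 4, 3, 6, 5, 4, 3, 2, 5, 4, 6, 7, 6, 5, 4, 3],
  [3, 4, 5, 4, 3, 6, 5, 4, 3, 2, 5, 4, 7, 6, 5, 4, 3, 2],
  [3, 4, 5, 4, 3, 6, 5, 4, 3, 2, 5, 4, 7, 6, 5, 4, 3, 5],
  [3, 4, 5, 4, 3, 6, 5, 4, 3, 2, 5, 4, 7, 6, 5, 4, 5, 6],
  [3, 4, 5, 4, 3, 6, 5, 4, 3, 2, 5, 6, 7, 6, 5, 4, 3, 2],
  [3, 4, 5, 4, 3, 6, 5, 4, 3, 2, 5, 6, 7, 6, 5, 4, 3, 5],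
  [3, 4, 5, 4, 3, 6, 5, 4, 3, 2, 5, 6, 7, 6, 5, 4, 5, 6],
  [3, 4, 5, 4, 3, 6, 5, 4, 3, 2, 5, 7, 6, 5, 4, 3, 2, 5],
  [3, 4, 5, 4, 3, 6, 5, 4, 3, 2, 5, 7, 6, 5, 4, 3, 5, 4],
  [3, 4, 5, 4, 3, 6, 5, 4, 3, 2, 5, 7, 6, 5, 4, 5, 4, 3],
  [3, 4, 5, 4, 3, 6, 5, 4, 3, 5, 4, 3, 2, 5, 6, 5, 4, 3],
  [3, 4, 5, 4, 3, 6, 5, 4, 3, 5, 4, 3, 2, 5, 6, 5, 4, 5],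
  [3, 4, 5, 4, 3, 6, 5, 4, 3, 5, 4, 3, 2, 5, 6, 5, 4, 7],
  [3, 4, 5, 4, 3, 6, 5, 4, 3, 5, 4, 3, 2, 5, 6, 5, 7, 6],
  [3, 4, 5, 4, 3, 6, 5, 4, 3, 5, 4, 3, 2, 6, 5, 4, 3, 2],
  [3, 4, 5, 4, 3, 6, 5, 4, 3, 5, 4, 3, 2, 6, 5, 4, 3, 5],
  [3, 4, 5, 4, 3, 6, 5, 4, 3, 5, 4, 3, 2, 6, 5, 4, 3, 7],
  [3, 4, 5, 4, 3, 6, 5, 4, 3, 5, 4, 3, 2, 6, 5, 4, 5, 6],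
  [3, 4, 5, 4, 3, 6, 5, 4, 3, 5, 4, 3, 2, 6, 5, 4, 7, 6],
  [3, 4, 5, 4, 3, 6, 5, 4, 3, 5, 4, 3, 5, 4, 6, 5, 4, 3],
  [3, 4, 5, 4, 3, 6, 5, 4, 3, 5, 4, 3, 5, 4, 6, 5, 4, 5],
  [3, 4, 5, 4, 3, 6, 5, 4, 3, 5, 4, 3, 5, 4, 6, 5, 4, 7],
  [3, 4, 5, 4, 3, 6, 5, 4, 3, 5, 4, 3, 5, 4, 6, 5, 7, 6],
  [3, 4, 5, 4, 3, 6, 5, 4, 3, 5, 4, 3, 5, 6, 5, 4, 3, 2],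
  [3, 4, 5, 4, 3, 6, 5, 4, 3, 5, 4, 3, 5, 6, 5, 4, 3, 5],
  [3, 4, 5, 4, 3, 6, 5, 4, 3, 5, 4, 3, 5, 6, 5, 4, 5, 4],
  [3, 4, 5, 4, 3, 6, 5, 4, 3, 5, 4, 3, 5, 6, 5, 4, 5, 6],
  [3, 4, 5, 4, 3, 6, 5, 4, 3, 5, 4, 3, 5, 6, 5, 4, 5, 7],
  [3, 4, 5, 4, 3, 6, 5, 4, 3, 5, 4, 3, 5, 6, 5, 4, 7, 6],
  [3, 4, 5, 4, 3, 6, 5, 4, 3, 5, 4, 3, 6, 5, 4, 3, 2, 5],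
  [3, 4, 5, 4, 3, 6, 5, 4, 3, 5, 4, 3, 6, 5, 4, 3, 2, 7],
  [3, 4, 5, 4, 3, 6, 5, 4, 3, 5, 4, 3, 6, 5, 4, 3, 5, 4],
  [3, 4, 5, 4, 3, 6, 5, 4, 3, 5, 4, 3, 6, 5, 4, 3, 5, 6],
  [3, 4, 5, 4, 3, 6, 5, 4, 3, 5, 4, 3, 6, 5, 4, 3, 5, 7],
  [3, 4, 5, 4, 3, 6, 5, 4, 3, 5, 4, 3, 6, 5, 4, 3, 7, 6],
  [3, 4, 5, 4, 3, 6, 5, 4, 3, 5, 4, 3, 6, 5, 4, 5, 4, 3],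
  [3, 4, 5, 4, 3, 6, 5, 4, 3, 5, 4, 3, 6, 5, 4, 5, 4, 6],
  [3, 4, 5, 4, 3, 6, 5, 4, 3, 5, 4, 3, 6, 5, 4, 5, 6, 7],
  [3, 4, 5, 4, 3, 6, 5, 4, 3, 5, 4, 3, 6, 5, 4, 5, 7, 6],
  [3, 4, 5, 4, 3, 6, 5, 4, 3, 5, 4, 3, 6, 5, 4, 7, 6, 5],
  [3, 4, 5, 4, 3, 6, 5, 4, 3, 5, 4, 5, 6, 5, 7, 6, 5, 4],
  [3, 4, 5, 4, 3, 6, 5, 4, 3, 5, 4, 5, 6, 7, 6, 5, 4, 3],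
  [3, 4, 5, 4, 3, 6, 5, 4, 3, 5, 4, 5, 7, 6, 5, 4, 3, 2],
  [3, 4, 5, 4, 3, 6, 5, 4, 3, 5, 4, 5, 7, 6, 5, 4, 3, 5],
  [3, 4, 5, 4, 3, 6, 5, 4, 3, 5, 4, 5, 7, 6, 5, 4, 5, 6],
  [3, 4, 5, 4, 3, 6, 5, 4, 3, 5, 4, 6, 5, 4, 3, 2, 5, 4],
  [3, 4, 5, 4, 3, 6, 5, 4, 3, 5, 4, 6, 5, 4, 3, 2, 5, 6],
  [3, 4, 5, 4, 3, 6, 5, 4, 3, 5, 4, 6, 5, 4, 3, 2, 7, 6],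
  [3, 4, 5, 4, 3, 6, 5, 4, 3, 5, 4, 6, 5, 4, 3, 5, 4, 5],
  [3, 4, 5, 4, 3, 6, 5, 4, 3, 5, 4, 6, 5, 4, 3, 5, 4, 6],
  [3, 4, 5, 4, 3, 6, 5, 4, 3, 5, 4, 6, 5, 7, 6, 5, 4, 3],
  [3, 4, 5, 4, 3, 6, 5, 4, 3, 5, 4, 6, 7, 6, 5, 4, 3, 2],
  [3, 4, 5, 4, 3, 6, 5, 4, 3, 5, 4, 7, 6, 5, 4, 3, 2, 5],
  [3, 4, 5, 4, 3, 6, 5, 4, 3, 5, 4, 7, 6, 5, 4, 3, 5, 4],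
  [3, 4, 5, 4, 3, 6, 5, 4, 3, 5, 4, 7, 6, 5, 4, 3, 5, 6],
  [3, 4, 5, 4, 3, 6, 5, 4, 3, 5, 6, 7, 6, 5, 4, 3, 2, 5],
  [3, 4, 5, 4, 3, 6, 5, 4, 3, 5, 6, 7, 6, 5, 4, 3, 5, 4],
  [3, 4, 5, 4, 3, 6, 5, 4, 3, 5, 6, 7, 6, 5, 4, 3, 5, 6],
  [3, 4, 5, 4, 3, 6, 5, 4, 3, 5, 7, 6, 5, 4, 3, 2, 5, 4],
  [3, 4, 5, 4, 3, 6, 5, 4, 3, 5, 7, 6, 5, 4, 3, 5, 4, 3],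
  [3, 4, 5, 4, 3, 6, 5, 4, 3, 5, 7, 6, 5, 4, 3, 5, 4, 5],
  [3, 4, 5, 4, 3, 6, 5, 4, 3, 5, 7, 6, 5, 4, 5, 4, 3, 2],
  [3, 4, 5, 4, 3, 6, 5, 4, 5, 4, 3, 2, 6, 5, 4, 3, 2, 5],
  [3, 4, 5, 4, 3, 6, 5, 4, 5, 4, 3, 2, 6, 5, 4, 3, 2, 7],
  [3, 4, 5, 4, 3, 6, 5, 4, 5, 4, 3, 2, 6, 5, 4, 3, 5, 4],
  [3, 4, 5, 4, 3, 6, 5, 4, 5, 4, 3, 2, 6, 5, 4, 3, 5, 6],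
  [3, 4, 5, 4, 3, 6, 5, 4, 5, 4, 3, 2, 6, 5, 4, 3, 7, 6],
  [3, 4, 5, 4, 3, 6, 5, 4, 5, 4, 3, 2, 6, 5, 4, 5, 6, 7],
  [3, 4, 5, 4, 3, 6, 5, 4, 5, 4, 3, 2, 6, 5, 4, 7, 6, 5],
  [3, 4, 5, 4, 3, 6, 5, 4, 5, 4, 3, 6, 5, 4, 3, 2, 5, 4],
  [3, 4, 5, 4, 3, 6, 5, 4, 5, 4, 3, 6, 5, 4, 3, 2, 5, 6],
  [3, 4, 5, 4, 3, 6, 5, 4, 5, 4, 3, 6, 5, 4, 3, 2, 5, 7],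
  [3, 4, 5, 4, 3, 6, 5, 4, 5, 4, 3, 6, 5, 4, 3, 2, 7, 6],
  [3, 4, 5, 4, 3, 6, 5, 4, 5, 4, 3, 6, 5, 4, 3, 5, 4, 3],
  [3, 4, 5, 4, 3, 6, 5, 4, 5, 4, 3, 6, 5, 4, 3, 5, 4, 5],
  [3, 4, 5, 4, 3, 6, 5, 4, 5, 4, 3, 6, 5, 4, 3, 5, 4, 6],
  [3, 4, 5, 4, 3, 6, 5, 4, 5, 4, 3, 6, 5, 4, 3, 5, 4, 7],
  [3, 4, 5, 4, 3, 6, 5, 4, 5, 4, 3, 6, 5, 4, 3, 5, 6, 7],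
  [3, 4, 5, 4, 3, 6, 5, 4, 5, 4, 3, 6, 5, 4, 3, 5, 7, 6],
  [3, 4, 5, 4, 3, 6, 5, 4, 5, 4, 3, 6, 5, 4, 3, 7, 6, 5],
  [3, 4, 5, 4, 3, 6, 5, 4, 5, 4, 3, 6, 5, 4, 5, 4, 3, 2],
  [3, 4, 5, 4, 3, 6, 5, 4, 5, 4, 3, 6, 5, 4, 5, 4, 3, 6],
  [3, 4, 5, 4, 3, 6, 5, 4, 5, 4, 3, 6, 5, 4, 5, 4, 6, 5],
  [3, 4, 5, 4, 3, 6, 5, 4, 5, 4, 3, 6, 5, 4, 5, 4, 6, 7],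
  [3, 4, 5, 4, 3, 6, 5, 4, 5, 4, 3, 6, 5, 4, 5, 6, 7, 6],
  [3, 4, 5, 4, 3, 6, 5, 4, 5, 4, 3, 6, 5, 4, 5, 7, 6, 5],
  [3, 4, 5, 4, 3, 6, 5, 4, 5, 4, 3, 6, 5, 4, 7, 6, 5, 4],
  [3, 4, 5, 4, 3, 6, 5, 4, 5, 4, 6, 5, 4, 3, 2, 5, 4, 3],
  [3, 4, 5, 4, 3, 6, 5, 4, 5, 4, 6, 5, 4, 3, 2, 5, 4, 5],
  [3, 4, 5, 4, 3, 6, 5, 4, 5, 4, 6, 5, 4, 3, 5, 4, 5, 4],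
  [3, 4, 5, 4, 3, 6, 5, 4, 5, 4, 6, 5, 4, 3, 5, 4, 5, 6],
  [3, 4, 5, 4, 3, 6, 5, 4, 5, 7, 6, 5, 4, 3, 2, 5, 4, 3],
  [3, 4, 5, 4, 3, 6, 5, 4, 5, 7, 6, 5, 4, 3, 2, 5, 4, 5],
  [3, 4, 5, 4, 3, 6, 5, 4, 5, 7, 6, 5, 4, 3, 2, 5, 4, 6],
  [3, 4, 5, 4, 3, 6, 5, 4, 5, 7, 6, 5, 4, 3, 5, 4, 5, 4]]
def ows1c7 : List (List Nat) := [[3, 4, 5, 4, 3, 6, 5, 4, 5, 7, 6, 5, 4, 3, 5, 4, 5, 6],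
  [3, 4, 5, 4, 3, 6, 5, 4, 5, 7, 6, 5, 4, 3, 5, 4, 6, 5],
  [3, 4, 5, 4, 3, 6, 5, 4, 7, 6, 5, 4, 3, 2, 5, 4, 3, 6],
  [3, 4, 5, 4, 3, 6, 5, 4, 7, 6, 5, 4, 3, 2, 5, 4, 5, 6],
  [3, 4, 5, 4, 3, 6, 5, 4, 7, 6, 5, 4, 3, 2, 5, 4, 6, 5],
  [3, 4, 5, 4, 3, 6, 5, 4, 7, 6, 5, 4, 3, 5, 4, 5, 4, 6],
  [3, 4, 5, 4, 3, 6, 5, 4, 7, 6, 5, 4, 3, 5, 4, 5, 6, 5],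
  [3, 4, 5, 4, 3, 6, 5, 4, 7, 6, 5, 4, 3, 5, 4, 5, 6, 7],
  [3, 4, 5, 4, 3, 6, 5, 4, 7, 6, 5, 4, 3, 5, 4, 6, 5, 4],
  [3, 4, 5, 4, 6, 5, 4, 3, 2, 5, 4, 3, 5, 4, 6, 5, 4, 3],
  [3, 4, 5, 4, 6, 5, 4, 3, 2, 5, 4, 3, 5, 4, 6, 5, 4, 7],
  [3, 4, 5, 4, 6, 5, 4, 3, 2, 5, 4, 3, 5, 4, 6, 5, 7, 6],
  [3, 4, 5, 4, 6, 5, 4, 3, 2, 5, 4, 3, 5, 6, 5, 4, 3, 5],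
  [3, 4, 5, 4, 6, 5, 4, 3, 2, 5, 4, 3, 5, 6, 5, 4, 5, 4],
  [3, 4, 5, 4, 6, 5, 4, 3, 2, 5, 4, 3, 5, 6, 5, 4, 5, 6],
  [3, 4, 5, 4, 6, 5, 4, 3, 2, 5, 4, 3, 6, 5, 4, 3, 5, 6],
  [3, 4, 5, 4, 6, 5, 4, 3, 2, 5, 4, 3, 6, 5, 4, 5, 6, 7],
  [3, 4, 5, 4, 6, 5, 4, 3, 2, 5, 4, 5, 6, 5, 4, 3, 2, 5],
  [3, 4, 5, 4, 6, 5, 4, 3, 2, 5, 4, 5, 6, 5, 4, 3, 2, 7],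
  [3, 4, 5, 4, 6, 5, 4, 3, 2, 5, 4, 5, 6, 5, 4, 3, 5, 4],
  [3, 4, 5, 4, 6, 5, 4, 3, 2, 5, 4, 5, 6, 5, 4, 3, 5, 7],
  [3, 4, 5, 4, 6, 5, 4, 3, 2, 5, 4, 5, 6, 5, 4, 5, 4, 3],
  [3, 4, 5, 4, 6, 5, 4, 3, 2, 5, 4, 5, 6, 5, 4, 5, 7, 6],
  [3, 4, 5, 4, 6, 5, 4, 3, 5, 4, 5, 4, 3, 2, 6, 5, 4, 3],
  [3, 4, 5, 4, 6, 5, 4, 3, 5, 4, 5, 4, 3, 2, 6, 5, 4, 5],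
  [3, 4, 5, 4, 6, 5, 4, 3, 5, 4, 5, 4, 3, 2, 6, 5, 4, 7],
  [3, 4, 5, 4, 6, 5, 4, 3, 5, 4, 5, 4, 3, 2, 6, 5, 7, 6],
  [3, 4, 5, 4, 6, 5, 4, 3, 5, 4, 5, 4, 3, 6, 5, 4, 3, 2],
  [3, 4, 5, 4, 6, 5, 4, 3, 5, 4, 5, 4, 3, 6, 5, 4, 3, 5],
  [3, 4, 5, 4, 6, 5, 4, 3, 5, 4, 5, 4, 3, 6, 5, 4, 3, 7],
  [3, 4, 5, 4, 6, 5, 4, 3, 5, 4, 5, 4, 3, 6, 5, 4, 5, 4],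
  [3, 4, 5, 4, 6, 5, 4, 3, 5, 4, 5, 4, 3, 6, 5, 4, 5, 6],
  [3, 4, 5, 4, 6, 5, 4, 3, 5, 4, 5, 4, 3, 6, 5, 4, 5, 7],
  [3, 4, 5, 4, 6, 5, 4, 3, 5, 4, 5, 4, 3, 6, 5, 4, 7, 6],
  [3, 4, 5, 4, 6, 5, 4, 3, 5, 4, 5, 4, 6, 5, 4, 3, 2, 5],
  [3, 4, 5, 4, 6, 5, 4, 3, 5, 4, 5, 4, 6, 5, 4, 3, 2, 7],
  [3, 4, 5, 4, 6, 5, 4, 3, 5, 4, 5, 4, 6, 5, 4, 3, 5, 4],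
  [3, 4, 5, 4, 6, 5, 4, 3, 5, 4, 5, 4, 6, 5, 4, 3, 5, 6],
  [3, 4, 5, 4, 6, 5, 4, 3, 5, 4, 5, 4, 6, 5, 4, 3, 7, 6],
  [3, 4, 5, 4, 6, 5, 4, 3, 5, 4, 5, 6, 5, 4, 3, 2, 5, 4],
  [3, 4, 5, 4, 6, 5, 4, 3, 5, 4, 5, 6, 5, 4, 3, 2, 5, 7],
  [3, 4, 5, 4, 6, 5, 4, 3, 5, 4, 5, 6, 5, 4, 3, 5, 4, 3],
  [3, 4, 5, 4, 6, 5, 4, 3, 5, 4, 5, 6, 5, 4, 3, 5, 4, 5],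
  [3, 4, 5, 4, 6, 5, 4, 3, 5, 4, 5, 6, 5, 4, 3, 5, 4, 7],
  [3, 4, 5, 4, 6, 5, 4, 3, 5, 4, 5, 6, 5, 4, 3, 5, 7, 6],
  [3, 4, 5, 4, 6, 5, 4, 3, 5, 4, 5, 6, 5, 4, 5, 4, 3, 2],
  [3, 2, 4, 3, 5, 4, 3, 2, 5, 6, 5, 4, 3, 2, 5, 4, 3, 2, 6],
  [3, 2, 4, 3, 5, 4, 3, 2, 5, 6, 5, 4, 3, 2, 5, 4, 3, 5, 6],
  [3, 2, 4, 3, 5, 4, 3, 2, 5, 6, 5, 4, 3, 2, 5, 4, 3, 6, 5],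
  [3, 2, 4, 3, 5, 4, 3, 2, 5, 6, 5, 4, 3, 2, 5, 4, 3, 6, 7],
  [3, 2, 4, 3, 5, 4, 3, 2, 5, 6, 5, 4, 3, 2, 5, 4, 5, 6, 5],
  [3, 2, 4, 3, 5, 4, 3, 2, 5, 6, 5, 4, 3, 2, 5, 4, 5, 6, 7],
  [3, 2, 4, 3, 5, 4, 3, 2, 5, 6, 5, 4, 3, 2, 5, 4, 6, 7, 6],
  [3, 2, 4, 3, 5, 4, 3, 2, 5, 6, 5, 4, 3, 2, 5, 4, 7, 6, 5],
  [3, 2, 4, 3, 5, 4, 3, 2, 5, 6, 5, 4, 3, 2, 5, 7, 6, 5, 4],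
  [3, 2, 4, 3, 5, 4, 3, 2, 5, 6, 5, 4, 3, 2, 7, 6, 5, 4, 3],
  [3, 2, 4, 3, 5, 4, 3, 2, 5, 6, 5, 4, 3, 5, 4, 3, 5, 6, 5],
  [3, 2, 4, 3, 5, 4, 3, 2, 5, 6, 5, 4, 3, 5, 4, 3, 5, 6, 7],
  [3, 2, 4, 3, 5, 4, 3, 2, 5, 6, 5, 4, 3, 5, 4, 3, 6, 5, 4],
  [3, 2, 4, 3, 5, 4, 3, 2, 5, 6, 5, 4, 3, 5, 4, 3, 6, 5, 7],
  [3, 2, 4, 3, 5, 4, 3, 2, 5, 6, 5, 4, 3, 5, 4, 5, 4, 3, 6],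
  [3, 2, 4, 3, 5, 4, 3, 2, 5, 6, 5, 4, 3, 5, 4, 5, 4, 6, 5],
  [3, 2, 4, 3, 5, 4, 3, 2, 5, 6, 5, 4, 3, 5, 4, 5, 4, 6, 7],
  [3, 2, 4, 3, 5, 4, 3, 2, 5, 6, 5, 4, 3, 5, 4, 5, 6, 5, 4],
  [3, 2, 4, 3, 5, 4, 3, 2, 5, 6, 5, 4, 3, 5, 4, 5, 6, 5, 7],
  [3, 2, 4, 3, 5, 4, 3, 2, 5, 6, 5, 4, 3, 5, 4, 6, 5, 4, 3],
  [3, 2, 4, 3, 5, 4, 3, 2, 5, 6, 5, 4, 3, 5, 4, 6, 5, 7, 6],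
  [3, 2, 4, 3, 5, 4, 3, 2, 5, 6, 5, 4, 3, 5, 7, 6, 5, 4, 5],
  [3, 2, 4, 3, 5, 4, 3, 2, 5, 6, 5, 4, 3, 7, 6, 5, 4, 5, 6],
  [3, 2, 4, 3, 5, 4, 3, 2, 6, 5, 4, 3, 2, 7, 6, 5, 4, 3, 2],
  [3, 2, 4, 3, 5, 4, 3, 2, 6, 5, 4, 3, 2, 7, 6, 5, 4, 3, 5],
  [3, 2, 4, 3, 5, 4, 3, 2, 6, 5, 4, 3, 2, 7, 6, 5, 4, 5, 6],
  [3, 2, 4, 3, 5, 4, 3, 2, 6, 5, 4, 3, 7, 6, 5, 4, 3, 2, 5],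
  [3, 2, 4, 3, 5, 4, 3, 2, 6, 5, 4, 3, 7, 6, 5, 4, 3, 5, 4],
  [3, 2, 4, 3, 5, 4, 3, 2, 6, 5, 4, 3, 7, 6, 5, 4, 3, 5, 6],
  [3, 2, 4, 3, 5, 4, 3, 2, 6, 5, 4, 3, 7, 6, 5, 4, 5, 4, 3],
  [3, 2, 4, 3, 5, 4, 3, 2, 6, 5, 4, 3, 7, 6, 5, 4, 5, 4, 6],
  [3, 2, 4, 3, 5, 4, 3, 2, 6, 5, 4, 3, 7, 6, 5, 4, 5, 6, 7],
  [3, 2, 4, 3, 5, 4, 3, 5, 6, 5, 4, 3, 2, 5, 4, 3, 2, 6, 5],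
  [3, 2, 4, 3, 5, 4, 3, 5, 6, 5, 4, 3, 2, 5, 4, 3, 2, 6, 7],
  [3, 2, 4, 3, 5, 4, 3, 5, 6, 5, 4, 3, 2, 5, 4, 3, 5, 6, 5],
  [3, 2, 4, 3, 5, 4, 3, 5, 6, 5, 4, 3, 2, 5, 4, 3, 5, 6, 7],
  [3, 2, 4, 3, 5, 4, 3, 5, 6, 5, 4, 3, 2, 5, 4, 3, 6, 5, 4],
  [3, 2, 4, 3, 5, 4, 3, 5, 6, 5, 4, 3, 2, 5, 4, 3, 6, 5, 7],
  [3, 2, 4, 3, 5, 4, 3, 5, 6, 5, 4, 3, 2, 5, 4, 5, 6, 5, 4],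
  [3, 2, 4, 3, 5, 4, 3, 5, 6, 5, 4, 3, 2, 5, 4, 5, 6, 5, 7],
  [3, 2, 4, 3, 5, 4, 3, 5, 6, 5, 4, 3, 2, 5, 4, 6, 5, 4, 3],
  [3, 2, 4, 3, 5, 4, 3, 5, 6, 5, 4, 3, 2, 5, 4, 6, 5, 7, 6],
  [3, 2, 4, 3, 5, 4, 3, 5, 6, 5, 4, 3, 2, 5, 4, 6, 7, 6, 5],
  [3, 2, 4, 3, 5, 4, 3, 5, 6, 5, 4, 3, 2, 5, 4, 7, 6, 5, 4],
  [3, 2, 4, 3, 5, 4, 3, 5, 6, 5, 4, 3, 2, 5, 6, 7, 6, 5, 4],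
  [3, 2, 4, 3, 5, 4, 3, 5, 6, 5, 4, 3, 2, 5, 7, 6, 5, 4, 3],
  [3, 2, 4, 3, 5, 4, 3, 5, 6, 5, 4, 3, 2, 5, 7, 6, 5, 4, 5],
  [3, 2, 4, 3, 5, 4, 3, 5, 6, 5, 4, 3, 2, 7, 6, 5, 4, 3, 2],
  [3, 2, 4, 3, 5, 4, 3, 5, 6, 5, 4, 3, 5, 4, 3, 5, 6, 5, 4],
  [3, 2, 4, 3, 5, 4, 3, 5, 6, 5, 4, 3, 5, 4, 3, 5, 6, 5, 7],
  [3, 2, 4, 3, 5, 4, 3, 5, 6, 5, 4, 3, 5, 4, 3, 6, 5, 4, 3],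
  [3, 2, 4, 3, 5, 4, 3, 5, 6, 5, 4, 3, 5, 4, 3, 6, 5, 4, 5],
  [3, 2, 4, 3, 5, 4, 3, 5, 6, 5, 4, 3, 5, 4, 3, 6, 5, 4, 7],
  [3, 2, 4, 3, 5, 4, 3, 5, 6, 5, 4, 3, 5, 4, 3, 6, 5, 7, 6],
  [3, 2, 4, 3, 5, 4, 3, 5, 6, 5, 4, 3, 5, 4, 5, 4, 3, 6, 5],
  [3, 2, 4, 3, 5, 4, 3, 5, 6, 5, 4, 3, 5, 4, 5, 4, 3, 6, 7],
  [3, 2, 4, 3, 5, 4, 3, 5, 6, 5, 4, 3, 5, 4, 5, 4, 6, 5, 4],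
  [3, 2, 4, 3, 5, 4, 3, 5, 6, 5, 4, 3, 5, 4, 5, 4, 6, 5, 7],
  [3, 2, 4, 3, 5, 4, 3, 5, 6, 5, 4, 3, 5, 4, 5, 6, 5, 4, 3],
  [3, 2, 4, 3, 5, 4, 3, 5, 6, 5, 4, 3, 5, 4, 5, 6, 5, 4, 5],
  [3, 2, 4, 3, 5, 4, 3, 5, 6, 5, 4, 3, 5, 4, 5, 6, 5, 4, 7],
  [3, 2, 4, 3, 5, 4, 3, 5, 6, 5, 4, 3, 5, 4, 5, 6, 5, 7, 6],
  [3, 2, 4, 3, 5, 4, 3, 5, 6, 5, 4, 3, 5, 4, 6, 5, 4, 3, 2],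
  [3, 2, 4, 3, 5, 4, 3, 5, 6, 5, 4, 3, 5, 4, 6, 5, 4, 3, 5],
  [3, 2, 4, 3, 5, 4, 3, 5, 6, 5, 4, 3, 5, 4, 6, 5, 4, 3, 7],
  [3, 2, 4, 3, 5, 4, 3, 5, 6, 5, 4, 3, 5, 4, 6, 5, 4, 5, 6],
  [3, 2, 4, 3, 5, 4, 3, 5, 6, 5, 4, 3, 5, 4, 6, 5, 4, 7, 6],
  [3, 2, 4, 3, 5, 4, 3, 5, 6, 5, 4, 3, 5, 6, 7, 6, 5, 4, 5],
  [3, 2, 4, 3, 5, 4, 3, 5, 6, 5, 4, 3, 5, 7, 6, 5, 4, 3, 2],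
  [3, 2, 4, 3, 5, 4, 3, 5, 6, 5, 4, 3, 5, 7, 6, 5, 4, 3, 5],
  [3, 2, 4, 3, 5, 4, 3, 5, 6, 5, 4, 3, 5, 7, 6, 5, 4, 5, 4],
  [3, 2, 4, 3, 5, 4, 3, 5, 6, 5, 4, 3, 5, 7, 6, 5, 4, 5, 6],
  [3, 2, 4, 3, 5, 4, 3, 5, 6, 5, 4, 3, 7, 6, 5, 4, 3, 2, 5],
  [3, 2, 4, 3, 5, 4, 3, 5, 6, 5, 4, 3, 7, 6, 5, 4, 3, 5, 4],
  [3, 2, 4, 3, 5, 4, 3, 5, 6, 5, 4, 3, 7, 6, 5, 4, 3, 5, 6],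
  [3, 2, 4, 3, 5, 4, 3, 5, 6, 5, 4, 3, 7, 6, 5, 4, 5, 6, 7],
  [3, 2, 4, 3, 5, 4, 3, 6, 5, 4, 3, 2, 5, 4, 3, 6, 5, 4, 3],
  [3, 2, 4, 3, 5, 4, 3, 6, 5, 4, 3, 2, 5, 4, 3, 6, 5, 4, 5],
  [3, 2, 4, 3, 5, 4, 3, 6, 5, 4, 3, 2, 5, 4, 3, 6, 5, 4, 7],
  [3, 2, 4, 3, 5, 4, 3, 6, 5, 4, 3, 2, 5, 4, 3, 6, 5, 7, 6],
  [3, 2, 4, 3, 5, 4, 3, 6, 5, 4, 3, 2, 5, 4, 6, 5, 4, 3, 2],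
  [3, 2, 4, 3, 5, 4, 3, 6, 5, 4, 3, 2, 5, 4, 6, 5, 7, 6, 5],
  [3, 2, 4, 3, 5, 4, 3, 6, 5, 4, 3, 2, 5, 4, 6, 7, 6, 5, 4],
  [3, 2, 4, 3, 5, 4, 3, 6, 5, 4, 3, 2, 5, 4, 7, 6, 5, 4, 3],
  [3, 2, 4, 3, 5, 4, 3, 6, 5, 4, 3, 2, 5, 4, 7, 6, 5, 4, 5],
  [3, 2, 4, 3, 5, 4, 3, 6, 5, 4, 3, 2, 5, 6, 7, 6, 5, 4, 3],
  [3, 2, 4, 3, 5, 4, 3, 6, 5, 4, 3, 2, 5, 6, 7, 6, 5, 4, 5],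
  [3, 2, 4, 3, 5, 4, 3, 6, 5, 4, 3, 2, 5, 7, 6, 5, 4, 3, 2],
  [3, 2, 4, 3, 5, 4, 3, 6, 5, 4, 3, 2, 5, 7, 6, 5, 4, 3, 5],
  [3, 2, 4, 3, 5, 4, 3, 6, 5, 4, 3, 2, 5, 7, 6, 5, 4, 5, 4],
  [3, 2, 4, 3, 5, 4, 3, 6, 5, 4, 3, 2, 5, 7, 6, 5, 4, 5, 6],
  [3, 2, 4, 3, 5, 4, 3, 6, 5, 4, 3, 2, 7, 6, 5, 4, 3, 2, 5],
  [3, 2, 4, 3, 5, 4, 3, 6, 5, 4, 3, 2, 7, 6, 5, 4, 3, 5, 4],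
  [3, 2, 4, 3, 5, 4, 3, 6, 5, 4, 3, 2, 7, 6, 5, 4, 3, 5, 6],
  [3, 2, 4, 3, 5, 4, 3, 6, 5, 4, 3, 2, 7, 6, 5, 4, 5, 6, 7],
  [3, 2, 4, 3, 5, 4, 3, 6, 5, 4, 3, 5, 4, 3, 6, 5, 4, 3, 2],
  [3, 2, 4, 3, 5, 4, 3, 6, 5, 4, 3, 5, 4, 3, 6, 5, 4, 3, 5],
  [3, 2, 4, 3, 5, 4, 3, 6, 5, 4, 3, 5, 4, 3, 6, 5, 4, 3, 7],
  [3, 2, 4, 3, 5, 4, 3, 6, 5, 4, 3, 5, 4, 3, 6, 5, 4, 5, 6],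
  [3, 2, 4, 3, 5, 4, 3, 6, 5, 4, 3, 5, 4, 3, 6, 5, 4, 7, 6],
  [3, 2, 4, 3, 5, 4, 3, 6, 5, 4, 3, 5, 4, 6, 5, 4, 3, 2, 5],
  [3, 2, 4, 3, 5, 4, 3, 6, 5, 4, 3, 5, 4, 6, 5, 4, 3, 2, 7],
  [3, 2, 4, 3, 5, 4, 3, 6, 5, 4, 3, 5, 4, 6, 5, 4, 3, 5, 4],
  [3, 2, 4, 3, 5, 4, 3, 6, 5, 4, 3, 5, 4, 6, 5, 4, 3, 5, 6],
  [3, 2, 4, 3, 5, 4, 3, 6, 5, 4, 3, 5, 4, 6, 5, 4, 3, 7, 6],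
  [3, 2, 4, 3, 5, 4, 3, 6, 5, 4, 3, 5, 4, 6, 5, 4, 5, 6, 7],
  [3, 2, 4, 3, 5, 4, 3, 6, 5, 4, 3, 5, 4, 6, 5, 4, 7, 6, 5],
  [3, 2, 4, 3, 5, 4, 3, 6, 5, 4, 3, 5, 4, 6, 5, 7, 6, 5, 4],
  [3, 2, 4, 3, 5, 4, 3, 6, 5, 4, 3, 5, 4, 6, 7, 6, 5, 4, 3],
  [3, 2, 4, 3, 5, 4, 3, 6, 5, 4, 3, 5, 4, 7, 6, 5, 4, 3, 2],
  [3, 2, 4, 3, 5, 4, 3, 6, 5, 4, 3, 5, 4, 7, 6, 5, 4, 3, 5],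
  [3, 2, 4, 3, 5, 4, 3, 6, 5, 4, 3, 5, 4, 7, 6, 5, 4, 5, 6],
  [3, 2, 4, 3, 5, 4, 3, 6, 5, 4, 3, 5, 6, 7, 6, 5, 4, 5, 6],
  [3, 2, 4, 3, 5, 4, 3, 6, 5, 4, 3, 5, 7, 6, 5, 4, 3, 2, 5],
  [3, 2, 4, 3, 5, 4, 3, 6, 5, 4, 3, 5, 7, 6, 5, 4, 3, 5, 4],
  [3, 2, 4, 3, 5, 4, 3, 6, 5, 4, 3, 5, 7, 6, 5, 4, 3, 5, 6],
  [3, 2, 4, 3, 5, 4, 3, 6, 5, 4, 3, 5, 7, 6, 5, 4, 5, 4, 3],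
  [3, 2, 4, 3, 5, 4, 3, 6, 5, 4, 3, 5, 7, 6, 5, 4, 5, 4, 6],
  [3, 2, 4, 3, 5, 4, 3, 6, 5, 4, 3, 5, 7, 6, 5, 4, 5, 6, 7],
  [3, 2, 4, 3, 5, 4, 3, 6, 5, 4, 3, 7, 6, 5, 4, 3, 2, 5, 4],
  [3, 2, 4, 3, 5, 4, 3, 6, 5, 4, 3, 7, 6, 5, 4, 3, 2, 5, 6],
  [3, 2, 4, 3, 5, 4, 3, 6, 5, 4, 3, 7, 6, 5, 4, 3, 5, 4, 3],
  [3, 2, 4, 3, 5, 4, 3, 6, 5, 4, 3, 7, 6, 5, 4, 3, 5, 4, 5],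
  [3, 2, 4, 3, 5, 4, 3, 6, 5, 4, 3, 7, 6, 5, 4, 3, 5, 4, 6],
  [3, 2, 4, 3, 5, 4, 3, 6, 5, 4, 3, 7, 6, 5, 4, 3, 5, 6, 7],
  [3, 2, 4, 3, 5, 4, 3, 6, 5, 4, 3, 7, 6, 5, 4, 5, 4, 3, 2],
  [3, 2, 4, 3, 5, 4, 3, 6, 5, 4, 3, 7, 6, 5, 4, 5, 4, 3, 6],
  [3, 2, 4, 3, 5, 4, 3, 6, 5, 4, 3, 7, 6, 5, 4, 5, 4, 6, 5],
  [3, 2, 4, 3, 5, 4, 3, 6, 5, 4, 3, 7, 6, 5, 4, 5, 4, 6, 7],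
  [3, 2, 4, 3, 5, 4, 3, 6, 5, 4, 5, 4, 3, 6, 5, 4, 5, 4, 3],
  [3, 2, 4, 3, 5, 4, 3, 6, 5, 4, 5, 4, 3, 6, 5, 4, 5, 4, 6],
  [3, 2, 4, 3, 5, 4, 3, 6, 5, 4, 5, 4, 3, 6, 5, 4, 5, 6, 7],
  [3, 2, 4, 3, 5, 4, 3, 6, 5, 4, 7, 6, 5, 4, 3, 2, 5, 4, 3],
  [3, 2, 4, 3, 5, 4, 3, 6, 5, 4, 7, 6, 5, 4, 3, 2, 5, 4, 5],
  [3, 2, 4, 3, 5, 4, 3, 6, 5, 4, 7, 6, 5, 4, 3, 2, 5, 4, 6],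
  [3, 2, 4, 3, 5, 4, 3, 6, 5, 4, 7, 6, 5, 4, 3, 5, 4, 5, 4],
  [3, 2, 4, 3, 5, 4, 3, 6, 5, 4, 7, 6, 5, 4, 3, 5, 4, 5, 6],
  [3, 2, 4, 3, 5, 4, 3, 6, 5, 4, 7, 6, 5, 4, 3, 5, 4, 6, 5],
  [3, 2, 4, 3, 5, 4, 5, 6, 5, 4, 3, 2, 5, 4, 3, 2, 6, 5, 4],
  [3, 2, 4, 3, 5, 4, 5, 6, 5, 4, 3, 2, 5, 4, 3, 5, 6, 5, 4],
  [3, 2, 4, 3, 5, 4, 5, 6, 5, 4, 3, 2, 5, 4, 3, 5, 6, 5, 7],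
  [3, 2, 4, 3, 5, 4, 5, 6, 5, 4, 3, 2, 5, 4, 3, 6, 5, 4, 5],
  [3, 2, 4, 3, 5, 4, 5, 6, 5, 4, 3, 2, 5, 4, 6, 7, 6, 5, 4],
  [3, 2, 4, 3, 5, 4, 5, 6, 5, 4, 3, 2, 5, 4, 7, 6, 5, 4, 3],
  [3, 2, 4, 3, 5, 4, 5, 6, 5, 4, 3, 5, 4, 3, 5, 6, 5, 4, 3],
  [3, 2, 4, 3, 5, 4, 5, 6, 5, 4, 3, 5, 4, 3, 5, 6, 5, 4, 5],
  [3, 2, 4, 3, 5, 4, 5, 6, 5, 4, 3, 5, 4, 3, 5, 6, 5, 4, 7],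
  [3, 2, 4, 3, 5, 4, 5, 6, 5, 4, 3, 5, 4, 3, 5, 6, 5, 7, 6],
  [3, 2, 4, 3, 5, 4, 5, 6, 5, 4, 3, 5, 4, 3, 6, 5, 4, 3, 2],
  [3, 2, 4, 3, 5, 4, 5, 6, 5, 4, 3, 5, 4, 3, 6, 5, 4, 7, 6],
  [3, 2, 4, 3, 5, 4, 5, 6, 5, 4, 3, 5, 4, 5, 4, 3, 6, 5, 4],
  [3, 2, 4, 3, 5, 4, 5, 6, 5, 4, 3, 5, 4, 5, 4, 3, 6, 5, 7],
  [3, 2, 4, 3, 5, 4, 5, 6, 5, 4, 3, 5, 4, 5, 4, 6, 5, 4, 3],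
  [3, 2, 4, 3, 5, 4, 5, 6, 5, 4, 3, 5, 4, 5, 4, 6, 5, 4, 5]]
def ows1c8 : List (List Nat) := [[3, 2, 4, 3, 5, 4, 5, 6, 5, 4, 3, 5, 4, 5, 4, 6, 5, 4, 7],
  [3, 2, 4, 3, 5, 4, 5, 6, 5, 4, 3, 5, 4, 5, 4, 6, 5, 7, 6],
  [3, 2, 4, 3, 5, 4, 5, 6, 5, 4, 3, 5, 4, 5, 6, 5, 4, 3, 2],
  [3, 2, 4, 3, 5, 4, 5, 6, 5, 4, 3, 5, 4, 5, 6, 5, 4, 3, 5],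
  [3, 2, 4, 3, 5, 4, 5, 6, 5, 4, 3, 5, 4, 5, 6, 5, 4, 3, 7],
  [3, 2, 4, 3, 5, 4, 5, 6, 5, 4, 3, 5, 4, 5, 6, 5, 4, 5, 4],
  [3, 2, 4, 3, 5, 4, 5, 6, 5, 4, 3, 5, 4, 5, 6, 5, 4, 5, 7],
  [3, 2, 4, 5, 4, 3, 2, 6, 5, 4, 3, 2, 5, 4, 6, 5, 4, 3, 2],
  [3, 2, 4, 5, 4, 3, 2, 6, 5, 4, 3, 5, 4, 5, 6, 5, 4, 3, 2],
  [3, 2, 4, 5, 4, 3, 2, 6, 5, 4, 3, 5, 4, 5, 6, 5, 4, 3, 5],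
  [3, 2, 4, 5, 4, 3, 2, 6, 5, 4, 3, 5, 4, 5, 6, 5, 4, 3, 7],
  [3, 2, 4, 5, 4, 3, 2, 6, 5, 4, 3, 5, 4, 5, 6, 5, 4, 5, 6],
  [3, 2, 4, 5, 4, 3, 2, 6, 5, 4, 3, 5, 4, 5, 6, 5, 4, 7, 6],
  [3, 2, 4, 5, 4, 3, 2, 6, 5, 4, 3, 5, 4, 6, 5, 4, 3, 2, 5],
  [3, 2, 4, 5, 4, 3, 2, 6, 5, 4, 3, 5, 4, 6, 5, 4, 3, 2, 7],
  [3, 2, 4, 5, 4, 3, 2, 6, 5, 4, 3, 5, 4, 6, 5, 4, 3, 5, 4],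
  [3, 2, 4, 5, 4, 3, 2, 6, 5, 4, 3, 5, 4, 6, 5, 4, 3, 5, 6],
  [3, 2, 4, 5, 4, 3, 2, 6, 5, 4, 3, 5, 4, 6, 5, 4, 3, 7, 6],
  [3, 2, 4, 5, 4, 3, 2, 6, 5, 4, 3, 5, 4, 6, 5, 4, 5, 6, 7],
  [3, 2, 4, 5, 4, 3, 2, 6, 5, 4, 3, 5, 4, 6, 5, 4, 7, 6, 5],
  [3, 2, 4, 5, 4, 3, 6, 5, 4, 3, 5, 4, 3, 2, 6, 5, 4, 3, 2],
  [3, 2, 4, 5, 4, 3, 6, 5, 4, 3, 5, 4, 3, 2, 6, 5, 4, 3, 5],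
  [3, 2, 4, 5, 4, 3, 6, 5, 4, 3, 5, 4, 3, 2, 6, 5, 4, 3, 7],
  [3, 2, 4, 5, 4, 3, 6, 5, 4, 3, 5, 4, 3, 2, 6, 5, 4, 5, 6],
  [3, 2, 4, 5, 4, 3, 6, 5, 4, 3, 5, 4, 3, 2, 6, 5, 4, 7, 6],
  [3, 2, 4, 5, 4, 3, 6, 5, 4, 3, 5, 4, 3, 6, 5, 4, 3, 2, 5],
  [3, 2, 4, 5, 4, 3, 6, 5, 4, 3, 5, 4, 3, 6, 5, 4, 3, 2, 7],
  [3, 2, 4, 5, 4, 3, 6, 5, 4, 3, 5, 4, 3, 6, 5, 4, 3, 5, 4],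
  [3, 2, 4, 5, 4, 3, 6, 5, 4, 3, 5, 4, 3, 6, 5, 4, 3, 5, 6],
  [3, 2, 4, 5, 4, 3, 6, 5, 4, 3, 5, 4, 3, 6, 5, 4, 3, 5, 7],
  [3, 2, 4, 5, 4, 3, 6, 5, 4, 3, 5, 4, 3, 6, 5, 4, 3, 7, 6],
  [3, 2, 4, 5, 4, 3, 6, 5, 4, 3, 5, 4, 3, 6, 5, 4, 5, 4, 3],
  [3, 2, 4, 5, 4, 3, 6, 5, 4, 3, 5, 4, 3, 6, 5, 4, 5, 4, 6],
  [3, 2, 4, 5, 4, 3, 6, 5, 4, 3, 5, 4, 3, 6, 5, 4, 5, 6, 7],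
  [3, 2, 4, 5, 4, 3, 6, 5, 4, 3, 5, 4, 3, 6, 5, 4, 5, 7, 6],
  [3, 2, 4, 5, 4, 3, 6, 5, 4, 3, 5, 4, 3, 6, 5, 4, 7, 6, 5],
  [3, 2, 4, 5, 4, 3, 6, 5, 4, 3, 5, 4, 6, 5, 4, 3, 2, 5, 4],
  [3, 2, 4, 5, 4, 3, 6, 5, 4, 3, 5, 4, 6, 5, 4, 3, 2, 5, 6],
  [3, 2, 4, 5, 4, 3, 6, 5, 4, 3, 5, 4, 6, 5, 4, 3, 2, 7, 6],
  [3, 2, 4, 5, 4, 3, 6, 5, 4, 3, 5, 4, 6, 5, 4, 3, 5, 4, 5],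
  [3, 2, 4, 5, 4, 3, 6, 5, 4, 3, 5, 4, 6, 5, 4, 3, 5, 4, 6],
  [3, 2, 4, 5, 4, 3, 6, 5, 4, 5, 4, 3, 2, 6, 5, 4, 3, 2, 5],
  [3, 2, 4, 5, 4, 3, 6, 5, 4, 5, 4, 3, 2, 6, 5, 4, 3, 5, 4],
  [3, 2, 4, 5, 4, 3, 6, 5, 4, 5, 4, 3, 2, 6, 5, 4, 3, 5, 6],
  [3, 2, 4, 5, 4, 3, 6, 5, 4, 5, 4, 3, 2, 6, 5, 4, 3, 7, 6],
  [3, 2, 4, 5, 4, 3, 6, 5, 4, 5, 4, 3, 2, 6, 5, 4, 5, 6, 7],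
  [3, 2, 4, 5, 4, 3, 6, 5, 4, 5, 4, 3, 2, 6, 5, 4, 7, 6, 5],
  [3, 2, 4, 5, 4, 3, 6, 5, 4, 5, 4, 3, 6, 5, 4, 3, 2, 5, 6],
  [3, 2, 4, 5, 4, 3, 6, 5, 4, 5, 4, 3, 6, 5, 4, 3, 5, 4, 3],
  [3, 2, 4, 5, 4, 3, 6, 5, 4, 5, 4, 3, 6, 5, 4, 3, 5, 4, 6],
  [3, 2, 4, 5, 4, 3, 6, 5, 4, 5, 4, 3, 6, 5, 4, 3, 5, 6, 7],
  [3, 2, 4, 5, 4, 3, 6, 5, 4, 5, 4, 3, 6, 5, 4, 5, 4, 3, 2],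
  [3, 2, 4, 5, 4, 3, 6, 5, 4, 5, 4, 3, 6, 5, 4, 5, 4, 3, 6],
  [3, 2, 4, 5, 4, 3, 6, 5, 4, 5, 4, 3, 6, 5, 4, 5, 4, 6, 5],
  [3, 2, 4, 5, 4, 3, 6, 5, 4, 5, 4, 3, 6, 5, 4, 5, 4, 6, 7],
  [3, 2, 4, 5, 4, 3, 6, 5, 4, 5, 4, 3, 6, 5, 4, 5, 6, 7, 6],
  [3, 2, 4, 5, 4, 3, 6, 5, 4, 5, 4, 3, 6, 5, 4, 5, 7, 6, 5],
  [3, 2, 4, 5, 4, 3, 6, 5, 4, 5, 4, 3, 6, 5, 4, 7, 6, 5, 4],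
  [3, 2, 4, 5, 4, 3, 6, 5, 4, 5, 7, 6, 5, 4, 3, 2, 5, 4, 3],
  [3, 2, 4, 5, 4, 3, 6, 5, 4, 5, 7, 6, 5, 4, 3, 2, 5, 4, 5],
  [3, 2, 4, 5, 4, 3, 6, 5, 4, 5, 7, 6, 5, 4, 3, 5, 4, 5, 4],
  [3, 2, 4, 5, 4, 3, 6, 5, 4, 5, 7, 6, 5, 4, 3, 5, 4, 5, 6],
  [3, 4, 5, 4, 3, 2, 6, 5, 4, 3, 2, 5, 4, 3, 6, 5, 4, 3, 2],
  [3, 4, 5, 4, 3, 2, 6, 5, 4, 3, 2, 5, 4, 3, 6, 5, 4, 3, 5],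
  [3, 4, 5, 4, 3, 2, 6, 5, 4, 3, 2, 5, 4, 3, 6, 5, 4, 5, 4],
  [3, 4, 5, 4, 3, 2, 6, 5, 4, 3, 2, 5, 4, 3, 6, 5, 4, 5, 6],
  [3, 4, 5, 4, 3, 2, 6, 5, 4, 3, 2, 5, 4, 3, 6, 5, 4, 5, 7],
  [3, 4, 5, 4, 3, 2, 6, 5, 4, 3, 2, 5, 4, 3, 6, 5, 4, 7, 6],
  [3, 4, 5, 4, 3, 2, 6, 5, 4, 3, 2, 5, 4, 5, 6, 5, 4, 3, 2],
  [3, 4, 5, 4, 3, 2, 6, 5, 4, 3, 2, 5, 4, 5, 6, 5, 4, 3, 5],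
  [3, 4, 5, 4, 3, 2, 6, 5, 4, 3, 2, 5, 4, 5, 6, 5, 4, 3, 7],
  [3, 4, 5, 4, 3, 2, 6, 5, 4, 3, 2, 5, 4, 5, 6, 5, 4, 5, 4],
  [3, 4, 5, 4, 3, 2, 6, 5, 4, 3, 2, 5, 4, 5, 6, 5, 4, 5, 7],
  [3, 4, 5, 4, 3, 2, 6, 5, 4, 3, 2, 7, 6, 5, 4, 3, 5, 6, 7],
  [3, 4, 5, 4, 3, 2, 6, 5, 4, 3, 5, 4, 5, 4, 6, 5, 4, 3, 2],
  [3, 4, 5, 4, 3, 2, 6, 5, 4, 3, 5, 4, 5, 4, 6, 5, 4, 3, 5],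
  [3, 4, 5, 4, 3, 2, 6, 5, 4, 3, 5, 4, 5, 4, 6, 5, 4, 3, 7],
  [3, 4, 5, 4, 3, 2, 6, 5, 4, 3, 5, 4, 5, 4, 6, 5, 4, 5, 6],
  [3, 4, 5, 4, 3, 2, 6, 5, 4, 3, 5, 4, 5, 4, 6, 5, 4, 7, 6],
  [3, 4, 5, 4, 3, 2, 6, 5, 4, 3, 5, 4, 5, 6, 5, 4, 3, 2, 5],
  [3, 4, 5, 4, 3, 2, 6, 5, 4, 3, 5, 4, 5, 6, 5, 4, 3, 2, 7],
  [3, 4, 5, 4, 3, 2, 6, 5, 4, 3, 5, 4, 5, 6, 5, 4, 3, 5, 4],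
  [3, 4, 5, 4, 3, 2, 6, 5, 4, 3, 5, 4, 5, 6, 5, 4, 3, 5, 6],
  [3, 4, 5, 4, 3, 2, 6, 5, 4, 3, 5, 4, 5, 6, 5, 4, 3, 5, 7],
  [3, 4, 5, 4, 3, 2, 6, 5, 4, 3, 5, 4, 5, 6, 5, 4, 3, 7, 6],
  [3, 4, 5, 4, 3, 2, 6, 5, 4, 3, 5, 4, 5, 6, 5, 4, 5, 4, 3],
  [3, 4, 5, 4, 3, 2, 6, 5, 4, 3, 5, 4, 5, 6, 5, 4, 5, 4, 6],
  [3, 4, 5, 4, 3, 2, 6, 5, 4, 3, 5, 4, 5, 6, 5, 4, 5, 6, 7],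
  [3, 4, 5, 4, 3, 2, 6, 5, 4, 3, 5, 4, 5, 6, 5, 4, 5, 7, 6],
  [3, 4, 5, 4, 3, 2, 6, 5, 4, 3, 5, 4, 5, 6, 5, 4, 7, 6, 5],
  [3, 4, 5, 4, 3, 2, 6, 5, 4, 3, 5, 4, 6, 5, 4, 3, 2, 5, 4],
  [3, 4, 5, 4, 3, 2, 6, 5, 4, 3, 5, 4, 6, 5, 4, 3, 2, 5, 6],
  [3, 4, 5, 4, 3, 2, 6, 5, 4, 3, 5, 4, 6, 5, 4, 3, 2, 7, 6],
  [3, 4, 5, 4, 3, 2, 6, 5, 4, 3, 5, 4, 6, 5, 4, 3, 5, 4, 5],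
  [3, 4, 5, 4, 3, 2, 6, 5, 4, 3, 5, 4, 6, 5, 4, 3, 5, 4, 6],
  [3, 4, 5, 4, 3, 2, 6, 5, 4, 3, 5, 4, 6, 5, 4, 3, 7, 6, 5],
  [3, 4, 5, 4, 3, 2, 6, 5, 4, 3, 5, 4, 6, 5, 4, 7, 6, 5, 4],
  [3, 4, 5, 4, 3, 2, 6, 5, 4, 3, 7, 6, 5, 4, 3, 2, 5, 6, 7],
  [3, 4, 5, 4, 3, 2, 6, 5, 4, 3, 7, 6, 5, 4, 3, 5, 4, 6, 5],
  [3, 4, 5, 4, 3, 2, 6, 5, 4, 3, 7, 6, 5, 4, 3, 5, 4, 6, 7],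
  [3, 4, 5, 4, 3, 6, 5, 4, 3, 2, 5, 4, 3, 2, 6, 5, 4, 3, 2],
  [3, 4, 5, 4, 3, 6, 5, 4, 3, 2, 5, 4, 3, 2, 6, 5, 4, 3, 5],
  [3, 4, 5, 4, 3, 6, 5, 4, 3, 2, 5, 4, 3, 2, 6, 5, 4, 3, 7],
  [3, 4, 5, 4, 3, 6, 5, 4, 3, 2, 5, 4, 3, 2, 6, 5, 4, 5, 6],
  [3, 4, 5, 4, 3, 6, 5, 4, 3, 2, 5, 4, 3, 2, 6, 5, 4, 7, 6],
  [3, 4, 5, 4, 3, 6, 5, 4, 3, 2, 5, 4, 3, 6, 5, 4, 3, 2, 5],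
  [3, 4, 5, 4, 3, 6, 5, 4, 3, 2, 5, 4, 3, 6, 5, 4, 3, 5, 4],
  [3, 4, 5, 4, 3, 6, 5, 4, 3, 2, 5, 4, 3, 6, 5, 4, 3, 5, 6],
  [3, 4, 5, 4, 3, 6, 5, 4, 3, 2, 5, 4, 3, 6, 5, 4, 5, 4, 3],
  [3, 4, 5, 4, 3, 6, 5, 4, 3, 2, 5, 4, 3, 6, 5, 4, 5, 4, 6],
  [3, 4, 5, 4, 3, 6, 5, 4, 3, 2, 5, 4, 3, 6, 5, 4, 5, 6, 7],
  [3, 4, 5, 4, 3, 6, 5, 4, 3, 2, 5, 4, 3, 6, 5, 4, 5, 7, 6],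
  [3, 4, 5, 4, 3, 6, 5, 4, 3, 2, 5, 4, 3, 6, 5, 4, 7, 6, 5],
  [3, 4, 5, 4, 3, 6, 5, 4, 3, 2, 5, 4, 3, 6, 5, 7, 6, 5, 4],
  [3, 4, 5, 4, 3, 6, 5, 4, 3, 2, 5, 4, 3, 6, 7, 6, 5, 4, 3],
  [3, 4, 5, 4, 3, 6, 5, 4, 3, 2, 5, 4, 3, 7, 6, 5, 4, 3, 2],
  [3, 4, 5, 4, 3, 6, 5, 4, 3, 2, 5, 4, 3, 7, 6, 5, 4, 3, 5],
  [3, 4, 5, 4, 3, 6, 5, 4, 3, 2, 5, 4, 3, 7, 6, 5, 4, 5, 6],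
  [3, 4, 5, 4, 3, 6, 5, 4, 3, 2, 5, 4, 6, 5, 7, 6, 5, 4, 3],
  [3, 4, 5, 4, 3, 6, 5, 4, 3, 2, 5, 4, 6, 7, 6, 5, 4, 3, 2],
  [3, 4, 5, 4, 3, 6, 5, 4, 3, 2, 5, 4, 7, 6, 5, 4, 3, 2, 5],
  [3, 4, 5, 4, 3, 6, 5, 4, 3, 2, 5, 4, 7, 6, 5, 4, 3, 5, 4],
  [3, 4, 5, 4, 3, 6, 5, 4, 3, 2, 5, 4, 7, 6, 5, 4, 3, 5, 6],
  [3, 4, 5, 4, 3, 6, 5, 4, 3, 2, 5, 6, 7, 6, 5, 4, 3, 2, 5],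
  [3, 4, 5, 4, 3, 6, 5, 4, 3, 2, 5, 6, 7, 6, 5, 4, 3, 5, 4],
  [3, 4, 5, 4, 3, 6, 5, 4, 3, 2, 5, 6, 7, 6, 5, 4, 3, 5, 6],
  [3, 4, 5, 4, 3, 6, 5, 4, 3, 2, 5, 7, 6, 5, 4, 3, 2, 5, 4],
  [3, 4, 5, 4, 3, 6, 5, 4, 3, 2, 5, 7, 6, 5, 4, 3, 5, 4, 3],
  [3, 4, 5, 4, 3, 6, 5, 4, 3, 2, 5, 7, 6, 5, 4, 3, 5, 4, 5],
  [3, 4, 5, 4, 3, 6, 5, 4, 3, 2, 5, 7, 6, 5, 4, 5, 4, 3, 2],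
  [3, 4, 5, 4, 3, 6, 5, 4, 3, 5, 4, 3, 2, 5, 6, 5, 4, 3, 2],
  [3, 4, 5, 4, 3, 6, 5, 4, 3, 5, 4, 3, 2, 5, 6, 5, 4, 3, 5],
  [3, 4, 5, 4, 3, 6, 5, 4, 3, 5, 4, 3, 2, 5, 6, 5, 4, 3, 7],
  [3, 4, 5, 4, 3, 6, 5, 4, 3, 5, 4, 3, 2, 5, 6, 5, 4, 5, 4],
  [3, 4, 5, 4, 3, 6, 5, 4, 3, 5, 4, 3, 2, 5, 6, 5, 4, 5, 6],
  [3, 4, 5, 4, 3, 6, 5, 4, 3, 5, 4, 3, 2, 5, 6, 5, 4, 5, 7],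
  [3, 4, 5, 4, 3, 6, 5, 4, 3, 5, 4, 3, 2, 5, 6, 5, 4, 7, 6],
  [3, 4, 5, 4, 3, 6, 5, 4, 3, 5, 4, 3, 2, 6, 5, 4, 3, 2, 5],
  [3, 4, 5, 4, 3, 6, 5, 4, 3, 5, 4, 3, 2, 6, 5, 4, 3, 2, 7],
  [3, 4, 5, 4, 3, 6, 5, 4, 3, 5, 4, 3, 2, 6, 5, 4, 3, 5, 4],
  [3, 4, 5, 4, 3, 6, 5, 4, 3, 5, 4, 3, 2, 6, 5, 4, 3, 5, 6],
  [3, 4, 5, 4, 3, 6, 5, 4, 3, 5, 4, 3, 2, 6, 5, 4, 3, 7, 6],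
  [3, 4, 5, 4, 3, 6, 5, 4, 3, 5, 4, 3, 2, 6, 5, 4, 5, 6, 7],
  [3, 4, 5, 4, 3, 6, 5, 4, 3, 5, 4, 3, 2, 6, 5, 4, 7, 6, 5],
  [3, 4, 5, 4, 3, 6, 5, 4, 3, 5, 4, 3, 5, 4, 6, 5, 4, 3, 2],
  [3, 4, 5, 4, 3, 6, 5, 4, 3, 5, 4, 3, 5, 4, 6, 5, 4, 3, 5],
  [3, 4, 5, 4, 3, 6, 5, 4, 3, 5, 4, 3, 5, 6, 5, 4, 3, 2, 5],
  [3, 4, 5, 4, 3, 6, 5, 4, 3, 5, 4, 3, 5, 6, 5, 4, 3, 5, 4],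
  [3, 4, 5, 4, 3, 6, 5, 4, 3, 5, 4, 3, 5, 6, 5, 4, 3, 5, 6],
  [3, 4, 5, 4, 3, 6, 5, 4, 3, 5, 4, 3, 5, 6, 5, 4, 5, 4, 3],
  [3, 4, 5, 4, 3, 6, 5, 4, 3, 5, 4, 3, 5, 6, 5, 4, 5, 4, 6],
  [3, 4, 5, 4, 3, 6, 5, 4, 3, 5, 4, 3, 5, 6, 5, 4, 5, 6, 7],
  [3, 4, 5, 4, 3, 6, 5, 4, 3, 5, 4, 3, 5, 6, 5, 4, 5, 7, 6],
  [3, 4, 5, 4, 3, 6, 5, 4, 3, 5, 4, 3, 5, 6, 5, 4, 7, 6, 5],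
  [3, 4, 5, 4, 3, 6, 5, 4, 3, 5, 4, 3, 6, 5, 4, 3, 2, 5, 4],
  [3, 4, 5, 4, 3, 6, 5, 4, 3, 5, 4, 3, 6, 5, 4, 3, 2, 5, 6],
  [3, 4, 5, 4, 3, 6, 5, 4, 3, 5, 4, 3, 6, 5, 4, 3, 2, 5, 7],
  [3, 4, 5, 4, 3, 6, 5, 4, 3, 5, 4, 3, 6, 5, 4, 3, 2, 7, 6],
  [3, 4, 5, 4, 3, 6, 5, 4, 3, 5, 4, 3, 6, 5, 4, 3, 5, 4, 3],
  [3, 4, 5, 4, 3, 6, 5, 4, 3, 5, 4, 3, 6, 5, 4, 3, 5, 4, 5],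
  [3, 4, 5, 4, 3, 6, 5, 4, 3, 5, 4, 3, 6, 5, 4, 3, 5, 4, 6],
  [3, 4, 5, 4, 3, 6, 5, 4, 3, 5, 4, 3, 6, 5, 4, 3, 5, 4, 7],
  [3, 4, 5, 4, 3, 6, 5, 4, 3, 5, 4, 3, 6, 5, 4, 3, 5, 6, 7],
  [3, 4, 5, 4, 3, 6, 5, 4, 3, 5, 4, 3, 6, 5, 4, 3, 5, 7, 6],
  [3, 4, 5, 4, 3, 6, 5, 4, 3, 5, 4, 3, 6, 5, 4, 3, 7, 6, 5],
  [3, 4, 5, 4, 3, 6, 5, 4, 3, 5, 4, 3, 6, 5, 4, 5, 4, 3, 2],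
  [3, 4, 5, 4, 3, 6, 5, 4, 3, 5, 4, 3, 6, 5, 4, 5, 4, 3, 6],
  [3, 4, 5, 4, 3, 6, 5, 4, 3, 5, 4, 3, 6, 5, 4, 5, 4, 6, 5],
  [3, 4, 5, 4, 3, 6, 5, 4, 3, 5, 4, 3, 6, 5, 4, 5, 4, 6, 7],
  [3, 4, 5, 4, 3, 6, 5, 4, 3, 5, 4, 3, 6, 5, 4, 5, 6, 7, 6],
  [3, 4, 5, 4, 3, 6, 5, 4, 3, 5, 4, 3, 6, 5, 4, 5, 7, 6, 5],
  [3, 4, 5, 4, 3, 6, 5, 4, 3, 5, 4, 3, 6, 5, 4, 7, 6, 5, 4],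
  [3, 4, 5, 4, 3, 6, 5, 4, 3, 5, 4, 5, 6, 5, 7, 6, 5, 4, 3],
  [3, 4, 5, 4, 3, 6, 5, 4, 3, 5, 4, 5, 6, 7, 6, 5, 4, 3, 2],
  [3, 4, 5, 4, 3, 6, 5, 4, 3, 5, 4, 5, 7, 6, 5, 4, 3, 2, 5],
  [3, 4, 5, 4, 3, 6, 5, 4, 3, 5, 4, 5, 7, 6, 5, 4, 3, 5, 4],
  [3, 4, 5, 4, 3, 6, 5, 4, 3, 5, 4, 5, 7, 6, 5, 4, 3, 5, 6],
  [3, 4, 5, 4, 3, 6, 5, 4, 3, 5, 4, 6, 5, 4, 3, 2, 5, 4, 3],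
  [3, 4, 5, 4, 3, 6, 5, 4, 3, 5, 4, 6, 5, 4, 3, 2, 5, 4, 5],
  [3, 4, 5, 4, 3, 6, 5, 4, 3, 5, 4, 6, 5, 4, 3, 2, 5, 4, 6],
  [3, 4, 5, 4, 3, 6, 5, 4, 3, 5, 4, 6, 5, 4, 3, 5, 4, 5, 4],
  [3, 4, 5, 4, 3, 6, 5, 4, 3, 5, 4, 6, 5, 4, 3, 5, 4, 5, 6],
  [3, 4, 5, 4, 3, 6, 5, 4, 3, 5, 4, 6, 5, 4, 3, 5, 4, 6, 5],
  [3, 4, 5, 4, 3, 6, 5, 4, 3, 5, 4, 6, 5, 7, 6, 5, 4, 3, 2],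
  [3, 4, 5, 4, 3, 6, 5, 4, 3, 5, 4, 7, 6, 5, 4, 3, 2, 5, 4],
  [3, 4, 5, 4, 3, 6, 5, 4, 3, 5, 4, 7, 6, 5, 4, 3, 2, 5, 6],
  [3, 4, 5, 4, 3, 6, 5, 4, 3, 5, 4, 7, 6, 5, 4, 3, 5, 4, 5],
  [3, 4, 5, 4, 3, 6, 5, 4, 3, 5, 4, 7, 6, 5, 4, 3, 5, 4, 6],
  [3, 4, 5, 4, 3, 6, 5, 4, 3, 5, 6, 7, 6, 5, 4, 3, 2, 5, 4],
  [3, 4, 5, 4, 3, 6, 5, 4, 3, 5, 6, 7, 6, 5, 4, 3, 2, 5, 6],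
  [3, 4, 5, 4, 3, 6, 5, 4, 3, 5, 6, 7, 6, 5, 4, 3, 5, 4, 5],
  [3, 4, 5, 4, 3, 6, 5, 4, 3, 5, 6, 7, 6, 5, 4, 3, 5, 4, 6],
  [3, 4, 5, 4, 3, 6, 5, 4, 3, 5, 7, 6, 5, 4, 3, 2, 5, 4, 3],
  [3, 4, 5, 4, 3, 6, 5, 4, 3, 5, 7, 6, 5, 4, 3, 5, 4, 3, 2],
  [3, 4, 5, 4, 3, 6, 5, 4, 3, 5, 7, 6, 5, 4, 3, 5, 4, 3, 5],
  [3, 4, 5, 4, 3, 6, 5, 4, 3, 5, 7, 6, 5, 4, 3, 5, 4, 5, 6],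
  [3, 4, 5, 4, 3, 6, 5, 4, 5, 4, 3, 2, 6, 5, 4, 3, 2, 5, 4],
  [3, 4, 5, 4, 3, 6, 5, 4, 5, 4, 3, 2, 6, 5, 4, 3, 2, 7, 6],
  [3, 4, 5, 4, 3, 6, 5, 4, 5, 4, 3, 2, 6, 5, 4, 3, 5, 4, 5],
  [3, 4, 5, 4, 3, 6, 5, 4, 5, 4, 3, 2, 6, 5, 4, 3, 5, 4, 6]]
def ows1c9 : List (List Nat) := [[3, 4, 5, 4, 3, 6, 5, 4, 5, 4, 3, 2, 6, 5, 4, 3, 5, 6, 7],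
  [3, 4, 5, 4, 3, 6, 5, 4, 5, 4, 3, 2, 6, 5, 4, 3, 7, 6, 5],
  [3, 4, 5, 4, 3, 6, 5, 4, 5, 4, 3, 6, 5, 4, 3, 2, 5, 4, 3],
  [3, 4, 5, 4, 3, 6, 5, 4, 5, 4, 3, 6, 5, 4, 3, 2, 5, 4, 6],
  [3, 4, 5, 4, 3, 6, 5, 4, 5, 4, 3, 6, 5, 4, 3, 2, 5, 4, 7],
  [3, 4, 5, 4, 3, 6, 5, 4, 5, 4, 3, 6, 5, 4, 3, 2, 5, 6, 7],
  [3, 4, 5, 4, 3, 6, 5, 4, 5, 4, 3, 6, 5, 4, 3, 2, 5, 7, 6],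
  [3, 4, 5, 4, 3, 6, 5, 4, 5, 4, 3, 6, 5, 4, 3, 2, 7, 6, 5],
  [3, 4, 5, 4, 3, 6, 5, 4, 5, 4, 3, 6, 5, 4, 3, 5, 4, 3, 2],
  [3, 4, 5, 4, 3, 6, 5, 4, 5, 4, 3, 6, 5, 4, 3, 5, 4, 3, 5],
  [3, 4, 5, 4, 3, 6, 5, 4, 5, 4, 3, 6, 5, 4, 3, 5, 4, 3, 6],
  [3, 4, 5, 4, 3, 6, 5, 4, 5, 4, 3, 6, 5, 4, 3, 5, 4, 5, 6],
  [3, 4, 5, 4, 3, 6, 5, 4, 5, 4, 3, 6, 5, 4, 3, 5, 4, 5, 7],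
  [3, 4, 5, 4, 3, 6, 5, 4, 5, 4, 3, 6, 5, 4, 3, 5, 4, 6, 5],
  [3, 4, 5, 4, 3, 6, 5, 4, 5, 4, 3, 6, 5, 4, 3, 5, 4, 6, 7],
  [3, 4, 5, 4, 3, 6, 5, 4, 5, 4, 3, 6, 5, 4, 3, 5, 4, 7, 6],
  [3, 4, 5, 4, 3, 6, 5, 4, 5, 4, 3, 6, 5, 4, 3, 5, 6, 7, 6],
  [3, 4, 5, 4, 3, 6, 5, 4, 5, 4, 3, 6, 5, 4, 3, 5, 7, 6, 5],
  [3, 4, 5, 4, 3, 6, 5, 4, 5, 4, 3, 6, 5, 4, 3, 7, 6, 5, 4],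
  [3, 4, 5, 4, 3, 6, 5, 4, 5, 4, 3, 6, 5, 4, 5, 4, 3, 2, 6],
  [3, 4, 5, 4, 3, 6, 5, 4, 5, 4, 3, 6, 5, 4, 5, 4, 3, 6, 5],
  [3, 4, 5, 4, 3, 6, 5, 4, 5, 4, 3, 6, 5, 4, 5, 4, 3, 6, 7],
  [3, 4, 5, 4, 3, 6, 5, 4, 5, 4, 3, 6, 5, 4, 5, 4, 6, 5, 4],
  [3, 4, 5, 4, 3, 6, 5, 4, 5, 4, 3, 6, 5, 4, 5, 6, 7, 6, 5],
  [3, 4, 5, 4, 3, 6, 5, 4, 5, 4, 3, 6, 5, 4, 5, 7, 6, 5, 4],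
  [3, 4, 5, 4, 3, 6, 5, 4, 5, 4, 3, 6, 5, 4, 7, 6, 5, 4, 3],
  [3, 4, 5, 4, 3, 6, 5, 4, 5, 4, 6, 5, 4, 3, 2, 5, 4, 3, 5],
  [3, 4, 5, 4, 3, 6, 5, 4, 5, 4, 6, 5, 4, 3, 2, 5, 4, 5, 6],
  [3, 4, 5, 4, 3, 6, 5, 4, 5, 4, 6, 5, 4, 3, 5, 4, 5, 4, 3],
  [3, 4, 5, 4, 3, 6, 5, 4, 5, 4, 6, 5, 4, 3, 5, 4, 5, 4, 6],
  [3, 4, 5, 4, 3, 6, 5, 4, 5, 4, 6, 5, 4, 3, 5, 4, 5, 6, 7],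
  [3, 4, 5, 4, 3, 6, 5, 4, 5, 7, 6, 5, 4, 3, 2, 5, 4, 3, 5],
  [3, 4, 5, 4, 3, 6, 5, 4, 5, 7, 6, 5, 4, 3, 2, 5, 4, 3, 6],
  [3, 4, 5, 4, 3, 6, 5, 4, 5, 7, 6, 5, 4, 3, 2, 5, 4, 5, 6],
  [3, 4, 5, 4, 3, 6, 5, 4, 5, 7, 6, 5, 4, 3, 2, 5, 4, 6, 5],
  [3, 4, 5, 4, 3, 6, 5, 4, 5, 7, 6, 5, 4, 3, 5, 4, 5, 4, 3],
  [3, 4, 5, 4, 3, 6, 5, 4, 5, 7, 6, 5, 4, 3, 5, 4, 5, 4, 6],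
  [3, 4, 5, 4, 3, 6, 5, 4, 5, 7, 6, 5, 4, 3, 5, 4, 5, 6, 5],
  [3, 4, 5, 4, 3, 6, 5, 4, 5, 7, 6, 5, 4, 3, 5, 4, 5, 6, 7],
  [3, 4, 5, 4, 3, 6, 5, 4, 5, 7, 6, 5, 4, 3, 5, 4, 6, 5, 4],
  [3, 4, 5, 4, 3, 6, 5, 4, 7, 6, 5, 4, 3, 2, 5, 4, 3, 6, 5],
  [3, 4, 5, 4, 3, 6, 5, 4, 7, 6, 5, 4, 3, 2, 5, 4, 5, 6, 5],
  [3, 4, 5, 4, 3, 6, 5, 4, 7, 6, 5, 4, 3, 2, 5, 4, 5, 6, 7],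
  [3, 4, 5, 4, 3, 6, 5, 4, 7, 6, 5, 4, 3, 2, 5, 4, 6, 5, 4],
  [3, 4, 5, 4, 3, 6, 5, 4, 7, 6, 5, 4, 3, 5, 4, 5, 4, 6, 5],
  [3, 4, 5, 4, 3, 6, 5, 4, 7, 6, 5, 4, 3, 5, 4, 5, 4, 6, 7],
  [3, 4, 5, 4, 3, 6, 5, 4, 7, 6, 5, 4, 3, 5, 4, 5, 6, 5, 4],
  [3, 4, 5, 4, 3, 6, 5, 4, 7, 6, 5, 4, 3, 5, 4, 5, 6, 5, 7],
  [3, 4, 5, 4, 3, 6, 5, 4, 7, 6, 5, 4, 3, 5, 4, 6, 5, 4, 3],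
  [3, 4, 5, 4, 3, 6, 5, 4, 7, 6, 5, 4, 3, 5, 4, 6, 5, 4, 5],
  [3, 4, 5, 4, 6, 5, 4, 3, 2, 5, 4, 3, 5, 4, 6, 5, 4, 3, 2],
  [3, 4, 5, 4, 6, 5, 4, 3, 2, 5, 4, 3, 5, 4, 6, 5, 4, 3, 7],
  [3, 4, 5, 4, 6, 5, 4, 3, 2, 5, 4, 3, 5, 4, 6, 5, 4, 7, 6],
  [3, 4, 5, 4, 6, 5, 4, 3, 2, 5, 4, 3, 5, 6, 5, 4, 3, 5, 4],
  [3, 4, 5, 4, 6, 5, 4, 3, 2, 5, 4, 3, 5, 6, 5, 4, 3, 5, 6],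
  [3, 4, 5, 4, 6, 5, 4, 3, 2, 5, 4, 3, 5, 6, 5, 4, 5, 4, 3],
  [3, 4, 5, 4, 6, 5, 4, 3, 2, 5, 4, 3, 5, 6, 5, 4, 5, 4, 6],
  [3, 4, 5, 4, 6, 5, 4, 3, 2, 5, 4, 3, 5, 6, 5, 4, 5, 6, 7],
  [3, 4, 5, 4, 6, 5, 4, 3, 2, 5, 4, 3, 6, 5, 4, 3, 5, 6, 7],
  [3, 4, 5, 4, 6, 5, 4, 3, 2, 5, 4, 5, 6, 5, 4, 3, 2, 5, 4],
  [3, 4, 5, 4, 6, 5, 4, 3, 2, 5, 4, 5, 6, 5, 4, 3, 2, 5, 7],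
  [3, 4, 5, 4, 6, 5, 4, 3, 2, 5, 4, 5, 6, 5, 4, 3, 5, 4, 3],
  [3, 4, 5, 4, 6, 5, 4, 3, 2, 5, 4, 5, 6, 5, 4, 3, 5, 4, 5],
  [3, 4, 5, 4, 6, 5, 4, 3, 2, 5, 4, 5, 6, 5, 4, 3, 5, 4, 7],
  [3, 4, 5, 4, 6, 5, 4, 3, 2, 5, 4, 5, 6, 5, 4, 3, 5, 7, 6],
  [3, 4, 5, 4, 6, 5, 4, 3, 2, 5, 4, 5, 6, 5, 4, 5, 4, 3, 2],
  [3, 4, 5, 4, 6, 5, 4, 3, 5, 4, 5, 4, 3, 2, 6, 5, 4, 3, 2],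
  [3, 4, 5, 4, 6, 5, 4, 3, 5, 4, 5, 4, 3, 2, 6, 5, 4, 3, 5],
  [3, 4, 5, 4, 6, 5, 4, 3, 5, 4, 5, 4, 3, 2, 6, 5, 4, 3, 7],
  [3, 4, 5, 4, 6, 5, 4, 3, 5, 4, 5, 4, 3, 2, 6, 5, 4, 5, 6],
  [3, 4, 5, 4, 6, 5, 4, 3, 5, 4, 5, 4, 3, 2, 6, 5, 4, 7, 6],
  [3, 4, 5, 4, 6, 5, 4, 3, 5, 4, 5, 4, 3, 6, 5, 4, 3, 2, 5],
  [3, 4, 5, 4, 6, 5, 4, 3, 5, 4, 5, 4, 3, 6, 5, 4, 3, 2, 7],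
  [3, 4, 5, 4, 6, 5, 4, 3, 5, 4, 5, 4, 3, 6, 5, 4, 3, 5, 4],
  [3, 4, 5, 4, 6, 5, 4, 3, 5, 4, 5, 4, 3, 6, 5, 4, 3, 5, 6],
  [3, 4, 5, 4, 6, 5, 4, 3, 5, 4, 5, 4, 3, 6, 5, 4, 3, 5, 7],
  [3, 4, 5, 4, 6, 5, 4, 3, 5, 4, 5, 4, 3, 6, 5, 4, 3, 7, 6],
  [3, 4, 5, 4, 6, 5, 4, 3, 5, 4, 5, 4, 3, 6, 5, 4, 5, 4, 3],
  [3, 4, 5, 4, 6, 5, 4, 3, 5, 4, 5, 4, 3, 6, 5, 4, 5, 4, 6],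
  [3, 4, 5, 4, 6, 5, 4, 3, 5, 4, 5, 4, 3, 6, 5, 4, 5, 6, 7],
  [3, 4, 5, 4, 6, 5, 4, 3, 5, 4, 5, 4, 3, 6, 5, 4, 5, 7, 6],
  [3, 4, 5, 4, 6, 5, 4, 3, 5, 4, 5, 4, 3, 6, 5, 4, 7, 6, 5],
  [3, 4, 5, 4, 6, 5, 4, 3, 5, 4, 5, 4, 6, 5, 4, 3, 2, 5, 4],
  [3, 4, 5, 4, 6, 5, 4, 3, 5, 4, 5, 4, 6, 5, 4, 3, 2, 5, 6],
  [3, 4, 5, 4, 6, 5, 4, 3, 5, 4, 5, 4, 6, 5, 4, 3, 2, 7, 6],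
  [3, 4, 5, 4, 6, 5, 4, 3, 5, 4, 5, 4, 6, 5, 4, 3, 5, 4, 5],
  [3, 4, 5, 4, 6, 5, 4, 3, 5, 4, 5, 4, 6, 5, 4, 3, 5, 4, 6],
  [3, 4, 5, 4, 6, 5, 4, 3, 5, 4, 5, 6, 5, 4, 3, 2, 5, 4, 3],
  [3, 4, 5, 4, 6, 5, 4, 3, 5, 4, 5, 6, 5, 4, 3, 2, 5, 4, 5],
  [3, 4, 5, 4, 6, 5, 4, 3, 5, 4, 5, 6, 5, 4, 3, 2, 5, 4, 7],
  [3, 4, 5, 4, 6, 5, 4, 3, 5, 4, 5, 6, 5, 4, 3, 2, 5, 7, 6],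
  [3, 4, 5, 4, 6, 5, 4, 3, 5, 4, 5, 6, 5, 4, 3, 5, 4, 3, 2],
  [3, 4, 5, 4, 6, 5, 4, 3, 5, 4, 5, 6, 5, 4, 3, 5, 4, 3, 5],
  [3, 4, 5, 4, 6, 5, 4, 3, 5, 4, 5, 6, 5, 4, 3, 5, 4, 5, 4],
  [3, 4, 5, 4, 6, 5, 4, 3, 5, 4, 5, 6, 5, 4, 3, 5, 4, 5, 6],
  [3, 4, 5, 4, 6, 5, 4, 3, 5, 4, 5, 6, 5, 4, 3, 5, 4, 5, 7],
  [3, 4, 5, 4, 6, 5, 4, 3, 5, 4, 5, 6, 5, 4, 3, 5, 4, 7, 6],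
  [3, 2, 4, 3, 5, 4, 3, 2, 5, 6, 5, 4, 3, 2, 5, 4, 3, 2, 6, 5],
  [3, 2, 4, 3, 5, 4, 3, 2, 5, 6, 5, 4, 3, 2, 5, 4, 3, 2, 6, 7],
  [3, 2, 4, 3, 5, 4, 3, 2, 5, 6, 5, 4, 3, 2, 5, 4, 3, 5, 6, 5],
  [3, 2, 4, 3, 5, 4, 3, 2, 5, 6, 5, 4, 3, 2, 5, 4, 3, 5, 6, 7],
  [3, 2, 4, 3, 5, 4, 3, 2, 5, 6, 5, 4, 3, 2, 5, 4, 3, 6, 5, 4],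
  [3, 2, 4, 3, 5, 4, 3, 2, 5, 6, 5, 4, 3, 2, 5, 4, 5, 6, 5, 7],
  [3, 2, 4, 3, 5, 4, 3, 2, 5, 6, 5, 4, 3, 2, 5, 4, 6, 7, 6, 5],
  [3, 2, 4, 3, 5, 4, 3, 2, 5, 6, 5, 4, 3, 2, 5, 4, 7, 6, 5, 4],
  [3, 2, 4, 3, 5, 4, 3, 2, 5, 6, 5, 4, 3, 2, 5, 7, 6, 5, 4, 3],
  [3, 2, 4, 3, 5, 4, 3, 2, 5, 6, 5, 4, 3, 2, 5, 7, 6, 5, 4, 5],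
  [3, 2, 4, 3, 5, 4, 3, 2, 5, 6, 5, 4, 3, 5, 4, 3, 5, 6, 5, 4],
  [3, 2, 4, 3, 5, 4, 3, 2, 5, 6, 5, 4, 3, 5, 4, 3, 5, 6, 5, 7],
  [3, 2, 4, 3, 5, 4, 3, 2, 5, 6, 5, 4, 3, 5, 4, 3, 6, 5, 4, 3],
  [3, 2, 4, 3, 5, 4, 3, 2, 5, 6, 5, 4, 3, 5, 4, 3, 6, 5, 4, 5],
  [3, 2, 4, 3, 5, 4, 3, 2, 5, 6, 5, 4, 3, 5, 4, 3, 6, 5, 4, 7],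
  [3, 2, 4, 3, 5, 4, 3, 2, 5, 6, 5, 4, 3, 5, 4, 3, 6, 5, 7, 6],
  [3, 2, 4, 3, 5, 4, 3, 2, 5, 6, 5, 4, 3, 5, 4, 5, 4, 3, 6, 5],
  [3, 2, 4, 3, 5, 4, 3, 2, 5, 6, 5, 4, 3, 5, 4, 5, 4, 3, 6, 7],
  [3, 2, 4, 3, 5, 4, 3, 2, 5, 6, 5, 4, 3, 5, 4, 5, 4, 6, 5, 4],
  [3, 2, 4, 3, 5, 4, 3, 2, 5, 6, 5, 4, 3, 5, 4, 5, 4, 6, 5, 7],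
  [3, 2, 4, 3, 5, 4, 3, 2, 5, 6, 5, 4, 3, 5, 4, 5, 6, 5, 4, 3],
  [3, 2, 4, 3, 5, 4, 3, 2, 5, 6, 5, 4, 3, 5, 4, 5, 6, 5, 4, 5],
  [3, 2, 4, 3, 5, 4, 3, 2, 5, 6, 5, 4, 3, 5, 4, 5, 6, 5, 4, 7],
  [3, 2, 4, 3, 5, 4, 3, 2, 5, 6, 5, 4, 3, 5, 4, 5, 6, 5, 7, 6],
  [3, 2, 4, 3, 5, 4, 3, 2, 5, 6, 5, 4, 3, 5, 4, 6, 5, 4, 3, 2],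
  [3, 2, 4, 3, 5, 4, 3, 2, 5, 6, 5, 4, 3, 5, 7, 6, 5, 4, 5, 4],
  [3, 2, 4, 3, 5, 4, 3, 2, 5, 6, 5, 4, 3, 5, 7, 6, 5, 4, 5, 6],
  [3, 2, 4, 3, 5, 4, 3, 2, 5, 6, 5, 4, 3, 7, 6, 5, 4, 5, 6, 7],
  [3, 2, 4, 3, 5, 4, 3, 2, 6, 5, 4, 3, 2, 7, 6, 5, 4, 3, 2, 5],
  [3, 2, 4, 3, 5, 4, 3, 2, 6, 5, 4, 3, 2, 7, 6, 5, 4, 3, 5, 4],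
  [3, 2, 4, 3, 5, 4, 3, 2, 6, 5, 4, 3, 2, 7, 6, 5, 4, 3, 5, 6],
  [3, 2, 4, 3, 5, 4, 3, 2, 6, 5, 4, 3, 2, 7, 6, 5, 4, 5, 6, 7],
  [3, 2, 4, 3, 5, 4, 3, 2, 6, 5, 4, 3, 7, 6, 5, 4, 3, 2, 5, 6],
  [3, 2, 4, 3, 5, 4, 3, 2, 6, 5, 4, 3, 7, 6, 5, 4, 3, 5, 4, 3],
  [3, 2, 4, 3, 5, 4, 3, 2, 6, 5, 4, 3, 7, 6, 5, 4, 3, 5, 4, 6],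
  [3, 2, 4, 3, 5, 4, 3, 2, 6, 5, 4, 3, 7, 6, 5, 4, 3, 5, 6, 7],
  [3, 2, 4, 3, 5, 4, 3, 2, 6, 5, 4, 3, 7, 6, 5, 4, 5, 4, 3, 2],
  [3, 2, 4, 3, 5, 4, 3, 2, 6, 5, 4, 3, 7, 6, 5, 4, 5, 4, 3, 6],
  [3, 2, 4, 3, 5, 4, 3, 2, 6, 5, 4, 3, 7, 6, 5, 4, 5, 4, 6, 5],
  [3, 2, 4, 3, 5, 4, 3, 2, 6, 5, 4, 3, 7, 6, 5, 4, 5, 4, 6, 7],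
  [3, 2, 4, 3, 5, 4, 3, 5, 6, 5, 4, 3, 2, 5, 4, 3, 2, 6, 5, 4],
  [3, 2, 4, 3, 5, 4, 3, 5, 6, 5, 4, 3, 2, 5, 4, 3, 2, 6, 5, 7],
  [3, 2, 4, 3, 5, 4, 3, 5, 6, 5, 4, 3, 2, 5, 4, 3, 5, 6, 5, 4],
  [3, 2, 4, 3, 5, 4, 3, 5, 6, 5, 4, 3, 2, 5, 4, 3, 5, 6, 5, 7],
  [3, 2, 4, 3, 5, 4, 3, 5, 6, 5, 4, 3, 2, 5, 4, 3, 6, 5, 4, 3],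
  [3, 2, 4, 3, 5, 4, 3, 5, 6, 5, 4, 3, 2, 5, 4, 3, 6, 5, 4, 5],
  [3, 2, 4, 3, 5, 4, 3, 5, 6, 5, 4, 3, 2, 5, 4, 3, 6, 5, 4, 7],
  [3, 2, 4, 3, 5, 4, 3, 5, 6, 5, 4, 3, 2, 5, 4, 3, 6, 5, 7, 6],
  [3, 2, 4, 3, 5, 4, 3, 5, 6, 5, 4, 3, 2, 5, 4, 5, 6, 5, 4, 3],
  [3, 2, 4, 3, 5, 4, 3, 5, 6, 5, 4, 3, 2, 5, 4, 5, 6, 5, 4, 5],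
  [3, 2, 4, 3, 5, 4, 3, 5, 6, 5, 4, 3, 2, 5, 4, 5, 6, 5, 4, 7],
  [3, 2, 4, 3, 5, 4, 3, 5, 6, 5, 4, 3, 2, 5, 4, 5, 6, 5, 7, 6],
  [3, 2, 4, 3, 5, 4, 3, 5, 6, 5, 4, 3, 2, 5, 4, 6, 5, 4, 3, 2],
  [3, 2, 4, 3, 5, 4, 3, 5, 6, 5, 4, 3, 2, 5, 4, 6, 5, 7, 6, 5],
  [3, 2, 4, 3, 5, 4, 3, 5, 6, 5, 4, 3, 2, 5, 4, 6, 7, 6, 5, 4],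
  [3, 2, 4, 3, 5, 4, 3, 5, 6, 5, 4, 3, 2, 5, 4, 7, 6, 5, 4, 3],
  [3, 2, 4, 3, 5, 4, 3, 5, 6, 5, 4, 3, 2, 5, 4, 7, 6, 5, 4, 5],
  [3, 2, 4, 3, 5, 4, 3, 5, 6, 5, 4, 3, 2, 5, 6, 7, 6, 5, 4, 3],
  [3, 2, 4, 3, 5, 4, 3, 5, 6, 5, 4, 3, 2, 5, 6, 7, 6, 5, 4, 5],
  [3, 2, 4, 3, 5, 4, 3, 5, 6, 5, 4, 3, 2, 5, 7, 6, 5, 4, 3, 2],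
  [3, 2, 4, 3, 5, 4, 3, 5, 6, 5, 4, 3, 2, 5, 7, 6, 5, 4, 3, 5],
  [3, 2, 4, 3, 5, 4, 3, 5, 6, 5, 4, 3, 2, 5, 7, 6, 5, 4, 5, 4],
  [3, 2, 4, 3, 5, 4, 3, 5, 6, 5, 4, 3, 5, 4, 3, 5, 6, 5, 4, 3],
  [3, 2, 4, 3, 5, 4, 3, 5, 6, 5, 4, 3, 5, 4, 3, 5, 6, 5, 4, 5],
  [3, 2, 4, 3, 5, 4, 3, 5, 6, 5, 4, 3, 5, 4, 3, 5, 6, 5, 4, 7],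
  [3, 2, 4, 3, 5, 4, 3, 5, 6, 5, 4, 3, 5, 4, 3, 5, 6, 5, 7, 6],
  [3, 2, 4, 3, 5, 4, 3, 5, 6, 5, 4, 3, 5, 4, 3, 6, 5, 4, 3, 2],
  [3, 2, 4, 3, 5, 4, 3, 5, 6, 5, 4, 3, 5, 4, 3, 6, 5, 4, 3, 5],
  [3, 2, 4, 3, 5, 4, 3, 5, 6, 5, 4, 3, 5, 4, 3, 6, 5, 4, 3, 7],
  [3, 2, 4, 3, 5, 4, 3, 5, 6, 5, 4, 3, 5, 4, 3, 6, 5, 4, 5, 6],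
  [3, 2, 4, 3, 5, 4, 3, 5, 6, 5, 4, 3, 5, 4, 3, 6, 5, 4, 7, 6],
  [3, 2, 4, 3, 5, 4, 3, 5, 6, 5, 4, 3, 5, 4, 5, 4, 3, 6, 5, 4],
  [3, 2, 4, 3, 5, 4, 3, 5, 6, 5, 4, 3, 5, 4, 5, 4, 3, 6, 5, 7],
  [3, 2, 4, 3, 5, 4, 3, 5, 6, 5, 4, 3, 5, 4, 5, 4, 6, 5, 4, 3],
  [3, 2, 4, 3, 5, 4, 3, 5, 6, 5, 4, 3, 5, 4, 5, 4, 6, 5, 4, 5],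
  [3, 2, 4, 3, 5, 4, 3, 5, 6, 5, 4, 3, 5, 4, 5, 4, 6, 5, 4, 7],
  [3, 2, 4, 3, 5, 4, 3, 5, 6, 5, 4, 3, 5, 4, 5, 4, 6, 5, 7, 6],
  [3, 2, 4, 3, 5, 4, 3, 5, 6, 5, 4, 3, 5, 4, 5, 6, 5, 4, 3, 2],
  [3, 2, 4, 3, 5, 4, 3, 5, 6, 5, 4, 3, 5, 4, 5, 6, 5, 4, 3, 5],
  [3, 2, 4, 3, 5, 4, 3, 5, 6, 5, 4, 3, 5, 4, 5, 6, 5, 4, 3, 7],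
  [3, 2, 4, 3, 5, 4, 3, 5, 6, 5, 4, 3, 5, 4, 5, 6, 5, 4, 5, 4],
  [3, 2, 4, 3, 5, 4, 3, 5, 6, 5, 4, 3, 5, 4, 5, 6, 5, 4, 5, 6],
  [3, 2, 4, 3, 5, 4, 3, 5, 6, 5, 4, 3, 5, 4, 5, 6, 5, 4, 5, 7],
  [3, 2, 4, 3, 5, 4, 3, 5, 6, 5, 4, 3, 5, 4, 5, 6, 5, 4, 7, 6],
  [3, 2, 4, 3, 5, 4, 3, 5, 6, 5, 4, 3, 5, 4, 6, 5, 4, 3, 2, 5],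
  [3, 2, 4, 3, 5, 4, 3, 5, 6, 5, 4, 3, 5, 4, 6, 5, 4, 3, 2, 7],
  [3, 2, 4, 3, 5, 4, 3, 5, 6, 5, 4, 3, 5, 4, 6, 5, 4, 3, 5, 4],
  [3, 2, 4, 3, 5, 4, 3, 5, 6, 5, 4, 3, 5, 4, 6, 5, 4, 3, 5, 6],
  [3, 2, 4, 3, 5, 4, 3, 5, 6, 5, 4, 3, 5, 4, 6, 5, 4, 3, 7, 6],
  [3, 2, 4, 3, 5, 4, 3, 5, 6, 5, 4, 3, 5, 6, 7, 6, 5, 4, 5, 6],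
  [3, 2, 4, 3, 5, 4, 3, 5, 6, 5, 4, 3, 5, 7, 6, 5, 4, 3, 5, 6],
  [3, 2, 4, 3, 5, 4, 3, 5, 6, 5, 4, 3, 5, 7, 6, 5, 4, 5, 4, 3],
  [3, 2, 4, 3, 5, 4, 3, 5, 6, 5, 4, 3, 5, 7, 6, 5, 4, 5, 4, 6],
  [3, 2, 4, 3, 5, 4, 3, 5, 6, 5, 4, 3, 5, 7, 6, 5, 4, 5, 6, 7],
  [3, 2, 4, 3, 5, 4, 3, 5, 6, 5, 4, 3, 7, 6, 5, 4, 3, 2, 5, 4],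
  [3, 2, 4, 3, 5, 4, 3, 5, 6, 5, 4, 3, 7, 6, 5, 4, 3, 2, 5, 6],
  [3, 2, 4, 3, 5, 4, 3, 5, 6, 5, 4, 3, 7, 6, 5, 4, 3, 5, 4, 5],
  [3, 2, 4, 3, 5, 4, 3, 5, 6, 5, 4, 3, 7, 6, 5, 4, 3, 5, 4, 6],
  [3, 2, 4, 3, 5, 4, 3, 5, 6, 5, 4, 3, 7, 6, 5, 4, 3, 5, 6, 7],
  [3, 2, 4, 3, 5, 4, 3, 6, 5, 4, 3, 2, 5, 4, 3, 6, 5, 4, 3, 2],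
  [3, 2, 4, 3, 5, 4, 3, 6, 5, 4, 3, 2, 5, 4, 3, 6, 5, 4, 3, 5],
  [3, 2, 4, 3, 5, 4, 3, 6, 5, 4, 3, 2, 5, 4, 3, 6, 5, 4, 5, 6],
  [3, 2, 4, 3, 5, 4, 3, 6, 5, 4, 3, 2, 5, 4, 3, 6, 5, 4, 7, 6]]
def ows1c10 : List (List Nat) := [[3, 2, 4, 3, 5, 4, 3, 6, 5, 4, 3, 2, 5, 4, 6, 5, 7, 6, 5, 4],
  [3, 2, 4, 3, 5, 4, 3, 6, 5, 4, 3, 2, 5, 4, 6, 7, 6, 5, 4, 3],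
  [3, 2, 4, 3, 5, 4, 3, 6, 5, 4, 3, 2, 5, 4, 7, 6, 5, 4, 3, 2],
  [3, 2, 4, 3, 5, 4, 3, 6, 5, 4, 3, 2, 5, 4, 7, 6, 5, 4, 3, 5],
  [3, 2, 4, 3, 5, 4, 3, 6, 5, 4, 3, 2, 5, 4, 7, 6, 5, 4, 5, 6],
  [3, 2, 4, 3, 5, 4, 3, 6, 5, 4, 3, 2, 5, 6, 7, 6, 5, 4, 3, 5],
  [3, 2, 4, 3, 5, 4, 3, 6, 5, 4, 3, 2, 5, 6, 7, 6, 5, 4, 5, 6],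
  [3, 2, 4, 3, 5, 4, 3, 6, 5, 4, 3, 2, 5, 7, 6, 5, 4, 3, 2, 5],
  [3, 2, 4, 3, 5, 4, 3, 6, 5, 4, 3, 2, 5, 7, 6, 5, 4, 3, 5, 4],
  [3, 2, 4, 3, 5, 4, 3, 6, 5, 4, 3, 2, 5, 7, 6, 5, 4, 3, 5, 6],
  [3, 2, 4, 3, 5, 4, 3, 6, 5, 4, 3, 2, 5, 7, 6, 5, 4, 5, 4, 3],
  [3, 2, 4, 3, 5, 4, 3, 6, 5, 4, 3, 2, 5, 7, 6, 5, 4, 5, 4, 6],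
  [3, 2, 4, 3, 5, 4, 3, 6, 5, 4, 3, 2, 5, 7, 6, 5, 4, 5, 6, 7],
  [3, 2, 4, 3, 5, 4, 3, 6, 5, 4, 3, 2, 7, 6, 5, 4, 3, 2, 5, 4],
  [3, 2, 4, 3, 5, 4, 3, 6, 5, 4, 3, 2, 7, 6, 5, 4, 3, 2, 5, 6],
  [3, 2, 4, 3, 5, 4, 3, 6, 5, 4, 3, 2, 7, 6, 5, 4, 3, 5, 4, 5],
  [3, 2, 4, 3, 5, 4, 3, 6, 5, 4, 3, 2, 7, 6, 5, 4, 3, 5, 4, 6],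
  [3, 2, 4, 3, 5, 4, 3, 6, 5, 4, 3, 2, 7, 6, 5, 4, 3, 5, 6, 7],
  [3, 2, 4, 3, 5, 4, 3, 6, 5, 4, 3, 5, 4, 3, 6, 5, 4, 3, 2, 5],
  [3, 2, 4, 3, 5, 4, 3, 6, 5, 4, 3, 5, 4, 3, 6, 5, 4, 3, 2, 7],
  [3, 2, 4, 3, 5, 4, 3, 6, 5, 4, 3, 5, 4, 3, 6, 5, 4, 3, 5, 4],
  [3, 2, 4, 3, 5, 4, 3, 6, 5, 4, 3, 5, 4, 3, 6, 5, 4, 3, 5, 6],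
  [3, 2, 4, 3, 5, 4, 3, 6, 5, 4, 3, 5, 4, 3, 6, 5, 4, 3, 7, 6],
  [3, 2, 4, 3, 5, 4, 3, 6, 5, 4, 3, 5, 4, 3, 6, 5, 4, 5, 6, 7],
  [3, 2, 4, 3, 5, 4, 3, 6, 5, 4, 3, 5, 4, 3, 6, 5, 4, 7, 6, 5],
  [3, 2, 4, 3, 5, 4, 3, 6, 5, 4, 3, 5, 4, 6, 5, 4, 3, 2, 5, 4],
  [3, 2, 4, 3, 5, 4, 3, 6, 5, 4, 3, 5, 4, 6, 5, 4, 3, 2, 5, 6],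
  [3, 2, 4, 3, 5, 4, 3, 6, 5, 4, 3, 5, 4, 6, 5, 4, 3, 2, 7, 6],
  [3, 2, 4, 3, 5, 4, 3, 6, 5, 4, 3, 5, 4, 6, 5, 4, 3, 5, 4, 5],
  [3, 2, 4, 3, 5, 4, 3, 6, 5, 4, 3, 5, 4, 6, 5, 4, 3, 5, 4, 6],
  [3, 2, 4, 3, 5, 4, 3, 6, 5, 4, 3, 5, 4, 6, 5, 4, 3, 5, 6, 7],
  [3, 2, 4, 3, 5, 4, 3, 6, 5, 4, 3, 5, 4, 6, 5, 4, 3, 7, 6, 5],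
  [3, 2, 4, 3, 5, 4, 3, 6, 5, 4, 3, 5, 4, 6, 5, 4, 7, 6, 5, 4],
  [3, 2, 4, 3, 5, 4, 3, 6, 5, 4, 3, 5, 4, 6, 5, 7, 6, 5, 4, 3],
  [3, 2, 4, 3, 5, 4, 3, 6, 5, 4, 3, 5, 4, 6, 5, 7, 6, 5, 4, 5],
  [3, 2, 4, 3, 5, 4, 3, 6, 5, 4, 3, 5, 4, 6, 7, 6, 5, 4, 3, 2],
  [3, 2, 4, 3, 5, 4, 3, 6, 5, 4, 3, 5, 4, 7, 6, 5, 4, 3, 2, 5],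
  [3, 2, 4, 3, 5, 4, 3, 6, 5, 4, 3, 5, 4, 7, 6, 5, 4, 3, 5, 4],
  [3, 2, 4, 3, 5, 4, 3, 6, 5, 4, 3, 5, 4, 7, 6, 5, 4, 3, 5, 6],
  [3, 2, 4, 3, 5, 4, 3, 6, 5, 4, 3, 5, 4, 7, 6, 5, 4, 5, 6, 7],
  [3, 2, 4, 3, 5, 4, 3, 6, 5, 4, 3, 5, 6, 7, 6, 5, 4, 5, 6, 7],
  [3, 2, 4, 3, 5, 4, 3, 6, 5, 4, 3, 5, 7, 6, 5, 4, 3, 2, 5, 6],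
  [3, 2, 4, 3, 5, 4, 3, 6, 5, 4, 3, 5, 7, 6, 5, 4, 3, 5, 4, 3],
  [3, 2, 4, 3, 5, 4, 3, 6, 5, 4, 3, 5, 7, 6, 5, 4, 3, 5, 4, 6],
  [3, 2, 4, 3, 5, 4, 3, 6, 5, 4, 3, 5, 7, 6, 5, 4, 3, 5, 6, 7],
  [3, 2, 4, 3, 5, 4, 3, 6, 5, 4, 3, 5, 7, 6, 5, 4, 5, 4, 3, 2],
  [3, 2, 4, 3, 5, 4, 3, 6, 5, 4, 3, 5, 7, 6, 5, 4, 5, 4, 3, 6],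
  [3, 2, 4, 3, 5, 4, 3, 6, 5, 4, 3, 5, 7, 6, 5, 4, 5, 4, 6, 5],
  [3, 2, 4, 3, 5, 4, 3, 6, 5, 4, 3, 5, 7, 6, 5, 4, 5, 4, 6, 7],
  [3, 2, 4, 3, 5, 4, 3, 6, 5, 4, 3, 7, 6, 5, 4, 3, 2, 5, 4, 3],
  [3, 2, 4, 3, 5, 4, 3, 6, 5, 4, 3, 7, 6, 5, 4, 3, 2, 5, 4, 6],
  [3, 2, 4, 3, 5, 4, 3, 6, 5, 4, 3, 7, 6, 5, 4, 3, 2, 5, 6, 7],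
  [3, 2, 4, 3, 5, 4, 3, 6, 5, 4, 3, 7, 6, 5, 4, 3, 5, 4, 3, 2],
  [3, 2, 4, 3, 5, 4, 3, 6, 5, 4, 3, 7, 6, 5, 4, 3, 5, 4, 3, 5],
  [3, 2, 4, 3, 5, 4, 3, 6, 5, 4, 3, 7, 6, 5, 4, 3, 5, 4, 3, 6],
  [3, 2, 4, 3, 5, 4, 3, 6, 5, 4, 3, 7, 6, 5, 4, 3, 5, 4, 5, 6],
  [3, 2, 4, 3, 5, 4, 3, 6, 5, 4, 3, 7, 6, 5, 4, 3, 5, 4, 6, 5],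
  [3, 2, 4, 3, 5, 4, 3, 6, 5, 4, 3, 7, 6, 5, 4, 3, 5, 4, 6, 7],
  [3, 2, 4, 3, 5, 4, 3, 6, 5, 4, 3, 7, 6, 5, 4, 5, 4, 3, 2, 6],
  [3, 2, 4, 3, 5, 4, 3, 6, 5, 4, 3, 7, 6, 5, 4, 5, 4, 3, 6, 7],
  [3, 2, 4, 3, 5, 4, 3, 6, 5, 4, 3, 7, 6, 5, 4, 5, 4, 6, 5, 4],
  [3, 2, 4, 3, 5, 4, 3, 6, 5, 4, 5, 4, 3, 6, 5, 4, 5, 4, 3, 2],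
  [3, 2, 4, 3, 5, 4, 3, 6, 5, 4, 5, 4, 3, 6, 5, 4, 5, 4, 3, 6],
  [3, 2, 4, 3, 5, 4, 3, 6, 5, 4, 5, 4, 3, 6, 5, 4, 5, 4, 6, 5],
  [3, 2, 4, 3, 5, 4, 3, 6, 5, 4, 5, 4, 3, 6, 5, 4, 5, 4, 6, 7],
  [3, 2, 4, 3, 5, 4, 3, 6, 5, 4, 7, 6, 5, 4, 3, 2, 5, 4, 3, 6],
  [3, 2, 4, 3, 5, 4, 3, 6, 5, 4, 7, 6, 5, 4, 3, 2, 5, 4, 5, 6],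
  [3, 2, 4, 3, 5, 4, 3, 6, 5, 4, 7, 6, 5, 4, 3, 2, 5, 4, 6, 5],
  [3, 2, 4, 3, 5, 4, 3, 6, 5, 4, 7, 6, 5, 4, 3, 5, 4, 5, 4, 6],
  [3, 2, 4, 3, 5, 4, 3, 6, 5, 4, 7, 6, 5, 4, 3, 5, 4, 5, 6, 5],
  [3, 2, 4, 3, 5, 4, 3, 6, 5, 4, 7, 6, 5, 4, 3, 5, 4, 5, 6, 7],
  [3, 2, 4, 3, 5, 4, 3, 6, 5, 4, 7, 6, 5, 4, 3, 5, 4, 6, 5, 4],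
  [3, 2, 4, 3, 5, 4, 5, 6, 5, 4, 3, 2, 5, 4, 3, 2, 6, 5, 4, 3],
  [3, 2, 4, 3, 5, 4, 5, 6, 5, 4, 3, 2, 5, 4, 3, 2, 6, 5, 4, 5],
  [3, 2, 4, 3, 5, 4, 5, 6, 5, 4, 3, 2, 5, 4, 3, 5, 6, 5, 4, 5],
  [3, 2, 4, 3, 5, 4, 5, 6, 5, 4, 3, 2, 5, 4, 3, 5, 6, 5, 4, 7],
  [3, 2, 4, 3, 5, 4, 5, 6, 5, 4, 3, 2, 5, 4, 3, 6, 5, 4, 5, 4],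
  [3, 2, 4, 3, 5, 4, 5, 6, 5, 4, 3, 2, 5, 4, 3, 6, 5, 4, 5, 6],
  [3, 2, 4, 3, 5, 4, 5, 6, 5, 4, 3, 2, 5, 4, 7, 6, 5, 4, 3, 2],
  [3, 2, 4, 3, 5, 4, 5, 6, 5, 4, 3, 5, 4, 3, 5, 6, 5, 4, 3, 2],
  [3, 2, 4, 3, 5, 4, 5, 6, 5, 4, 3, 5, 4, 3, 5, 6, 5, 4, 3, 5],
  [3, 2, 4, 3, 5, 4, 5, 6, 5, 4, 3, 5, 4, 3, 5, 6, 5, 4, 3, 7],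
  [3, 2, 4, 3, 5, 4, 5, 6, 5, 4, 3, 5, 4, 3, 5, 6, 5, 4, 7, 6],
  [3, 2, 4, 3, 5, 4, 5, 6, 5, 4, 3, 5, 4, 3, 6, 5, 4, 7, 6, 5],
  [3, 2, 4, 3, 5, 4, 5, 6, 5, 4, 3, 5, 4, 5, 4, 3, 6, 5, 4, 3],
  [3, 2, 4, 3, 5, 4, 5, 6, 5, 4, 3, 5, 4, 5, 4, 3, 6, 5, 4, 5],
  [3, 2, 4, 3, 5, 4, 5, 6, 5, 4, 3, 5, 4, 5, 4, 3, 6, 5, 4, 7],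
  [3, 2, 4, 3, 5, 4, 5, 6, 5, 4, 3, 5, 4, 5, 4, 3, 6, 5, 7, 6],
  [3, 2, 4, 3, 5, 4, 5, 6, 5, 4, 3, 5, 4, 5, 4, 6, 5, 4, 3, 2],
  [3, 2, 4, 3, 5, 4, 5, 6, 5, 4, 3, 5, 4, 5, 4, 6, 5, 4, 3, 5],
  [3, 2, 4, 3, 5, 4, 5, 6, 5, 4, 3, 5, 4, 5, 4, 6, 5, 4, 3, 7],
  [3, 2, 4, 3, 5, 4, 5, 6, 5, 4, 3, 5, 4, 5, 4, 6, 5, 4, 5, 6],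
  [3, 2, 4, 3, 5, 4, 5, 6, 5, 4, 3, 5, 4, 5, 4, 6, 5, 4, 7, 6],
  [3, 2, 4, 3, 5, 4, 5, 6, 5, 4, 3, 5, 4, 5, 6, 5, 4, 3, 2, 5],
  [3, 2, 4, 3, 5, 4, 5, 6, 5, 4, 3, 5, 4, 5, 6, 5, 4, 3, 2, 7],
  [3, 2, 4, 3, 5, 4, 5, 6, 5, 4, 3, 5, 4, 5, 6, 5, 4, 3, 5, 4],
  [3, 2, 4, 3, 5, 4, 5, 6, 5, 4, 3, 5, 4, 5, 6, 5, 4, 3, 5, 7],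
  [3, 2, 4, 3, 5, 4, 5, 6, 5, 4, 3, 5, 4, 5, 6, 5, 4, 5, 4, 3],
  [3, 2, 4, 3, 5, 4, 5, 6, 5, 4, 3, 5, 4, 5, 6, 5, 4, 5, 7, 6],
  [3, 2, 4, 5, 4, 3, 2, 6, 5, 4, 3, 5, 4, 5, 6, 5, 4, 3, 2, 5],
  [3, 2, 4, 5, 4, 3, 2, 6, 5, 4, 3, 5, 4, 5, 6, 5, 4, 3, 2, 7],
  [3, 2, 4, 5, 4, 3, 2, 6, 5, 4, 3, 5, 4, 5, 6, 5, 4, 3, 5, 4],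
  [3, 2, 4, 5, 4, 3, 2, 6, 5, 4, 3, 5, 4, 5, 6, 5, 4, 3, 5, 6],
  [3, 2, 4, 5, 4, 3, 2, 6, 5, 4, 3, 5, 4, 5, 6, 5, 4, 3, 7, 6],
  [3, 2, 4, 5, 4, 3, 2, 6, 5, 4, 3, 5, 4, 5, 6, 5, 4, 5, 6, 7],
  [3, 2, 4, 5, 4, 3, 2, 6, 5, 4, 3, 5, 4, 5, 6, 5, 4, 7, 6, 5],
  [3, 2, 4, 5, 4, 3, 2, 6, 5, 4, 3, 5, 4, 6, 5, 4, 3, 2, 5, 4],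
  [3, 2, 4, 5, 4, 3, 2, 6, 5, 4, 3, 5, 4, 6, 5, 4, 3, 2, 5, 6],
  [3, 2, 4, 5, 4, 3, 2, 6, 5, 4, 3, 5, 4, 6, 5, 4, 3, 2, 7, 6],
  [3, 2, 4, 5, 4, 3, 2, 6, 5, 4, 3, 5, 4, 6, 5, 4, 3, 5, 4, 5],
  [3, 2, 4, 5, 4, 3, 2, 6, 5, 4, 3, 5, 4, 6, 5, 4, 3, 5, 4, 6],
  [3, 2, 4, 5, 4, 3, 2, 6, 5, 4, 3, 5, 4, 6, 5, 4, 3, 5, 6, 7],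
  [3, 2, 4, 5, 4, 3, 2, 6, 5, 4, 3, 5, 4, 6, 5, 4, 3, 7, 6, 5],
  [3, 2, 4, 5, 4, 3, 2, 6, 5, 4, 3, 5, 4, 6, 5, 4, 7, 6, 5, 4],
  [3, 2, 4, 5, 4, 3, 6, 5, 4, 3, 5, 4, 3, 2, 6, 5, 4, 3, 2, 5],
  [3, 2, 4, 5, 4, 3, 6, 5, 4, 3, 5, 4, 3, 2, 6, 5, 4, 3, 2, 7],
  [3, 2, 4, 5, 4, 3, 6, 5, 4, 3, 5, 4, 3, 2, 6, 5, 4, 3, 5, 6],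
  [3, 2, 4, 5, 4, 3, 6, 5, 4, 3, 5, 4, 3, 2, 6, 5, 4, 3, 7, 6],
  [3, 2, 4, 5, 4, 3, 6, 5, 4, 3, 5, 4, 3, 2, 6, 5, 4, 5, 6, 7],
  [3, 2, 4, 5, 4, 3, 6, 5, 4, 3, 5, 4, 3, 2, 6, 5, 4, 7, 6, 5],
  [3, 2, 4, 5, 4, 3, 6, 5, 4, 3, 5, 4, 3, 6, 5, 4, 3, 2, 5, 4],
  [3, 2, 4, 5, 4, 3, 6, 5, 4, 3, 5, 4, 3, 6, 5, 4, 3, 2, 5, 6],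
  [3, 2, 4, 5, 4, 3, 6, 5, 4, 3, 5, 4, 3, 6, 5, 4, 3, 2, 5, 7],
  [3, 2, 4, 5, 4, 3, 6, 5, 4, 3, 5, 4, 3, 6, 5, 4, 3, 2, 7, 6],
  [3, 2, 4, 5, 4, 3, 6, 5, 4, 3, 5, 4, 3, 6, 5, 4, 3, 5, 4, 3],
  [3, 2, 4, 5, 4, 3, 6, 5, 4, 3, 5, 4, 3, 6, 5, 4, 3, 5, 4, 5],
  [3, 2, 4, 5, 4, 3, 6, 5, 4, 3, 5, 4, 3, 6, 5, 4, 3, 5, 4, 6],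
  [3, 2, 4, 5, 4, 3, 6, 5, 4, 3, 5, 4, 3, 6, 5, 4, 3, 5, 4, 7],
  [3, 2, 4, 5, 4, 3, 6, 5, 4, 3, 5, 4, 3, 6, 5, 4, 3, 5, 6, 7],
  [3, 2, 4, 5, 4, 3, 6, 5, 4, 3, 5, 4, 3, 6, 5, 4, 3, 5, 7, 6],
  [3, 2, 4, 5, 4, 3, 6, 5, 4, 3, 5, 4, 3, 6, 5, 4, 3, 7, 6, 5],
  [3, 2, 4, 5, 4, 3, 6, 5, 4, 3, 5, 4, 3, 6, 5, 4, 5, 4, 3, 6],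
  [3, 2, 4, 5, 4, 3, 6, 5, 4, 3, 5, 4, 3, 6, 5, 4, 5, 4, 6, 5],
  [3, 2, 4, 5, 4, 3, 6, 5, 4, 3, 5, 4, 3, 6, 5, 4, 5, 4, 6, 7],
  [3, 2, 4, 5, 4, 3, 6, 5, 4, 3, 5, 4, 3, 6, 5, 4, 5, 6, 7, 6],
  [3, 2, 4, 5, 4, 3, 6, 5, 4, 3, 5, 4, 3, 6, 5, 4, 5, 7, 6, 5],
  [3, 2, 4, 5, 4, 3, 6, 5, 4, 3, 5, 4, 3, 6, 5, 4, 7, 6, 5, 4],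
  [3, 2, 4, 5, 4, 3, 6, 5, 4, 3, 5, 4, 6, 5, 4, 3, 2, 5, 4, 3],
  [3, 2, 4, 5, 4, 3, 6, 5, 4, 3, 5, 4, 6, 5, 4, 3, 2, 5, 4, 5],
  [3, 2, 4, 5, 4, 3, 6, 5, 4, 3, 5, 4, 6, 5, 4, 3, 2, 5, 4, 6],
  [3, 2, 4, 5, 4, 3, 6, 5, 4, 3, 5, 4, 6, 5, 4, 3, 5, 4, 5, 4],
  [3, 2, 4, 5, 4, 3, 6, 5, 4, 3, 5, 4, 6, 5, 4, 3, 5, 4, 5, 6],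
  [3, 2, 4, 5, 4, 3, 6, 5, 4, 3, 5, 4, 6, 5, 4, 3, 5, 4, 6, 5],
  [3, 2, 4, 5, 4, 3, 6, 5, 4, 5, 4, 3, 2, 6, 5, 4, 3, 2, 5, 4],
  [3, 2, 4, 5, 4, 3, 6, 5, 4, 5, 4, 3, 2, 6, 5, 4, 3, 2, 5, 6],
  [3, 2, 4, 5, 4, 3, 6, 5, 4, 5, 4, 3, 2, 6, 5, 4, 3, 5, 4, 5],
  [3, 2, 4, 5, 4, 3, 6, 5, 4, 5, 4, 3, 2, 6, 5, 4, 3, 5, 4, 6],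
  [3, 2, 4, 5, 4, 3, 6, 5, 4, 5, 4, 3, 2, 6, 5, 4, 3, 5, 6, 7],
  [3, 2, 4, 5, 4, 3, 6, 5, 4, 5, 4, 3, 2, 6, 5, 4, 3, 7, 6, 5],
  [3, 2, 4, 5, 4, 3, 6, 5, 4, 5, 4, 3, 6, 5, 4, 3, 2, 5, 6, 7],
  [3, 2, 4, 5, 4, 3, 6, 5, 4, 5, 4, 3, 6, 5, 4, 3, 5, 4, 3, 2],
  [3, 2, 4, 5, 4, 3, 6, 5, 4, 5, 4, 3, 6, 5, 4, 3, 5, 4, 3, 6],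
  [3, 2, 4, 5, 4, 3, 6, 5, 4, 5, 4, 3, 6, 5, 4, 3, 5, 4, 6, 5],
  [3, 2, 4, 5, 4, 3, 6, 5, 4, 5, 4, 3, 6, 5, 4, 3, 5, 4, 6, 7],
  [3, 2, 4, 5, 4, 3, 6, 5, 4, 5, 4, 3, 6, 5, 4, 5, 4, 3, 2, 6],
  [3, 2, 4, 5, 4, 3, 6, 5, 4, 5, 4, 3, 6, 5, 4, 5, 4, 3, 6, 5],
  [3, 2, 4, 5, 4, 3, 6, 5, 4, 5, 4, 3, 6, 5, 4, 5, 4, 3, 6, 7],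
  [3, 2, 4, 5, 4, 3, 6, 5, 4, 5, 4, 3, 6, 5, 4, 5, 4, 6, 5, 4],
  [3, 2, 4, 5, 4, 3, 6, 5, 4, 5, 4, 3, 6, 5, 4, 5, 4, 6, 5, 7],
  [3, 2, 4, 5, 4, 3, 6, 5, 4, 5, 4, 3, 6, 5, 4, 5, 6, 7, 6, 5],
  [3, 2, 4, 5, 4, 3, 6, 5, 4, 5, 4, 3, 6, 5, 4, 5, 7, 6, 5, 4],
  [3, 2, 4, 5, 4, 3, 6, 5, 4, 5, 4, 3, 6, 5, 4, 7, 6, 5, 4, 3],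
  [3, 2, 4, 5, 4, 3, 6, 5, 4, 5, 7, 6, 5, 4, 3, 2, 5, 4, 3, 5],
  [3, 2, 4, 5, 4, 3, 6, 5, 4, 5, 7, 6, 5, 4, 3, 2, 5, 4, 5, 6],
  [3, 2, 4, 5, 4, 3, 6, 5, 4, 5, 7, 6, 5, 4, 3, 5, 4, 5, 4, 3],
  [3, 2, 4, 5, 4, 3, 6, 5, 4, 5, 7, 6, 5, 4, 3, 5, 4, 5, 4, 6],
  [3, 2, 4, 5, 4, 3, 6, 5, 4, 5, 7, 6, 5, 4, 3, 5, 4, 5, 6, 7],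
  [3, 4, 5, 4, 3, 2, 6, 5, 4, 3, 2, 5, 4, 3, 6, 5, 4, 3, 2, 5],
  [3, 4, 5, 4, 3, 2, 6, 5, 4, 3, 2, 5, 4, 3, 6, 5, 4, 3, 5, 4],
  [3, 4, 5, 4, 3, 2, 6, 5, 4, 3, 2, 5, 4, 3, 6, 5, 4, 3, 5, 6],
  [3, 4, 5, 4, 3, 2, 6, 5, 4, 3, 2, 5, 4, 3, 6, 5, 4, 5, 4, 3],
  [3, 4, 5, 4, 3, 2, 6, 5, 4, 3, 2, 5, 4, 3, 6, 5, 4, 5, 4, 6],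
  [3, 4, 5, 4, 3, 2, 6, 5, 4, 3, 2, 5, 4, 3, 6, 5, 4, 5, 6, 7],
  [3, 4, 5, 4, 3, 2, 6, 5, 4, 3, 2, 5, 4, 3, 6, 5, 4, 5, 7, 6],
  [3, 4, 5, 4, 3, 2, 6, 5, 4, 3, 2, 5, 4, 3, 6, 5, 4, 7, 6, 5],
  [3, 4, 5, 4, 3, 2, 6, 5, 4, 3, 2, 5, 4, 5, 6, 5, 4, 3, 2, 5],
  [3, 4, 5, 4, 3, 2, 6, 5, 4, 3, 2, 5, 4, 5, 6, 5, 4, 3, 2, 7],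
  [3, 4, 5, 4, 3, 2, 6, 5, 4, 3, 2, 5, 4, 5, 6, 5, 4, 3, 5, 4],
  [3, 4, 5, 4, 3, 2, 6, 5, 4, 3, 2, 5, 4, 5, 6, 5, 4, 3, 5, 7],
  [3, 4, 5, 4, 3, 2, 6, 5, 4, 3, 2, 5, 4, 5, 6, 5, 4, 5, 4, 3],
  [3, 4, 5, 4, 3, 2, 6, 5, 4, 3, 2, 5, 4, 5, 6, 5, 4, 5, 7, 6],
  [3, 4, 5, 4, 3, 2, 6, 5, 4, 3, 5, 4, 5, 4, 6, 5, 4, 3, 2, 5],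
  [3, 4, 5, 4, 3, 2, 6, 5, 4, 3, 5, 4, 5, 4, 6, 5, 4, 3, 2, 7],
  [3, 4, 5, 4, 3, 2, 6, 5, 4, 3, 5, 4, 5, 4, 6, 5, 4, 3, 5, 4],
  [3, 4, 5, 4, 3, 2, 6, 5, 4, 3, 5, 4, 5, 4, 6, 5, 4, 3, 5, 6],
  [3, 4, 5, 4, 3, 2, 6, 5, 4, 3, 5, 4, 5, 4, 6, 5, 4, 3, 7, 6],
  [3, 4, 5, 4, 3, 2, 6, 5, 4, 3, 5, 4, 5, 4, 6, 5, 4, 5, 6, 7],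
  [3, 4, 5, 4, 3, 2, 6, 5, 4, 3, 5, 4, 5, 4, 6, 5, 4, 7, 6, 5],
  [3, 4, 5, 4, 3, 2, 6, 5, 4, 3, 5, 4, 5, 6, 5, 4, 3, 2, 5, 4],
  [3, 4, 5, 4, 3, 2, 6, 5, 4, 3, 5, 4, 5, 6, 5, 4, 3, 2, 5, 6],
  [3, 4, 5, 4, 3, 2, 6, 5, 4, 3, 5, 4, 5, 6, 5, 4, 3, 2, 5, 7],
  [3, 4, 5, 4, 3, 2, 6, 5, 4, 3, 5, 4, 5, 6, 5, 4, 3, 2, 7, 6],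
  [3, 4, 5, 4, 3, 2, 6, 5, 4, 3, 5, 4, 5, 6, 5, 4, 3, 5, 4, 3],
  [3, 4, 5, 4, 3, 2, 6, 5, 4, 3, 5, 4, 5, 6, 5, 4, 3, 5, 4, 5],
  [3, 4, 5, 4, 3, 2, 6, 5, 4, 3, 5, 4, 5, 6, 5, 4, 3, 5, 4, 6],
  [3, 4, 5, 4, 3, 2, 6, 5, 4, 3, 5, 4, 5, 6, 5, 4, 3, 5, 4, 7],
  [3, 4, 5, 4, 3, 2, 6, 5, 4, 3, 5, 4, 5, 6, 5, 4, 3, 5, 6, 7],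
  [3, 4, 5, 4, 3, 2, 6, 5, 4, 3, 5, 4, 5, 6, 5, 4, 3, 5, 7, 6],
  [3, 4, 5, 4, 3, 2, 6, 5, 4, 3, 5, 4, 5, 6, 5, 4, 3, 7, 6, 5],
  [3, 4, 5, 4, 3, 2, 6, 5, 4, 3, 5, 4, 5, 6, 5, 4, 5, 4, 3, 2]]
def ows1c11 : List (List Nat) := [[3, 4, 5, 4, 3, 2, 6, 5, 4, 3, 5, 4, 5, 6, 5, 4, 5, 4, 3, 6],
  [3, 4, 5, 4, 3, 2, 6, 5, 4, 3, 5, 4, 5, 6, 5, 4, 5, 4, 6, 5],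
  [3, 4, 5, 4, 3, 2, 6, 5, 4, 3, 5, 4, 5, 6, 5, 4, 5, 4, 6, 7],
  [3, 4, 5, 4, 3, 2, 6, 5, 4, 3, 5, 4, 5, 6, 5, 4, 5, 6, 7, 6],
  [3, 4, 5, 4, 3, 2, 6, 5, 4, 3, 5, 4, 5, 6, 5, 4, 5, 7, 6, 5],
  [3, 4, 5, 4, 3, 2, 6, 5, 4, 3, 5, 4, 5, 6, 5, 4, 7, 6, 5, 4],
  [3, 4, 5, 4, 3, 2, 6, 5, 4, 3, 5, 4, 6, 5, 4, 3, 2, 5, 4, 5],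
  [3, 4, 5, 4, 3, 2, 6, 5, 4, 3, 5, 4, 6, 5, 4, 3, 2, 5, 4, 6],
  [3, 4, 5, 4, 3, 2, 6, 5, 4, 3, 5, 4, 6, 5, 4, 3, 2, 7, 6, 5],
  [3, 4, 5, 4, 3, 2, 6, 5, 4, 3, 5, 4, 6, 5, 4, 3, 5, 4, 5, 4],
  [3, 4, 5, 4, 3, 2, 6, 5, 4, 3, 5, 4, 6, 5, 4, 3, 5, 4, 5, 6],
  [3, 4, 5, 4, 3, 2, 6, 5, 4, 3, 5, 4, 6, 5, 4, 3, 7, 6, 5, 4],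
  [3, 4, 5, 4, 3, 2, 6, 5, 4, 3, 5, 4, 6, 5, 4, 7, 6, 5, 4, 3],
  [3, 4, 5, 4, 3, 2, 6, 5, 4, 3, 5, 4, 6, 5, 4, 7, 6, 5, 4, 5],
  [3, 4, 5, 4, 3, 2, 6, 5, 4, 3, 7, 6, 5, 4, 3, 5, 4, 6, 5, 4],
  [3, 4, 5, 4, 3, 2, 6, 5, 4, 3, 7, 6, 5, 4, 3, 5, 4, 6, 5, 7],
  [3, 4, 5, 4, 3, 6, 5, 4, 3, 2, 5, 4, 3, 2, 6, 5, 4, 3, 2, 5],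
  [3, 4, 5, 4, 3, 6, 5, 4, 3, 2, 5, 4, 3, 2, 6, 5, 4, 3, 5, 4],
  [3, 4, 5, 4, 3, 6, 5, 4, 3, 2, 5, 4, 3, 2, 6, 5, 4, 3, 5, 6],
  [3, 4, 5, 4, 3, 6, 5, 4, 3, 2, 5, 4, 3, 2, 6, 5, 4, 3, 7, 6],
  [3, 4, 5, 4, 3, 6, 5, 4, 3, 2, 5, 4, 3, 2, 6, 5, 4, 5, 6, 7],
  [3, 4, 5, 4, 3, 6, 5, 4, 3, 2, 5, 4, 3, 2, 6, 5, 4, 7, 6, 5],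
  [3, 4, 5, 4, 3, 6, 5, 4, 3, 2, 5, 4, 3, 6, 5, 4, 3, 2, 5, 6],
  [3, 4, 5, 4, 3, 6, 5, 4, 3, 2, 5, 4, 3, 6, 5, 4, 3, 5, 4, 3],
  [3, 4, 5, 4, 3, 6, 5, 4, 3, 2, 5, 4, 3, 6, 5, 4, 3, 5, 4, 6],
  [3, 4, 5, 4, 3, 6, 5, 4, 3, 2, 5, 4, 3, 6, 5, 4, 3, 5, 6, 7],
  [3, 4, 5, 4, 3, 6, 5, 4, 3, 2, 5, 4, 3, 6, 5, 4, 5, 4, 3, 2],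
  [3, 4, 5, 4, 3, 6, 5, 4, 3, 2, 5, 4, 3, 6, 5, 4, 5, 4, 3, 6],
  [3, 4, 5, 4, 3, 6, 5, 4, 3, 2, 5, 4, 3, 6, 5, 4, 5, 4, 6, 5],
  [3, 4, 5, 4, 3, 6, 5, 4, 3, 2, 5, 4, 3, 6, 5, 4, 5, 4, 6, 7],
  [3, 4, 5, 4, 3, 6, 5, 4, 3, 2, 5, 4, 3, 6, 5, 4, 5, 6, 7, 6],
  [3, 4, 5, 4, 3, 6, 5, 4, 3, 2, 5, 4, 3, 6, 5, 4, 5, 7, 6, 5],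
  [3, 4, 5, 4, 3, 6, 5, 4, 3, 2, 5, 4, 3, 6, 5, 4, 7, 6, 5, 4],
  [3, 4, 5, 4, 3, 6, 5, 4, 3, 2, 5, 4, 3, 6, 5, 7, 6, 5, 4, 3],
  [3, 4, 5, 4, 3, 6, 5, 4, 3, 2, 5, 4, 3, 6, 5, 7, 6, 5, 4, 5],
  [3, 4, 5, 4, 3, 6, 5, 4, 3, 2, 5, 4, 3, 6, 7, 6, 5, 4, 3, 2],
  [3, 4, 5, 4, 3, 6, 5, 4, 3, 2, 5, 4, 3, 7, 6, 5, 4, 3, 2, 5],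
  [3, 4, 5, 4, 3, 6, 5, 4, 3, 2, 5, 4, 3, 7, 6, 5, 4, 3, 5, 4],
  [3, 4, 5, 4, 3, 6, 5, 4, 3, 2, 5, 4, 3, 7, 6, 5, 4, 3, 5, 6],
  [3, 4, 5, 4, 3, 6, 5, 4, 3, 2, 5, 4, 3, 7, 6, 5, 4, 5, 6, 7],
  [3, 4, 5, 4, 3, 6, 5, 4, 3, 2, 5, 4, 6, 5, 7, 6, 5, 4, 3, 2],
  [3, 4, 5, 4, 3, 6, 5, 4, 3, 2, 5, 4, 7, 6, 5, 4, 3, 2, 5, 4],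
  [3, 4, 5, 4, 3, 6, 5, 4, 3, 2, 5, 4, 7, 6, 5, 4, 3, 2, 5, 6],
  [3, 4, 5, 4, 3, 6, 5, 4, 3, 2, 5, 4, 7, 6, 5, 4, 3, 5, 4, 5],
  [3, 4, 5, 4, 3, 6, 5, 4, 3, 2, 5, 4, 7, 6, 5, 4, 3, 5, 4, 6],
  [3, 4, 5, 4, 3, 6, 5, 4, 3, 2, 5, 6, 7, 6, 5, 4, 3, 2, 5, 4],
  [3, 4, 5, 4, 3, 6, 5, 4, 3, 2, 5, 6, 7, 6, 5, 4, 3, 2, 5, 6],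
  [3, 4, 5, 4, 3, 6, 5, 4, 3, 2, 5, 6, 7, 6, 5, 4, 3, 5, 4, 5],
  [3, 4, 5, 4, 3, 6, 5, 4, 3, 2, 5, 6, 7, 6, 5, 4, 3, 5, 4, 6],
  [3, 4, 5, 4, 3, 6, 5, 4, 3, 2, 5, 7, 6, 5, 4, 3, 2, 5, 4, 3],
  [3, 4, 5, 4, 3, 6, 5, 4, 3, 2, 5, 7, 6, 5, 4, 3, 2, 5, 4, 5],
  [3, 4, 5, 4, 3, 6, 5, 4, 3, 2, 5, 7, 6, 5, 4, 3, 5, 4, 3, 2],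
  [3, 4, 5, 4, 3, 6, 5, 4, 3, 2, 5, 7, 6, 5, 4, 3, 5, 4, 3, 5],
  [3, 4, 5, 4, 3, 6, 5, 4, 3, 2, 5, 7, 6, 5, 4, 3, 5, 4, 5, 4],
  [3, 4, 5, 4, 3, 6, 5, 4, 3, 2, 5, 7, 6, 5, 4, 3, 5, 4, 5, 6],
  [3, 4, 5, 4, 3, 6, 5, 4, 3, 5, 4, 3, 2, 5, 6, 5, 4, 3, 2, 5],
  [3, 4, 5, 4, 3, 6, 5, 4, 3, 5, 4, 3, 2, 5, 6, 5, 4, 3, 5, 4],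
  [3, 4, 5, 4, 3, 6, 5, 4, 3, 5, 4, 3, 2, 5, 6, 5, 4, 3, 5, 6],
  [3, 4, 5, 4, 3, 6, 5, 4, 3, 5, 4, 3, 2, 5, 6, 5, 4, 3, 5, 7],
  [3, 4, 5, 4, 3, 6, 5, 4, 3, 5, 4, 3, 2, 5, 6, 5, 4, 3, 7, 6],
  [3, 4, 5, 4, 3, 6, 5, 4, 3, 5, 4, 3, 2, 5, 6, 5, 4, 5, 4, 6],
  [3, 4, 5, 4, 3, 6, 5, 4, 3, 5, 4, 3, 2, 5, 6, 5, 4, 5, 6, 7],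
  [3, 4, 5, 4, 3, 6, 5, 4, 3, 5, 4, 3, 2, 5, 6, 5, 4, 7, 6, 5],
  [3, 4, 5, 4, 3, 6, 5, 4, 3, 5, 4, 3, 2, 6, 5, 4, 3, 2, 5, 4],
  [3, 4, 5, 4, 3, 6, 5, 4, 3, 5, 4, 3, 2, 6, 5, 4, 3, 2, 5, 6],
  [3, 4, 5, 4, 3, 6, 5, 4, 3, 5, 4, 3, 2, 6, 5, 4, 3, 2, 7, 6],
  [3, 4, 5, 4, 3, 6, 5, 4, 3, 5, 4, 3, 2, 6, 5, 4, 3, 5, 4, 5],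
  [3, 4, 5, 4, 3, 6, 5, 4, 3, 5, 4, 3, 2, 6, 5, 4, 3, 5, 4, 6],
  [3, 4, 5, 4, 3, 6, 5, 4, 3, 5, 4, 3, 2, 6, 5, 4, 3, 5, 6, 7],
  [3, 4, 5, 4, 3, 6, 5, 4, 3, 5, 4, 3, 2, 6, 5, 4, 3, 7, 6, 5],
  [3, 4, 5, 4, 3, 6, 5, 4, 3, 5, 4, 3, 2, 6, 5, 4, 7, 6, 5, 4],
  [3, 4, 5, 4, 3, 6, 5, 4, 3, 5, 4, 3, 5, 4, 6, 5, 4, 3, 2, 5],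
  [3, 4, 5, 4, 3, 6, 5, 4, 3, 5, 4, 3, 5, 4, 6, 5, 4, 3, 5, 4],
  [3, 4, 5, 4, 3, 6, 5, 4, 3, 5, 4, 3, 5, 6, 5, 4, 3, 2, 5, 6],
  [3, 4, 5, 4, 3, 6, 5, 4, 3, 5, 4, 3, 5, 6, 5, 4, 3, 5, 4, 3],
  [3, 4, 5, 4, 3, 6, 5, 4, 3, 5, 4, 3, 5, 6, 5, 4, 3, 5, 4, 6],
  [3, 4, 5, 4, 3, 6, 5, 4, 3, 5, 4, 3, 5, 6, 5, 4, 3, 5, 6, 7],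
  [3, 4, 5, 4, 3, 6, 5, 4, 3, 5, 4, 3, 5, 6, 5, 4, 5, 4, 3, 2],
  [3, 4, 5, 4, 3, 6, 5, 4, 3, 5, 4, 3, 5, 6, 5, 4, 5, 4, 3, 6],
  [3, 4, 5, 4, 3, 6, 5, 4, 3, 5, 4, 3, 5, 6, 5, 4, 5, 4, 6, 5],
  [3, 4, 5, 4, 3, 6, 5, 4, 3, 5, 4, 3, 5, 6, 5, 4, 5, 4, 6, 7],
  [3, 4, 5, 4, 3, 6, 5, 4, 3, 5, 4, 3, 5, 6, 5, 4, 5, 6, 7, 6],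
  [3, 4, 5, 4, 3, 6, 5, 4, 3, 5, 4, 3, 5, 6, 5, 4, 5, 7, 6, 5],
  [3, 4, 5, 4, 3, 6, 5, 4, 3, 5, 4, 3, 6, 5, 4, 3, 2, 5, 4, 3],
  [3, 4, 5, 4, 3, 6, 5, 4, 3, 5, 4, 3, 6, 5, 4, 3, 2, 5, 4, 6],
  [3, 4, 5, 4, 3, 6, 5, 4, 3, 5, 4, 3, 6, 5, 4, 3, 2, 5, 4, 7],
  [3, 4, 5, 4, 3, 6, 5, 4, 3, 5, 4, 3, 6, 5, 4, 3, 2, 5, 6, 7],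
  [3, 4, 5, 4, 3, 6, 5, 4, 3, 5, 4, 3, 6, 5, 4, 3, 2, 5, 7, 6],
  [3, 4, 5, 4, 3, 6, 5, 4, 3, 5, 4, 3, 6, 5, 4, 3, 2, 7, 6, 5],
  [3, 4, 5, 4, 3, 6, 5, 4, 3, 5, 4, 3, 6, 5, 4, 3, 5, 4, 3, 2],
  [3, 4, 5, 4, 3, 6, 5, 4, 3, 5, 4, 3, 6, 5, 4, 3, 5, 4, 3, 5],
  [3, 4, 5, 4, 3, 6, 5, 4, 3, 5, 4, 3, 6, 5, 4, 3, 5, 4, 3, 6],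
  [3, 4, 5, 4, 3, 6, 5, 4, 3, 5, 4, 3, 6, 5, 4, 3, 5, 4, 5, 6],
  [3, 4, 5, 4, 3, 6, 5, 4, 3, 5, 4, 3, 6, 5, 4, 3, 5, 4, 5, 7],
  [3, 4, 5, 4, 3, 6, 5, 4, 3, 5, 4, 3, 6, 5, 4, 3, 5, 4, 6, 5],
  [3, 4, 5, 4, 3, 6, 5, 4, 3, 5, 4, 3, 6, 5, 4, 3, 5, 4, 6, 7],
  [3, 4, 5, 4, 3, 6, 5, 4, 3, 5, 4, 3, 6, 5, 4, 3, 5, 4, 7, 6],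
  [3, 4, 5, 4, 3, 6, 5, 4, 3, 5, 4, 3, 6, 5, 4, 3, 5, 6, 7, 6],
  [3, 4, 5, 4, 3, 6, 5, 4, 3, 5, 4, 3, 6, 5, 4, 3, 5, 7, 6, 5],
  [3, 4, 5, 4, 3, 6, 5, 4, 3, 5, 4, 3, 6, 5, 4, 3, 7, 6, 5, 4],
  [3, 4, 5, 4, 3, 6, 5, 4, 3, 5, 4, 3, 6, 5, 4, 5, 4, 3, 2, 6],
  [3, 4, 5, 4, 3, 6, 5, 4, 3, 5, 4, 3, 6, 5, 4, 5, 4, 3, 6, 5],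
  [3, 4, 5, 4, 3, 6, 5, 4, 3, 5, 4, 3, 6, 5, 4, 5, 4, 3, 6, 7],
  [3, 4, 5, 4, 3, 6, 5, 4, 3, 5, 4, 3, 6, 5, 4, 5, 4, 6, 5, 7],
  [3, 4, 5, 4, 3, 6, 5, 4, 3, 5, 4, 3, 6, 5, 4, 5, 6, 7, 6, 5],
  [3, 4, 5, 4, 3, 6, 5, 4, 3, 5, 4, 3, 6, 5, 4, 7, 6, 5, 4, 3],
  [3, 4, 5, 4, 3, 6, 5, 4, 3, 5, 4, 5, 6, 5, 7, 6, 5, 4, 3, 2],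
  [3, 4, 5, 4, 3, 6, 5, 4, 3, 5, 4, 5, 7, 6, 5, 4, 3, 2, 5, 4],
  [3, 4, 5, 4, 3, 6, 5, 4, 3, 5, 4, 5, 7, 6, 5, 4, 3, 2, 5, 6],
  [3, 4, 5, 4, 3, 6, 5, 4, 3, 5, 4, 5, 7, 6, 5, 4, 3, 5, 4, 5],
  [3, 4, 5, 4, 3, 6, 5, 4, 3, 5, 4, 5, 7, 6, 5, 4, 3, 5, 4, 6],
  [3, 4, 5, 4, 3, 6, 5, 4, 3, 5, 4, 6, 5, 4, 3, 2, 5, 4, 3, 5],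
  [3, 4, 5, 4, 3, 6, 5, 4, 3, 5, 4, 6, 5, 4, 3, 2, 5, 4, 3, 6],
  [3, 4, 5, 4, 3, 6, 5, 4, 3, 5, 4, 6, 5, 4, 3, 2, 5, 4, 5, 6],
  [3, 4, 5, 4, 3, 6, 5, 4, 3, 5, 4, 6, 5, 4, 3, 2, 5, 4, 6, 5],
  [3, 4, 5, 4, 3, 6, 5, 4, 3, 5, 4, 6, 5, 4, 3, 5, 4, 5, 4, 6],
  [3, 4, 5, 4, 3, 6, 5, 4, 3, 5, 4, 6, 5, 4, 3, 5, 4, 5, 6, 5],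
  [3, 4, 5, 4, 3, 6, 5, 4, 3, 5, 4, 6, 5, 4, 3, 5, 4, 5, 6, 7],
  [3, 4, 5, 4, 3, 6, 5, 4, 3, 5, 4, 6, 5, 4, 3, 5, 4, 6, 5, 4],
  [3, 4, 5, 4, 3, 6, 5, 4, 3, 5, 4, 7, 6, 5, 4, 3, 2, 5, 4, 3],
  [3, 4, 5, 4, 3, 6, 5, 4, 3, 5, 4, 7, 6, 5, 4, 3, 2, 5, 4, 6],
  [3, 4, 5, 4, 3, 6, 5, 4, 3, 5, 4, 7, 6, 5, 4, 3, 5, 4, 5, 6],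
  [3, 4, 5, 4, 3, 6, 5, 4, 3, 5, 4, 7, 6, 5, 4, 3, 5, 4, 6, 5],
  [3, 4, 5, 4, 3, 6, 5, 4, 3, 5, 6, 7, 6, 5, 4, 3, 2, 5, 4, 3],
  [3, 4, 5, 4, 3, 6, 5, 4, 3, 5, 6, 7, 6, 5, 4, 3, 2, 5, 4, 6],
  [3, 4, 5, 4, 3, 6, 5, 4, 3, 5, 6, 7, 6, 5, 4, 3, 5, 4, 5, 6],
  [3, 4, 5, 4, 3, 6, 5, 4, 3, 5, 6, 7, 6, 5, 4, 3, 5, 4, 6, 5],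
  [3, 4, 5, 4, 3, 6, 5, 4, 3, 5, 7, 6, 5, 4, 3, 2, 5, 4, 3, 2],
  [3, 4, 5, 4, 3, 6, 5, 4, 3, 5, 7, 6, 5, 4, 3, 5, 4, 3, 2, 5],
  [3, 4, 5, 4, 3, 6, 5, 4, 3, 5, 7, 6, 5, 4, 3, 5, 4, 3, 5, 4],
  [3, 4, 5, 4, 3, 6, 5, 4, 3, 5, 7, 6, 5, 4, 3, 5, 4, 3, 5, 6],
  [3, 4, 5, 4, 3, 6, 5, 4, 3, 5, 7, 6, 5, 4, 3, 5, 4, 5, 6, 7],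
  [3, 4, 5, 4, 3, 6, 5, 4, 5, 4, 3, 2, 6, 5, 4, 3, 2, 5, 4, 3],
  [3, 4, 5, 4, 3, 6, 5, 4, 5, 4, 3, 2, 6, 5, 4, 3, 2, 5, 4, 5],
  [3, 4, 5, 4, 3, 6, 5, 4, 5, 4, 3, 2, 6, 5, 4, 3, 2, 7, 6, 5],
  [3, 4, 5, 4, 3, 6, 5, 4, 5, 4, 3, 2, 6, 5, 4, 3, 5, 4, 5, 4],
  [3, 4, 5, 4, 3, 6, 5, 4, 5, 4, 3, 2, 6, 5, 4, 3, 5, 4, 5, 6],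
  [3, 4, 5, 4, 3, 6, 5, 4, 5, 4, 3, 2, 6, 5, 4, 3, 5, 4, 6, 5],
  [3, 4, 5, 4, 3, 6, 5, 4, 5, 4, 3, 2, 6, 5, 4, 3, 5, 4, 6, 7],
  [3, 4, 5, 4, 3, 6, 5, 4, 5, 4, 3, 2, 6, 5, 4, 3, 7, 6, 5, 4],
  [3, 4, 5, 4, 3, 6, 5, 4, 5, 4, 3, 6, 5, 4, 3, 2, 5, 4, 3, 2],
  [3, 4, 5, 4, 3, 6, 5, 4, 5, 4, 3, 6, 5, 4, 3, 2, 5, 4, 3, 6],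
  [3, 4, 5, 4, 3, 6, 5, 4, 5, 4, 3, 6, 5, 4, 3, 2, 5, 4, 3, 7],
  [3, 4, 5, 4, 3, 6, 5, 4, 5, 4, 3, 6, 5, 4, 3, 2, 5, 4, 6, 5],
  [3, 4, 5, 4, 3, 6, 5, 4, 5, 4, 3, 6, 5, 4, 3, 2, 5, 4, 6, 7],
  [3, 4, 5, 4, 3, 6, 5, 4, 5, 4, 3, 6, 5, 4, 3, 2, 5, 4, 7, 6],
  [3, 4, 5, 4, 3, 6, 5, 4, 5, 4, 3, 6, 5, 4, 3, 2, 5, 6, 7, 6],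
  [3, 4, 5, 4, 3, 6, 5, 4, 5, 4, 3, 6, 5, 4, 3, 2, 5, 7, 6, 5],
  [3, 4, 5, 4, 3, 6, 5, 4, 5, 4, 3, 6, 5, 4, 3, 2, 7, 6, 5, 4],
  [3, 4, 5, 4, 3, 6, 5, 4, 5, 4, 3, 6, 5, 4, 3, 5, 4, 3, 2, 5],
  [3, 4, 5, 4, 3, 6, 5, 4, 5, 4, 3, 6, 5, 4, 3, 5, 4, 3, 2, 6],
  [3, 4, 5, 4, 3, 6, 5, 4, 5, 4, 3, 6, 5, 4, 3, 5, 4, 3, 5, 4],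
  [3, 4, 5, 4, 3, 6, 5, 4, 5, 4, 3, 6, 5, 4, 3, 5, 4, 3, 5, 6],
  [3, 4, 5, 4, 3, 6, 5, 4, 5, 4, 3, 6, 5, 4, 3, 5, 4, 3, 6, 5],
  [3, 4, 5, 4, 3, 6, 5, 4, 5, 4, 3, 6, 5, 4, 3, 5, 4, 3, 6, 7],
  [3, 4, 5, 4, 3, 6, 5, 4, 5, 4, 3, 6, 5, 4, 3, 5, 4, 5, 6, 5],
  [3, 4, 5, 4, 3, 6, 5, 4, 5, 4, 3, 6, 5, 4, 3, 5, 4, 5, 6, 7],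
  [3, 4, 5, 4, 3, 6, 5, 4, 5, 4, 3, 6, 5, 4, 3, 5, 4, 5, 7, 6],
  [3, 4, 5, 4, 3, 6, 5, 4, 5, 4, 3, 6, 5, 4, 3, 5, 4, 6, 5, 4],
  [3, 4, 5, 4, 3, 6, 5, 4, 5, 4, 3, 6, 5, 4, 3, 5, 4, 6, 5, 7],
  [3, 4, 5, 4, 3, 6, 5, 4, 5, 4, 3, 6, 5, 4, 3, 5, 4, 6, 7, 6],
  [3, 4, 5, 4, 3, 6, 5, 4, 5, 4, 3, 6, 5, 4, 3, 5, 4, 7, 6, 5],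
  [3, 4, 5, 4, 3, 6, 5, 4, 5, 4, 3, 6, 5, 4, 3, 5, 6, 7, 6, 5],
  [3, 4, 5, 4, 3, 6, 5, 4, 5, 4, 3, 6, 5, 4, 3, 5, 7, 6, 5, 4],
  [3, 4, 5, 4, 3, 6, 5, 4, 5, 4, 3, 6, 5, 4, 3, 7, 6, 5, 4, 3],
  [3, 4, 5, 4, 3, 6, 5, 4, 5, 4, 3, 6, 5, 4, 3, 7, 6, 5, 4, 5],
  [3, 4, 5, 4, 3, 6, 5, 4, 5, 4, 3, 6, 5, 4, 5, 4, 3, 2, 6, 5],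
  [3, 4, 5, 4, 3, 6, 5, 4, 5, 4, 3, 6, 5, 4, 5, 4, 3, 2, 6, 7],
  [3, 4, 5, 4, 3, 6, 5, 4, 5, 4, 3, 6, 5, 4, 5, 4, 3, 6, 5, 4],
  [3, 4, 5, 4, 3, 6, 5, 4, 5, 4, 3, 6, 5, 4, 5, 4, 3, 6, 5, 7],
  [3, 4, 5, 4, 3, 6, 5, 4, 5, 4, 3, 6, 5, 4, 5, 6, 7, 6, 5, 4],
  [3, 4, 5, 4, 3, 6, 5, 4, 5, 4, 3, 6, 5, 4, 5, 7, 6, 5, 4, 3],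
  [3, 4, 5, 4, 3, 6, 5, 4, 5, 4, 3, 6, 5, 4, 7, 6, 5, 4, 3, 2],
  [3, 4, 5, 4, 3, 6, 5, 4, 5, 4, 6, 5, 4, 3, 2, 5, 4, 3, 5, 4],
  [3, 4, 5, 4, 3, 6, 5, 4, 5, 4, 6, 5, 4, 3, 2, 5, 4, 3, 5, 6],
  [3, 4, 5, 4, 3, 6, 5, 4, 5, 4, 6, 5, 4, 3, 2, 5, 4, 5, 6, 7],
  [3, 4, 5, 4, 3, 6, 5, 4, 5, 4, 6, 5, 4, 3, 5, 4, 5, 4, 3, 2],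
  [3, 4, 5, 4, 3, 6, 5, 4, 5, 4, 6, 5, 4, 3, 5, 4, 5, 4, 3, 6],
  [3, 4, 5, 4, 3, 6, 5, 4, 5, 4, 6, 5, 4, 3, 5, 4, 5, 4, 6, 5],
  [3, 4, 5, 4, 3, 6, 5, 4, 5, 4, 6, 5, 4, 3, 5, 4, 5, 4, 6, 7],
  [3, 4, 5, 4, 3, 6, 5, 4, 5, 7, 6, 5, 4, 3, 2, 5, 4, 3, 5, 4],
  [3, 4, 5, 4, 3, 6, 5, 4, 5, 7, 6, 5, 4, 3, 2, 5, 4, 3, 5, 6],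
  [3, 4, 5, 4, 3, 6, 5, 4, 5, 7, 6, 5, 4, 3, 2, 5, 4, 3, 6, 5],
  [3, 4, 5, 4, 3, 6, 5, 4, 5, 7, 6, 5, 4, 3, 2, 5, 4, 5, 6, 5],
  [3, 4, 5, 4, 3, 6, 5, 4, 5, 7, 6, 5, 4, 3, 2, 5, 4, 5, 6, 7],
  [3, 4, 5, 4, 3, 6, 5, 4, 5, 7, 6, 5, 4, 3, 5, 4, 5, 4, 3, 2],
  [3, 4, 5, 4, 3, 6, 5, 4, 5, 7, 6, 5, 4, 3, 5, 4, 5, 4, 3, 6],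
  [3, 4, 5, 4, 3, 6, 5, 4, 5, 7, 6, 5, 4, 3, 5, 4, 5, 4, 6, 5],
  [3, 4, 5, 4, 3, 6, 5, 4, 5, 7, 6, 5, 4, 3, 5, 4, 5, 4, 6, 7],
  [3, 4, 5, 4, 3, 6, 5, 4, 5, 7, 6, 5, 4, 3, 5, 4, 5, 6, 5, 4],
  [3, 4, 5, 4, 3, 6, 5, 4, 5, 7, 6, 5, 4, 3, 5, 4, 5, 6, 5, 7],
  [3, 4, 5, 4, 3, 6, 5, 4, 5, 7, 6, 5, 4, 3, 5, 4, 6, 5, 4, 3],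
  [3, 4, 5, 4, 3, 6, 5, 4, 7, 6, 5, 4, 3, 2, 5, 4, 3, 6, 5, 4],
  [3, 4, 5, 4, 3, 6, 5, 4, 7, 6, 5, 4, 3, 2, 5, 4, 5, 6, 5, 4],
  [3, 4, 5, 4, 3, 6, 5, 4, 7, 6, 5, 4, 3, 2, 5, 4, 5, 6, 5, 7],
  [3, 4, 5, 4, 3, 6, 5, 4, 7, 6, 5, 4, 3, 2, 5, 4, 6, 5, 4, 3],
  [3, 4, 5, 4, 3, 6, 5, 4, 7, 6, 5, 4, 3, 5, 4, 5, 4, 6, 5, 4],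
  [3, 4, 5, 4, 3, 6, 5, 4, 7, 6, 5, 4, 3, 5, 4, 5, 4, 6, 5, 7],
  [3, 4, 5, 4, 3, 6, 5, 4, 7, 6, 5, 4, 3, 5, 4, 5, 6, 5, 4, 3],
  [3, 4, 5, 4, 3, 6, 5, 4, 7, 6, 5, 4, 3, 5, 4, 5, 6, 5, 4, 5]]
def ows1c12 : List (List Nat) := [[3, 4, 5, 4, 3, 6, 5, 4, 7, 6, 5, 4, 3, 5, 4, 5, 6, 5, 4, 7],
  [3, 4, 5, 4, 3, 6, 5, 4, 7, 6, 5, 4, 3, 5, 4, 6, 5, 4, 3, 2],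
  [3, 4, 5, 4, 3, 6, 5, 4, 7, 6, 5, 4, 3, 5, 4, 6, 5, 4, 3, 5],
  [3, 4, 5, 4, 3, 6, 5, 4, 7, 6, 5, 4, 3, 5, 4, 6, 5, 4, 5, 6],
  [3, 4, 5, 4, 6, 5, 4, 3, 2, 5, 4, 3, 5, 4, 6, 5, 4, 3, 2, 7],
  [3, 4, 5, 4, 6, 5, 4, 3, 2, 5, 4, 3, 5, 4, 6, 5, 4, 3, 7, 6],
  [3, 4, 5, 4, 6, 5, 4, 3, 2, 5, 4, 3, 5, 4, 6, 5, 4, 7, 6, 5],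
  [3, 4, 5, 4, 6, 5, 4, 3, 2, 5, 4, 3, 5, 6, 5, 4, 3, 5, 4, 3],
  [3, 4, 5, 4, 6, 5, 4, 3, 2, 5, 4, 3, 5, 6, 5, 4, 3, 5, 4, 5],
  [3, 4, 5, 4, 6, 5, 4, 3, 2, 5, 4, 3, 5, 6, 5, 4, 3, 5, 4, 6],
  [3, 4, 5, 4, 6, 5, 4, 3, 2, 5, 4, 3, 5, 6, 5, 4, 3, 5, 6, 7],
  [3, 4, 5, 4, 6, 5, 4, 3, 2, 5, 4, 3, 5, 6, 5, 4, 5, 4, 3, 2],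
  [3, 4, 5, 4, 6, 5, 4, 3, 2, 5, 4, 3, 5, 6, 5, 4, 5, 4, 3, 6],
  [3, 4, 5, 4, 6, 5, 4, 3, 2, 5, 4, 3, 5, 6, 5, 4, 5, 4, 6, 5],
  [3, 4, 5, 4, 6, 5, 4, 3, 2, 5, 4, 3, 5, 6, 5, 4, 5, 4, 6, 7],
  [3, 4, 5, 4, 6, 5, 4, 3, 2, 5, 4, 5, 6, 5, 4, 3, 2, 5, 4, 3],
  [3, 4, 5, 4, 6, 5, 4, 3, 2, 5, 4, 5, 6, 5, 4, 3, 2, 5, 4, 5],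
  [3, 4, 5, 4, 6, 5, 4, 3, 2, 5, 4, 5, 6, 5, 4, 3, 2, 5, 4, 7],
  [3, 4, 5, 4, 6, 5, 4, 3, 2, 5, 4, 5, 6, 5, 4, 3, 2, 5, 7, 6],
  [3, 4, 5, 4, 6, 5, 4, 3, 2, 5, 4, 5, 6, 5, 4, 3, 5, 4, 3, 2],
  [3, 4, 5, 4, 6, 5, 4, 3, 2, 5, 4, 5, 6, 5, 4, 3, 5, 4, 3, 5],
  [3, 4, 5, 4, 6, 5, 4, 3, 2, 5, 4, 5, 6, 5, 4, 3, 5, 4, 5, 4],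
  [3, 4, 5, 4, 6, 5, 4, 3, 2, 5, 4, 5, 6, 5, 4, 3, 5, 4, 5, 6],
  [3, 4, 5, 4, 6, 5, 4, 3, 2, 5, 4, 5, 6, 5, 4, 3, 5, 4, 5, 7],
  [3, 4, 5, 4, 6, 5, 4, 3, 2, 5, 4, 5, 6, 5, 4, 3, 5, 4, 7, 6],
  [3, 4, 5, 4, 6, 5, 4, 3, 5, 4, 5, 4, 3, 2, 6, 5, 4, 3, 2, 5],
  [3, 4, 5, 4, 6, 5, 4, 3, 5, 4, 5, 4, 3, 2, 6, 5, 4, 3, 2, 7],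
  [3, 4, 5, 4, 6, 5, 4, 3, 5, 4, 5, 4, 3, 2, 6, 5, 4, 3, 5, 4],
  [3, 4, 5, 4, 6, 5, 4, 3, 5, 4, 5, 4, 3, 2, 6, 5, 4, 3, 5, 6],
  [3, 4, 5, 4, 6, 5, 4, 3, 5, 4, 5, 4, 3, 2, 6, 5, 4, 3, 7, 6],
  [3, 4, 5, 4, 6, 5, 4, 3, 5, 4, 5, 4, 3, 2, 6, 5, 4, 5, 6, 7],
  [3, 4, 5, 4, 6, 5, 4, 3, 5, 4, 5, 4, 3, 2, 6, 5, 4, 7, 6, 5],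
  [3, 4, 5, 4, 6, 5, 4, 3, 5, 4, 5, 4, 3, 6, 5, 4, 3, 2, 5, 4],
  [3, 4, 5, 4, 6, 5, 4, 3, 5, 4, 5, 4, 3, 6, 5, 4, 3, 2, 5, 6],
  [3, 4, 5, 4, 6, 5, 4, 3, 5, 4, 5, 4, 3, 6, 5, 4, 3, 2, 5, 7],
  [3, 4, 5, 4, 6, 5, 4, 3, 5, 4, 5, 4, 3, 6, 5, 4, 3, 2, 7, 6],
  [3, 4, 5, 4, 6, 5, 4, 3, 5, 4, 5, 4, 3, 6, 5, 4, 3, 5, 4, 3],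
  [3, 4, 5, 4, 6, 5, 4, 3, 5, 4, 5, 4, 3, 6, 5, 4, 3, 5, 4, 5],
  [3, 4, 5, 4, 6, 5, 4, 3, 5, 4, 5, 4, 3, 6, 5, 4, 3, 5, 4, 6],
  [3, 4, 5, 4, 6, 5, 4, 3, 5, 4, 5, 4, 3, 6, 5, 4, 3, 5, 4, 7],
  [3, 4, 5, 4, 6, 5, 4, 3, 5, 4, 5, 4, 3, 6, 5, 4, 3, 5, 6, 7],
  [3, 4, 5, 4, 6, 5, 4, 3, 5, 4, 5, 4, 3, 6, 5, 4, 3, 5, 7, 6],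
  [3, 4, 5, 4, 6, 5, 4, 3, 5, 4, 5, 4, 3, 6, 5, 4, 3, 7, 6, 5],
  [3, 4, 5, 4, 6, 5, 4, 3, 5, 4, 5, 4, 3, 6, 5, 4, 5, 4, 3, 2],
  [3, 4, 5, 4, 6, 5, 4, 3, 5, 4, 5, 4, 3, 6, 5, 4, 5, 4, 3, 6],
  [3, 4, 5, 4, 6, 5, 4, 3, 5, 4, 5, 4, 3, 6, 5, 4, 5, 4, 6, 5],
  [3, 4, 5, 4, 6, 5, 4, 3, 5, 4, 5, 4, 3, 6, 5, 4, 5, 4, 6, 7],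
  [3, 4, 5, 4, 6, 5, 4, 3, 5, 4, 5, 4, 3, 6, 5, 4, 5, 6, 7, 6],
  [3, 4, 5, 4, 6, 5, 4, 3, 5, 4, 5, 4, 3, 6, 5, 4, 5, 7, 6, 5],
  [3, 4, 5, 4, 6, 5, 4, 3, 5, 4, 5, 4, 3, 6, 5, 4, 7, 6, 5, 4],
  [3, 4, 5, 4, 6, 5, 4, 3, 5, 4, 5, 4, 6, 5, 4, 3, 2, 5, 4, 3],
  [3, 4, 5, 4, 6, 5, 4, 3, 5, 4, 5, 4, 6, 5, 4, 3, 2, 5, 4, 5],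
  [3, 4, 5, 4, 6, 5, 4, 3, 5, 4, 5, 4, 6, 5, 4, 3, 2, 5, 4, 6],
  [3, 4, 5, 4, 6, 5, 4, 3, 5, 4, 5, 4, 6, 5, 4, 3, 5, 4, 5, 4],
  [3, 4, 5, 4, 6, 5, 4, 3, 5, 4, 5, 4, 6, 5, 4, 3, 5, 4, 6, 5],
  [3, 4, 5, 4, 6, 5, 4, 3, 5, 4, 5, 6, 5, 4, 3, 2, 5, 4, 3, 2],
  [3, 4, 5, 4, 6, 5, 4, 3, 5, 4, 5, 6, 5, 4, 3, 2, 5, 4, 3, 5],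
  [3, 4, 5, 4, 6, 5, 4, 3, 5, 4, 5, 6, 5, 4, 3, 2, 5, 4, 3, 7],
  [3, 4, 5, 4, 6, 5, 4, 3, 5, 4, 5, 6, 5, 4, 3, 2, 5, 4, 5, 6],
  [3, 4, 5, 4, 6, 5, 4, 3, 5, 4, 5, 6, 5, 4, 3, 2, 5, 4, 7, 6],
  [3, 4, 5, 4, 6, 5, 4, 3, 5, 4, 5, 6, 5, 4, 3, 5, 4, 3, 2, 5],
  [3, 4, 5, 4, 6, 5, 4, 3, 5, 4, 5, 6, 5, 4, 3, 5, 4, 3, 5, 4],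
  [3, 4, 5, 4, 6, 5, 4, 3, 5, 4, 5, 6, 5, 4, 3, 5, 4, 3, 5, 6],
  [3, 4, 5, 4, 6, 5, 4, 3, 5, 4, 5, 6, 5, 4, 3, 5, 4, 5, 4, 3],
  [3, 4, 5, 4, 6, 5, 4, 3, 5, 4, 5, 6, 5, 4, 3, 5, 4, 5, 4, 6],
  [3, 4, 5, 4, 6, 5, 4, 3, 5, 4, 5, 6, 5, 4, 3, 5, 4, 5, 6, 7],
  [3, 4, 5, 4, 6, 5, 4, 3, 5, 4, 5, 6, 5, 4, 3, 5, 4, 5, 7, 6],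
  [3, 4, 5, 4, 6, 5, 4, 3, 5, 4, 5, 6, 5, 4, 3, 5, 4, 7, 6, 5],
  [3, 2, 4, 3, 5, 4, 3, 2, 5, 6, 5, 4, 3, 2, 5, 4, 3, 2, 6, 5, 4],
  [3, 2, 4, 3, 5, 4, 3, 2, 5, 6, 5, 4, 3, 2, 5, 4, 3, 5, 6, 5, 4],
  [3, 2, 4, 3, 5, 4, 3, 2, 5, 6, 5, 4, 3, 2, 5, 4, 3, 5, 6, 5, 7],
  [3, 2, 4, 3, 5, 4, 3, 2, 5, 6, 5, 4, 3, 2, 5, 4, 3, 6, 5, 4, 5],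
  [3, 2, 4, 3, 5, 4, 3, 2, 5, 6, 5, 4, 3, 2, 5, 4, 6, 7, 6, 5, 4],
  [3, 2, 4, 3, 5, 4, 3, 2, 5, 6, 5, 4, 3, 2, 5, 4, 7, 6, 5, 4, 3],
  [3, 2, 4, 3, 5, 4, 3, 2, 5, 6, 5, 4, 3, 2, 5, 7, 6, 5, 4, 3, 5],
  [3, 2, 4, 3, 5, 4, 3, 2, 5, 6, 5, 4, 3, 2, 5, 7, 6, 5, 4, 5, 4],
  [3, 2, 4, 3, 5, 4, 3, 2, 5, 6, 5, 4, 3, 5, 4, 3, 5, 6, 5, 4, 3],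
  [3, 2, 4, 3, 5, 4, 3, 2, 5, 6, 5, 4, 3, 5, 4, 3, 5, 6, 5, 4, 5],
  [3, 2, 4, 3, 5, 4, 3, 2, 5, 6, 5, 4, 3, 5, 4, 3, 5, 6, 5, 4, 7],
  [3, 2, 4, 3, 5, 4, 3, 2, 5, 6, 5, 4, 3, 5, 4, 3, 5, 6, 5, 7, 6],
  [3, 2, 4, 3, 5, 4, 3, 2, 5, 6, 5, 4, 3, 5, 4, 3, 6, 5, 4, 3, 2],
  [3, 2, 4, 3, 5, 4, 3, 2, 5, 6, 5, 4, 3, 5, 4, 3, 6, 5, 4, 3, 5],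
  [3, 2, 4, 3, 5, 4, 3, 2, 5, 6, 5, 4, 3, 5, 4, 3, 6, 5, 4, 5, 6],
  [3, 2, 4, 3, 5, 4, 3, 2, 5, 6, 5, 4, 3, 5, 4, 3, 6, 5, 4, 7, 6],
  [3, 2, 4, 3, 5, 4, 3, 2, 5, 6, 5, 4, 3, 5, 4, 5, 4, 3, 6, 5, 4],
  [3, 2, 4, 3, 5, 4, 3, 2, 5, 6, 5, 4, 3, 5, 4, 5, 4, 3, 6, 5, 7],
  [3, 2, 4, 3, 5, 4, 3, 2, 5, 6, 5, 4, 3, 5, 4, 5, 4, 6, 5, 4, 3],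
  [3, 2, 4, 3, 5, 4, 3, 2, 5, 6, 5, 4, 3, 5, 4, 5, 4, 6, 5, 4, 5],
  [3, 2, 4, 3, 5, 4, 3, 2, 5, 6, 5, 4, 3, 5, 4, 5, 4, 6, 5, 4, 7],
  [3, 2, 4, 3, 5, 4, 3, 2, 5, 6, 5, 4, 3, 5, 4, 5, 4, 6, 5, 7, 6],
  [3, 2, 4, 3, 5, 4, 3, 2, 5, 6, 5, 4, 3, 5, 4, 5, 6, 5, 4, 3, 2],
  [3, 2, 4, 3, 5, 4, 3, 2, 5, 6, 5, 4, 3, 5, 4, 5, 6, 5, 4, 3, 5],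
  [3, 2, 4, 3, 5, 4, 3, 2, 5, 6, 5, 4, 3, 5, 4, 5, 6, 5, 4, 3, 7],
  [3, 2, 4, 3, 5, 4, 3, 2, 5, 6, 5, 4, 3, 5, 4, 5, 6, 5, 4, 5, 4],
  [3, 2, 4, 3, 5, 4, 3, 2, 5, 6, 5, 4, 3, 5, 4, 5, 6, 5, 4, 5, 7],
  [3, 2, 4, 3, 5, 4, 3, 2, 5, 6, 5, 4, 3, 5, 7, 6, 5, 4, 5, 4, 3],
  [3, 2, 4, 3, 5, 4, 3, 2, 5, 6, 5, 4, 3, 5, 7, 6, 5, 4, 5, 4, 6],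
  [3, 2, 4, 3, 5, 4, 3, 2, 5, 6, 5, 4, 3, 5, 7, 6, 5, 4, 5, 6, 7],
  [3, 2, 4, 3, 5, 4, 3, 2, 6, 5, 4, 3, 2, 7, 6, 5, 4, 3, 2, 5, 4],
  [3, 2, 4, 3, 5, 4, 3, 2, 6, 5, 4, 3, 2, 7, 6, 5, 4, 3, 2, 5, 6],
  [3, 2, 4, 3, 5, 4, 3, 2, 6, 5, 4, 3, 2, 7, 6, 5, 4, 3, 5, 4, 5],
  [3, 2, 4, 3, 5, 4, 3, 2, 6, 5, 4, 3, 2, 7, 6, 5, 4, 3, 5, 4, 6],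
  [3, 2, 4, 3, 5, 4, 3, 2, 6, 5, 4, 3, 2, 7, 6, 5, 4, 3, 5, 6, 7],
  [3, 2, 4, 3, 5, 4, 3, 2, 6, 5, 4, 3, 7, 6, 5, 4, 3, 2, 5, 6, 7],
  [3, 2, 4, 3, 5, 4, 3, 2, 6, 5, 4, 3, 7, 6, 5, 4, 3, 5, 4, 3, 2],
  [3, 2, 4, 3, 5, 4, 3, 2, 6, 5, 4, 3, 7, 6, 5, 4, 3, 5, 4, 3, 6],
  [3, 2, 4, 3, 5, 4, 3, 2, 6, 5, 4, 3, 7, 6, 5, 4, 3, 5, 4, 6, 5],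
  [3, 2, 4, 3, 5, 4, 3, 2, 6, 5, 4, 3, 7, 6, 5, 4, 3, 5, 4, 6, 7],
  [3, 2, 4, 3, 5, 4, 3, 2, 6, 5, 4, 3, 7, 6, 5, 4, 5, 4, 3, 2, 6],
  [3, 2, 4, 3, 5, 4, 3, 2, 6, 5, 4, 3, 7, 6, 5, 4, 5, 4, 3, 6, 5],
  [3, 2, 4, 3, 5, 4, 3, 2, 6, 5, 4, 3, 7, 6, 5, 4, 5, 4, 3, 6, 7],
  [3, 2, 4, 3, 5, 4, 3, 2, 6, 5, 4, 3, 7, 6, 5, 4, 5, 4, 6, 5, 4],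
  [3, 2, 4, 3, 5, 4, 3, 2, 6, 5, 4, 3, 7, 6, 5, 4, 5, 4, 6, 5, 7],
  [3, 2, 4, 3, 5, 4, 3, 5, 6, 5, 4, 3, 2, 5, 4, 3, 2, 6, 5, 4, 3],
  [3, 2, 4, 3, 5, 4, 3, 5, 6, 5, 4, 3, 2, 5, 4, 3, 2, 6, 5, 4, 5],
  [3, 2, 4, 3, 5, 4, 3, 5, 6, 5, 4, 3, 2, 5, 4, 3, 2, 6, 5, 4, 7],
  [3, 2, 4, 3, 5, 4, 3, 5, 6, 5, 4, 3, 2, 5, 4, 3, 2, 6, 5, 7, 6],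
  [3, 2, 4, 3, 5, 4, 3, 5, 6, 5, 4, 3, 2, 5, 4, 3, 5, 6, 5, 4, 3],
  [3, 2, 4, 3, 5, 4, 3, 5, 6, 5, 4, 3, 2, 5, 4, 3, 5, 6, 5, 4, 5],
  [3, 2, 4, 3, 5, 4, 3, 5, 6, 5, 4, 3, 2, 5, 4, 3, 5, 6, 5, 4, 7],
  [3, 2, 4, 3, 5, 4, 3, 5, 6, 5, 4, 3, 2, 5, 4, 3, 5, 6, 5, 7, 6],
  [3, 2, 4, 3, 5, 4, 3, 5, 6, 5, 4, 3, 2, 5, 4, 3, 6, 5, 4, 3, 2],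
  [3, 2, 4, 3, 5, 4, 3, 5, 6, 5, 4, 3, 2, 5, 4, 3, 6, 5, 4, 3, 5],
  [3, 2, 4, 3, 5, 4, 3, 5, 6, 5, 4, 3, 2, 5, 4, 3, 6, 5, 4, 5, 4],
  [3, 2, 4, 3, 5, 4, 3, 5, 6, 5, 4, 3, 2, 5, 4, 3, 6, 5, 4, 5, 6],
  [3, 2, 4, 3, 5, 4, 3, 5, 6, 5, 4, 3, 2, 5, 4, 3, 6, 5, 4, 5, 7],
  [3, 2, 4, 3, 5, 4, 3, 5, 6, 5, 4, 3, 2, 5, 4, 3, 6, 5, 4, 7, 6],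
  [3, 2, 4, 3, 5, 4, 3, 5, 6, 5, 4, 3, 2, 5, 4, 5, 6, 5, 4, 3, 2],
  [3, 2, 4, 3, 5, 4, 3, 5, 6, 5, 4, 3, 2, 5, 4, 5, 6, 5, 4, 3, 5],
  [3, 2, 4, 3, 5, 4, 3, 5, 6, 5, 4, 3, 2, 5, 4, 5, 6, 5, 4, 3, 7],
  [3, 2, 4, 3, 5, 4, 3, 5, 6, 5, 4, 3, 2, 5, 4, 5, 6, 5, 4, 5, 4],
  [3, 2, 4, 3, 5, 4, 3, 5, 6, 5, 4, 3, 2, 5, 4, 5, 6, 5, 4, 5, 7],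
  [3, 2, 4, 3, 5, 4, 3, 5, 6, 5, 4, 3, 2, 5, 4, 6, 5, 7, 6, 5, 4],
  [3, 2, 4, 3, 5, 4, 3, 5, 6, 5, 4, 3, 2, 5, 4, 6, 7, 6, 5, 4, 3],
  [3, 2, 4, 3, 5, 4, 3, 5, 6, 5, 4, 3, 2, 5, 4, 7, 6, 5, 4, 3, 2],
  [3, 2, 4, 3, 5, 4, 3, 5, 6, 5, 4, 3, 2, 5, 4, 7, 6, 5, 4, 3, 5],
  [3, 2, 4, 3, 5, 4, 3, 5, 6, 5, 4, 3, 2, 5, 4, 7, 6, 5, 4, 5, 6],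
  [3, 2, 4, 3, 5, 4, 3, 5, 6, 5, 4, 3, 2, 5, 6, 7, 6, 5, 4, 3, 5],
  [3, 2, 4, 3, 5, 4, 3, 5, 6, 5, 4, 3, 2, 5, 6, 7, 6, 5, 4, 5, 6],
  [3, 2, 4, 3, 5, 4, 3, 5, 6, 5, 4, 3, 2, 5, 7, 6, 5, 4, 3, 5, 4],
  [3, 2, 4, 3, 5, 4, 3, 5, 6, 5, 4, 3, 2, 5, 7, 6, 5, 4, 5, 4, 3],
  [3, 2, 4, 3, 5, 4, 3, 5, 6, 5, 4, 3, 5, 4, 3, 5, 6, 5, 4, 3, 2],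
  [3, 2, 4, 3, 5, 4, 3, 5, 6, 5, 4, 3, 5, 4, 3, 5, 6, 5, 4, 3, 5],
  [3, 2, 4, 3, 5, 4, 3, 5, 6, 5, 4, 3, 5, 4, 3, 5, 6, 5, 4, 3, 7],
  [3, 2, 4, 3, 5, 4, 3, 5, 6, 5, 4, 3, 5, 4, 3, 5, 6, 5, 4, 5, 6],
  [3, 2, 4, 3, 5, 4, 3, 5, 6, 5, 4, 3, 5, 4, 3, 5, 6, 5, 4, 7, 6],
  [3, 2, 4, 3, 5, 4, 3, 5, 6, 5, 4, 3, 5, 4, 3, 6, 5, 4, 3, 2, 5],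
  [3, 2, 4, 3, 5, 4, 3, 5, 6, 5, 4, 3, 5, 4, 3, 6, 5, 4, 3, 2, 7],
  [3, 2, 4, 3, 5, 4, 3, 5, 6, 5, 4, 3, 5, 4, 3, 6, 5, 4, 3, 5, 4],
  [3, 2, 4, 3, 5, 4, 3, 5, 6, 5, 4, 3, 5, 4, 3, 6, 5, 4, 3, 5, 6],
  [3, 2, 4, 3, 5, 4, 3, 5, 6, 5, 4, 3, 5, 4, 3, 6, 5, 4, 3, 7, 6],
  [3, 2, 4, 3, 5, 4, 3, 5, 6, 5, 4, 3, 5, 4, 5, 4, 3, 6, 5, 4, 3],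
  [3, 2, 4, 3, 5, 4, 3, 5, 6, 5, 4, 3, 5, 4, 5, 4, 3, 6, 5, 4, 5],
  [3, 2, 4, 3, 5, 4, 3, 5, 6, 5, 4, 3, 5, 4, 5, 4, 3, 6, 5, 4, 7],
  [3, 2, 4, 3, 5, 4, 3, 5, 6, 5, 4, 3, 5, 4, 5, 4, 3, 6, 5, 7, 6],
  [3, 2, 4, 3, 5, 4, 3, 5, 6, 5, 4, 3, 5, 4, 5, 4, 6, 5, 4, 3, 2],
  [3, 2, 4, 3, 5, 4, 3, 5, 6, 5, 4, 3, 5, 4, 5, 4, 6, 5, 4, 3, 5],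
  [3, 2, 4, 3, 5, 4, 3, 5, 6, 5, 4, 3, 5, 4, 5, 4, 6, 5, 4, 3, 7],
  [3, 2, 4, 3, 5, 4, 3, 5, 6, 5, 4, 3, 5, 4, 5, 4, 6, 5, 4, 7, 6],
  [3, 2, 4, 3, 5, 4, 3, 5, 6, 5, 4, 3, 5, 4, 5, 6, 5, 4, 3, 2, 5],
  [3, 2, 4, 3, 5, 4, 3, 5, 6, 5, 4, 3, 5, 4, 5, 6, 5, 4, 3, 2, 7],
  [3, 2, 4, 3, 5, 4, 3, 5, 6, 5, 4, 3, 5, 4, 5, 6, 5, 4, 3, 5, 4],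
  [3, 2, 4, 3, 5, 4, 3, 5, 6, 5, 4, 3, 5, 4, 5, 6, 5, 4, 3, 5, 6],
  [3, 2, 4, 3, 5, 4, 3, 5, 6, 5, 4, 3, 5, 4, 5, 6, 5, 4, 3, 5, 7],
  [3, 2, 4, 3, 5, 4, 3, 5, 6, 5, 4, 3, 5, 4, 5, 6, 5, 4, 3, 7, 6],
  [3, 2, 4, 3, 5, 4, 3, 5, 6, 5, 4, 3, 5, 4, 5, 6, 5, 4, 5, 4, 3],
  [3, 2, 4, 3, 5, 4, 3, 5, 6, 5, 4, 3, 5, 4, 5, 6, 5, 4, 5, 4, 6],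
  [3, 2, 4, 3, 5, 4, 3, 5, 6, 5, 4, 3, 5, 4, 6, 5, 4, 3, 2, 5, 4],
  [3, 2, 4, 3, 5, 4, 3, 5, 6, 5, 4, 3, 5, 4, 6, 5, 4, 3, 2, 5, 6],
  [3, 2, 4, 3, 5, 4, 3, 5, 6, 5, 4, 3, 5, 4, 6, 5, 4, 3, 2, 7, 6],
  [3, 2, 4, 3, 5, 4, 3, 5, 6, 5, 4, 3, 5, 4, 6, 5, 4, 3, 5, 4, 6],
  [3, 2, 4, 3, 5, 4, 3, 5, 6, 5, 4, 3, 5, 6, 7, 6, 5, 4, 5, 6, 7],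
  [3, 2, 4, 3, 5, 4, 3, 5, 6, 5, 4, 3, 5, 7, 6, 5, 4, 3, 5, 6, 7],
  [3, 2, 4, 3, 5, 4, 3, 5, 6, 5, 4, 3, 5, 7, 6, 5, 4, 5, 4, 3, 2],
  [3, 2, 4, 3, 5, 4, 3, 5, 6, 5, 4, 3, 5, 7, 6, 5, 4, 5, 4, 3, 6],
  [3, 2, 4, 3, 5, 4, 3, 5, 6, 5, 4, 3, 7, 6, 5, 4, 3, 2, 5, 4, 6],
  [3, 2, 4, 3, 5, 4, 3, 5, 6, 5, 4, 3, 7, 6, 5, 4, 3, 2, 5, 6, 7],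
  [3, 2, 4, 3, 5, 4, 3, 5, 6, 5, 4, 3, 7, 6, 5, 4, 3, 5, 4, 5, 6],
  [3, 2, 4, 3, 5, 4, 3, 5, 6, 5, 4, 3, 7, 6, 5, 4, 3, 5, 4, 6, 5],
  [3, 2, 4, 3, 5, 4, 3, 5, 6, 5, 4, 3, 7, 6, 5, 4, 3, 5, 4, 6, 7],
  [3, 2, 4, 3, 5, 4, 3, 6, 5, 4, 3, 2, 5, 4, 3, 6, 5, 4, 3, 2, 5],
  [3, 2, 4, 3, 5, 4, 3, 6, 5, 4, 3, 2, 5, 4, 3, 6, 5, 4, 3, 5, 4],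
  [3, 2, 4, 3, 5, 4, 3, 6, 5, 4, 3, 2, 5, 4, 3, 6, 5, 4, 3, 5, 6],
  [3, 2, 4, 3, 5, 4, 3, 6, 5, 4, 3, 2, 5, 4, 3, 6, 5, 4, 5, 6, 7],
  [3, 2, 4, 3, 5, 4, 3, 6, 5, 4, 3, 2, 5, 4, 3, 6, 5, 4, 7, 6, 5],
  [3, 2, 4, 3, 5, 4, 3, 6, 5, 4, 3, 2, 5, 4, 6, 5, 7, 6, 5, 4, 3],
  [3, 2, 4, 3, 5, 4, 3, 6, 5, 4, 3, 2, 5, 4, 6, 5, 7, 6, 5, 4, 5],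
  [3, 2, 4, 3, 5, 4, 3, 6, 5, 4, 3, 2, 5, 4, 6, 7, 6, 5, 4, 3, 2],
  [3, 2, 4, 3, 5, 4, 3, 6, 5, 4, 3, 2, 5, 4, 7, 6, 5, 4, 3, 2, 5],
  [3, 2, 4, 3, 5, 4, 3, 6, 5, 4, 3, 2, 5, 4, 7, 6, 5, 4, 3, 5, 6],
  [3, 2, 4, 3, 5, 4, 3, 6, 5, 4, 3, 2, 5, 4, 7, 6, 5, 4, 5, 6, 7],
  [3, 2, 4, 3, 5, 4, 3, 6, 5, 4, 3, 2, 5, 6, 7, 6, 5, 4, 3, 5, 4],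
  [3, 2, 4, 3, 5, 4, 3, 6, 5, 4, 3, 2, 5, 6, 7, 6, 5, 4, 3, 5, 6],
  [3, 2, 4, 3, 5, 4, 3, 6, 5, 4, 3, 2, 5, 6, 7, 6, 5, 4, 5, 6, 7],
  [3, 2, 4, 3, 5, 4, 3, 6, 5, 4, 3, 2, 5, 7, 6, 5, 4, 3, 2, 5, 4],
  [3, 2, 4, 3, 5, 4, 3, 6, 5, 4, 3, 2, 5, 7, 6, 5, 4, 3, 2, 5, 6],
  [3, 2, 4, 3, 5, 4, 3, 6, 5, 4, 3, 2, 5, 7, 6, 5, 4, 3, 5, 4, 3],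
  [3, 2, 4, 3, 5, 4, 3, 6, 5, 4, 3, 2, 5, 7, 6, 5, 4, 3, 5, 4, 5],
  [3, 2, 4, 3, 5, 4, 3, 6, 5, 4, 3, 2, 5, 7, 6, 5, 4, 3, 5, 4, 6],
  [3, 2, 4, 3, 5, 4, 3, 6, 5, 4, 3, 2, 5, 7, 6, 5, 4, 3, 5, 6, 7]]
def ows1c13 : List (List Nat) := [[3, 2, 4, 3, 5, 4, 3, 6, 5, 4, 3, 2, 5, 7, 6, 5, 4, 5, 4, 3, 2],
  [3, 2, 4, 3, 5, 4, 3, 6, 5, 4, 3, 2, 5, 7, 6, 5, 4, 5, 4, 3, 6],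
  [3, 2, 4, 3, 5, 4, 3, 6, 5, 4, 3, 2, 5, 7, 6, 5, 4, 5, 4, 6, 5],
  [3, 2, 4, 3, 5, 4, 3, 6, 5, 4, 3, 2, 5, 7, 6, 5, 4, 5, 4, 6, 7],
  [3, 2, 4, 3, 5, 4, 3, 6, 5, 4, 3, 2, 7, 6, 5, 4, 3, 2, 5, 4, 3],
  [3, 2, 4, 3, 5, 4, 3, 6, 5, 4, 3, 2, 7, 6, 5, 4, 3, 2, 5, 4, 6],
  [3, 2, 4, 3, 5, 4, 3, 6, 5, 4, 3, 2, 7, 6, 5, 4, 3, 2, 5, 6, 7],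
  [3, 2, 4, 3, 5, 4, 3, 6, 5, 4, 3, 2, 7, 6, 5, 4, 3, 5, 4, 5, 4],
  [3, 2, 4, 3, 5, 4, 3, 6, 5, 4, 3, 2, 7, 6, 5, 4, 3, 5, 4, 5, 6],
  [3, 2, 4, 3, 5, 4, 3, 6, 5, 4, 3, 2, 7, 6, 5, 4, 3, 5, 4, 6, 5],
  [3, 2, 4, 3, 5, 4, 3, 6, 5, 4, 3, 2, 7, 6, 5, 4, 3, 5, 4, 6, 7],
  [3, 2, 4, 3, 5, 4, 3, 6, 5, 4, 3, 5, 4, 3, 6, 5, 4, 3, 2, 5, 4],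
  [3, 2, 4, 3, 5, 4, 3, 6, 5, 4, 3, 5, 4, 3, 6, 5, 4, 3, 2, 5, 6],
  [3, 2, 4, 3, 5, 4, 3, 6, 5, 4, 3, 5, 4, 3, 6, 5, 4, 3, 2, 7, 6],
  [3, 2, 4, 3, 5, 4, 3, 6, 5, 4, 3, 5, 4, 3, 6, 5, 4, 3, 5, 4, 5],
  [3, 2, 4, 3, 5, 4, 3, 6, 5, 4, 3, 5, 4, 3, 6, 5, 4, 3, 5, 4, 6],
  [3, 2, 4, 3, 5, 4, 3, 6, 5, 4, 3, 5, 4, 3, 6, 5, 4, 3, 5, 6, 7],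
  [3, 2, 4, 3, 5, 4, 3, 6, 5, 4, 3, 5, 4, 3, 6, 5, 4, 3, 7, 6, 5],
  [3, 2, 4, 3, 5, 4, 3, 6, 5, 4, 3, 5, 4, 3, 6, 5, 4, 7, 6, 5, 4],
  [3, 2, 4, 3, 5, 4, 3, 6, 5, 4, 3, 5, 4, 6, 5, 4, 3, 2, 5, 4, 3],
  [3, 2, 4, 3, 5, 4, 3, 6, 5, 4, 3, 5, 4, 6, 5, 4, 3, 2, 5, 4, 5],
  [3, 2, 4, 3, 5, 4, 3, 6, 5, 4, 3, 5, 4, 6, 5, 4, 3, 2, 5, 4, 6],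
  [3, 2, 4, 3, 5, 4, 3, 6, 5, 4, 3, 5, 4, 6, 5, 4, 3, 2, 5, 6, 7],
  [3, 2, 4, 3, 5, 4, 3, 6, 5, 4, 3, 5, 4, 6, 5, 4, 3, 2, 7, 6, 5],
  [3, 2, 4, 3, 5, 4, 3, 6, 5, 4, 3, 5, 4, 6, 5, 4, 3, 5, 4, 5, 4],
  [3, 2, 4, 3, 5, 4, 3, 6, 5, 4, 3, 5, 4, 6, 5, 4, 3, 5, 4, 6, 7],
  [3, 2, 4, 3, 5, 4, 3, 6, 5, 4, 3, 5, 4, 6, 5, 4, 3, 7, 6, 5, 4],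
  [3, 2, 4, 3, 5, 4, 3, 6, 5, 4, 3, 5, 4, 6, 5, 4, 7, 6, 5, 4, 3],
  [3, 2, 4, 3, 5, 4, 3, 6, 5, 4, 3, 5, 4, 6, 5, 4, 7, 6, 5, 4, 5],
  [3, 2, 4, 3, 5, 4, 3, 6, 5, 4, 3, 5, 4, 6, 5, 7, 6, 5, 4, 3, 2],
  [3, 2, 4, 3, 5, 4, 3, 6, 5, 4, 3, 5, 4, 6, 5, 7, 6, 5, 4, 3, 5],
  [3, 2, 4, 3, 5, 4, 3, 6, 5, 4, 3, 5, 4, 7, 6, 5, 4, 3, 2, 5, 4],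
  [3, 2, 4, 3, 5, 4, 3, 6, 5, 4, 3, 5, 4, 7, 6, 5, 4, 3, 2, 5, 6],
  [3, 2, 4, 3, 5, 4, 3, 6, 5, 4, 3, 5, 4, 7, 6, 5, 4, 3, 5, 4, 5],
  [3, 2, 4, 3, 5, 4, 3, 6, 5, 4, 3, 5, 4, 7, 6, 5, 4, 3, 5, 4, 6],
  [3, 2, 4, 3, 5, 4, 3, 6, 5, 4, 3, 5, 4, 7, 6, 5, 4, 3, 5, 6, 7],
  [3, 2, 4, 3, 5, 4, 3, 6, 5, 4, 3, 5, 7, 6, 5, 4, 3, 2, 5, 6, 7],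
  [3, 2, 4, 3, 5, 4, 3, 6, 5, 4, 3, 5, 7, 6, 5, 4, 3, 5, 4, 3, 2],
  [3, 2, 4, 3, 5, 4, 3, 6, 5, 4, 3, 5, 7, 6, 5, 4, 3, 5, 4, 3, 6],
  [3, 2, 4, 3, 5, 4, 3, 6, 5, 4, 3, 5, 7, 6, 5, 4, 3, 5, 4, 6, 5],
  [3, 2, 4, 3, 5, 4, 3, 6, 5, 4, 3, 5, 7, 6, 5, 4, 3, 5, 4, 6, 7],
  [3, 2, 4, 3, 5, 4, 3, 6, 5, 4, 3, 5, 7, 6, 5, 4, 5, 4, 3, 2, 6],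
  [3, 2, 4, 3, 5, 4, 3, 6, 5, 4, 3, 5, 7, 6, 5, 4, 5, 4, 3, 6, 5],
  [3, 2, 4, 3, 5, 4, 3, 6, 5, 4, 3, 5, 7, 6, 5, 4, 5, 4, 3, 6, 7],
  [3, 2, 4, 3, 5, 4, 3, 6, 5, 4, 3, 5, 7, 6, 5, 4, 5, 4, 6, 5, 4],
  [3, 2, 4, 3, 5, 4, 3, 6, 5, 4, 3, 5, 7, 6, 5, 4, 5, 4, 6, 5, 7],
  [3, 2, 4, 3, 5, 4, 3, 6, 5, 4, 3, 7, 6, 5, 4, 3, 2, 5, 4, 3, 6],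
  [3, 2, 4, 3, 5, 4, 3, 6, 5, 4, 3, 7, 6, 5, 4, 3, 2, 5, 4, 6, 5],
  [3, 2, 4, 3, 5, 4, 3, 6, 5, 4, 3, 7, 6, 5, 4, 3, 2, 5, 4, 6, 7],
  [3, 2, 4, 3, 5, 4, 3, 6, 5, 4, 3, 7, 6, 5, 4, 3, 5, 4, 3, 2, 6],
  [3, 2, 4, 3, 5, 4, 3, 6, 5, 4, 3, 7, 6, 5, 4, 3, 5, 4, 3, 5, 6],
  [3, 2, 4, 3, 5, 4, 3, 6, 5, 4, 3, 7, 6, 5, 4, 3, 5, 4, 3, 6, 5],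
  [3, 2, 4, 3, 5, 4, 3, 6, 5, 4, 3, 7, 6, 5, 4, 3, 5, 4, 3, 6, 7],
  [3, 2, 4, 3, 5, 4, 3, 6, 5, 4, 3, 7, 6, 5, 4, 3, 5, 4, 5, 6, 5],
  [3, 2, 4, 3, 5, 4, 3, 6, 5, 4, 3, 7, 6, 5, 4, 3, 5, 4, 5, 6, 7],
  [3, 2, 4, 3, 5, 4, 3, 6, 5, 4, 3, 7, 6, 5, 4, 3, 5, 4, 6, 5, 4],
  [3, 2, 4, 3, 5, 4, 3, 6, 5, 4, 3, 7, 6, 5, 4, 3, 5, 4, 6, 5, 7],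
  [3, 2, 4, 3, 5, 4, 3, 6, 5, 4, 3, 7, 6, 5, 4, 5, 4, 6, 5, 4, 5],
  [3, 2, 4, 3, 5, 4, 3, 6, 5, 4, 5, 4, 3, 6, 5, 4, 5, 4, 3, 2, 6],
  [3, 2, 4, 3, 5, 4, 3, 6, 5, 4, 5, 4, 3, 6, 5, 4, 5, 4, 3, 6, 5],
  [3, 2, 4, 3, 5, 4, 3, 6, 5, 4, 5, 4, 3, 6, 5, 4, 5, 4, 3, 6, 7],
  [3, 2, 4, 3, 5, 4, 3, 6, 5, 4, 5, 4, 3, 6, 5, 4, 5, 4, 6, 5, 4],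
  [3, 2, 4, 3, 5, 4, 3, 6, 5, 4, 7, 6, 5, 4, 3, 2, 5, 4, 3, 6, 5],
  [3, 2, 4, 3, 5, 4, 3, 6, 5, 4, 7, 6, 5, 4, 3, 2, 5, 4, 5, 6, 5],
  [3, 2, 4, 3, 5, 4, 3, 6, 5, 4, 7, 6, 5, 4, 3, 2, 5, 4, 5, 6, 7],
  [3, 2, 4, 3, 5, 4, 3, 6, 5, 4, 7, 6, 5, 4, 3, 5, 4, 5, 4, 6, 5],
  [3, 2, 4, 3, 5, 4, 3, 6, 5, 4, 7, 6, 5, 4, 3, 5, 4, 5, 4, 6, 7],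
  [3, 2, 4, 3, 5, 4, 3, 6, 5, 4, 7, 6, 5, 4, 3, 5, 4, 5, 6, 5, 4],
  [3, 2, 4, 3, 5, 4, 3, 6, 5, 4, 7, 6, 5, 4, 3, 5, 4, 5, 6, 5, 7],
  [3, 2, 4, 3, 5, 4, 3, 6, 5, 4, 7, 6, 5, 4, 3, 5, 4, 6, 5, 4, 3],
  [3, 2, 4, 3, 5, 4, 5, 6, 5, 4, 3, 2, 5, 4, 3, 2, 6, 5, 4, 5, 6],
  [3, 2, 4, 3, 5, 4, 5, 6, 5, 4, 3, 2, 5, 4, 3, 5, 6, 5, 4, 5, 4],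
  [3, 2, 4, 3, 5, 4, 5, 6, 5, 4, 3, 2, 5, 4, 3, 5, 6, 5, 4, 5, 6],
  [3, 2, 4, 3, 5, 4, 5, 6, 5, 4, 3, 2, 5, 4, 3, 6, 5, 4, 5, 4, 6],
  [3, 2, 4, 3, 5, 4, 5, 6, 5, 4, 3, 2, 5, 4, 3, 6, 5, 4, 5, 6, 7],
  [3, 2, 4, 3, 5, 4, 5, 6, 5, 4, 3, 5, 4, 3, 5, 6, 5, 4, 3, 2, 5],
  [3, 2, 4, 3, 5, 4, 5, 6, 5, 4, 3, 5, 4, 3, 5, 6, 5, 4, 3, 2, 7],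
  [3, 2, 4, 3, 5, 4, 5, 6, 5, 4, 3, 5, 4, 3, 5, 6, 5, 4, 3, 5, 4],
  [3, 2, 4, 3, 5, 4, 5, 6, 5, 4, 3, 5, 4, 5, 4, 3, 6, 5, 4, 3, 2],
  [3, 2, 4, 3, 5, 4, 5, 6, 5, 4, 3, 5, 4, 5, 4, 3, 6, 5, 4, 3, 5],
  [3, 2, 4, 3, 5, 4, 5, 6, 5, 4, 3, 5, 4, 5, 4, 3, 6, 5, 4, 3, 7],
  [3, 2, 4, 3, 5, 4, 5, 6, 5, 4, 3, 5, 4, 5, 4, 3, 6, 5, 4, 5, 4],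
  [3, 2, 4, 3, 5, 4, 5, 6, 5, 4, 3, 5, 4, 5, 4, 3, 6, 5, 4, 5, 6],
  [3, 2, 4, 3, 5, 4, 5, 6, 5, 4, 3, 5, 4, 5, 4, 3, 6, 5, 4, 7, 6],
  [3, 2, 4, 3, 5, 4, 5, 6, 5, 4, 3, 5, 4, 5, 4, 6, 5, 4, 3, 2, 5],
  [3, 2, 4, 3, 5, 4, 5, 6, 5, 4, 3, 5, 4, 5, 4, 6, 5, 4, 3, 2, 7],
  [3, 2, 4, 3, 5, 4, 5, 6, 5, 4, 3, 5, 4, 5, 4, 6, 5, 4, 3, 5, 4],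
  [3, 2, 4, 3, 5, 4, 5, 6, 5, 4, 3, 5, 4, 5, 4, 6, 5, 4, 3, 5, 6],
  [3, 2, 4, 3, 5, 4, 5, 6, 5, 4, 3, 5, 4, 5, 4, 6, 5, 4, 3, 7, 6],
  [3, 2, 4, 3, 5, 4, 5, 6, 5, 4, 3, 5, 4, 5, 6, 5, 4, 3, 2, 5, 4],
  [3, 2, 4, 3, 5, 4, 5, 6, 5, 4, 3, 5, 4, 5, 6, 5, 4, 3, 2, 5, 7],
  [3, 2, 4, 3, 5, 4, 5, 6, 5, 4, 3, 5, 4, 5, 6, 5, 4, 3, 5, 4, 3],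
  [3, 2, 4, 3, 5, 4, 5, 6, 5, 4, 3, 5, 4, 5, 6, 5, 4, 3, 5, 4, 5],
  [3, 2, 4, 3, 5, 4, 5, 6, 5, 4, 3, 5, 4, 5, 6, 5, 4, 3, 5, 4, 7],
  [3, 2, 4, 3, 5, 4, 5, 6, 5, 4, 3, 5, 4, 5, 6, 5, 4, 3, 5, 7, 6],
  [3, 2, 4, 3, 5, 4, 5, 6, 5, 4, 3, 5, 4, 5, 6, 5, 4, 5, 4, 3, 2],
  [3, 2, 4, 5, 4, 3, 2, 6, 5, 4, 3, 5, 4, 5, 6, 5, 4, 3, 2, 5, 4],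
  [3, 2, 4, 5, 4, 3, 2, 6, 5, 4, 3, 5, 4, 5, 6, 5, 4, 3, 2, 5, 6],
  [3, 2, 4, 5, 4, 3, 2, 6, 5, 4, 3, 5, 4, 5, 6, 5, 4, 3, 2, 7, 6],
  [3, 2, 4, 5, 4, 3, 2, 6, 5, 4, 3, 5, 4, 5, 6, 5, 4, 3, 5, 4, 5],
  [3, 2, 4, 5, 4, 3, 2, 6, 5, 4, 3, 5, 4, 5, 6, 5, 4, 3, 5, 4, 6],
  [3, 2, 4, 5, 4, 3, 2, 6, 5, 4, 3, 5, 4, 5, 6, 5, 4, 3, 5, 6, 7],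
  [3, 2, 4, 5, 4, 3, 2, 6, 5, 4, 3, 5, 4, 5, 6, 5, 4, 3, 7, 6, 5],
  [3, 2, 4, 5, 4, 3, 2, 6, 5, 4, 3, 5, 4, 5, 6, 5, 4, 7, 6, 5, 4],
  [3, 2, 4, 5, 4, 3, 2, 6, 5, 4, 3, 5, 4, 6, 5, 4, 3, 2, 5, 4, 5],
  [3, 2, 4, 5, 4, 3, 2, 6, 5, 4, 3, 5, 4, 6, 5, 4, 3, 2, 5, 4, 6],
  [3, 2, 4, 5, 4, 3, 2, 6, 5, 4, 3, 5, 4, 6, 5, 4, 3, 2, 5, 6, 7],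
  [3, 2, 4, 5, 4, 3, 2, 6, 5, 4, 3, 5, 4, 6, 5, 4, 3, 2, 7, 6, 5],
  [3, 2, 4, 5, 4, 3, 2, 6, 5, 4, 3, 5, 4, 6, 5, 4, 3, 5, 4, 5, 4],
  [3, 2, 4, 5, 4, 3, 2, 6, 5, 4, 3, 5, 4, 6, 5, 4, 3, 5, 4, 5, 6],
  [3, 2, 4, 5, 4, 3, 2, 6, 5, 4, 3, 5, 4, 6, 5, 4, 3, 5, 4, 6, 5],
  [3, 2, 4, 5, 4, 3, 2, 6, 5, 4, 3, 5, 4, 6, 5, 4, 3, 7, 6, 5, 4],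
  [3, 2, 4, 5, 4, 3, 2, 6, 5, 4, 3, 5, 4, 6, 5, 4, 7, 6, 5, 4, 3],
  [3, 2, 4, 5, 4, 3, 2, 6, 5, 4, 3, 5, 4, 6, 5, 4, 7, 6, 5, 4, 5],
  [3, 2, 4, 5, 4, 3, 6, 5, 4, 3, 5, 4, 3, 2, 6, 5, 4, 3, 2, 5, 6],
  [3, 2, 4, 5, 4, 3, 6, 5, 4, 3, 5, 4, 3, 2, 6, 5, 4, 3, 2, 7, 6],
  [3, 2, 4, 5, 4, 3, 6, 5, 4, 3, 5, 4, 3, 2, 6, 5, 4, 3, 5, 6, 7],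
  [3, 2, 4, 5, 4, 3, 6, 5, 4, 3, 5, 4, 3, 2, 6, 5, 4, 3, 7, 6, 5],
  [3, 2, 4, 5, 4, 3, 6, 5, 4, 3, 5, 4, 3, 2, 6, 5, 4, 7, 6, 5, 4],
  [3, 2, 4, 5, 4, 3, 6, 5, 4, 3, 5, 4, 3, 6, 5, 4, 3, 2, 5, 4, 3],
  [3, 2, 4, 5, 4, 3, 6, 5, 4, 3, 5, 4, 3, 6, 5, 4, 3, 2, 5, 4, 6],
  [3, 2, 4, 5, 4, 3, 6, 5, 4, 3, 5, 4, 3, 6, 5, 4, 3, 2, 5, 4, 7],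
  [3, 2, 4, 5, 4, 3, 6, 5, 4, 3, 5, 4, 3, 6, 5, 4, 3, 2, 5, 6, 7],
  [3, 2, 4, 5, 4, 3, 6, 5, 4, 3, 5, 4, 3, 6, 5, 4, 3, 2, 5, 7, 6],
  [3, 2, 4, 5, 4, 3, 6, 5, 4, 3, 5, 4, 3, 6, 5, 4, 3, 2, 7, 6, 5],
  [3, 2, 4, 5, 4, 3, 6, 5, 4, 3, 5, 4, 3, 6, 5, 4, 3, 5, 4, 3, 5],
  [3, 2, 4, 5, 4, 3, 6, 5, 4, 3, 5, 4, 3, 6, 5, 4, 3, 5, 4, 3, 6],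
  [3, 2, 4, 5, 4, 3, 6, 5, 4, 3, 5, 4, 3, 6, 5, 4, 3, 5, 4, 5, 6],
  [3, 2, 4, 5, 4, 3, 6, 5, 4, 3, 5, 4, 3, 6, 5, 4, 3, 5, 4, 5, 7],
  [3, 2, 4, 5, 4, 3, 6, 5, 4, 3, 5, 4, 3, 6, 5, 4, 3, 5, 4, 6, 5],
  [3, 2, 4, 5, 4, 3, 6, 5, 4, 3, 5, 4, 3, 6, 5, 4, 3, 5, 4, 6, 7],
  [3, 2, 4, 5, 4, 3, 6, 5, 4, 3, 5, 4, 3, 6, 5, 4, 3, 5, 4, 7, 6],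
  [3, 2, 4, 5, 4, 3, 6, 5, 4, 3, 5, 4, 3, 6, 5, 4, 3, 5, 6, 7, 6],
  [3, 2, 4, 5, 4, 3, 6, 5, 4, 3, 5, 4, 3, 6, 5, 4, 3, 5, 7, 6, 5],
  [3, 2, 4, 5, 4, 3, 6, 5, 4, 3, 5, 4, 3, 6, 5, 4, 3, 7, 6, 5, 4],
  [3, 2, 4, 5, 4, 3, 6, 5, 4, 3, 5, 4, 3, 6, 5, 4, 5, 4, 3, 6, 5],
  [3, 2, 4, 5, 4, 3, 6, 5, 4, 3, 5, 4, 3, 6, 5, 4, 5, 4, 3, 6, 7],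
  [3, 2, 4, 5, 4, 3, 6, 5, 4, 3, 5, 4, 3, 6, 5, 4, 5, 4, 6, 5, 7],
  [3, 2, 4, 5, 4, 3, 6, 5, 4, 3, 5, 4, 3, 6, 5, 4, 5, 6, 7, 6, 5],
  [3, 2, 4, 5, 4, 3, 6, 5, 4, 3, 5, 4, 3, 6, 5, 4, 5, 7, 6, 5, 4],
  [3, 2, 4, 5, 4, 3, 6, 5, 4, 3, 5, 4, 3, 6, 5, 4, 7, 6, 5, 4, 3],
  [3, 2, 4, 5, 4, 3, 6, 5, 4, 3, 5, 4, 3, 6, 5, 4, 7, 6, 5, 4, 5],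
  [3, 2, 4, 5, 4, 3, 6, 5, 4, 3, 5, 4, 6, 5, 4, 3, 2, 5, 4, 3, 5],
  [3, 2, 4, 5, 4, 3, 6, 5, 4, 3, 5, 4, 6, 5, 4, 3, 2, 5, 4, 3, 6],
  [3, 2, 4, 5, 4, 3, 6, 5, 4, 3, 5, 4, 6, 5, 4, 3, 2, 5, 4, 5, 6],
  [3, 2, 4, 5, 4, 3, 6, 5, 4, 3, 5, 4, 6, 5, 4, 3, 2, 5, 4, 6, 5],
  [3, 2, 4, 5, 4, 3, 6, 5, 4, 3, 5, 4, 6, 5, 4, 3, 5, 4, 5, 4, 6],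
  [3, 2, 4, 5, 4, 3, 6, 5, 4, 3, 5, 4, 6, 5, 4, 3, 5, 4, 5, 6, 5],
  [3, 2, 4, 5, 4, 3, 6, 5, 4, 3, 5, 4, 6, 5, 4, 3, 5, 4, 5, 6, 7],
  [3, 2, 4, 5, 4, 3, 6, 5, 4, 3, 5, 4, 6, 5, 4, 3, 5, 4, 6, 5, 4],
  [3, 2, 4, 5, 4, 3, 6, 5, 4, 5, 4, 3, 2, 6, 5, 4, 3, 2, 5, 4, 5],
  [3, 2, 4, 5, 4, 3, 6, 5, 4, 5, 4, 3, 2, 6, 5, 4, 3, 2, 5, 4, 6],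
  [3, 2, 4, 5, 4, 3, 6, 5, 4, 5, 4, 3, 2, 6, 5, 4, 3, 2, 5, 6, 7],
  [3, 2, 4, 5, 4, 3, 6, 5, 4, 5, 4, 3, 2, 6, 5, 4, 3, 5, 4, 5, 4],
  [3, 2, 4, 5, 4, 3, 6, 5, 4, 5, 4, 3, 2, 6, 5, 4, 3, 5, 4, 5, 6],
  [3, 2, 4, 5, 4, 3, 6, 5, 4, 5, 4, 3, 2, 6, 5, 4, 3, 5, 4, 6, 5],
  [3, 2, 4, 5, 4, 3, 6, 5, 4, 5, 4, 3, 2, 6, 5, 4, 3, 5, 4, 6, 7],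
  [3, 2, 4, 5, 4, 3, 6, 5, 4, 5, 4, 3, 2, 6, 5, 4, 3, 7, 6, 5, 4],
  [3, 2, 4, 5, 4, 3, 6, 5, 4, 5, 4, 3, 6, 5, 4, 3, 5, 4, 3, 2, 6],
  [3, 2, 4, 5, 4, 3, 6, 5, 4, 5, 4, 3, 6, 5, 4, 3, 5, 4, 3, 6, 5],
  [3, 2, 4, 5, 4, 3, 6, 5, 4, 5, 4, 3, 6, 5, 4, 3, 5, 4, 3, 6, 7],
  [3, 2, 4, 5, 4, 3, 6, 5, 4, 5, 4, 3, 6, 5, 4, 3, 5, 4, 6, 5, 4],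
  [3, 2, 4, 5, 4, 3, 6, 5, 4, 5, 4, 3, 6, 5, 4, 3, 5, 4, 6, 5, 7],
  [3, 2, 4, 5, 4, 3, 6, 5, 4, 5, 4, 3, 6, 5, 4, 5, 4, 3, 2, 6, 5],
  [3, 2, 4, 5, 4, 3, 6, 5, 4, 5, 4, 3, 6, 5, 4, 5, 4, 3, 2, 6, 7],
  [3, 2, 4, 5, 4, 3, 6, 5, 4, 5, 4, 3, 6, 5, 4, 5, 4, 3, 6, 5, 4],
  [3, 2, 4, 5, 4, 3, 6, 5, 4, 5, 4, 3, 6, 5, 4, 5, 4, 3, 6, 5, 7],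
  [3, 2, 4, 5, 4, 3, 6, 5, 4, 5, 4, 3, 6, 5, 4, 5, 4, 6, 5, 4, 3],
  [3, 2, 4, 5, 4, 3, 6, 5, 4, 5, 4, 3, 6, 5, 4, 5, 4, 6, 5, 4, 5],
  [3, 2, 4, 5, 4, 3, 6, 5, 4, 5, 4, 3, 6, 5, 4, 5, 4, 6, 5, 4, 7],
  [3, 2, 4, 5, 4, 3, 6, 5, 4, 5, 4, 3, 6, 5, 4, 5, 4, 6, 5, 7, 6],
  [3, 2, 4, 5, 4, 3, 6, 5, 4, 5, 4, 3, 6, 5, 4, 5, 6, 7, 6, 5, 4],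
  [3, 2, 4, 5, 4, 3, 6, 5, 4, 5, 4, 3, 6, 5, 4, 5, 7, 6, 5, 4, 3],
  [3, 2, 4, 5, 4, 3, 6, 5, 4, 5, 4, 3, 6, 5, 4, 5, 7, 6, 5, 4, 5],
  [3, 2, 4, 5, 4, 3, 6, 5, 4, 5, 4, 3, 6, 5, 4, 7, 6, 5, 4, 3, 2],
  [3, 2, 4, 5, 4, 3, 6, 5, 4, 5, 7, 6, 5, 4, 3, 2, 5, 4, 3, 5, 4],
  [3, 2, 4, 5, 4, 3, 6, 5, 4, 5, 7, 6, 5, 4, 3, 2, 5, 4, 3, 5, 6],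
  [3, 2, 4, 5, 4, 3, 6, 5, 4, 5, 7, 6, 5, 4, 3, 2, 5, 4, 5, 6, 7],
  [3, 2, 4, 5, 4, 3, 6, 5, 4, 5, 7, 6, 5, 4, 3, 5, 4, 5, 4, 3, 2],
  [3, 2, 4, 5, 4, 3, 6, 5, 4, 5, 7, 6, 5, 4, 3, 5, 4, 5, 4, 3, 6],
  [3, 2, 4, 5, 4, 3, 6, 5, 4, 5, 7, 6, 5, 4, 3, 5, 4, 5, 4, 6, 5],
  [3, 2, 4, 5, 4, 3, 6, 5, 4, 5, 7, 6, 5, 4, 3, 5, 4, 5, 4, 6, 7],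
  [3, 4, 5, 4, 3, 2, 6, 5, 4, 3, 2, 5, 4, 3, 6, 5, 4, 3, 2, 5, 6],
  [3, 4, 5, 4, 3, 2, 6, 5, 4, 3, 2, 5, 4, 3, 6, 5, 4, 3, 5, 4, 3],
  [3, 4, 5, 4, 3, 2, 6, 5, 4, 3, 2, 5, 4, 3, 6, 5, 4, 3, 5, 4, 6],
  [3, 4, 5, 4, 3, 2, 6, 5, 4, 3, 2, 5, 4, 3, 6, 5, 4, 3, 5, 6, 7],
  [3, 4, 5, 4, 3, 2, 6, 5, 4, 3, 2, 5, 4, 3, 6, 5, 4, 5, 4, 3, 6],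
  [3, 4, 5, 4, 3, 2, 6, 5, 4, 3, 2, 5, 4, 3, 6, 5, 4, 5, 4, 6, 5],
  [3, 4, 5, 4, 3, 2, 6, 5, 4, 3, 2, 5, 4, 3, 6, 5, 4, 5, 4, 6, 7],
  [3, 4, 5, 4, 3, 2, 6, 5, 4, 3, 2, 5, 4, 3, 6, 5, 4, 5, 6, 7, 6],
  [3, 4, 5, 4, 3, 2, 6, 5, 4, 3, 2, 5, 4, 3, 6, 5, 4, 5, 7, 6, 5],
  [3, 4, 5, 4, 3, 2, 6, 5, 4, 3, 2, 5, 4, 5, 6, 5, 4, 3, 2, 5, 4],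
  [3, 4, 5, 4, 3, 2, 6, 5, 4, 3, 2, 5, 4, 5, 6, 5, 4, 3, 2, 5, 7],
  [3, 4, 5, 4, 3, 2, 6, 5, 4, 3, 2, 5, 4, 5, 6, 5, 4, 3, 5, 4, 3],
  [3, 4, 5, 4, 3, 2, 6, 5, 4, 3, 2, 5, 4, 5, 6, 5, 4, 3, 5, 4, 5],
  [3, 4, 5, 4, 3, 2, 6, 5, 4, 3, 2, 5, 4, 5, 6, 5, 4, 3, 5, 4, 7],
  [3, 4, 5, 4, 3, 2, 6, 5, 4, 3, 2, 5, 4, 5, 6, 5, 4, 3, 5, 7, 6],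
  [3, 4, 5, 4, 3, 2, 6, 5, 4, 3, 2, 5, 4, 5, 6, 5, 4, 5, 4, 3, 2],
  [3, 4, 5, 4, 3, 2, 6, 5, 4, 3, 5, 4, 5, 4, 6, 5, 4, 3, 2, 5, 4],
  [3, 4, 5, 4, 3, 2, 6, 5, 4, 3, 5, 4, 5, 4, 6, 5, 4, 3, 2, 5, 6]]
def ows1c14 : List (List Nat) := [[3, 4, 5, 4, 3, 2, 6, 5, 4, 3, 5, 4, 5, 4, 6, 5, 4, 3, 2, 7, 6],
  [3, 4, 5, 4, 3, 2, 6, 5, 4, 3, 5, 4, 5, 4, 6, 5, 4, 3, 5, 4, 5],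
  [3, 4, 5, 4, 3, 2, 6, 5, 4, 3, 5, 4, 5, 4, 6, 5, 4, 3, 5, 4, 6],
  [3, 4, 5, 4, 3, 2, 6, 5, 4, 3, 5, 4, 5, 4, 6, 5, 4, 3, 5, 6, 7],
  [3, 4, 5, 4, 3, 2, 6, 5, 4, 3, 5, 4, 5, 4, 6, 5, 4, 3, 7, 6, 5],
  [3, 4, 5, 4, 3, 2, 6, 5, 4, 3, 5, 4, 5, 6, 5, 4, 3, 2, 5, 4, 3],
  [3, 4, 5, 4, 3, 2, 6, 5, 4, 3, 5, 4, 5, 6, 5, 4, 3, 2, 5, 4, 6],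
  [3, 4, 5, 4, 3, 2, 6, 5, 4, 3, 5, 4, 5, 6, 5, 4, 3, 2, 5, 4, 7],
  [3, 4, 5, 4, 3, 2, 6, 5, 4, 3, 5, 4, 5, 6, 5, 4, 3, 2, 5, 6, 7],
  [3, 4, 5, 4, 3, 2, 6, 5, 4, 3, 5, 4, 5, 6, 5, 4, 3, 2, 5, 7, 6],
  [3, 4, 5, 4, 3, 2, 6, 5, 4, 3, 5, 4, 5, 6, 5, 4, 3, 2, 7, 6, 5],
  [3, 4, 5, 4, 3, 2, 6, 5, 4, 3, 5, 4, 5, 6, 5, 4, 3, 5, 4, 3, 2],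
  [3, 4, 5, 4, 3, 2, 6, 5, 4, 3, 5, 4, 5, 6, 5, 4, 3, 5, 4, 3, 5],
  [3, 4, 5, 4, 3, 2, 6, 5, 4, 3, 5, 4, 5, 6, 5, 4, 3, 5, 4, 3, 6],
  [3, 4, 5, 4, 3, 2, 6, 5, 4, 3, 5, 4, 5, 6, 5, 4, 3, 5, 4, 5, 6],
  [3, 4, 5, 4, 3, 2, 6, 5, 4, 3, 5, 4, 5, 6, 5, 4, 3, 5, 4, 5, 7],
  [3, 4, 5, 4, 3, 2, 6, 5, 4, 3, 5, 4, 5, 6, 5, 4, 3, 5, 4, 6, 5],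
  [3, 4, 5, 4, 3, 2, 6, 5, 4, 3, 5, 4, 5, 6, 5, 4, 3, 5, 4, 6, 7],
  [3, 4, 5, 4, 3, 2, 6, 5, 4, 3, 5, 4, 5, 6, 5, 4, 3, 5, 4, 7, 6],
  [3, 4, 5, 4, 3, 2, 6, 5, 4, 3, 5, 4, 5, 6, 5, 4, 3, 5, 6, 7, 6],
  [3, 4, 5, 4, 3, 2, 6, 5, 4, 3, 5, 4, 5, 6, 5, 4, 3, 5, 7, 6, 5],
  [3, 4, 5, 4, 3, 2, 6, 5, 4, 3, 5, 4, 5, 6, 5, 4, 3, 7, 6, 5, 4],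
  [3, 4, 5, 4, 3, 2, 6, 5, 4, 3, 5, 4, 5, 6, 5, 4, 5, 4, 3, 2, 6],
  [3, 4, 5, 4, 3, 2, 6, 5, 4, 3, 5, 4, 5, 6, 5, 4, 5, 4, 3, 6, 5],
  [3, 4, 5, 4, 3, 2, 6, 5, 4, 3, 5, 4, 5, 6, 5, 4, 5, 4, 3, 6, 7],
  [3, 4, 5, 4, 3, 2, 6, 5, 4, 3, 5, 4, 5, 6, 5, 4, 7, 6, 5, 4, 3],
  [3, 4, 5, 4, 3, 2, 6, 5, 4, 3, 5, 4, 6, 5, 4, 3, 2, 5, 4, 5, 6],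
  [3, 4, 5, 4, 3, 2, 6, 5, 4, 3, 5, 4, 6, 5, 4, 3, 5, 4, 5, 4, 6],
  [3, 4, 5, 4, 3, 2, 6, 5, 4, 3, 5, 4, 6, 5, 4, 3, 7, 6, 5, 4, 3],
  [3, 4, 5, 4, 3, 2, 6, 5, 4, 3, 5, 4, 6, 5, 4, 3, 7, 6, 5, 4, 5],
  [3, 4, 5, 4, 3, 2, 6, 5, 4, 3, 5, 4, 6, 5, 4, 7, 6, 5, 4, 3, 2],
  [3, 4, 5, 4, 3, 2, 6, 5, 4, 3, 5, 4, 6, 5, 4, 7, 6, 5, 4, 3, 5],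
  [3, 4, 5, 4, 3, 2, 6, 5, 4, 3, 7, 6, 5, 4, 3, 5, 4, 6, 5, 4, 3],
  [3, 4, 5, 4, 3, 2, 6, 5, 4, 3, 7, 6, 5, 4, 3, 5, 4, 6, 5, 4, 5],
  [3, 4, 5, 4, 3, 2, 6, 5, 4, 3, 7, 6, 5, 4, 3, 5, 4, 6, 5, 4, 7],
  [3, 4, 5, 4, 3, 2, 6, 5, 4, 3, 7, 6, 5, 4, 3, 5, 4, 6, 5, 7, 6],
  [3, 4, 5, 4, 3, 6, 5, 4, 3, 2, 5, 4, 3, 2, 6, 5, 4, 3, 2, 5, 4],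
  [3, 4, 5, 4, 3, 6, 5, 4, 3, 2, 5, 4, 3, 2, 6, 5, 4, 3, 2, 5, 6],
  [3, 4, 5, 4, 3, 6, 5, 4, 3, 2, 5, 4, 3, 2, 6, 5, 4, 3, 5, 4, 5],
  [3, 4, 5, 4, 3, 6, 5, 4, 3, 2, 5, 4, 3, 2, 6, 5, 4, 3, 5, 4, 6],
  [3, 4, 5, 4, 3, 6, 5, 4, 3, 2, 5, 4, 3, 2, 6, 5, 4, 3, 5, 6, 7],
  [3, 4, 5, 4, 3, 6, 5, 4, 3, 2, 5, 4, 3, 2, 6, 5, 4, 3, 7, 6, 5],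
  [3, 4, 5, 4, 3, 6, 5, 4, 3, 2, 5, 4, 3, 2, 6, 5, 4, 7, 6, 5, 4],
  [3, 4, 5, 4, 3, 6, 5, 4, 3, 2, 5, 4, 3, 6, 5, 4, 3, 2, 5, 6, 7],
  [3, 4, 5, 4, 3, 6, 5, 4, 3, 2, 5, 4, 3, 6, 5, 4, 3, 5, 4, 3, 2],
  [3, 4, 5, 4, 3, 6, 5, 4, 3, 2, 5, 4, 3, 6, 5, 4, 3, 5, 4, 3, 6],
  [3, 4, 5, 4, 3, 6, 5, 4, 3, 2, 5, 4, 3, 6, 5, 4, 3, 5, 4, 6, 5],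
  [3, 4, 5, 4, 3, 6, 5, 4, 3, 2, 5, 4, 3, 6, 5, 4, 3, 5, 4, 6, 7],
  [3, 4, 5, 4, 3, 6, 5, 4, 3, 2, 5, 4, 3, 6, 5, 4, 5, 4, 3, 2, 6],
  [3, 4, 5, 4, 3, 6, 5, 4, 3, 2, 5, 4, 3, 6, 5, 4, 5, 4, 3, 6, 5],
  [3, 4, 5, 4, 3, 6, 5, 4, 3, 2, 5, 4, 3, 6, 5, 4, 5, 4, 3, 6, 7],
  [3, 4, 5, 4, 3, 6, 5, 4, 3, 2, 5, 4, 3, 6, 5, 4, 5, 4, 6, 5, 4],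
  [3, 4, 5, 4, 3, 6, 5, 4, 3, 2, 5, 4, 3, 6, 5, 4, 5, 4, 6, 5, 7],
  [3, 4, 5, 4, 3, 6, 5, 4, 3, 2, 5, 4, 3, 6, 5, 4, 5, 6, 7, 6, 5],
  [3, 4, 5, 4, 3, 6, 5, 4, 3, 2, 5, 4, 3, 6, 5, 4, 5, 7, 6, 5, 4],
  [3, 4, 5, 4, 3, 6, 5, 4, 3, 2, 5, 4, 3, 6, 5, 4, 7, 6, 5, 4, 3],
  [3, 4, 5, 4, 3, 6, 5, 4, 3, 2, 5, 4, 3, 6, 5, 4, 7, 6, 5, 4, 5],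
  [3, 4, 5, 4, 3, 6, 5, 4, 3, 2, 5, 4, 3, 6, 5, 7, 6, 5, 4, 3, 2],
  [3, 4, 5, 4, 3, 6, 5, 4, 3, 2, 5, 4, 3, 6, 5, 7, 6, 5, 4, 3, 5],
  [3, 4, 5, 4, 3, 6, 5, 4, 3, 2, 5, 4, 3, 6, 5, 7, 6, 5, 4, 5, 4],
  [3, 4, 5, 4, 3, 6, 5, 4, 3, 2, 5, 4, 3, 7, 6, 5, 4, 3, 2, 5, 4],
  [3, 4, 5, 4, 3, 6, 5, 4, 3, 2, 5, 4, 3, 7, 6, 5, 4, 3, 2, 5, 6],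
  [3, 4, 5, 4, 3, 6, 5, 4, 3, 2, 5, 4, 3, 7, 6, 5, 4, 3, 5, 4, 5],
  [3, 4, 5, 4, 3, 6, 5, 4, 3, 2, 5, 4, 3, 7, 6, 5, 4, 3, 5, 4, 6],
  [3, 4, 5, 4, 3, 6, 5, 4, 3, 2, 5, 4, 3, 7, 6, 5, 4, 3, 5, 6, 7],
  [3, 4, 5, 4, 3, 6, 5, 4, 3, 2, 5, 4, 7, 6, 5, 4, 3, 2, 5, 4, 3],
  [3, 4, 5, 4, 3, 6, 5, 4, 3, 2, 5, 4, 7, 6, 5, 4, 3, 2, 5, 4, 5],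
  [3, 4, 5, 4, 3, 6, 5, 4, 3, 2, 5, 4, 7, 6, 5, 4, 3, 2, 5, 4, 6],
  [3, 4, 5, 4, 3, 6, 5, 4, 3, 2, 5, 4, 7, 6, 5, 4, 3, 5, 4, 5, 4],
  [3, 4, 5, 4, 3, 6, 5, 4, 3, 2, 5, 4, 7, 6, 5, 4, 3, 5, 4, 5, 6],
  [3, 4, 5, 4, 3, 6, 5, 4, 3, 2, 5, 4, 7, 6, 5, 4, 3, 5, 4, 6, 5],
  [3, 4, 5, 4, 3, 6, 5, 4, 3, 2, 5, 6, 7, 6, 5, 4, 3, 2, 5, 4, 3],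
  [3, 4, 5, 4, 3, 6, 5, 4, 3, 2, 5, 6, 7, 6, 5, 4, 3, 2, 5, 4, 6],
  [3, 4, 5, 4, 3, 6, 5, 4, 3, 2, 5, 6, 7, 6, 5, 4, 3, 5, 4, 5, 6],
  [3, 4, 5, 4, 3, 6, 5, 4, 3, 2, 5, 6, 7, 6, 5, 4, 3, 5, 4, 6, 5],
  [3, 4, 5, 4, 3, 6, 5, 4, 3, 2, 5, 7, 6, 5, 4, 3, 2, 5, 4, 3, 2],
  [3, 4, 5, 4, 3, 6, 5, 4, 3, 2, 5, 7, 6, 5, 4, 3, 2, 5, 4, 3, 5],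
  [3, 4, 5, 4, 3, 6, 5, 4, 3, 2, 5, 7, 6, 5, 4, 3, 5, 4, 3, 5, 6],
  [3, 4, 5, 4, 3, 6, 5, 4, 3, 2, 5, 7, 6, 5, 4, 3, 5, 4, 5, 4, 3],
  [3, 4, 5, 4, 3, 6, 5, 4, 3, 2, 5, 7, 6, 5, 4, 3, 5, 4, 5, 4, 6],
  [3, 4, 5, 4, 3, 6, 5, 4, 3, 2, 5, 7, 6, 5, 4, 3, 5, 4, 5, 6, 7],
  [3, 4, 5, 4, 3, 6, 5, 4, 3, 5, 4, 3, 2, 5, 6, 5, 4, 3, 2, 5, 6],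
  [3, 4, 5, 4, 3, 6, 5, 4, 3, 5, 4, 3, 2, 5, 6, 5, 4, 3, 5, 4, 6],
  [3, 4, 5, 4, 3, 6, 5, 4, 3, 5, 4, 3, 2, 5, 6, 5, 4, 3, 5, 4, 7],
  [3, 4, 5, 4, 3, 6, 5, 4, 3, 5, 4, 3, 2, 5, 6, 5, 4, 3, 5, 6, 7],
  [3, 4, 5, 4, 3, 6, 5, 4, 3, 5, 4, 3, 2, 5, 6, 5, 4, 3, 7, 6, 5],
  [3, 4, 5, 4, 3, 6, 5, 4, 3, 5, 4, 3, 2, 6, 5, 4, 3, 2, 5, 4, 3],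
  [3, 4, 5, 4, 3, 6, 5, 4, 3, 5, 4, 3, 2, 6, 5, 4, 3, 2, 5, 4, 5],
  [3, 4, 5, 4, 3, 6, 5, 4, 3, 5, 4, 3, 2, 6, 5, 4, 3, 2, 5, 4, 6],
  [3, 4, 5, 4, 3, 6, 5, 4, 3, 5, 4, 3, 2, 6, 5, 4, 3, 2, 5, 6, 7],
  [3, 4, 5, 4, 3, 6, 5, 4, 3, 5, 4, 3, 2, 6, 5, 4, 3, 2, 7, 6, 5],
  [3, 4, 5, 4, 3, 6, 5, 4, 3, 5, 4, 3, 2, 6, 5, 4, 3, 5, 4, 5, 4],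
  [3, 4, 5, 4, 3, 6, 5, 4, 3, 5, 4, 3, 2, 6, 5, 4, 3, 5, 4, 5, 6],
  [3, 4, 5, 4, 3, 6, 5, 4, 3, 5, 4, 3, 2, 6, 5, 4, 3, 5, 4, 6, 5],
  [3, 4, 5, 4, 3, 6, 5, 4, 3, 5, 4, 3, 2, 6, 5, 4, 3, 5, 4, 6, 7],
  [3, 4, 5, 4, 3, 6, 5, 4, 3, 5, 4, 3, 2, 6, 5, 4, 3, 7, 6, 5, 4],
  [3, 4, 5, 4, 3, 6, 5, 4, 3, 5, 4, 3, 2, 6, 5, 4, 7, 6, 5, 4, 3],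
  [3, 4, 5, 4, 3, 6, 5, 4, 3, 5, 4, 3, 5, 6, 5, 4, 3, 2, 5, 6, 7],
  [3, 4, 5, 4, 3, 6, 5, 4, 3, 5, 4, 3, 5, 6, 5, 4, 3, 5, 4, 3, 6],
  [3, 4, 5, 4, 3, 6, 5, 4, 3, 5, 4, 3, 5, 6, 5, 4, 3, 5, 4, 6, 5],
  [3, 4, 5, 4, 3, 6, 5, 4, 3, 5, 4, 3, 5, 6, 5, 4, 3, 5, 4, 6, 7],
  [3, 4, 5, 4, 3, 6, 5, 4, 3, 5, 4, 3, 5, 6, 5, 4, 5, 4, 3, 2, 6],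
  [3, 4, 5, 4, 3, 6, 5, 4, 3, 5, 4, 3, 5, 6, 5, 4, 5, 4, 3, 6, 5],
  [3, 4, 5, 4, 3, 6, 5, 4, 3, 5, 4, 3, 5, 6, 5, 4, 5, 4, 3, 6, 7],
  [3, 4, 5, 4, 3, 6, 5, 4, 3, 5, 4, 3, 6, 5, 4, 3, 2, 5, 4, 3, 2],
  [3, 4, 5, 4, 3, 6, 5, 4, 3, 5, 4, 3, 6, 5, 4, 3, 2, 5, 4, 3, 6],
  [3, 4, 5, 4, 3, 6, 5, 4, 3, 5, 4, 3, 6, 5, 4, 3, 2, 5, 4, 6, 5],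
  [3, 4, 5, 4, 3, 6, 5, 4, 3, 5, 4, 3, 6, 5, 4, 3, 2, 5, 4, 6, 7],
  [3, 4, 5, 4, 3, 6, 5, 4, 3, 5, 4, 3, 6, 5, 4, 3, 2, 5, 4, 7, 6],
  [3, 4, 5, 4, 3, 6, 5, 4, 3, 5, 4, 3, 6, 5, 4, 3, 2, 5, 6, 7, 6],
  [3, 4, 5, 4, 3, 6, 5, 4, 3, 5, 4, 3, 6, 5, 4, 3, 2, 5, 7, 6, 5],
  [3, 4, 5, 4, 3, 6, 5, 4, 3, 5, 4, 3, 6, 5, 4, 3, 2, 7, 6, 5, 4],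
  [3, 4, 5, 4, 3, 6, 5, 4, 3, 5, 4, 3, 6, 5, 4, 3, 5, 4, 3, 2, 6],
  [3, 4, 5, 4, 3, 6, 5, 4, 3, 5, 4, 3, 6, 5, 4, 3, 5, 4, 3, 6, 5],
  [3, 4, 5, 4, 3, 6, 5, 4, 3, 5, 4, 3, 6, 5, 4, 3, 5, 4, 3, 6, 7],
  [3, 4, 5, 4, 3, 6, 5, 4, 3, 5, 4, 3, 6, 5, 4, 3, 5, 4, 5, 6, 5],
  [3, 4, 5, 4, 3, 6, 5, 4, 3, 5, 4, 3, 6, 5, 4, 3, 5, 4, 5, 6, 7],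
  [3, 4, 5, 4, 3, 6, 5, 4, 3, 5, 4, 3, 6, 5, 4, 3, 5, 4, 5, 7, 6],
  [3, 4, 5, 4, 3, 6, 5, 4, 3, 5, 4, 3, 6, 5, 4, 3, 5, 4, 6, 5, 4],
  [3, 4, 5, 4, 3, 6, 5, 4, 3, 5, 4, 3, 6, 5, 4, 3, 5, 4, 6, 5, 7],
  [3, 4, 5, 4, 3, 6, 5, 4, 3, 5, 4, 3, 6, 5, 4, 3, 5, 4, 6, 7, 6],
  [3, 4, 5, 4, 3, 6, 5, 4, 3, 5, 4, 3, 6, 5, 4, 3, 5, 4, 7, 6, 5],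
  [3, 4, 5, 4, 3, 6, 5, 4, 3, 5, 4, 3, 6, 5, 4, 3, 5, 6, 7, 6, 5],
  [3, 4, 5, 4, 3, 6, 5, 4, 3, 5, 4, 3, 6, 5, 4, 3, 5, 7, 6, 5, 4],
  [3, 4, 5, 4, 3, 6, 5, 4, 3, 5, 4, 3, 6, 5, 4, 3, 7, 6, 5, 4, 3],
  [3, 4, 5, 4, 3, 6, 5, 4, 3, 5, 4, 3, 6, 5, 4, 5, 4, 3, 2, 6, 5],
  [3, 4, 5, 4, 3, 6, 5, 4, 3, 5, 4, 3, 6, 5, 4, 5, 4, 3, 6, 5, 4],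
  [3, 4, 5, 4, 3, 6, 5, 4, 3, 5, 4, 3, 6, 5, 4, 5, 4, 3, 6, 5, 7],
  [3, 4, 5, 4, 3, 6, 5, 4, 3, 5, 4, 3, 6, 5, 4, 7, 6, 5, 4, 3, 2],
  [3, 4, 5, 4, 3, 6, 5, 4, 3, 5, 4, 5, 7, 6, 5, 4, 3, 2, 5, 4, 3],
  [3, 4, 5, 4, 3, 6, 5, 4, 3, 5, 4, 5, 7, 6, 5, 4, 3, 2, 5, 4, 5],
  [3, 4, 5, 4, 3, 6, 5, 4, 3, 5, 4, 5, 7, 6, 5, 4, 3, 2, 5, 4, 6],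
  [3, 4, 5, 4, 3, 6, 5, 4, 3, 5, 4, 5, 7, 6, 5, 4, 3, 5, 4, 5, 4],
  [3, 4, 5, 4, 3, 6, 5, 4, 3, 5, 4, 5, 7, 6, 5, 4, 3, 5, 4, 5, 6],
  [3, 4, 5, 4, 3, 6, 5, 4, 3, 5, 4, 5, 7, 6, 5, 4, 3, 5, 4, 6, 5],
  [3, 4, 5, 4, 3, 6, 5, 4, 3, 5, 4, 6, 5, 4, 3, 2, 5, 4, 3, 5, 4],
  [3, 4, 5, 4, 3, 6, 5, 4, 3, 5, 4, 6, 5, 4, 3, 2, 5, 4, 3, 6, 5],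
  [3, 4, 5, 4, 3, 6, 5, 4, 3, 5, 4, 6, 5, 4, 3, 2, 5, 4, 5, 6, 5],
  [3, 4, 5, 4, 3, 6, 5, 4, 3, 5, 4, 6, 5, 4, 3, 2, 5, 4, 5, 6, 7],
  [3, 4, 5, 4, 3, 6, 5, 4, 3, 5, 4, 6, 5, 4, 3, 2, 5, 4, 6, 5, 4],
  [3, 4, 5, 4, 3, 6, 5, 4, 3, 5, 4, 6, 5, 4, 3, 5, 4, 5, 4, 6, 5],
  [3, 4, 5, 4, 3, 6, 5, 4, 3, 5, 4, 6, 5, 4, 3, 5, 4, 5, 4, 6, 7],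
  [3, 4, 5, 4, 3, 6, 5, 4, 3, 5, 4, 6, 5, 4, 3, 5, 4, 5, 6, 5, 4],
  [3, 4, 5, 4, 3, 6, 5, 4, 3, 5, 4, 7, 6, 5, 4, 3, 2, 5, 4, 3, 6],
  [3, 4, 5, 4, 3, 6, 5, 4, 3, 5, 4, 7, 6, 5, 4, 3, 2, 5, 4, 6, 5],
  [3, 4, 5, 4, 3, 6, 5, 4, 3, 5, 4, 7, 6, 5, 4, 3, 5, 4, 5, 6, 5],
  [3, 4, 5, 4, 3, 6, 5, 4, 3, 5, 4, 7, 6, 5, 4, 3, 5, 4, 5, 6, 7],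
  [3, 4, 5, 4, 3, 6, 5, 4, 3, 5, 4, 7, 6, 5, 4, 3, 5, 4, 6, 5, 4],
  [3, 4, 5, 4, 3, 6, 5, 4, 3, 5, 6, 7, 6, 5, 4, 3, 2, 5, 4, 3, 6],
  [3, 4, 5, 4, 3, 6, 5, 4, 3, 5, 6, 7, 6, 5, 4, 3, 2, 5, 4, 6, 5],
  [3, 4, 5, 4, 3, 6, 5, 4, 3, 5, 6, 7, 6, 5, 4, 3, 5, 4, 5, 6, 5],
  [3, 4, 5, 4, 3, 6, 5, 4, 3, 5, 6, 7, 6, 5, 4, 3, 5, 4, 5, 6, 7],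
  [3, 4, 5, 4, 3, 6, 5, 4, 3, 5, 6, 7, 6, 5, 4, 3, 5, 4, 6, 5, 4],
  [3, 4, 5, 4, 3, 6, 5, 4, 3, 5, 7, 6, 5, 4, 3, 5, 4, 3, 2, 5, 6],
  [3, 4, 5, 4, 3, 6, 5, 4, 3, 5, 7, 6, 5, 4, 3, 5, 4, 3, 5, 4, 6],
  [3, 4, 5, 4, 3, 6, 5, 4, 3, 5, 7, 6, 5, 4, 3, 5, 4, 3, 5, 6, 7],
  [3, 4, 5, 4, 3, 6, 5, 4, 5, 4, 3, 2, 6, 5, 4, 3, 2, 5, 4, 5, 6],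
  [3, 4, 5, 4, 3, 6, 5, 4, 5, 4, 3, 2, 6, 5, 4, 3, 2, 7, 6, 5, 4],
  [3, 4, 5, 4, 3, 6, 5, 4, 5, 4, 3, 2, 6, 5, 4, 3, 5, 4, 5, 4, 6],
  [3, 4, 5, 4, 3, 6, 5, 4, 5, 4, 3, 2, 6, 5, 4, 3, 5, 4, 5, 6, 5],
  [3, 4, 5, 4, 3, 6, 5, 4, 5, 4, 3, 2, 6, 5, 4, 3, 5, 4, 5, 6, 7],
  [3, 4, 5, 4, 3, 6, 5, 4, 5, 4, 3, 2, 6, 5, 4, 3, 7, 6, 5, 4, 5],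
  [3, 4, 5, 4, 3, 6, 5, 4, 5, 4, 3, 6, 5, 4, 3, 2, 5, 4, 3, 2, 6],
  [3, 4, 5, 4, 3, 6, 5, 4, 5, 4, 3, 6, 5, 4, 3, 2, 5, 4, 3, 6, 5],
  [3, 4, 5, 4, 3, 6, 5, 4, 5, 4, 3, 6, 5, 4, 3, 2, 5, 4, 3, 6, 7],
  [3, 4, 5, 4, 3, 6, 5, 4, 5, 4, 3, 6, 5, 4, 3, 2, 5, 4, 3, 7, 6],
  [3, 4, 5, 4, 3, 6, 5, 4, 5, 4, 3, 6, 5, 4, 3, 2, 5, 4, 6, 5, 4],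
  [3, 4, 5, 4, 3, 6, 5, 4, 5, 4, 3, 6, 5, 4, 3, 2, 5, 4, 6, 5, 7],
  [3, 4, 5, 4, 3, 6, 5, 4, 5, 4, 3, 6, 5, 4, 3, 2, 5, 4, 6, 7, 6],
  [3, 4, 5, 4, 3, 6, 5, 4, 5, 4, 3, 6, 5, 4, 3, 2, 5, 4, 7, 6, 5],
  [3, 4, 5, 4, 3, 6, 5, 4, 5, 4, 3, 6, 5, 4, 3, 2, 5, 6, 7, 6, 5],
  [3, 4, 5, 4, 3, 6, 5, 4, 5, 4, 3, 6, 5, 4, 3, 2, 5, 7, 6, 5, 4],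
  [3, 4, 5, 4, 3, 6, 5, 4, 5, 4, 3, 6, 5, 4, 3, 2, 7, 6, 5, 4, 3],
  [3, 4, 5, 4, 3, 6, 5, 4, 5, 4, 3, 6, 5, 4, 3, 5, 4, 3, 2, 5, 6],
  [3, 4, 5, 4, 3, 6, 5, 4, 5, 4, 3, 6, 5, 4, 3, 5, 4, 3, 2, 6, 5],
  [3, 4, 5, 4, 3, 6, 5, 4, 5, 4, 3, 6, 5, 4, 3, 5, 4, 3, 2, 6, 7],
  [3, 4, 5, 4, 3, 6, 5, 4, 5, 4, 3, 6, 5, 4, 3, 5, 4, 3, 5, 4, 6],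
  [3, 4, 5, 4, 3, 6, 5, 4, 5, 4, 3, 6, 5, 4, 3, 5, 4, 3, 5, 6, 5],
  [3, 4, 5, 4, 3, 6, 5, 4, 5, 4, 3, 6, 5, 4, 3, 5, 4, 3, 5, 6, 7],
  [3, 4, 5, 4, 3, 6, 5, 4, 5, 4, 3, 6, 5, 4, 3, 5, 4, 3, 6, 5, 4],
  [3, 4, 5, 4, 3, 6, 5, 4, 5, 4, 3, 6, 5, 4, 3, 5, 4, 3, 6, 5, 7],
  [3, 4, 5, 4, 3, 6, 5, 4, 5, 4, 3, 6, 5, 4, 3, 5, 4, 5, 6, 5, 4],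
  [3, 4, 5, 4, 3, 6, 5, 4, 5, 4, 3, 6, 5, 4, 3, 5, 4, 5, 6, 5, 7],
  [3, 4, 5, 4, 3, 6, 5, 4, 5, 4, 3, 6, 5, 4, 3, 5, 4, 5, 6, 7, 6],
  [3, 4, 5, 4, 3, 6, 5, 4, 5, 4, 3, 6, 5, 4, 3, 5, 4, 5, 7, 6, 5],
  [3, 4, 5, 4, 3, 6, 5, 4, 5, 4, 3, 6, 5, 4, 3, 5, 4, 6, 5, 4, 3],
  [3, 4, 5, 4, 3, 6, 5, 4, 5, 4, 3, 6, 5, 4, 3, 5, 4, 6, 5, 7, 6],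
  [3, 4, 5, 4, 3, 6, 5, 4, 5, 4, 3, 6, 5, 4, 3, 5, 4, 6, 7, 6, 5],
  [3, 4, 5, 4, 3, 6, 5, 4, 5, 4, 3, 6, 5, 4, 3, 5, 4, 7, 6, 5, 4],
  [3, 4, 5, 4, 3, 6, 5, 4, 5, 4, 3, 6, 5, 4, 3, 5, 6, 7, 6, 5, 4],
  [3, 4, 5, 4, 3, 6, 5, 4, 5, 4, 3, 6, 5, 4, 3, 5, 7, 6, 5, 4, 3],
  [3, 4, 5, 4, 3, 6, 5, 4, 5, 4, 3, 6, 5, 4, 3, 5, 7, 6, 5, 4, 5],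
  [3, 4, 5, 4, 3, 6, 5, 4, 5, 4, 3, 6, 5, 4, 3, 7, 6, 5, 4, 3, 2],
  [3, 4, 5, 4, 3, 6, 5, 4, 5, 4, 3, 6, 5, 4, 3, 7, 6, 5, 4, 3, 5],
  [3, 4, 5, 4, 3, 6, 5, 4, 5, 4, 3, 6, 5, 4, 3, 7, 6, 5, 4, 5, 6],
  [3, 4, 5, 4, 3, 6, 5, 4, 5, 4, 3, 6, 5, 4, 5, 4, 3, 2, 6, 5, 4],
  [3, 4, 5, 4, 3, 6, 5, 4, 5, 4, 3, 6, 5, 4, 5, 4, 3, 2, 6, 5, 7],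
  [3, 4, 5, 4, 3, 6, 5, 4, 5, 4, 3, 6, 5, 4, 5, 4, 3, 6, 5, 4, 3],
  [3, 4, 5, 4, 3, 6, 5, 4, 5, 4, 3, 6, 5, 4, 5, 4, 3, 6, 5, 4, 5],
  [3, 4, 5, 4, 3, 6, 5, 4, 5, 4, 3, 6, 5, 4, 5, 6, 7, 6, 5, 4, 3]]
def ows1c15 : List (List Nat) := [[3, 4, 5, 4, 3, 6, 5, 4, 5, 4, 3, 6, 5, 4, 5, 7, 6, 5, 4, 3, 2],
  [3, 4, 5, 4, 3, 6, 5, 4, 5, 4, 6, 5, 4, 3, 2, 5, 4, 3, 5, 4, 6],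
  [3, 4, 5, 4, 3, 6, 5, 4, 5, 4, 6, 5, 4, 3, 2, 5, 4, 3, 5, 6, 7],
  [3, 4, 5, 4, 3, 6, 5, 4, 5, 4, 6, 5, 4, 3, 5, 4, 5, 4, 3, 2, 6],
  [3, 4, 5, 4, 3, 6, 5, 4, 5, 4, 6, 5, 4, 3, 5, 4, 5, 4, 3, 6, 5],
  [3, 4, 5, 4, 3, 6, 5, 4, 5, 4, 6, 5, 4, 3, 5, 4, 5, 4, 3, 6, 7],
  [3, 4, 5, 4, 3, 6, 5, 4, 5, 4, 6, 5, 4, 3, 5, 4, 5, 4, 6, 5, 4],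
  [3, 4, 5, 4, 3, 6, 5, 4, 5, 4, 6, 5, 4, 3, 5, 4, 5, 4, 6, 5, 7],
  [3, 4, 5, 4, 3, 6, 5, 4, 5, 7, 6, 5, 4, 3, 2, 5, 4, 3, 5, 4, 5],
  [3, 4, 5, 4, 3, 6, 5, 4, 5, 7, 6, 5, 4, 3, 2, 5, 4, 3, 5, 4, 6],
  [3, 4, 5, 4, 3, 6, 5, 4, 5, 7, 6, 5, 4, 3, 2, 5, 4, 3, 5, 6, 5],
  [3, 4, 5, 4, 3, 6, 5, 4, 5, 7, 6, 5, 4, 3, 2, 5, 4, 3, 5, 6, 7],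
  [3, 4, 5, 4, 3, 6, 5, 4, 5, 7, 6, 5, 4, 3, 2, 5, 4, 3, 6, 5, 4],
  [3, 4, 5, 4, 3, 6, 5, 4, 5, 7, 6, 5, 4, 3, 2, 5, 4, 5, 6, 5, 7],
  [3, 4, 5, 4, 3, 6, 5, 4, 5, 7, 6, 5, 4, 3, 5, 4, 5, 4, 3, 2, 6],
  [3, 4, 5, 4, 3, 6, 5, 4, 5, 7, 6, 5, 4, 3, 5, 4, 5, 4, 3, 6, 5],
  [3, 4, 5, 4, 3, 6, 5, 4, 5, 7, 6, 5, 4, 3, 5, 4, 5, 4, 3, 6, 7],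
  [3, 4, 5, 4, 3, 6, 5, 4, 5, 7, 6, 5, 4, 3, 5, 4, 5, 4, 6, 5, 4],
  [3, 4, 5, 4, 3, 6, 5, 4, 5, 7, 6, 5, 4, 3, 5, 4, 5, 4, 6, 5, 7],
  [3, 4, 5, 4, 3, 6, 5, 4, 5, 7, 6, 5, 4, 3, 5, 4, 5, 6, 5, 4, 3],
  [3, 4, 5, 4, 3, 6, 5, 4, 5, 7, 6, 5, 4, 3, 5, 4, 5, 6, 5, 4, 5],
  [3, 4, 5, 4, 3, 6, 5, 4, 5, 7, 6, 5, 4, 3, 5, 4, 5, 6, 5, 4, 7],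
  [3, 4, 5, 4, 3, 6, 5, 4, 5, 7, 6, 5, 4, 3, 5, 4, 6, 5, 4, 3, 2],
  [3, 4, 5, 4, 3, 6, 5, 4, 7, 6, 5, 4, 3, 2, 5, 4, 3, 6, 5, 4, 3],
  [3, 4, 5, 4, 3, 6, 5, 4, 7, 6, 5, 4, 3, 2, 5, 4, 3, 6, 5, 4, 5],
  [3, 4, 5, 4, 3, 6, 5, 4, 7, 6, 5, 4, 3, 2, 5, 4, 5, 6, 5, 4, 3],
  [3, 4, 5, 4, 3, 6, 5, 4, 7, 6, 5, 4, 3, 2, 5, 4, 5, 6, 5, 4, 5],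
  [3, 4, 5, 4, 3, 6, 5, 4, 7, 6, 5, 4, 3, 2, 5, 4, 5, 6, 5, 4, 7],
  [3, 4, 5, 4, 3, 6, 5, 4, 7, 6, 5, 4, 3, 2, 5, 4, 6, 5, 4, 3, 2],
  [3, 4, 5, 4, 3, 6, 5, 4, 7, 6, 5, 4, 3, 5, 4, 5, 4, 6, 5, 4, 3],
  [3, 4, 5, 4, 3, 6, 5, 4, 7, 6, 5, 4, 3, 5, 4, 5, 4, 6, 5, 4, 7],
  [3, 4, 5, 4, 3, 6, 5, 4, 7, 6, 5, 4, 3, 5, 4, 5, 4, 6, 5, 7, 6],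
  [3, 4, 5, 4, 3, 6, 5, 4, 7, 6, 5, 4, 3, 5, 4, 5, 6, 5, 4, 3, 2],
  [3, 4, 5, 4, 3, 6, 5, 4, 7, 6, 5, 4, 3, 5, 4, 5, 6, 5, 4, 3, 5],
  [3, 4, 5, 4, 3, 6, 5, 4, 7, 6, 5, 4, 3, 5, 4, 5, 6, 5, 4, 3, 7],
  [3, 4, 5, 4, 3, 6, 5, 4, 7, 6, 5, 4, 3, 5, 4, 5, 6, 5, 4, 5, 4],
  [3, 4, 5, 4, 3, 6, 5, 4, 7, 6, 5, 4, 3, 5, 4, 5, 6, 5, 4, 5, 6],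
  [3, 4, 5, 4, 3, 6, 5, 4, 7, 6, 5, 4, 3, 5, 4, 5, 6, 5, 4, 5, 7],
  [3, 4, 5, 4, 3, 6, 5, 4, 7, 6, 5, 4, 3, 5, 4, 6, 5, 4, 3, 2, 5],
  [3, 4, 5, 4, 3, 6, 5, 4, 7, 6, 5, 4, 3, 5, 4, 6, 5, 4, 3, 5, 4],
  [3, 4, 5, 4, 3, 6, 5, 4, 7, 6, 5, 4, 3, 5, 4, 6, 5, 4, 3, 5, 6],
  [3, 4, 5, 4, 3, 6, 5, 4, 7, 6, 5, 4, 3, 5, 4, 6, 5, 4, 5, 6, 7],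
  [3, 4, 5, 4, 6, 5, 4, 3, 2, 5, 4, 3, 5, 4, 6, 5, 4, 3, 2, 7, 6],
  [3, 4, 5, 4, 6, 5, 4, 3, 2, 5, 4, 3, 5, 4, 6, 5, 4, 3, 7, 6, 5],
  [3, 4, 5, 4, 6, 5, 4, 3, 2, 5, 4, 3, 5, 4, 6, 5, 4, 7, 6, 5, 4],
  [3, 4, 5, 4, 6, 5, 4, 3, 2, 5, 4, 3, 5, 6, 5, 4, 3, 5, 4, 3, 2],
  [3, 4, 5, 4, 6, 5, 4, 3, 2, 5, 4, 3, 5, 6, 5, 4, 3, 5, 4, 3, 5],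
  [3, 4, 5, 4, 6, 5, 4, 3, 2, 5, 4, 3, 5, 6, 5, 4, 3, 5, 4, 3, 6],
  [3, 4, 5, 4, 6, 5, 4, 3, 2, 5, 4, 3, 5, 6, 5, 4, 3, 5, 4, 5, 4],
  [3, 4, 5, 4, 6, 5, 4, 3, 2, 5, 4, 3, 5, 6, 5, 4, 3, 5, 4, 5, 6],
  [3, 4, 5, 4, 6, 5, 4, 3, 2, 5, 4, 3, 5, 6, 5, 4, 3, 5, 4, 6, 5],
  [3, 4, 5, 4, 6, 5, 4, 3, 2, 5, 4, 3, 5, 6, 5, 4, 3, 5, 4, 6, 7],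
  [3, 4, 5, 4, 6, 5, 4, 3, 2, 5, 4, 3, 5, 6, 5, 4, 5, 4, 3, 2, 6],
  [3, 4, 5, 4, 6, 5, 4, 3, 2, 5, 4, 3, 5, 6, 5, 4, 5, 4, 3, 6, 5],
  [3, 4, 5, 4, 6, 5, 4, 3, 2, 5, 4, 3, 5, 6, 5, 4, 5, 4, 3, 6, 7],
  [3, 4, 5, 4, 6, 5, 4, 3, 2, 5, 4, 3, 5, 6, 5, 4, 5, 4, 6, 5, 4],
  [3, 4, 5, 4, 6, 5, 4, 3, 2, 5, 4, 5, 6, 5, 4, 3, 2, 5, 4, 3, 2],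
  [3, 4, 5, 4, 6, 5, 4, 3, 2, 5, 4, 5, 6, 5, 4, 3, 2, 5, 4, 3, 5],
  [3, 4, 5, 4, 6, 5, 4, 3, 2, 5, 4, 5, 6, 5, 4, 3, 2, 5, 4, 3, 7],
  [3, 4, 5, 4, 6, 5, 4, 3, 2, 5, 4, 5, 6, 5, 4, 3, 2, 5, 4, 5, 6],
  [3, 4, 5, 4, 6, 5, 4, 3, 2, 5, 4, 5, 6, 5, 4, 3, 2, 5, 4, 7, 6],
  [3, 4, 5, 4, 6, 5, 4, 3, 2, 5, 4, 5, 6, 5, 4, 3, 5, 4, 3, 2, 5],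
  [3, 4, 5, 4, 6, 5, 4, 3, 2, 5, 4, 5, 6, 5, 4, 3, 5, 4, 3, 5, 4],
  [3, 4, 5, 4, 6, 5, 4, 3, 2, 5, 4, 5, 6, 5, 4, 3, 5, 4, 3, 5, 6],
  [3, 4, 5, 4, 6, 5, 4, 3, 2, 5, 4, 5, 6, 5, 4, 3, 5, 4, 5, 4, 3],
  [3, 4, 5, 4, 6, 5, 4, 3, 2, 5, 4, 5, 6, 5, 4, 3, 5, 4, 5, 4, 6],
  [3, 4, 5, 4, 6, 5, 4, 3, 2, 5, 4, 5, 6, 5, 4, 3, 5, 4, 5, 6, 7],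
  [3, 4, 5, 4, 6, 5, 4, 3, 2, 5, 4, 5, 6, 5, 4, 3, 5, 4, 5, 7, 6],
  [3, 4, 5, 4, 6, 5, 4, 3, 2, 5, 4, 5, 6, 5, 4, 3, 5, 4, 7, 6, 5],
  [3, 4, 5, 4, 6, 5, 4, 3, 5, 4, 5, 4, 3, 2, 6, 5, 4, 3, 2, 5, 4],
  [3, 4, 5, 4, 6, 5, 4, 3, 5, 4, 5, 4, 3, 2, 6, 5, 4, 3, 2, 5, 6],
  [3, 4, 5, 4, 6, 5, 4, 3, 5, 4, 5, 4, 3, 2, 6, 5, 4, 3, 2, 7, 6],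
  [3, 4, 5, 4, 6, 5, 4, 3, 5, 4, 5, 4, 3, 2, 6, 5, 4, 3, 5, 4, 5],
  [3, 4, 5, 4, 6, 5, 4, 3, 5, 4, 5, 4, 3, 2, 6, 5, 4, 3, 5, 4, 6],
  [3, 4, 5, 4, 6, 5, 4, 3, 5, 4, 5, 4, 3, 2, 6, 5, 4, 3, 5, 6, 7],
  [3, 4, 5, 4, 6, 5, 4, 3, 5, 4, 5, 4, 3, 2, 6, 5, 4, 3, 7, 6, 5],
  [3, 4, 5, 4, 6, 5, 4, 3, 5, 4, 5, 4, 3, 6, 5, 4, 3, 2, 5, 4, 3],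
  [3, 4, 5, 4, 6, 5, 4, 3, 5, 4, 5, 4, 3, 6, 5, 4, 3, 2, 5, 4, 6],
  [3, 4, 5, 4, 6, 5, 4, 3, 5, 4, 5, 4, 3, 6, 5, 4, 3, 2, 5, 4, 7],
  [3, 4, 5, 4, 6, 5, 4, 3, 5, 4, 5, 4, 3, 6, 5, 4, 3, 2, 5, 6, 7],
  [3, 4, 5, 4, 6, 5, 4, 3, 5, 4, 5, 4, 3, 6, 5, 4, 3, 2, 5, 7, 6],
  [3, 4, 5, 4, 6, 5, 4, 3, 5, 4, 5, 4, 3, 6, 5, 4, 3, 2, 7, 6, 5],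
  [3, 4, 5, 4, 6, 5, 4, 3, 5, 4, 5, 4, 3, 6, 5, 4, 3, 5, 4, 3, 2],
  [3, 4, 5, 4, 6, 5, 4, 3, 5, 4, 5, 4, 3, 6, 5, 4, 3, 5, 4, 3, 5],
  [3, 4, 5, 4, 6, 5, 4, 3, 5, 4, 5, 4, 3, 6, 5, 4, 3, 5, 4, 3, 6],
  [3, 4, 5, 4, 6, 5, 4, 3, 5, 4, 5, 4, 3, 6, 5, 4, 3, 5, 4, 5, 6],
  [3, 4, 5, 4, 6, 5, 4, 3, 5, 4, 5, 4, 3, 6, 5, 4, 3, 5, 4, 5, 7],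
  [3, 4, 5, 4, 6, 5, 4, 3, 5, 4, 5, 4, 3, 6, 5, 4, 3, 5, 4, 6, 5],
  [3, 4, 5, 4, 6, 5, 4, 3, 5, 4, 5, 4, 3, 6, 5, 4, 3, 5, 4, 6, 7],
  [3, 4, 5, 4, 6, 5, 4, 3, 5, 4, 5, 4, 3, 6, 5, 4, 3, 5, 4, 7, 6],
  [3, 4, 5, 4, 6, 5, 4, 3, 5, 4, 5, 4, 3, 6, 5, 4, 3, 5, 6, 7, 6],
  [3, 4, 5, 4, 6, 5, 4, 3, 5, 4, 5, 4, 3, 6, 5, 4, 5, 4, 3, 2, 6],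
  [3, 4, 5, 4, 6, 5, 4, 3, 5, 4, 5, 4, 3, 6, 5, 4, 5, 4, 3, 6, 7],
  [3, 4, 5, 4, 6, 5, 4, 3, 5, 4, 5, 4, 3, 6, 5, 4, 5, 4, 6, 5, 4],
  [3, 4, 5, 4, 6, 5, 4, 3, 5, 4, 5, 4, 3, 6, 5, 4, 5, 6, 7, 6, 5],
  [3, 4, 5, 4, 6, 5, 4, 3, 5, 4, 5, 4, 3, 6, 5, 4, 5, 7, 6, 5, 4],
  [3, 4, 5, 4, 6, 5, 4, 3, 5, 4, 5, 4, 3, 6, 5, 4, 7, 6, 5, 4, 3],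
  [3, 4, 5, 4, 6, 5, 4, 3, 5, 4, 5, 4, 6, 5, 4, 3, 2, 5, 4, 3, 5],
  [3, 4, 5, 4, 6, 5, 4, 3, 5, 4, 5, 4, 6, 5, 4, 3, 2, 5, 4, 3, 6],
  [3, 4, 5, 4, 6, 5, 4, 3, 5, 4, 5, 6, 5, 4, 3, 2, 5, 4, 3, 2, 5],
  [3, 4, 5, 4, 6, 5, 4, 3, 5, 4, 5, 6, 5, 4, 3, 2, 5, 4, 3, 5, 6],
  [3, 4, 5, 4, 6, 5, 4, 3, 5, 4, 5, 6, 5, 4, 3, 2, 5, 4, 3, 7, 6],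
  [3, 4, 5, 4, 6, 5, 4, 3, 5, 4, 5, 6, 5, 4, 3, 2, 5, 4, 5, 6, 7],
  [3, 4, 5, 4, 6, 5, 4, 3, 5, 4, 5, 6, 5, 4, 3, 2, 5, 4, 7, 6, 5],
  [3, 4, 5, 4, 6, 5, 4, 3, 5, 4, 5, 6, 5, 4, 3, 5, 4, 3, 2, 5, 6],
  [3, 4, 5, 4, 6, 5, 4, 3, 5, 4, 5, 6, 5, 4, 3, 5, 4, 3, 5, 4, 3],
  [3, 4, 5, 4, 6, 5, 4, 3, 5, 4, 5, 6, 5, 4, 3, 5, 4, 3, 5, 4, 6],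
  [3, 4, 5, 4, 6, 5, 4, 3, 5, 4, 5, 6, 5, 4, 3, 5, 4, 3, 5, 6, 7],
  [3, 4, 5, 4, 6, 5, 4, 3, 5, 4, 5, 6, 5, 4, 3, 5, 4, 5, 4, 6, 7],
  [3, 4, 5, 4, 6, 5, 4, 3, 5, 4, 5, 6, 5, 4, 3, 5, 4, 5, 6, 7, 6],
  [3, 4, 5, 4, 6, 5, 4, 3, 5, 4, 5, 6, 5, 4, 3, 5, 4, 5, 7, 6, 5],
  [3, 4, 5, 4, 6, 5, 4, 3, 5, 4, 5, 6, 5, 4, 3, 5, 4, 7, 6, 5, 4],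
  [3, 2, 4, 3, 5, 4, 3, 2, 5, 6, 5, 4, 3, 2, 5, 4, 3, 2, 6, 5, 4, 3],
  [3, 2, 4, 3, 5, 4, 3, 2, 5, 6, 5, 4, 3, 2, 5, 4, 3, 2, 6, 5, 4, 5],
  [3, 2, 4, 3, 5, 4, 3, 2, 5, 6, 5, 4, 3, 2, 5, 4, 3, 5, 6, 5, 4, 7],
  [3, 2, 4, 3, 5, 4, 3, 2, 5, 6, 5, 4, 3, 2, 5, 4, 3, 6, 5, 4, 5, 4],
  [3, 2, 4, 3, 5, 4, 3, 2, 5, 6, 5, 4, 3, 2, 5, 4, 6, 7, 6, 5, 4, 3],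
  [3, 2, 4, 3, 5, 4, 3, 2, 5, 6, 5, 4, 3, 2, 5, 4, 7, 6, 5, 4, 3, 2],
  [3, 2, 4, 3, 5, 4, 3, 2, 5, 6, 5, 4, 3, 2, 5, 7, 6, 5, 4, 3, 5, 4],
  [3, 2, 4, 3, 5, 4, 3, 2, 5, 6, 5, 4, 3, 5, 4, 3, 5, 6, 5, 4, 3, 2],
  [3, 2, 4, 3, 5, 4, 3, 2, 5, 6, 5, 4, 3, 5, 4, 3, 5, 6, 5, 4, 3, 5],
  [3, 2, 4, 3, 5, 4, 3, 2, 5, 6, 5, 4, 3, 5, 4, 3, 5, 6, 5, 4, 3, 7],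
  [3, 2, 4, 3, 5, 4, 3, 2, 5, 6, 5, 4, 3, 5, 4, 3, 5, 6, 5, 4, 5, 6],
  [3, 2, 4, 3, 5, 4, 3, 2, 5, 6, 5, 4, 3, 5, 4, 3, 5, 6, 5, 4, 7, 6],
  [3, 2, 4, 3, 5, 4, 3, 2, 5, 6, 5, 4, 3, 5, 4, 3, 6, 5, 4, 3, 2, 5],
  [3, 2, 4, 3, 5, 4, 3, 2, 5, 6, 5, 4, 3, 5, 4, 3, 6, 5, 4, 3, 5, 4],
  [3, 2, 4, 3, 5, 4, 3, 2, 5, 6, 5, 4, 3, 5, 4, 3, 6, 5, 4, 3, 5, 6],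
  [3, 2, 4, 3, 5, 4, 3, 2, 5, 6, 5, 4, 3, 5, 4, 3, 6, 5, 4, 5, 6, 7],
  [3, 2, 4, 3, 5, 4, 3, 2, 5, 6, 5, 4, 3, 5, 4, 3, 6, 5, 4, 7, 6, 5],
  [3, 2, 4, 3, 5, 4, 3, 2, 5, 6, 5, 4, 3, 5, 4, 5, 4, 3, 6, 5, 4, 3],
  [3, 2, 4, 3, 5, 4, 3, 2, 5, 6, 5, 4, 3, 5, 4, 5, 4, 3, 6, 5, 4, 5],
  [3, 2, 4, 3, 5, 4, 3, 2, 5, 6, 5, 4, 3, 5, 4, 5, 4, 3, 6, 5, 4, 7],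
  [3, 2, 4, 3, 5, 4, 3, 2, 5, 6, 5, 4, 3, 5, 4, 5, 4, 3, 6, 5, 7, 6],
  [3, 2, 4, 3, 5, 4, 3, 2, 5, 6, 5, 4, 3, 5, 4, 5, 4, 6, 5, 4, 3, 2],
  [3, 2, 4, 3, 5, 4, 3, 2, 5, 6, 5, 4, 3, 5, 4, 5, 4, 6, 5, 4, 3, 7],
  [3, 2, 4, 3, 5, 4, 3, 2, 5, 6, 5, 4, 3, 5, 4, 5, 4, 6, 5, 4, 7, 6],
  [3, 2, 4, 3, 5, 4, 3, 2, 5, 6, 5, 4, 3, 5, 4, 5, 6, 5, 4, 3, 2, 5],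
  [3, 2, 4, 3, 5, 4, 3, 2, 5, 6, 5, 4, 3, 5, 4, 5, 6, 5, 4, 3, 2, 7],
  [3, 2, 4, 3, 5, 4, 3, 2, 5, 6, 5, 4, 3, 5, 4, 5, 6, 5, 4, 3, 5, 4],
  [3, 2, 4, 3, 5, 4, 3, 2, 5, 6, 5, 4, 3, 5, 4, 5, 6, 5, 4, 3, 5, 7],
  [3, 2, 4, 3, 5, 4, 3, 2, 5, 6, 5, 4, 3, 5, 4, 5, 6, 5, 4, 5, 4, 3],
  [3, 2, 4, 3, 5, 4, 3, 2, 5, 6, 5, 4, 3, 5, 4, 5, 6, 5, 4, 5, 7, 6],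
  [3, 2, 4, 3, 5, 4, 3, 2, 5, 6, 5, 4, 3, 5, 7, 6, 5, 4, 5, 4, 3, 2],
  [3, 2, 4, 3, 5, 4, 3, 2, 5, 6, 5, 4, 3, 5, 7, 6, 5, 4, 5, 4, 3, 6],
  [3, 2, 4, 3, 5, 4, 3, 2, 6, 5, 4, 3, 2, 7, 6, 5, 4, 3, 2, 5, 4, 6],
  [3, 2, 4, 3, 5, 4, 3, 2, 6, 5, 4, 3, 2, 7, 6, 5, 4, 3, 2, 5, 6, 7],
  [3, 2, 4, 3, 5, 4, 3, 2, 6, 5, 4, 3, 2, 7, 6, 5, 4, 3, 5, 4, 5, 6],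
  [3, 2, 4, 3, 5, 4, 3, 2, 6, 5, 4, 3, 2, 7, 6, 5, 4, 3, 5, 4, 6, 5],
  [3, 2, 4, 3, 5, 4, 3, 2, 6, 5, 4, 3, 2, 7, 6, 5, 4, 3, 5, 4, 6, 7],
  [3, 2, 4, 3, 5, 4, 3, 2, 6, 5, 4, 3, 7, 6, 5, 4, 3, 5, 4, 3, 2, 6],
  [3, 2, 4, 3, 5, 4, 3, 2, 6, 5, 4, 3, 7, 6, 5, 4, 3, 5, 4, 3, 6, 5],
  [3, 2, 4, 3, 5, 4, 3, 2, 6, 5, 4, 3, 7, 6, 5, 4, 3, 5, 4, 3, 6, 7],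
  [3, 2, 4, 3, 5, 4, 3, 2, 6, 5, 4, 3, 7, 6, 5, 4, 3, 5, 4, 6, 5, 4],
  [3, 2, 4, 3, 5, 4, 3, 2, 6, 5, 4, 3, 7, 6, 5, 4, 3, 5, 4, 6, 5, 7],
  [3, 2, 4, 3, 5, 4, 3, 2, 6, 5, 4, 3, 7, 6, 5, 4, 5, 4, 3, 2, 6, 5],
  [3, 2, 4, 3, 5, 4, 3, 2, 6, 5, 4, 3, 7, 6, 5, 4, 5, 4, 3, 2, 6, 7],
  [3, 2, 4, 3, 5, 4, 3, 2, 6, 5, 4, 3, 7, 6, 5, 4, 5, 4, 3, 6, 5, 4],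
  [3, 2, 4, 3, 5, 4, 3, 2, 6, 5, 4, 3, 7, 6, 5, 4, 5, 4, 3, 6, 5, 7],
  [3, 2, 4, 3, 5, 4, 3, 2, 6, 5, 4, 3, 7, 6, 5, 4, 5, 4, 6, 5, 4, 3],
  [3, 2, 4, 3, 5, 4, 3, 2, 6, 5, 4, 3, 7, 6, 5, 4, 5, 4, 6, 5, 4, 5],
  [3, 2, 4, 3, 5, 4, 3, 2, 6, 5, 4, 3, 7, 6, 5, 4, 5, 4, 6, 5, 4, 7],
  [3, 2, 4, 3, 5, 4, 3, 5, 6, 5, 4, 3, 2, 5, 4, 3, 2, 6, 5, 4, 3, 2],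
  [3, 2, 4, 3, 5, 4, 3, 5, 6, 5, 4, 3, 2, 5, 4, 3, 2, 6, 5, 4, 3, 5],
  [3, 2, 4, 3, 5, 4, 3, 5, 6, 5, 4, 3, 2, 5, 4, 3, 2, 6, 5, 4, 3, 7],
  [3, 2, 4, 3, 5, 4, 3, 5, 6, 5, 4, 3, 2, 5, 4, 3, 2, 6, 5, 4, 5, 6],
  [3, 2, 4, 3, 5, 4, 3, 5, 6, 5, 4, 3, 2, 5, 4, 3, 2, 6, 5, 4, 7, 6],
  [3, 2, 4, 3, 5, 4, 3, 5, 6, 5, 4, 3, 2, 5, 4, 3, 5, 6, 5, 4, 3, 2],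
  [3, 2, 4, 3, 5, 4, 3, 5, 6, 5, 4, 3, 2, 5, 4, 3, 5, 6, 5, 4, 3, 5],
  [3, 2, 4, 3, 5, 4, 3, 5, 6, 5, 4, 3, 2, 5, 4, 3, 5, 6, 5, 4, 3, 7],
  [3, 2, 4, 3, 5, 4, 3, 5, 6, 5, 4, 3, 2, 5, 4, 3, 5, 6, 5, 4, 5, 4],
  [3, 2, 4, 3, 5, 4, 3, 5, 6, 5, 4, 3, 2, 5, 4, 3, 5, 6, 5, 4, 5, 6],
  [3, 2, 4, 3, 5, 4, 3, 5, 6, 5, 4, 3, 2, 5, 4, 3, 5, 6, 5, 4, 7, 6],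
  [3, 2, 4, 3, 5, 4, 3, 5, 6, 5, 4, 3, 2, 5, 4, 3, 6, 5, 4, 3, 2, 5],
  [3, 2, 4, 3, 5, 4, 3, 5, 6, 5, 4, 3, 2, 5, 4, 3, 6, 5, 4, 3, 5, 4],
  [3, 2, 4, 3, 5, 4, 3, 5, 6, 5, 4, 3, 2, 5, 4, 3, 6, 5, 4, 3, 5, 6],
  [3, 2, 4, 3, 5, 4, 3, 5, 6, 5, 4, 3, 2, 5, 4, 3, 6, 5, 4, 5, 4, 3],
  [3, 2, 4, 3, 5, 4, 3, 5, 6, 5, 4, 3, 2, 5, 4, 3, 6, 5, 4, 5, 4, 6],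
  [3, 2, 4, 3, 5, 4, 3, 5, 6, 5, 4, 3, 2, 5, 4, 3, 6, 5, 4, 5, 6, 7],
  [3, 2, 4, 3, 5, 4, 3, 5, 6, 5, 4, 3, 2, 5, 4, 3, 6, 5, 4, 5, 7, 6],
  [3, 2, 4, 3, 5, 4, 3, 5, 6, 5, 4, 3, 2, 5, 4, 3, 6, 5, 4, 7, 6, 5],
  [3, 2, 4, 3, 5, 4, 3, 5, 6, 5, 4, 3, 2, 5, 4, 5, 6, 5, 4, 3, 2, 5],
  [3, 2, 4, 3, 5, 4, 3, 5, 6, 5, 4, 3, 2, 5, 4, 5, 6, 5, 4, 3, 2, 7],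
  [3, 2, 4, 3, 5, 4, 3, 5, 6, 5, 4, 3, 2, 5, 4, 5, 6, 5, 4, 3, 5, 4],
  [3, 2, 4, 3, 5, 4, 3, 5, 6, 5, 4, 3, 2, 5, 4, 5, 6, 5, 4, 3, 5, 7],
  [3, 2, 4, 3, 5, 4, 3, 5, 6, 5, 4, 3, 2, 5, 4, 5, 6, 5, 4, 5, 4, 3],
  [3, 2, 4, 3, 5, 4, 3, 5, 6, 5, 4, 3, 2, 5, 4, 6, 5, 7, 6, 5, 4, 3],
  [3, 2, 4, 3, 5, 4, 3, 5, 6, 5, 4, 3, 2, 5, 4, 6, 7, 6, 5, 4, 3, 2],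
  [3, 2, 4, 3, 5, 4, 3, 5, 6, 5, 4, 3, 2, 5, 4, 7, 6, 5, 4, 3, 2, 5],
  [3, 2, 4, 3, 5, 4, 3, 5, 6, 5, 4, 3, 2, 5, 4, 7, 6, 5, 4, 3, 5, 6],
  [3, 2, 4, 3, 5, 4, 3, 5, 6, 5, 4, 3, 2, 5, 6, 7, 6, 5, 4, 3, 5, 4],
  [3, 2, 4, 3, 5, 4, 3, 5, 6, 5, 4, 3, 2, 5, 6, 7, 6, 5, 4, 3, 5, 6],
  [3, 2, 4, 3, 5, 4, 3, 5, 6, 5, 4, 3, 2, 5, 7, 6, 5, 4, 3, 5, 4, 3],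
  [3, 2, 4, 3, 5, 4, 3, 5, 6, 5, 4, 3, 2, 5, 7, 6, 5, 4, 3, 5, 4, 5],
  [3, 2, 4, 3, 5, 4, 3, 5, 6, 5, 4, 3, 2, 5, 7, 6, 5, 4, 5, 4, 3, 2],
  [3, 2, 4, 3, 5, 4, 3, 5, 6, 5, 4, 3, 5, 4, 3, 5, 6, 5, 4, 3, 2, 5],
  [3, 2, 4, 3, 5, 4, 3, 5, 6, 5, 4, 3, 5, 4, 3, 5, 6, 5, 4, 3, 2, 7],
  [3, 2, 4, 3, 5, 4, 3, 5, 6, 5, 4, 3, 5, 4, 3, 5, 6, 5, 4, 3, 5, 4],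
  [3, 2, 4, 3, 5, 4, 3, 5, 6, 5, 4, 3, 5, 4, 3, 5, 6, 5, 4, 3, 5, 6],
  [3, 2, 4, 3, 5, 4, 3, 5, 6, 5, 4, 3, 5, 4, 3, 5, 6, 5, 4, 3, 7, 6],
  [3, 2, 4, 3, 5, 4, 3, 5, 6, 5, 4, 3, 5, 4, 3, 6, 5, 4, 3, 2, 5, 4]]
def ows1c16 : List (List Nat) := [[3, 2, 4, 3, 5, 4, 3, 5, 6, 5, 4, 3, 5, 4, 3, 6, 5, 4, 3, 2, 5, 6],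
  [3, 2, 4, 3, 5, 4, 3, 5, 6, 5, 4, 3, 5, 4, 3, 6, 5, 4, 3, 2, 7, 6],
  [3, 2, 4, 3, 5, 4, 3, 5, 6, 5, 4, 3, 5, 4, 3, 6, 5, 4, 3, 5, 4, 5],
  [3, 2, 4, 3, 5, 4, 3, 5, 6, 5, 4, 3, 5, 4, 3, 6, 5, 4, 3, 5, 4, 6],
  [3, 2, 4, 3, 5, 4, 3, 5, 6, 5, 4, 3, 5, 4, 5, 4, 3, 6, 5, 4, 3, 5],
  [3, 2, 4, 3, 5, 4, 3, 5, 6, 5, 4, 3, 5, 4, 5, 4, 3, 6, 5, 4, 3, 7],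
  [3, 2, 4, 3, 5, 4, 3, 5, 6, 5, 4, 3, 5, 4, 5, 4, 3, 6, 5, 4, 5, 4],
  [3, 2, 4, 3, 5, 4, 3, 5, 6, 5, 4, 3, 5, 4, 5, 4, 3, 6, 5, 4, 5, 6],
  [3, 2, 4, 3, 5, 4, 3, 5, 6, 5, 4, 3, 5, 4, 5, 4, 3, 6, 5, 4, 7, 6],
  [3, 2, 4, 3, 5, 4, 3, 5, 6, 5, 4, 3, 5, 4, 5, 4, 6, 5, 4, 3, 2, 5],
  [3, 2, 4, 3, 5, 4, 3, 5, 6, 5, 4, 3, 5, 4, 5, 4, 6, 5, 4, 3, 2, 7],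
  [3, 2, 4, 3, 5, 4, 3, 5, 6, 5, 4, 3, 5, 4, 5, 4, 6, 5, 4, 3, 5, 4],
  [3, 2, 4, 3, 5, 4, 3, 5, 6, 5, 4, 3, 5, 4, 5, 4, 6, 5, 4, 3, 7, 6],
  [3, 2, 4, 3, 5, 4, 3, 5, 6, 5, 4, 3, 5, 4, 5, 4, 6, 5, 4, 7, 6, 5],
  [3, 2, 4, 3, 5, 4, 3, 5, 6, 5, 4, 3, 5, 4, 5, 6, 5, 4, 3, 2, 5, 4],
  [3, 2, 4, 3, 5, 4, 3, 5, 6, 5, 4, 3, 5, 4, 5, 6, 5, 4, 3, 2, 5, 6],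
  [3, 2, 4, 3, 5, 4, 3, 5, 6, 5, 4, 3, 5, 4, 5, 6, 5, 4, 3, 2, 5, 7],
  [3, 2, 4, 3, 5, 4, 3, 5, 6, 5, 4, 3, 5, 4, 5, 6, 5, 4, 3, 2, 7, 6],
  [3, 2, 4, 3, 5, 4, 3, 5, 6, 5, 4, 3, 5, 4, 5, 6, 5, 4, 3, 5, 4, 3],
  [3, 2, 4, 3, 5, 4, 3, 5, 6, 5, 4, 3, 5, 4, 5, 6, 5, 4, 3, 5, 4, 5],
  [3, 2, 4, 3, 5, 4, 3, 5, 6, 5, 4, 3, 5, 4, 5, 6, 5, 4, 3, 5, 4, 6],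
  [3, 2, 4, 3, 5, 4, 3, 5, 6, 5, 4, 3, 5, 4, 5, 6, 5, 4, 3, 5, 4, 7],
  [3, 2, 4, 3, 5, 4, 3, 5, 6, 5, 4, 3, 5, 4, 5, 6, 5, 4, 5, 4, 3, 2],
  [3, 2, 4, 3, 5, 4, 3, 5, 6, 5, 4, 3, 5, 4, 5, 6, 5, 4, 5, 4, 3, 6],
  [3, 2, 4, 3, 5, 4, 3, 5, 6, 5, 4, 3, 5, 4, 5, 6, 5, 4, 5, 4, 6, 5],
  [3, 2, 4, 3, 5, 4, 3, 5, 6, 5, 4, 3, 5, 4, 6, 5, 4, 3, 2, 5, 4, 6],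
  [3, 2, 4, 3, 5, 4, 3, 5, 6, 5, 4, 3, 5, 4, 6, 5, 4, 3, 5, 4, 6, 5],
  [3, 2, 4, 3, 5, 4, 3, 5, 6, 5, 4, 3, 5, 7, 6, 5, 4, 5, 4, 3, 2, 6],
  [3, 2, 4, 3, 5, 4, 3, 5, 6, 5, 4, 3, 7, 6, 5, 4, 3, 2, 5, 4, 6, 5],
  [3, 2, 4, 3, 5, 4, 3, 5, 6, 5, 4, 3, 7, 6, 5, 4, 3, 2, 5, 4, 6, 7],
  [3, 2, 4, 3, 5, 4, 3, 5, 6, 5, 4, 3, 7, 6, 5, 4, 3, 5, 4, 5, 6, 5],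
  [3, 2, 4, 3, 5, 4, 3, 5, 6, 5, 4, 3, 7, 6, 5, 4, 3, 5, 4, 5, 6, 7],
  [3, 2, 4, 3, 5, 4, 3, 5, 6, 5, 4, 3, 7, 6, 5, 4, 3, 5, 4, 6, 5, 4],
  [3, 2, 4, 3, 5, 4, 3, 5, 6, 5, 4, 3, 7, 6, 5, 4, 3, 5, 4, 6, 5, 7],
  [3, 2, 4, 3, 5, 4, 3, 6, 5, 4, 3, 2, 5, 4, 3, 6, 5, 4, 3, 2, 5, 6],
  [3, 2, 4, 3, 5, 4, 3, 6, 5, 4, 3, 2, 5, 4, 3, 6, 5, 4, 3, 5, 4, 6],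
  [3, 2, 4, 3, 5, 4, 3, 6, 5, 4, 3, 2, 5, 4, 3, 6, 5, 4, 3, 5, 6, 7],
  [3, 2, 4, 3, 5, 4, 3, 6, 5, 4, 3, 2, 5, 4, 6, 5, 7, 6, 5, 4, 3, 2],
  [3, 2, 4, 3, 5, 4, 3, 6, 5, 4, 3, 2, 5, 4, 6, 5, 7, 6, 5, 4, 3, 5],
  [3, 2, 4, 3, 5, 4, 3, 6, 5, 4, 3, 2, 5, 4, 7, 6, 5, 4, 3, 2, 5, 6],
  [3, 2, 4, 3, 5, 4, 3, 6, 5, 4, 3, 2, 5, 4, 7, 6, 5, 4, 3, 5, 6, 7],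
  [3, 2, 4, 3, 5, 4, 3, 6, 5, 4, 3, 2, 5, 6, 7, 6, 5, 4, 3, 5, 4, 5],
  [3, 2, 4, 3, 5, 4, 3, 6, 5, 4, 3, 2, 5, 6, 7, 6, 5, 4, 3, 5, 4, 6],
  [3, 2, 4, 3, 5, 4, 3, 6, 5, 4, 3, 2, 5, 6, 7, 6, 5, 4, 3, 5, 6, 7],
  [3, 2, 4, 3, 5, 4, 3, 6, 5, 4, 3, 2, 5, 7, 6, 5, 4, 3, 2, 5, 4, 5],
  [3, 2, 4, 3, 5, 4, 3, 6, 5, 4, 3, 2, 5, 7, 6, 5, 4, 3, 2, 5, 4, 6],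
  [3, 2, 4, 3, 5, 4, 3, 6, 5, 4, 3, 2, 5, 7, 6, 5, 4, 3, 2, 5, 6, 7],
  [3, 2, 4, 3, 5, 4, 3, 6, 5, 4, 3, 2, 5, 7, 6, 5, 4, 3, 5, 4, 3, 2],
  [3, 2, 4, 3, 5, 4, 3, 6, 5, 4, 3, 2, 5, 7, 6, 5, 4, 3, 5, 4, 3, 5],
  [3, 2, 4, 3, 5, 4, 3, 6, 5, 4, 3, 2, 5, 7, 6, 5, 4, 3, 5, 4, 3, 6],
  [3, 2, 4, 3, 5, 4, 3, 6, 5, 4, 3, 2, 5, 7, 6, 5, 4, 3, 5, 4, 5, 6],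
  [3, 2, 4, 3, 5, 4, 3, 6, 5, 4, 3, 2, 5, 7, 6, 5, 4, 3, 5, 4, 6, 5],
  [3, 2, 4, 3, 5, 4, 3, 6, 5, 4, 3, 2, 5, 7, 6, 5, 4, 3, 5, 4, 6, 7],
  [3, 2, 4, 3, 5, 4, 3, 6, 5, 4, 3, 2, 5, 7, 6, 5, 4, 5, 4, 3, 2, 6],
  [3, 2, 4, 3, 5, 4, 3, 6, 5, 4, 3, 2, 5, 7, 6, 5, 4, 5, 4, 3, 6, 5],
  [3, 2, 4, 3, 5, 4, 3, 6, 5, 4, 3, 2, 5, 7, 6, 5, 4, 5, 4, 3, 6, 7],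
  [3, 2, 4, 3, 5, 4, 3, 6, 5, 4, 3, 2, 5, 7, 6, 5, 4, 5, 4, 6, 5, 7],
  [3, 2, 4, 3, 5, 4, 3, 6, 5, 4, 3, 2, 7, 6, 5, 4, 3, 2, 5, 4, 3, 6],
  [3, 2, 4, 3, 5, 4, 3, 6, 5, 4, 3, 2, 7, 6, 5, 4, 3, 2, 5, 4, 6, 5],
  [3, 2, 4, 3, 5, 4, 3, 6, 5, 4, 3, 2, 7, 6, 5, 4, 3, 2, 5, 4, 6, 7],
  [3, 2, 4, 3, 5, 4, 3, 6, 5, 4, 3, 2, 7, 6, 5, 4, 3, 5, 4, 5, 4, 6],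
  [3, 2, 4, 3, 5, 4, 3, 6, 5, 4, 3, 2, 7, 6, 5, 4, 3, 5, 4, 5, 6, 5],
  [3, 2, 4, 3, 5, 4, 3, 6, 5, 4, 3, 2, 7, 6, 5, 4, 3, 5, 4, 6, 5, 4],
  [3, 2, 4, 3, 5, 4, 3, 6, 5, 4, 3, 2, 7, 6, 5, 4, 3, 5, 4, 6, 5, 7],
  [3, 2, 4, 3, 5, 4, 3, 6, 5, 4, 3, 5, 4, 3, 6, 5, 4, 3, 2, 5, 4, 3],
  [3, 2, 4, 3, 5, 4, 3, 6, 5, 4, 3, 5, 4, 3, 6, 5, 4, 3, 2, 5, 4, 6],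
  [3, 2, 4, 3, 5, 4, 3, 6, 5, 4, 3, 5, 4, 3, 6, 5, 4, 3, 2, 5, 6, 7],
  [3, 2, 4, 3, 5, 4, 3, 6, 5, 4, 3, 5, 4, 3, 6, 5, 4, 3, 2, 7, 6, 5],
  [3, 2, 4, 3, 5, 4, 3, 6, 5, 4, 3, 5, 4, 3, 6, 5, 4, 3, 5, 4, 5, 6],
  [3, 2, 4, 3, 5, 4, 3, 6, 5, 4, 3, 5, 4, 3, 6, 5, 4, 3, 5, 4, 6, 5],
  [3, 2, 4, 3, 5, 4, 3, 6, 5, 4, 3, 5, 4, 3, 6, 5, 4, 3, 5, 4, 6, 7],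
  [3, 2, 4, 3, 5, 4, 3, 6, 5, 4, 3, 5, 4, 3, 6, 5, 4, 3, 7, 6, 5, 4],
  [3, 2, 4, 3, 5, 4, 3, 6, 5, 4, 3, 5, 4, 3, 6, 5, 4, 7, 6, 5, 4, 3],
  [3, 2, 4, 3, 5, 4, 3, 6, 5, 4, 3, 5, 4, 6, 5, 4, 3, 2, 5, 4, 6, 7],
  [3, 2, 4, 3, 5, 4, 3, 6, 5, 4, 3, 5, 4, 6, 5, 4, 3, 2, 7, 6, 5, 4],
  [3, 2, 4, 3, 5, 4, 3, 6, 5, 4, 3, 5, 4, 6, 5, 4, 3, 7, 6, 5, 4, 3],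
  [3, 2, 4, 3, 5, 4, 3, 6, 5, 4, 3, 5, 4, 6, 5, 4, 3, 7, 6, 5, 4, 5],
  [3, 2, 4, 3, 5, 4, 3, 6, 5, 4, 3, 5, 4, 6, 5, 4, 7, 6, 5, 4, 3, 2],
  [3, 2, 4, 3, 5, 4, 3, 6, 5, 4, 3, 5, 4, 6, 5, 4, 7, 6, 5, 4, 3, 5],
  [3, 2, 4, 3, 5, 4, 3, 6, 5, 4, 3, 5, 4, 6, 5, 7, 6, 5, 4, 3, 2, 5],
  [3, 2, 4, 3, 5, 4, 3, 6, 5, 4, 3, 5, 4, 6, 5, 7, 6, 5, 4, 3, 5, 4],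
  [3, 2, 4, 3, 5, 4, 3, 6, 5, 4, 3, 5, 4, 7, 6, 5, 4, 3, 2, 5, 4, 3],
  [3, 2, 4, 3, 5, 4, 3, 6, 5, 4, 3, 5, 4, 7, 6, 5, 4, 3, 2, 5, 4, 6],
  [3, 2, 4, 3, 5, 4, 3, 6, 5, 4, 3, 5, 4, 7, 6, 5, 4, 3, 2, 5, 6, 7],
  [3, 2, 4, 3, 5, 4, 3, 6, 5, 4, 3, 5, 4, 7, 6, 5, 4, 3, 5, 4, 5, 6],
  [3, 2, 4, 3, 5, 4, 3, 6, 5, 4, 3, 5, 4, 7, 6, 5, 4, 3, 5, 4, 6, 5],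
  [3, 2, 4, 3, 5, 4, 3, 6, 5, 4, 3, 5, 4, 7, 6, 5, 4, 3, 5, 4, 6, 7],
  [3, 2, 4, 3, 5, 4, 3, 6, 5, 4, 3, 5, 7, 6, 5, 4, 3, 5, 4, 3, 2, 6],
  [3, 2, 4, 3, 5, 4, 3, 6, 5, 4, 3, 5, 7, 6, 5, 4, 3, 5, 4, 3, 6, 5],
  [3, 2, 4, 3, 5, 4, 3, 6, 5, 4, 3, 5, 7, 6, 5, 4, 3, 5, 4, 3, 6, 7],
  [3, 2, 4, 3, 5, 4, 3, 6, 5, 4, 3, 5, 7, 6, 5, 4, 3, 5, 4, 6, 5, 4],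
  [3, 2, 4, 3, 5, 4, 3, 6, 5, 4, 3, 5, 7, 6, 5, 4, 3, 5, 4, 6, 5, 7],
  [3, 2, 4, 3, 5, 4, 3, 6, 5, 4, 3, 5, 7, 6, 5, 4, 5, 4, 3, 2, 6, 5],
  [3, 2, 4, 3, 5, 4, 3, 6, 5, 4, 3, 5, 7, 6, 5, 4, 5, 4, 3, 2, 6, 7],
  [3, 2, 4, 3, 5, 4, 3, 6, 5, 4, 3, 5, 7, 6, 5, 4, 5, 4, 3, 6, 5, 4],
  [3, 2, 4, 3, 5, 4, 3, 6, 5, 4, 3, 5, 7, 6, 5, 4, 5, 4, 3, 6, 5, 7],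
  [3, 2, 4, 3, 5, 4, 3, 6, 5, 4, 3, 7, 6, 5, 4, 3, 2, 5, 4, 3, 6, 5],
  [3, 2, 4, 3, 5, 4, 3, 6, 5, 4, 3, 7, 6, 5, 4, 3, 2, 5, 4, 3, 6, 7],
  [3, 2, 4, 3, 5, 4, 3, 6, 5, 4, 3, 7, 6, 5, 4, 3, 2, 5, 4, 6, 5, 4],
  [3, 2, 4, 3, 5, 4, 3, 6, 5, 4, 3, 7, 6, 5, 4, 3, 2, 5, 4, 6, 5, 7],
  [3, 2, 4, 3, 5, 4, 3, 6, 5, 4, 3, 7, 6, 5, 4, 3, 5, 4, 3, 2, 6, 5],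
  [3, 2, 4, 3, 5, 4, 3, 6, 5, 4, 3, 7, 6, 5, 4, 3, 5, 4, 3, 5, 6, 5],
  [3, 2, 4, 3, 5, 4, 3, 6, 5, 4, 3, 7, 6, 5, 4, 3, 5, 4, 3, 5, 6, 7],
  [3, 2, 4, 3, 5, 4, 3, 6, 5, 4, 3, 7, 6, 5, 4, 3, 5, 4, 3, 6, 5, 4],
  [3, 2, 4, 3, 5, 4, 3, 6, 5, 4, 3, 7, 6, 5, 4, 3, 5, 4, 3, 6, 5, 7],
  [3, 2, 4, 3, 5, 4, 3, 6, 5, 4, 3, 7, 6, 5, 4, 3, 5, 4, 5, 6, 5, 4],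
  [3, 2, 4, 3, 5, 4, 3, 6, 5, 4, 3, 7, 6, 5, 4, 3, 5, 4, 5, 6, 5, 7],
  [3, 2, 4, 3, 5, 4, 3, 6, 5, 4, 3, 7, 6, 5, 4, 3, 5, 4, 6, 5, 4, 3],
  [3, 2, 4, 3, 5, 4, 3, 6, 5, 4, 3, 7, 6, 5, 4, 3, 5, 4, 6, 5, 4, 5],
  [3, 2, 4, 3, 5, 4, 3, 6, 5, 4, 3, 7, 6, 5, 4, 3, 5, 4, 6, 5, 4, 7],
  [3, 2, 4, 3, 5, 4, 3, 6, 5, 4, 3, 7, 6, 5, 4, 3, 5, 4, 6, 5, 7, 6],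
  [3, 2, 4, 3, 5, 4, 3, 6, 5, 4, 5, 4, 3, 6, 5, 4, 5, 4, 3, 2, 6, 5],
  [3, 2, 4, 3, 5, 4, 3, 6, 5, 4, 5, 4, 3, 6, 5, 4, 5, 4, 3, 2, 6, 7],
  [3, 2, 4, 3, 5, 4, 3, 6, 5, 4, 5, 4, 3, 6, 5, 4, 5, 4, 3, 6, 5, 4],
  [3, 2, 4, 3, 5, 4, 3, 6, 5, 4, 5, 4, 3, 6, 5, 4, 5, 4, 3, 6, 5, 7],
  [3, 2, 4, 3, 5, 4, 3, 6, 5, 4, 7, 6, 5, 4, 3, 2, 5, 4, 3, 6, 5, 4],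
  [3, 2, 4, 3, 5, 4, 3, 6, 5, 4, 7, 6, 5, 4, 3, 2, 5, 4, 5, 6, 5, 7],
  [3, 2, 4, 3, 5, 4, 3, 6, 5, 4, 7, 6, 5, 4, 3, 5, 4, 5, 4, 6, 5, 4],
  [3, 2, 4, 3, 5, 4, 3, 6, 5, 4, 7, 6, 5, 4, 3, 5, 4, 5, 4, 6, 5, 7],
  [3, 2, 4, 3, 5, 4, 3, 6, 5, 4, 7, 6, 5, 4, 3, 5, 4, 5, 6, 5, 4, 3],
  [3, 2, 4, 3, 5, 4, 3, 6, 5, 4, 7, 6, 5, 4, 3, 5, 4, 5, 6, 5, 4, 5],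
  [3, 2, 4, 3, 5, 4, 3, 6, 5, 4, 7, 6, 5, 4, 3, 5, 4, 5, 6, 5, 4, 7],
  [3, 2, 4, 3, 5, 4, 3, 6, 5, 4, 7, 6, 5, 4, 3, 5, 4, 6, 5, 4, 3, 2],
  [3, 2, 4, 3, 5, 4, 5, 6, 5, 4, 3, 2, 5, 4, 3, 2, 6, 5, 4, 5, 6, 7],
  [3, 2, 4, 3, 5, 4, 5, 6, 5, 4, 3, 2, 5, 4, 3, 5, 6, 5, 4, 5, 4, 6],
  [3, 2, 4, 3, 5, 4, 5, 6, 5, 4, 3, 2, 5, 4, 3, 5, 6, 5, 4, 5, 6, 7],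
  [3, 2, 4, 3, 5, 4, 5, 6, 5, 4, 3, 2, 5, 4, 3, 6, 5, 4, 5, 4, 6, 5],
  [3, 2, 4, 3, 5, 4, 5, 6, 5, 4, 3, 2, 5, 4, 3, 6, 5, 4, 5, 4, 6, 7],
  [3, 2, 4, 3, 5, 4, 5, 6, 5, 4, 3, 5, 4, 3, 5, 6, 5, 4, 3, 2, 5, 4],
  [3, 2, 4, 3, 5, 4, 5, 6, 5, 4, 3, 5, 4, 3, 5, 6, 5, 4, 3, 5, 4, 5],
  [3, 2, 4, 3, 5, 4, 5, 6, 5, 4, 3, 5, 4, 5, 4, 3, 6, 5, 4, 3, 2, 5],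
  [3, 2, 4, 3, 5, 4, 5, 6, 5, 4, 3, 5, 4, 5, 4, 3, 6, 5, 4, 3, 2, 7],
  [3, 2, 4, 3, 5, 4, 5, 6, 5, 4, 3, 5, 4, 5, 4, 3, 6, 5, 4, 3, 5, 4],
  [3, 2, 4, 3, 5, 4, 5, 6, 5, 4, 3, 5, 4, 5, 4, 3, 6, 5, 4, 3, 5, 7],
  [3, 2, 4, 3, 5, 4, 5, 6, 5, 4, 3, 5, 4, 5, 4, 3, 6, 5, 4, 3, 7, 6],
  [3, 2, 4, 3, 5, 4, 5, 6, 5, 4, 3, 5, 4, 5, 4, 6, 5, 4, 3, 2, 5, 4],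
  [3, 2, 4, 3, 5, 4, 5, 6, 5, 4, 3, 5, 4, 5, 4, 6, 5, 4, 3, 2, 5, 6],
  [3, 2, 4, 3, 5, 4, 5, 6, 5, 4, 3, 5, 4, 5, 4, 6, 5, 4, 3, 2, 7, 6],
  [3, 2, 4, 3, 5, 4, 5, 6, 5, 4, 3, 5, 4, 5, 4, 6, 5, 4, 3, 5, 4, 6],
  [3, 2, 4, 3, 5, 4, 5, 6, 5, 4, 3, 5, 4, 5, 6, 5, 4, 3, 2, 5, 4, 5],
  [3, 2, 4, 3, 5, 4, 5, 6, 5, 4, 3, 5, 4, 5, 6, 5, 4, 3, 2, 5, 4, 7],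
  [3, 2, 4, 3, 5, 4, 5, 6, 5, 4, 3, 5, 4, 5, 6, 5, 4, 3, 2, 5, 7, 6],
  [3, 2, 4, 3, 5, 4, 5, 6, 5, 4, 3, 5, 4, 5, 6, 5, 4, 3, 5, 4, 3, 2],
  [3, 2, 4, 3, 5, 4, 5, 6, 5, 4, 3, 5, 4, 5, 6, 5, 4, 3, 5, 4, 3, 5],
  [3, 2, 4, 3, 5, 4, 5, 6, 5, 4, 3, 5, 4, 5, 6, 5, 4, 3, 5, 4, 5, 4],
  [3, 2, 4, 3, 5, 4, 5, 6, 5, 4, 3, 5, 4, 5, 6, 5, 4, 3, 5, 4, 5, 6],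
  [3, 2, 4, 3, 5, 4, 5, 6, 5, 4, 3, 5, 4, 5, 6, 5, 4, 3, 5, 4, 5, 7],
  [3, 2, 4, 3, 5, 4, 5, 6, 5, 4, 3, 5, 4, 5, 6, 5, 4, 3, 5, 4, 7, 6],
  [3, 2, 4, 5, 4, 3, 2, 6, 5, 4, 3, 5, 4, 5, 6, 5, 4, 3, 2, 5, 4, 6],
  [3, 2, 4, 5, 4, 3, 2, 6, 5, 4, 3, 5, 4, 5, 6, 5, 4, 3, 2, 5, 6, 7],
  [3, 2, 4, 5, 4, 3, 2, 6, 5, 4, 3, 5, 4, 5, 6, 5, 4, 3, 2, 7, 6, 5],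
  [3, 2, 4, 5, 4, 3, 2, 6, 5, 4, 3, 5, 4, 5, 6, 5, 4, 3, 5, 4, 5, 6],
  [3, 2, 4, 5, 4, 3, 2, 6, 5, 4, 3, 5, 4, 5, 6, 5, 4, 3, 5, 4, 6, 5],
  [3, 2, 4, 5, 4, 3, 2, 6, 5, 4, 3, 5, 4, 5, 6, 5, 4, 3, 5, 4, 6, 7],
  [3, 2, 4, 5, 4, 3, 2, 6, 5, 4, 3, 5, 4, 5, 6, 5, 4, 3, 7, 6, 5, 4],
  [3, 2, 4, 5, 4, 3, 2, 6, 5, 4, 3, 5, 4, 5, 6, 5, 4, 7, 6, 5, 4, 3],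
  [3, 2, 4, 5, 4, 3, 2, 6, 5, 4, 3, 5, 4, 6, 5, 4, 3, 2, 5, 4, 5, 6],
  [3, 2, 4, 5, 4, 3, 2, 6, 5, 4, 3, 5, 4, 6, 5, 4, 3, 2, 5, 4, 6, 5],
  [3, 2, 4, 5, 4, 3, 2, 6, 5, 4, 3, 5, 4, 6, 5, 4, 3, 2, 7, 6, 5, 4],
  [3, 2, 4, 5, 4, 3, 2, 6, 5, 4, 3, 5, 4, 6, 5, 4, 3, 5, 4, 5, 4, 6],
  [3, 2, 4, 5, 4, 3, 2, 6, 5, 4, 3, 5, 4, 6, 5, 4, 3, 5, 4, 5, 6, 5],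
  [3, 2, 4, 5, 4, 3, 2, 6, 5, 4, 3, 5, 4, 6, 5, 4, 3, 5, 4, 5, 6, 7],
  [3, 2, 4, 5, 4, 3, 2, 6, 5, 4, 3, 5, 4, 6, 5, 4, 3, 5, 4, 6, 5, 4],
  [3, 2, 4, 5, 4, 3, 2, 6, 5, 4, 3, 5, 4, 6, 5, 4, 3, 7, 6, 5, 4, 3],
  [3, 2, 4, 5, 4, 3, 2, 6, 5, 4, 3, 5, 4, 6, 5, 4, 3, 7, 6, 5, 4, 5],
  [3, 2, 4, 5, 4, 3, 2, 6, 5, 4, 3, 5, 4, 6, 5, 4, 7, 6, 5, 4, 3, 2],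
  [3, 2, 4, 5, 4, 3, 2, 6, 5, 4, 3, 5, 4, 6, 5, 4, 7, 6, 5, 4, 3, 5],
  [3, 2, 4, 5, 4, 3, 6, 5, 4, 3, 5, 4, 3, 2, 6, 5, 4, 3, 2, 5, 6, 7],
  [3, 2, 4, 5, 4, 3, 6, 5, 4, 3, 5, 4, 3, 2, 6, 5, 4, 3, 2, 7, 6, 5],
  [3, 2, 4, 5, 4, 3, 6, 5, 4, 3, 5, 4, 3, 2, 6, 5, 4, 3, 7, 6, 5, 4],
  [3, 2, 4, 5, 4, 3, 6, 5, 4, 3, 5, 4, 3, 2, 6, 5, 4, 7, 6, 5, 4, 3],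
  [3, 2, 4, 5, 4, 3, 6, 5, 4, 3, 5, 4, 3, 6, 5, 4, 3, 2, 5, 4, 3, 6],
  [3, 2, 4, 5, 4, 3, 6, 5, 4, 3, 5, 4, 3, 6, 5, 4, 3, 2, 5, 4, 6, 5],
  [3, 2, 4, 5, 4, 3, 6, 5, 4, 3, 5, 4, 3, 6, 5, 4, 3, 2, 5, 4, 6, 7],
  [3, 2, 4, 5, 4, 3, 6, 5, 4, 3, 5, 4, 3, 6, 5, 4, 3, 2, 5, 4, 7, 6],
  [3, 2, 4, 5, 4, 3, 6, 5, 4, 3, 5, 4, 3, 6, 5, 4, 3, 2, 5, 6, 7, 6],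
  [3, 2, 4, 5, 4, 3, 6, 5, 4, 3, 5, 4, 3, 6, 5, 4, 3, 2, 5, 7, 6, 5],
  [3, 2, 4, 5, 4, 3, 6, 5, 4, 3, 5, 4, 3, 6, 5, 4, 3, 2, 7, 6, 5, 4],
  [3, 2, 4, 5, 4, 3, 6, 5, 4, 3, 5, 4, 3, 6, 5, 4, 3, 5, 4, 3, 5, 6],
  [3, 2, 4, 5, 4, 3, 6, 5, 4, 3, 5, 4, 3, 6, 5, 4, 3, 5, 4, 3, 6, 5],
  [3, 2, 4, 5, 4, 3, 6, 5, 4, 3, 5, 4, 3, 6, 5, 4, 3, 5, 4, 3, 6, 7],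
  [3, 2, 4, 5, 4, 3, 6, 5, 4, 3, 5, 4, 3, 6, 5, 4, 3, 5, 4, 5, 6, 5],
  [3, 2, 4, 5, 4, 3, 6, 5, 4, 3, 5, 4, 3, 6, 5, 4, 3, 5, 4, 5, 6, 7],
  [3, 2, 4, 5, 4, 3, 6, 5, 4, 3, 5, 4, 3, 6, 5, 4, 3, 5, 4, 5, 7, 6],
  [3, 2, 4, 5, 4, 3, 6, 5, 4, 3, 5, 4, 3, 6, 5, 4, 3, 5, 4, 6, 5, 4],
  [3, 2, 4, 5, 4, 3, 6, 5, 4, 3, 5, 4, 3, 6, 5, 4, 3, 5, 4, 6, 5, 7],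
  [3, 2, 4, 5, 4, 3, 6, 5, 4, 3, 5, 4, 3, 6, 5, 4, 3, 5, 4, 6, 7, 6],
  [3, 2, 4, 5, 4, 3, 6, 5, 4, 3, 5, 4, 3, 6, 5, 4, 3, 5, 4, 7, 6, 5],
  [3, 2, 4, 5, 4, 3, 6, 5, 4, 3, 5, 4, 3, 6, 5, 4, 3, 5, 6, 7, 6, 5],
  [3, 2, 4, 5, 4, 3, 6, 5, 4, 3, 5, 4, 3, 6, 5, 4, 3, 5, 7, 6, 5, 4],
  [3, 2, 4, 5, 4, 3, 6, 5, 4, 3, 5, 4, 3, 6, 5, 4, 3, 7, 6, 5, 4, 3],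
  [3, 2, 4, 5, 4, 3, 6, 5, 4, 3, 5, 4, 3, 6, 5, 4, 5, 4, 3, 6, 5, 4],
  [3, 2, 4, 5, 4, 3, 6, 5, 4, 3, 5, 4, 3, 6, 5, 4, 5, 4, 3, 6, 5, 7],
  [3, 2, 4, 5, 4, 3, 6, 5, 4, 3, 5, 4, 3, 6, 5, 4, 5, 7, 6, 5, 4, 3],
  [3, 2, 4, 5, 4, 3, 6, 5, 4, 3, 5, 4, 3, 6, 5, 4, 7, 6, 5, 4, 3, 2],
  [3, 2, 4, 5, 4, 3, 6, 5, 4, 3, 5, 4, 3, 6, 5, 4, 7, 6, 5, 4, 3, 5],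
  [3, 2, 4, 5, 4, 3, 6, 5, 4, 3, 5, 4, 3, 6, 5, 4, 7, 6, 5, 4, 5, 6],
  [3, 2, 4, 5, 4, 3, 6, 5, 4, 3, 5, 4, 6, 5, 4, 3, 2, 5, 4, 3, 5, 4],
  [3, 2, 4, 5, 4, 3, 6, 5, 4, 3, 5, 4, 6, 5, 4, 3, 2, 5, 4, 3, 5, 6],
  [3, 2, 4, 5, 4, 3, 6, 5, 4, 3, 5, 4, 6, 5, 4, 3, 2, 5, 4, 3, 6, 5]]
def ows1c17 : List (List Nat) := [[3, 2, 4, 5, 4, 3, 6, 5, 4, 3, 5, 4, 6, 5, 4, 3, 2, 5, 4, 5, 6, 5],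
  [3, 2, 4, 5, 4, 3, 6, 5, 4, 3, 5, 4, 6, 5, 4, 3, 2, 5, 4, 5, 6, 7],
  [3, 2, 4, 5, 4, 3, 6, 5, 4, 3, 5, 4, 6, 5, 4, 3, 2, 5, 4, 6, 5, 4],
  [3, 2, 4, 5, 4, 3, 6, 5, 4, 3, 5, 4, 6, 5, 4, 3, 5, 4, 5, 4, 6, 5],
  [3, 2, 4, 5, 4, 3, 6, 5, 4, 3, 5, 4, 6, 5, 4, 3, 5, 4, 5, 4, 6, 7],
  [3, 2, 4, 5, 4, 3, 6, 5, 4, 3, 5, 4, 6, 5, 4, 3, 5, 4, 5, 6, 5, 4],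
  [3, 2, 4, 5, 4, 3, 6, 5, 4, 3, 5, 4, 6, 5, 4, 3, 5, 4, 5, 6, 5, 7],
  [3, 2, 4, 5, 4, 3, 6, 5, 4, 3, 5, 4, 6, 5, 4, 3, 5, 4, 6, 5, 4, 3],
  [3, 2, 4, 5, 4, 3, 6, 5, 4, 5, 4, 3, 2, 6, 5, 4, 3, 2, 5, 4, 5, 6],
  [3, 2, 4, 5, 4, 3, 6, 5, 4, 5, 4, 3, 2, 6, 5, 4, 3, 2, 5, 4, 6, 5],
  [3, 2, 4, 5, 4, 3, 6, 5, 4, 5, 4, 3, 2, 6, 5, 4, 3, 2, 5, 4, 6, 7],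
  [3, 2, 4, 5, 4, 3, 6, 5, 4, 5, 4, 3, 2, 6, 5, 4, 3, 5, 4, 5, 4, 6],
  [3, 2, 4, 5, 4, 3, 6, 5, 4, 5, 4, 3, 2, 6, 5, 4, 3, 5, 4, 5, 6, 5],
  [3, 2, 4, 5, 4, 3, 6, 5, 4, 5, 4, 3, 2, 6, 5, 4, 3, 5, 4, 5, 6, 7],
  [3, 2, 4, 5, 4, 3, 6, 5, 4, 5, 4, 3, 2, 6, 5, 4, 3, 5, 4, 6, 5, 4],
  [3, 2, 4, 5, 4, 3, 6, 5, 4, 5, 4, 3, 2, 6, 5, 4, 3, 5, 4, 6, 5, 7],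
  [3, 2, 4, 5, 4, 3, 6, 5, 4, 5, 4, 3, 2, 6, 5, 4, 3, 7, 6, 5, 4, 5],
  [3, 2, 4, 5, 4, 3, 6, 5, 4, 5, 4, 3, 6, 5, 4, 3, 5, 4, 3, 2, 6, 7],
  [3, 2, 4, 5, 4, 3, 6, 5, 4, 5, 4, 3, 6, 5, 4, 3, 5, 4, 3, 6, 5, 7],
  [3, 2, 4, 5, 4, 3, 6, 5, 4, 5, 4, 3, 6, 5, 4, 3, 5, 4, 6, 5, 4, 5],
  [3, 2, 4, 5, 4, 3, 6, 5, 4, 5, 4, 3, 6, 5, 4, 3, 5, 4, 6, 5, 4, 7],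
  [3, 2, 4, 5, 4, 3, 6, 5, 4, 5, 4, 3, 6, 5, 4, 3, 5, 4, 6, 5, 7, 6],
  [3, 2, 4, 5, 4, 3, 6, 5, 4, 5, 4, 3, 6, 5, 4, 5, 4, 3, 2, 6, 5, 4],
  [3, 2, 4, 5, 4, 3, 6, 5, 4, 5, 4, 3, 6, 5, 4, 5, 4, 3, 2, 6, 5, 7],
  [3, 2, 4, 5, 4, 3, 6, 5, 4, 5, 4, 3, 6, 5, 4, 5, 4, 3, 6, 5, 7, 6],
  [3, 2, 4, 5, 4, 3, 6, 5, 4, 5, 4, 3, 6, 5, 4, 5, 4, 6, 5, 4, 3, 2],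
  [3, 2, 4, 5, 4, 3, 6, 5, 4, 5, 4, 3, 6, 5, 4, 5, 4, 6, 5, 4, 3, 5],
  [3, 2, 4, 5, 4, 3, 6, 5, 4, 5, 4, 3, 6, 5, 4, 5, 4, 6, 5, 4, 7, 6],
  [3, 2, 4, 5, 4, 3, 6, 5, 4, 5, 4, 3, 6, 5, 4, 5, 6, 7, 6, 5, 4, 3],
  [3, 2, 4, 5, 4, 3, 6, 5, 4, 5, 4, 3, 6, 5, 4, 5, 7, 6, 5, 4, 3, 2],
  [3, 2, 4, 5, 4, 3, 6, 5, 4, 5, 4, 3, 6, 5, 4, 5, 7, 6, 5, 4, 3, 5],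
  [3, 2, 4, 5, 4, 3, 6, 5, 4, 5, 7, 6, 5, 4, 3, 2, 5, 4, 3, 5, 4, 5],
  [3, 2, 4, 5, 4, 3, 6, 5, 4, 5, 7, 6, 5, 4, 3, 2, 5, 4, 3, 5, 4, 6],
  [3, 2, 4, 5, 4, 3, 6, 5, 4, 5, 7, 6, 5, 4, 3, 5, 4, 5, 4, 3, 2, 6],
  [3, 2, 4, 5, 4, 3, 6, 5, 4, 5, 7, 6, 5, 4, 3, 5, 4, 5, 4, 3, 6, 5],
  [3, 2, 4, 5, 4, 3, 6, 5, 4, 5, 7, 6, 5, 4, 3, 5, 4, 5, 4, 6, 5, 4],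
  [3, 2, 4, 5, 4, 3, 6, 5, 4, 5, 7, 6, 5, 4, 3, 5, 4, 5, 4, 6, 5, 7],
  [3, 4, 5, 4, 3, 2, 6, 5, 4, 3, 2, 5, 4, 3, 6, 5, 4, 3, 2, 5, 6, 7],
  [3, 4, 5, 4, 3, 2, 6, 5, 4, 3, 2, 5, 4, 3, 6, 5, 4, 3, 5, 4, 3, 6],
  [3, 4, 5, 4, 3, 2, 6, 5, 4, 3, 2, 5, 4, 3, 6, 5, 4, 3, 5, 4, 6, 5],
  [3, 4, 5, 4, 3, 2, 6, 5, 4, 3, 2, 5, 4, 3, 6, 5, 4, 3, 5, 4, 6, 7],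
  [3, 4, 5, 4, 3, 2, 6, 5, 4, 3, 2, 5, 4, 3, 6, 5, 4, 5, 4, 3, 6, 5],
  [3, 4, 5, 4, 3, 2, 6, 5, 4, 3, 2, 5, 4, 3, 6, 5, 4, 5, 4, 3, 6, 7],
  [3, 4, 5, 4, 3, 2, 6, 5, 4, 3, 2, 5, 4, 3, 6, 5, 4, 5, 4, 6, 5, 4],
  [3, 4, 5, 4, 3, 2, 6, 5, 4, 3, 2, 5, 4, 5, 6, 5, 4, 3, 2, 5, 4, 7],
  [3, 4, 5, 4, 3, 2, 6, 5, 4, 3, 2, 5, 4, 5, 6, 5, 4, 3, 2, 5, 7, 6],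
  [3, 4, 5, 4, 3, 2, 6, 5, 4, 3, 2, 5, 4, 5, 6, 5, 4, 3, 5, 4, 3, 2],
  [3, 4, 5, 4, 3, 2, 6, 5, 4, 3, 2, 5, 4, 5, 6, 5, 4, 3, 5, 4, 3, 5],
  [3, 4, 5, 4, 3, 2, 6, 5, 4, 3, 2, 5, 4, 5, 6, 5, 4, 3, 5, 4, 5, 6],
  [3, 4, 5, 4, 3, 2, 6, 5, 4, 3, 2, 5, 4, 5, 6, 5, 4, 3, 5, 4, 5, 7],
  [3, 4, 5, 4, 3, 2, 6, 5, 4, 3, 2, 5, 4, 5, 6, 5, 4, 3, 5, 4, 7, 6],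
  [3, 4, 5, 4, 3, 2, 6, 5, 4, 3, 5, 4, 5, 4, 6, 5, 4, 3, 2, 5, 4, 3],
  [3, 4, 5, 4, 3, 2, 6, 5, 4, 3, 5, 4, 5, 4, 6, 5, 4, 3, 2, 5, 4, 6],
  [3, 4, 5, 4, 3, 2, 6, 5, 4, 3, 5, 4, 5, 4, 6, 5, 4, 3, 2, 5, 6, 7],
  [3, 4, 5, 4, 3, 2, 6, 5, 4, 3, 5, 4, 5, 4, 6, 5, 4, 3, 2, 7, 6, 5],
  [3, 4, 5, 4, 3, 2, 6, 5, 4, 3, 5, 4, 5, 4, 6, 5, 4, 3, 5, 4, 5, 6],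
  [3, 4, 5, 4, 3, 2, 6, 5, 4, 3, 5, 4, 5, 4, 6, 5, 4, 3, 5, 4, 6, 5],
  [3, 4, 5, 4, 3, 2, 6, 5, 4, 3, 5, 4, 5, 4, 6, 5, 4, 3, 5, 4, 6, 7],
  [3, 4, 5, 4, 3, 2, 6, 5, 4, 3, 5, 4, 5, 4, 6, 5, 4, 3, 7, 6, 5, 4],
  [3, 4, 5, 4, 3, 2, 6, 5, 4, 3, 5, 4, 5, 6, 5, 4, 3, 2, 5, 4, 3, 6],
  [3, 4, 5, 4, 3, 2, 6, 5, 4, 3, 5, 4, 5, 6, 5, 4, 3, 2, 5, 4, 6, 5],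
  [3, 4, 5, 4, 3, 2, 6, 5, 4, 3, 5, 4, 5, 6, 5, 4, 3, 2, 5, 4, 6, 7],
  [3, 4, 5, 4, 3, 2, 6, 5, 4, 3, 5, 4, 5, 6, 5, 4, 3, 2, 5, 4, 7, 6],
  [3, 4, 5, 4, 3, 2, 6, 5, 4, 3, 5, 4, 5, 6, 5, 4, 3, 2, 5, 6, 7, 6],
  [3, 4, 5, 4, 3, 2, 6, 5, 4, 3, 5, 4, 5, 6, 5, 4, 3, 2, 5, 7, 6, 5],
  [3, 4, 5, 4, 3, 2, 6, 5, 4, 3, 5, 4, 5, 6, 5, 4, 3, 5, 4, 3, 2, 6],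
  [3, 4, 5, 4, 3, 2, 6, 5, 4, 3, 5, 4, 5, 6, 5, 4, 3, 5, 4, 3, 6, 5],
  [3, 4, 5, 4, 3, 2, 6, 5, 4, 3, 5, 4, 5, 6, 5, 4, 3, 5, 4, 3, 6, 7],
  [3, 4, 5, 4, 3, 2, 6, 5, 4, 3, 5, 4, 5, 6, 5, 4, 3, 5, 4, 5, 6, 5],
  [3, 4, 5, 4, 3, 2, 6, 5, 4, 3, 5, 4, 5, 6, 5, 4, 3, 5, 4, 5, 6, 7],
  [3, 4, 5, 4, 3, 2, 6, 5, 4, 3, 5, 4, 5, 6, 5, 4, 3, 5, 4, 5, 7, 6],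
  [3, 4, 5, 4, 3, 2, 6, 5, 4, 3, 5, 4, 5, 6, 5, 4, 3, 5, 4, 6, 5, 7],
  [3, 4, 5, 4, 3, 2, 6, 5, 4, 3, 5, 4, 5, 6, 5, 4, 3, 5, 4, 6, 7, 6],
  [3, 4, 5, 4, 3, 2, 6, 5, 4, 3, 5, 4, 5, 6, 5, 4, 3, 5, 4, 7, 6, 5],
  [3, 4, 5, 4, 3, 2, 6, 5, 4, 3, 5, 4, 5, 6, 5, 4, 3, 5, 7, 6, 5, 4],
  [3, 4, 5, 4, 3, 2, 6, 5, 4, 3, 5, 4, 5, 6, 5, 4, 3, 7, 6, 5, 4, 3],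
  [3, 4, 5, 4, 3, 2, 6, 5, 4, 3, 5, 4, 5, 6, 5, 4, 3, 7, 6, 5, 4, 5],
  [3, 4, 5, 4, 3, 2, 6, 5, 4, 3, 5, 4, 5, 6, 5, 4, 5, 4, 3, 2, 6, 5],
  [3, 4, 5, 4, 3, 2, 6, 5, 4, 3, 5, 4, 5, 6, 5, 4, 5, 4, 3, 2, 6, 7],
  [3, 4, 5, 4, 3, 2, 6, 5, 4, 3, 5, 4, 5, 6, 5, 4, 5, 4, 3, 6, 5, 4],
  [3, 4, 5, 4, 3, 2, 6, 5, 4, 3, 5, 4, 5, 6, 5, 4, 7, 6, 5, 4, 3, 2],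
  [3, 4, 5, 4, 3, 2, 6, 5, 4, 3, 5, 4, 6, 5, 4, 3, 7, 6, 5, 4, 3, 2],
  [3, 4, 5, 4, 3, 2, 6, 5, 4, 3, 5, 4, 6, 5, 4, 3, 7, 6, 5, 4, 3, 5],
  [3, 4, 5, 4, 3, 2, 6, 5, 4, 3, 5, 4, 6, 5, 4, 7, 6, 5, 4, 3, 2, 5],
  [3, 4, 5, 4, 3, 2, 6, 5, 4, 3, 5, 4, 6, 5, 4, 7, 6, 5, 4, 3, 5, 4],
  [3, 4, 5, 4, 3, 2, 6, 5, 4, 3, 7, 6, 5, 4, 3, 5, 4, 6, 5, 4, 3, 5],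
  [3, 4, 5, 4, 3, 2, 6, 5, 4, 3, 7, 6, 5, 4, 3, 5, 4, 6, 5, 4, 3, 7],
  [3, 4, 5, 4, 3, 2, 6, 5, 4, 3, 7, 6, 5, 4, 3, 5, 4, 6, 5, 4, 5, 6],
  [3, 4, 5, 4, 3, 2, 6, 5, 4, 3, 7, 6, 5, 4, 3, 5, 4, 6, 5, 4, 7, 6],
  [3, 4, 5, 4, 3, 6, 5, 4, 3, 2, 5, 4, 3, 2, 6, 5, 4, 3, 2, 5, 4, 6],
  [3, 4, 5, 4, 3, 6, 5, 4, 3, 2, 5, 4, 3, 2, 6, 5, 4, 3, 2, 5, 6, 7],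
  [3, 4, 5, 4, 3, 6, 5, 4, 3, 2, 5, 4, 3, 2, 6, 5, 4, 3, 5, 4, 5, 6],
  [3, 4, 5, 4, 3, 6, 5, 4, 3, 2, 5, 4, 3, 2, 6, 5, 4, 3, 5, 4, 6, 5],
  [3, 4, 5, 4, 3, 6, 5, 4, 3, 2, 5, 4, 3, 2, 6, 5, 4, 3, 5, 4, 6, 7],
  [3, 4, 5, 4, 3, 6, 5, 4, 3, 2, 5, 4, 3, 2, 6, 5, 4, 3, 7, 6, 5, 4],
  [3, 4, 5, 4, 3, 6, 5, 4, 3, 2, 5, 4, 3, 2, 6, 5, 4, 7, 6, 5, 4, 3],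
  [3, 4, 5, 4, 3, 6, 5, 4, 3, 2, 5, 4, 3, 6, 5, 4, 3, 5, 4, 3, 2, 6],
  [3, 4, 5, 4, 3, 6, 5, 4, 3, 2, 5, 4, 3, 6, 5, 4, 3, 5, 4, 3, 6, 5],
  [3, 4, 5, 4, 3, 6, 5, 4, 3, 2, 5, 4, 3, 6, 5, 4, 3, 5, 4, 3, 6, 7],
  [3, 4, 5, 4, 3, 6, 5, 4, 3, 2, 5, 4, 3, 6, 5, 4, 3, 5, 4, 6, 5, 4],
  [3, 4, 5, 4, 3, 6, 5, 4, 3, 2, 5, 4, 3, 6, 5, 4, 3, 5, 4, 6, 5, 7],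
  [3, 4, 5, 4, 3, 6, 5, 4, 3, 2, 5, 4, 3, 6, 5, 4, 5, 4, 3, 2, 6, 5],
  [3, 4, 5, 4, 3, 6, 5, 4, 3, 2, 5, 4, 3, 6, 5, 4, 5, 4, 3, 2, 6, 7],
  [3, 4, 5, 4, 3, 6, 5, 4, 3, 2, 5, 4, 3, 6, 5, 4, 5, 4, 3, 6, 5, 4],
  [3, 4, 5, 4, 3, 6, 5, 4, 3, 2, 5, 4, 3, 6, 5, 4, 5, 4, 3, 6, 5, 7],
  [3, 4, 5, 4, 3, 6, 5, 4, 3, 2, 5, 4, 3, 6, 5, 4, 5, 4, 6, 5, 4, 3],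
  [3, 4, 5, 4, 3, 6, 5, 4, 3, 2, 5, 4, 3, 6, 5, 4, 5, 7, 6, 5, 4, 3],
  [3, 4, 5, 4, 3, 6, 5, 4, 3, 2, 5, 4, 3, 6, 5, 4, 7, 6, 5, 4, 3, 2],
  [3, 4, 5, 4, 3, 6, 5, 4, 3, 2, 5, 4, 3, 6, 5, 4, 7, 6, 5, 4, 3, 5],
  [3, 4, 5, 4, 3, 6, 5, 4, 3, 2, 5, 4, 3, 6, 5, 7, 6, 5, 4, 3, 2, 5],
  [3, 4, 5, 4, 3, 6, 5, 4, 3, 2, 5, 4, 3, 6, 5, 7, 6, 5, 4, 3, 5, 4],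
  [3, 4, 5, 4, 3, 6, 5, 4, 3, 2, 5, 4, 3, 6, 5, 7, 6, 5, 4, 5, 4, 3],
  [3, 4, 5, 4, 3, 6, 5, 4, 3, 2, 5, 4, 3, 7, 6, 5, 4, 3, 2, 5, 4, 6],
  [3, 4, 5, 4, 3, 6, 5, 4, 3, 2, 5, 4, 3, 7, 6, 5, 4, 3, 2, 5, 6, 7],
  [3, 4, 5, 4, 3, 6, 5, 4, 3, 2, 5, 4, 3, 7, 6, 5, 4, 3, 5, 4, 5, 6],
  [3, 4, 5, 4, 3, 6, 5, 4, 3, 2, 5, 4, 3, 7, 6, 5, 4, 3, 5, 4, 6, 5],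
  [3, 4, 5, 4, 3, 6, 5, 4, 3, 2, 5, 4, 3, 7, 6, 5, 4, 3, 5, 4, 6, 7],
  [3, 4, 5, 4, 3, 6, 5, 4, 3, 2, 5, 4, 7, 6, 5, 4, 3, 2, 5, 4, 3, 6],
  [3, 4, 5, 4, 3, 6, 5, 4, 3, 2, 5, 4, 7, 6, 5, 4, 3, 2, 5, 4, 5, 6],
  [3, 4, 5, 4, 3, 6, 5, 4, 3, 2, 5, 4, 7, 6, 5, 4, 3, 2, 5, 4, 6, 5],
  [3, 4, 5, 4, 3, 6, 5, 4, 3, 2, 5, 4, 7, 6, 5, 4, 3, 5, 4, 5, 4, 6],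
  [3, 4, 5, 4, 3, 6, 5, 4, 3, 2, 5, 4, 7, 6, 5, 4, 3, 5, 4, 5, 6, 5],
  [3, 4, 5, 4, 3, 6, 5, 4, 3, 2, 5, 4, 7, 6, 5, 4, 3, 5, 4, 5, 6, 7],
  [3, 4, 5, 4, 3, 6, 5, 4, 3, 2, 5, 4, 7, 6, 5, 4, 3, 5, 4, 6, 5, 4],
  [3, 4, 5, 4, 3, 6, 5, 4, 3, 2, 5, 6, 7, 6, 5, 4, 3, 2, 5, 4, 3, 6],
  [3, 4, 5, 4, 3, 6, 5, 4, 3, 2, 5, 6, 7, 6, 5, 4, 3, 2, 5, 4, 6, 5],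
  [3, 4, 5, 4, 3, 6, 5, 4, 3, 2, 5, 6, 7, 6, 5, 4, 3, 5, 4, 5, 6, 5],
  [3, 4, 5, 4, 3, 6, 5, 4, 3, 2, 5, 6, 7, 6, 5, 4, 3, 5, 4, 5, 6, 7],
  [3, 4, 5, 4, 3, 6, 5, 4, 3, 2, 5, 6, 7, 6, 5, 4, 3, 5, 4, 6, 5, 4],
  [3, 4, 5, 4, 3, 6, 5, 4, 3, 2, 5, 7, 6, 5, 4, 3, 5, 4, 3, 5, 6, 7],
  [3, 4, 5, 4, 3, 6, 5, 4, 3, 2, 5, 7, 6, 5, 4, 3, 5, 4, 5, 4, 3, 6],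
  [3, 4, 5, 4, 3, 6, 5, 4, 3, 2, 5, 7, 6, 5, 4, 3, 5, 4, 5, 4, 6, 5],
  [3, 4, 5, 4, 3, 6, 5, 4, 3, 2, 5, 7, 6, 5, 4, 3, 5, 4, 5, 4, 6, 7],
  [3, 4, 5, 4, 3, 6, 5, 4, 3, 5, 4, 3, 2, 5, 6, 5, 4, 3, 2, 5, 6, 7],
  [3, 4, 5, 4, 3, 6, 5, 4, 3, 5, 4, 3, 2, 5, 6, 5, 4, 3, 5, 4, 6, 7],
  [3, 4, 5, 4, 3, 6, 5, 4, 3, 5, 4, 3, 2, 5, 6, 5, 4, 3, 7, 6, 5, 4],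
  [3, 4, 5, 4, 3, 6, 5, 4, 3, 5, 4, 3, 2, 6, 5, 4, 3, 2, 5, 4, 3, 6],
  [3, 4, 5, 4, 3, 6, 5, 4, 3, 5, 4, 3, 2, 6, 5, 4, 3, 2, 5, 4, 5, 6],
  [3, 4, 5, 4, 3, 6, 5, 4, 3, 5, 4, 3, 2, 6, 5, 4, 3, 2, 5, 4, 6, 5],
  [3, 4, 5, 4, 3, 6, 5, 4, 3, 5, 4, 3, 2, 6, 5, 4, 3, 2, 5, 4, 6, 7],
  [3, 4, 5, 4, 3, 6, 5, 4, 3, 5, 4, 3, 2, 6, 5, 4, 3, 2, 7, 6, 5, 4],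
  [3, 4, 5, 4, 3, 6, 5, 4, 3, 5, 4, 3, 2, 6, 5, 4, 3, 5, 4, 5, 4, 6],
  [3, 4, 5, 4, 3, 6, 5, 4, 3, 5, 4, 3, 2, 6, 5, 4, 3, 5, 4, 5, 6, 5],
  [3, 4, 5, 4, 3, 6, 5, 4, 3, 5, 4, 3, 2, 6, 5, 4, 3, 5, 4, 5, 6, 7],
  [3, 4, 5, 4, 3, 6, 5, 4, 3, 5, 4, 3, 2, 6, 5, 4, 3, 7, 6, 5, 4, 3],
  [3, 4, 5, 4, 3, 6, 5, 4, 3, 5, 4, 3, 2, 6, 5, 4, 3, 7, 6, 5, 4, 5],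
  [3, 4, 5, 4, 3, 6, 5, 4, 3, 5, 4, 3, 2, 6, 5, 4, 7, 6, 5, 4, 3, 2],
  [3, 4, 5, 4, 3, 6, 5, 4, 3, 5, 4, 3, 5, 6, 5, 4, 3, 5, 4, 3, 6, 5],
  [3, 4, 5, 4, 3, 6, 5, 4, 3, 5, 4, 3, 5, 6, 5, 4, 3, 5, 4, 3, 6, 7],
  [3, 4, 5, 4, 3, 6, 5, 4, 3, 5, 4, 3, 5, 6, 5, 4, 3, 5, 4, 6, 5, 4],
  [3, 4, 5, 4, 3, 6, 5, 4, 3, 5, 4, 3, 5, 6, 5, 4, 3, 5, 4, 6, 5, 7],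
  [3, 4, 5, 4, 3, 6, 5, 4, 3, 5, 4, 3, 5, 6, 5, 4, 5, 4, 3, 2, 6, 5],
  [3, 4, 5, 4, 3, 6, 5, 4, 3, 5, 4, 3, 5, 6, 5, 4, 5, 4, 3, 2, 6, 7],
  [3, 4, 5, 4, 3, 6, 5, 4, 3, 5, 4, 3, 5, 6, 5, 4, 5, 4, 3, 6, 5, 4],
  [3, 4, 5, 4, 3, 6, 5, 4, 3, 5, 4, 3, 6, 5, 4, 3, 2, 5, 4, 3, 2, 6],
  [3, 4, 5, 4, 3, 6, 5, 4, 3, 5, 4, 3, 6, 5, 4, 3, 2, 5, 4, 3, 6, 5],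
  [3, 4, 5, 4, 3, 6, 5, 4, 3, 5, 4, 3, 6, 5, 4, 3, 2, 5, 4, 3, 6, 7],
  [3, 4, 5, 4, 3, 6, 5, 4, 3, 5, 4, 3, 6, 5, 4, 3, 2, 5, 4, 6, 5, 4],
  [3, 4, 5, 4, 3, 6, 5, 4, 3, 5, 4, 3, 6, 5, 4, 3, 2, 5, 4, 6, 5, 7],
  [3, 4, 5, 4, 3, 6, 5, 4, 3, 5, 4, 3, 6, 5, 4, 3, 2, 5, 4, 6, 7, 6],
  [3, 4, 5, 4, 3, 6, 5, 4, 3, 5, 4, 3, 6, 5, 4, 3, 2, 5, 4, 7, 6, 5],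
  [3, 4, 5, 4, 3, 6, 5, 4, 3, 5, 4, 3, 6, 5, 4, 3, 2, 5, 6, 7, 6, 5],
  [3, 4, 5, 4, 3, 6, 5, 4, 3, 5, 4, 3, 6, 5, 4, 3, 2, 5, 7, 6, 5, 4],
  [3, 4, 5, 4, 3, 6, 5, 4, 3, 5, 4, 3, 6, 5, 4, 3, 2, 7, 6, 5, 4, 3],
  [3, 4, 5, 4, 3, 6, 5, 4, 3, 5, 4, 3, 6, 5, 4, 3, 5, 4, 3, 2, 6, 5],
  [3, 4, 5, 4, 3, 6, 5, 4, 3, 5, 4, 3, 6, 5, 4, 3, 5, 4, 3, 6, 5, 4],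
  [3, 4, 5, 4, 3, 6, 5, 4, 3, 5, 4, 3, 6, 5, 4, 3, 5, 4, 3, 6, 5, 7],
  [3, 4, 5, 4, 3, 6, 5, 4, 3, 5, 4, 3, 6, 5, 4, 3, 5, 4, 5, 6, 5, 4],
  [3, 4, 5, 4, 3, 6, 5, 4, 3, 5, 4, 3, 6, 5, 4, 3, 5, 4, 5, 6, 5, 7],
  [3, 4, 5, 4, 3, 6, 5, 4, 3, 5, 4, 3, 6, 5, 4, 3, 5, 4, 5, 6, 7, 6],
  [3, 4, 5, 4, 3, 6, 5, 4, 3, 5, 4, 3, 6, 5, 4, 3, 5, 4, 5, 7, 6, 5],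
  [3, 4, 5, 4, 3, 6, 5, 4, 3, 5, 4, 3, 6, 5, 4, 3, 5, 4, 6, 5, 4, 3],
  [3, 4, 5, 4, 3, 6, 5, 4, 3, 5, 4, 3, 6, 5, 4, 3, 5, 4, 6, 5, 4, 5],
  [3, 4, 5, 4, 3, 6, 5, 4, 3, 5, 4, 3, 6, 5, 4, 3, 5, 4, 6, 5, 4, 7],
  [3, 4, 5, 4, 3, 6, 5, 4, 3, 5, 4, 3, 6, 5, 4, 3, 5, 4, 6, 5, 7, 6],
  [3, 4, 5, 4, 3, 6, 5, 4, 3, 5, 4, 3, 6, 5, 4, 3, 5, 4, 7, 6, 5, 4],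
  [3, 4, 5, 4, 3, 6, 5, 4, 3, 5, 4, 3, 6, 5, 4, 3, 5, 6, 7, 6, 5, 4],
  [3, 4, 5, 4, 3, 6, 5, 4, 3, 5, 4, 3, 6, 5, 4, 3, 5, 7, 6, 5, 4, 5],
  [3, 4, 5, 4, 3, 6, 5, 4, 3, 5, 4, 3, 6, 5, 4, 3, 7, 6, 5, 4, 3, 2],
  [3, 4, 5, 4, 3, 6, 5, 4, 3, 5, 4, 3, 6, 5, 4, 5, 4, 3, 2, 6, 5, 4],
  [3, 4, 5, 4, 3, 6, 5, 4, 3, 5, 4, 3, 6, 5, 4, 5, 4, 3, 6, 5, 4, 5],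
  [3, 4, 5, 4, 3, 6, 5, 4, 3, 5, 4, 3, 6, 5, 4, 5, 4, 3, 6, 5, 4, 7],
  [3, 4, 5, 4, 3, 6, 5, 4, 3, 5, 4, 5, 7, 6, 5, 4, 3, 2, 5, 4, 3, 6],
  [3, 4, 5, 4, 3, 6, 5, 4, 3, 5, 4, 5, 7, 6, 5, 4, 3, 2, 5, 4, 5, 6],
  [3, 4, 5, 4, 3, 6, 5, 4, 3, 5, 4, 5, 7, 6, 5, 4, 3, 2, 5, 4, 6, 5],
  [3, 4, 5, 4, 3, 6, 5, 4, 3, 5, 4, 5, 7, 6, 5, 4, 3, 5, 4, 5, 4, 6],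
  [3, 4, 5, 4, 3, 6, 5, 4, 3, 5, 4, 5, 7, 6, 5, 4, 3, 5, 4, 5, 6, 5],
  [3, 4, 5, 4, 3, 6, 5, 4, 3, 5, 4, 5, 7, 6, 5, 4, 3, 5, 4, 5, 6, 7],
  [3, 4, 5, 4, 3, 6, 5, 4, 3, 5, 4, 5, 7, 6, 5, 4, 3, 5, 4, 6, 5, 4],
  [3, 4, 5, 4, 3, 6, 5, 4, 3, 5, 4, 6, 5, 4, 3, 2, 5, 4, 3, 6, 5, 4],
  [3, 4, 5, 4, 3, 6, 5, 4, 3, 5, 4, 6, 5, 4, 3, 2, 5, 4, 5, 6, 5, 4],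
  [3, 4, 5, 4, 3, 6, 5, 4, 3, 5, 4, 6, 5, 4, 3, 2, 5, 4, 6, 5, 4, 3],
  [3, 4, 5, 4, 3, 6, 5, 4, 3, 5, 4, 6, 5, 4, 3, 5, 4, 5, 4, 6, 5, 4],
  [3, 4, 5, 4, 3, 6, 5, 4, 3, 5, 4, 6, 5, 4, 3, 5, 4, 5, 4, 6, 5, 7],
  [3, 4, 5, 4, 3, 6, 5, 4, 3, 5, 4, 7, 6, 5, 4, 3, 2, 5, 4, 3, 6, 5],
  [3, 4, 5, 4, 3, 6, 5, 4, 3, 5, 4, 7, 6, 5, 4, 3, 2, 5, 4, 6, 5, 4],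
  [3, 4, 5, 4, 3, 6, 5, 4, 3, 5, 6, 7, 6, 5, 4, 3, 2, 5, 4, 3, 6, 5],
  [3, 4, 5, 4, 3, 6, 5, 4, 3, 5, 6, 7, 6, 5, 4, 3, 2, 5, 4, 6, 5, 4],
  [3, 4, 5, 4, 3, 6, 5, 4, 3, 5, 6, 7, 6, 5, 4, 3, 5, 4, 5, 6, 5, 7],
  [3, 4, 5, 4, 3, 6, 5, 4, 3, 5, 7, 6, 5, 4, 3, 5, 4, 3, 2, 5, 6, 7]]
def ows1c18 : List (List Nat) := [[3, 4, 5, 4, 3, 6, 5, 4, 3, 5, 7, 6, 5, 4, 3, 5, 4, 3, 5, 4, 6, 5],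
  [3, 4, 5, 4, 3, 6, 5, 4, 3, 5, 7, 6, 5, 4, 3, 5, 4, 3, 5, 4, 6, 7],
  [3, 4, 5, 4, 3, 6, 5, 4, 5, 4, 3, 2, 6, 5, 4, 3, 2, 5, 4, 5, 6, 7],
  [3, 4, 5, 4, 3, 6, 5, 4, 5, 4, 3, 2, 6, 5, 4, 3, 2, 7, 6, 5, 4, 3],
  [3, 4, 5, 4, 3, 6, 5, 4, 5, 4, 3, 2, 6, 5, 4, 3, 5, 4, 5, 4, 6, 5],
  [3, 4, 5, 4, 3, 6, 5, 4, 5, 4, 3, 2, 6, 5, 4, 3, 5, 4, 5, 6, 5, 7],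
  [3, 4, 5, 4, 3, 6, 5, 4, 5, 4, 3, 2, 6, 5, 4, 3, 7, 6, 5, 4, 5, 6],
  [3, 4, 5, 4, 3, 6, 5, 4, 5, 4, 3, 6, 5, 4, 3, 2, 5, 4, 3, 2, 6, 5],
  [3, 4, 5, 4, 3, 6, 5, 4, 5, 4, 3, 6, 5, 4, 3, 2, 5, 4, 3, 2, 6, 7],
  [3, 4, 5, 4, 3, 6, 5, 4, 5, 4, 3, 6, 5, 4, 3, 2, 5, 4, 3, 6, 5, 4],
  [3, 4, 5, 4, 3, 6, 5, 4, 5, 4, 3, 6, 5, 4, 3, 2, 5, 4, 3, 6, 5, 7],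
  [3, 4, 5, 4, 3, 6, 5, 4, 5, 4, 3, 6, 5, 4, 3, 2, 5, 4, 3, 6, 7, 6],
  [3, 4, 5, 4, 3, 6, 5, 4, 5, 4, 3, 6, 5, 4, 3, 2, 5, 4, 3, 7, 6, 5],
  [3, 4, 5, 4, 3, 6, 5, 4, 5, 4, 3, 6, 5, 4, 3, 2, 5, 4, 6, 5, 4, 3],
  [3, 4, 5, 4, 3, 6, 5, 4, 5, 4, 3, 6, 5, 4, 3, 2, 5, 4, 6, 5, 7, 6],
  [3, 4, 5, 4, 3, 6, 5, 4, 5, 4, 3, 6, 5, 4, 3, 2, 5, 4, 6, 7, 6, 5],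
  [3, 4, 5, 4, 3, 6, 5, 4, 5, 4, 3, 6, 5, 4, 3, 2, 5, 4, 7, 6, 5, 4],
  [3, 4, 5, 4, 3, 6, 5, 4, 5, 4, 3, 6, 5, 4, 3, 2, 5, 6, 7, 6, 5, 4],
  [3, 4, 5, 4, 3, 6, 5, 4, 5, 4, 3, 6, 5, 4, 3, 2, 5, 7, 6, 5, 4, 3],
  [3, 4, 5, 4, 3, 6, 5, 4, 5, 4, 3, 6, 5, 4, 3, 2, 5, 7, 6, 5, 4, 5],
  [3, 4, 5, 4, 3, 6, 5, 4, 5, 4, 3, 6, 5, 4, 3, 2, 7, 6, 5, 4, 3, 2],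
  [3, 4, 5, 4, 3, 6, 5, 4, 5, 4, 3, 6, 5, 4, 3, 5, 4, 3, 2, 5, 6, 5],
  [3, 4, 5, 4, 3, 6, 5, 4, 5, 4, 3, 6, 5, 4, 3, 5, 4, 3, 2, 5, 6, 7],
  [3, 4, 5, 4, 3, 6, 5, 4, 5, 4, 3, 6, 5, 4, 3, 5, 4, 3, 2, 6, 5, 4],
  [3, 4, 5, 4, 3, 6, 5, 4, 5, 4, 3, 6, 5, 4, 3, 5, 4, 3, 2, 6, 5, 7],
  [3, 4, 5, 4, 3, 6, 5, 4, 5, 4, 3, 6, 5, 4, 3, 5, 4, 3, 5, 4, 6, 5],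
  [3, 4, 5, 4, 3, 6, 5, 4, 5, 4, 3, 6, 5, 4, 3, 5, 4, 3, 5, 4, 6, 7],
  [3, 4, 5, 4, 3, 6, 5, 4, 5, 4, 3, 6, 5, 4, 3, 5, 4, 3, 5, 6, 5, 4],
  [3, 4, 5, 4, 3, 6, 5, 4, 5, 4, 3, 6, 5, 4, 3, 5, 4, 3, 5, 6, 5, 7],
  [3, 4, 5, 4, 3, 6, 5, 4, 5, 4, 3, 6, 5, 4, 3, 5, 4, 3, 6, 5, 4, 3],
  [3, 4, 5, 4, 3, 6, 5, 4, 5, 4, 3, 6, 5, 4, 3, 5, 4, 3, 6, 5, 4, 5],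
  [3, 4, 5, 4, 3, 6, 5, 4, 5, 4, 3, 6, 5, 4, 3, 5, 4, 3, 6, 5, 4, 7],
  [3, 4, 5, 4, 3, 6, 5, 4, 5, 4, 3, 6, 5, 4, 3, 5, 4, 3, 6, 5, 7, 6],
  [3, 4, 5, 4, 3, 6, 5, 4, 5, 4, 3, 6, 5, 4, 3, 5, 4, 5, 6, 5, 4, 3],
  [3, 4, 5, 4, 3, 6, 5, 4, 5, 4, 3, 6, 5, 4, 3, 5, 4, 5, 6, 5, 7, 6],
  [3, 4, 5, 4, 3, 6, 5, 4, 5, 4, 3, 6, 5, 4, 3, 5, 4, 5, 6, 7, 6, 5],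
  [3, 4, 5, 4, 3, 6, 5, 4, 5, 4, 3, 6, 5, 4, 3, 5, 4, 5, 7, 6, 5, 4],
  [3, 4, 5, 4, 3, 6, 5, 4, 5, 4, 3, 6, 5, 4, 3, 5, 4, 6, 5, 4, 3, 2],
  [3, 4, 5, 4, 3, 6, 5, 4, 5, 4, 3, 6, 5, 4, 3, 5, 4, 6, 5, 7, 6, 5],
  [3, 4, 5, 4, 3, 6, 5, 4, 5, 4, 3, 6, 5, 4, 3, 5, 6, 7, 6, 5, 4, 3],
  [3, 4, 5, 4, 3, 6, 5, 4, 5, 4, 3, 6, 5, 4, 3, 5, 6, 7, 6, 5, 4, 5],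
  [3, 4, 5, 4, 3, 6, 5, 4, 5, 4, 3, 6, 5, 4, 3, 5, 7, 6, 5, 4, 3, 2],
  [3, 4, 5, 4, 3, 6, 5, 4, 5, 4, 3, 6, 5, 4, 3, 5, 7, 6, 5, 4, 3, 5],
  [3, 4, 5, 4, 3, 6, 5, 4, 5, 4, 3, 6, 5, 4, 3, 5, 7, 6, 5, 4, 5, 4],
  [3, 4, 5, 4, 3, 6, 5, 4, 5, 4, 3, 6, 5, 4, 3, 5, 7, 6, 5, 4, 5, 6],
  [3, 4, 5, 4, 3, 6, 5, 4, 5, 4, 3, 6, 5, 4, 3, 7, 6, 5, 4, 3, 2, 5],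
  [3, 4, 5, 4, 3, 6, 5, 4, 5, 4, 3, 6, 5, 4, 3, 7, 6, 5, 4, 3, 5, 4],
  [3, 4, 5, 4, 3, 6, 5, 4, 5, 4, 3, 6, 5, 4, 3, 7, 6, 5, 4, 3, 5, 6],
  [3, 4, 5, 4, 3, 6, 5, 4, 5, 4, 3, 6, 5, 4, 3, 7, 6, 5, 4, 5, 6, 7],
  [3, 4, 5, 4, 3, 6, 5, 4, 5, 4, 3, 6, 5, 4, 5, 4, 3, 2, 6, 5, 4, 3],
  [3, 4, 5, 4, 3, 6, 5, 4, 5, 4, 3, 6, 5, 4, 5, 4, 3, 2, 6, 5, 4, 5],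
  [3, 4, 5, 4, 3, 6, 5, 4, 5, 4, 3, 6, 5, 4, 5, 4, 3, 2, 6, 5, 4, 7],
  [3, 4, 5, 4, 3, 6, 5, 4, 5, 4, 3, 6, 5, 4, 5, 4, 3, 6, 5, 4, 3, 5],
  [3, 4, 5, 4, 3, 6, 5, 4, 5, 4, 3, 6, 5, 4, 5, 4, 3, 6, 5, 4, 5, 4],
  [3, 4, 5, 4, 3, 6, 5, 4, 5, 4, 3, 6, 5, 4, 5, 6, 7, 6, 5, 4, 3, 2],
  [3, 4, 5, 4, 3, 6, 5, 4, 5, 4, 6, 5, 4, 3, 2, 5, 4, 3, 5, 4, 6, 5],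
  [3, 4, 5, 4, 3, 6, 5, 4, 5, 4, 6, 5, 4, 3, 2, 5, 4, 3, 5, 4, 6, 7],
  [3, 4, 5, 4, 3, 6, 5, 4, 5, 4, 6, 5, 4, 3, 5, 4, 5, 4, 3, 2, 6, 5],
  [3, 4, 5, 4, 3, 6, 5, 4, 5, 4, 6, 5, 4, 3, 5, 4, 5, 4, 3, 2, 6, 7],
  [3, 4, 5, 4, 3, 6, 5, 4, 5, 4, 6, 5, 4, 3, 5, 4, 5, 4, 3, 6, 5, 4],
  [3, 4, 5, 4, 3, 6, 5, 4, 5, 4, 6, 5, 4, 3, 5, 4, 5, 4, 3, 6, 5, 7],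
  [3, 4, 5, 4, 3, 6, 5, 4, 5, 4, 6, 5, 4, 3, 5, 4, 5, 4, 6, 5, 4, 3],
  [3, 4, 5, 4, 3, 6, 5, 4, 5, 4, 6, 5, 4, 3, 5, 4, 5, 4, 6, 5, 4, 5],
  [3, 4, 5, 4, 3, 6, 5, 4, 5, 4, 6, 5, 4, 3, 5, 4, 5, 4, 6, 5, 4, 7],
  [3, 4, 5, 4, 3, 6, 5, 4, 5, 4, 6, 5, 4, 3, 5, 4, 5, 4, 6, 5, 7, 6],
  [3, 4, 5, 4, 3, 6, 5, 4, 5, 7, 6, 5, 4, 3, 2, 5, 4, 3, 5, 4, 5, 6],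
  [3, 4, 5, 4, 3, 6, 5, 4, 5, 7, 6, 5, 4, 3, 2, 5, 4, 3, 5, 4, 6, 5],
  [3, 4, 5, 4, 3, 6, 5, 4, 5, 7, 6, 5, 4, 3, 2, 5, 4, 3, 5, 4, 6, 7],
  [3, 4, 5, 4, 3, 6, 5, 4, 5, 7, 6, 5, 4, 3, 2, 5, 4, 3, 5, 6, 5, 4],
  [3, 4, 5, 4, 3, 6, 5, 4, 5, 7, 6, 5, 4, 3, 2, 5, 4, 3, 5, 6, 5, 7],
  [3, 4, 5, 4, 3, 6, 5, 4, 5, 7, 6, 5, 4, 3, 2, 5, 4, 3, 6, 5, 4, 5],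
  [3, 4, 5, 4, 3, 6, 5, 4, 5, 7, 6, 5, 4, 3, 5, 4, 5, 4, 3, 2, 6, 5],
  [3, 4, 5, 4, 3, 6, 5, 4, 5, 7, 6, 5, 4, 3, 5, 4, 5, 4, 3, 2, 6, 7],
  [3, 4, 5, 4, 3, 6, 5, 4, 5, 7, 6, 5, 4, 3, 5, 4, 5, 4, 3, 6, 5, 4],
  [3, 4, 5, 4, 3, 6, 5, 4, 5, 7, 6, 5, 4, 3, 5, 4, 5, 4, 3, 6, 5, 7],
  [3, 4, 5, 4, 3, 6, 5, 4, 5, 7, 6, 5, 4, 3, 5, 4, 5, 4, 6, 5, 4, 3],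
  [3, 4, 5, 4, 3, 6, 5, 4, 5, 7, 6, 5, 4, 3, 5, 4, 5, 4, 6, 5, 4, 7],
  [3, 4, 5, 4, 3, 6, 5, 4, 5, 7, 6, 5, 4, 3, 5, 4, 5, 4, 6, 5, 7, 6],
  [3, 4, 5, 4, 3, 6, 5, 4, 5, 7, 6, 5, 4, 3, 5, 4, 5, 6, 5, 4, 3, 2],
  [3, 4, 5, 4, 3, 6, 5, 4, 7, 6, 5, 4, 3, 2, 5, 4, 3, 6, 5, 4, 3, 2],
  [3, 4, 5, 4, 3, 6, 5, 4, 7, 6, 5, 4, 3, 2, 5, 4, 3, 6, 5, 4, 3, 5],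
  [3, 4, 5, 4, 3, 6, 5, 4, 7, 6, 5, 4, 3, 2, 5, 4, 5, 6, 5, 4, 5, 4],
  [3, 4, 5, 4, 3, 6, 5, 4, 7, 6, 5, 4, 3, 5, 4, 5, 4, 6, 5, 4, 7, 6],
  [3, 4, 5, 4, 3, 6, 5, 4, 7, 6, 5, 4, 3, 5, 4, 5, 6, 5, 4, 3, 5, 6],
  [3, 4, 5, 4, 3, 6, 5, 4, 7, 6, 5, 4, 3, 5, 4, 5, 6, 5, 4, 5, 4, 3],
  [3, 4, 5, 4, 3, 6, 5, 4, 7, 6, 5, 4, 3, 5, 4, 5, 6, 5, 4, 5, 4, 6],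
  [3, 4, 5, 4, 3, 6, 5, 4, 7, 6, 5, 4, 3, 5, 4, 5, 6, 5, 4, 5, 6, 7],
  [3, 4, 5, 4, 3, 6, 5, 4, 7, 6, 5, 4, 3, 5, 4, 6, 5, 4, 3, 2, 5, 6],
  [3, 4, 5, 4, 3, 6, 5, 4, 7, 6, 5, 4, 3, 5, 4, 6, 5, 4, 3, 5, 4, 6],
  [3, 4, 5, 4, 3, 6, 5, 4, 7, 6, 5, 4, 3, 5, 4, 6, 5, 4, 3, 5, 6, 7],
  [3, 4, 5, 4, 6, 5, 4, 3, 2, 5, 4, 3, 5, 4, 6, 5, 4, 3, 2, 7, 6, 5],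
  [3, 4, 5, 4, 6, 5, 4, 3, 2, 5, 4, 3, 5, 4, 6, 5, 4, 3, 7, 6, 5, 4],
  [3, 4, 5, 4, 6, 5, 4, 3, 2, 5, 4, 3, 5, 4, 6, 5, 4, 7, 6, 5, 4, 3],
  [3, 4, 5, 4, 6, 5, 4, 3, 2, 5, 4, 3, 5, 6, 5, 4, 3, 5, 4, 3, 2, 6],
  [3, 4, 5, 4, 6, 5, 4, 3, 2, 5, 4, 3, 5, 6, 5, 4, 3, 5, 4, 3, 6, 7],
  [3, 4, 5, 4, 6, 5, 4, 3, 2, 5, 4, 3, 5, 6, 5, 4, 3, 5, 4, 5, 4, 3],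
  [3, 4, 5, 4, 6, 5, 4, 3, 2, 5, 4, 3, 5, 6, 5, 4, 3, 5, 4, 5, 4, 6],
  [3, 4, 5, 4, 6, 5, 4, 3, 2, 5, 4, 3, 5, 6, 5, 4, 3, 5, 4, 5, 6, 7],
  [3, 4, 5, 4, 6, 5, 4, 3, 2, 5, 4, 3, 5, 6, 5, 4, 5, 4, 3, 2, 6, 5],
  [3, 4, 5, 4, 6, 5, 4, 3, 2, 5, 4, 3, 5, 6, 5, 4, 5, 4, 3, 2, 6, 7],
  [3, 4, 5, 4, 6, 5, 4, 3, 2, 5, 4, 3, 5, 6, 5, 4, 5, 4, 3, 6, 5, 4],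
  [3, 4, 5, 4, 6, 5, 4, 3, 2, 5, 4, 3, 5, 6, 5, 4, 5, 4, 3, 6, 5, 7],
  [3, 4, 5, 4, 6, 5, 4, 3, 2, 5, 4, 5, 6, 5, 4, 3, 2, 5, 4, 3, 2, 5],
  [3, 4, 5, 4, 6, 5, 4, 3, 2, 5, 4, 5, 6, 5, 4, 3, 2, 5, 4, 3, 5, 4],
  [3, 4, 5, 4, 6, 5, 4, 3, 2, 5, 4, 5, 6, 5, 4, 3, 2, 5, 4, 3, 5, 6],
  [3, 4, 5, 4, 6, 5, 4, 3, 2, 5, 4, 5, 6, 5, 4, 3, 2, 5, 4, 5, 6, 7],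
  [3, 4, 5, 4, 6, 5, 4, 3, 2, 5, 4, 5, 6, 5, 4, 3, 5, 4, 3, 2, 5, 6],
  [3, 4, 5, 4, 6, 5, 4, 3, 2, 5, 4, 5, 6, 5, 4, 3, 5, 4, 3, 5, 4, 3],
  [3, 4, 5, 4, 6, 5, 4, 3, 2, 5, 4, 5, 6, 5, 4, 3, 5, 4, 3, 5, 4, 6],
  [3, 4, 5, 4, 6, 5, 4, 3, 2, 5, 4, 5, 6, 5, 4, 3, 5, 4, 5, 4, 3, 6],
  [3, 4, 5, 4, 6, 5, 4, 3, 2, 5, 4, 5, 6, 5, 4, 3, 5, 4, 5, 4, 6, 5],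
  [3, 4, 5, 4, 6, 5, 4, 3, 2, 5, 4, 5, 6, 5, 4, 3, 5, 4, 5, 7, 6, 5],
  [3, 4, 5, 4, 6, 5, 4, 3, 5, 4, 5, 4, 3, 2, 6, 5, 4, 3, 2, 5, 4, 3],
  [3, 4, 5, 4, 6, 5, 4, 3, 5, 4, 5, 4, 3, 2, 6, 5, 4, 3, 2, 5, 4, 5],
  [3, 4, 5, 4, 6, 5, 4, 3, 5, 4, 5, 4, 3, 2, 6, 5, 4, 3, 2, 5, 4, 6],
  [3, 4, 5, 4, 6, 5, 4, 3, 5, 4, 5, 4, 3, 2, 6, 5, 4, 3, 2, 5, 6, 7],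
  [3, 4, 5, 4, 6, 5, 4, 3, 5, 4, 5, 4, 3, 2, 6, 5, 4, 3, 2, 7, 6, 5],
  [3, 4, 5, 4, 6, 5, 4, 3, 5, 4, 5, 4, 3, 2, 6, 5, 4, 3, 5, 4, 5, 4],
  [3, 4, 5, 4, 6, 5, 4, 3, 5, 4, 5, 4, 3, 2, 6, 5, 4, 3, 5, 4, 6, 5],
  [3, 4, 5, 4, 6, 5, 4, 3, 5, 4, 5, 4, 3, 2, 6, 5, 4, 3, 5, 4, 6, 7],
  [3, 4, 5, 4, 6, 5, 4, 3, 5, 4, 5, 4, 3, 2, 6, 5, 4, 3, 7, 6, 5, 4],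
  [3, 4, 5, 4, 6, 5, 4, 3, 5, 4, 5, 4, 3, 6, 5, 4, 3, 2, 5, 4, 3, 2],
  [3, 4, 5, 4, 6, 5, 4, 3, 5, 4, 5, 4, 3, 6, 5, 4, 3, 2, 5, 4, 3, 6],
  [3, 4, 5, 4, 6, 5, 4, 3, 5, 4, 5, 4, 3, 6, 5, 4, 3, 5, 4, 3, 2, 6],
  [3, 4, 5, 4, 6, 5, 4, 3, 5, 4, 5, 4, 3, 6, 5, 4, 3, 5, 4, 3, 5, 6],
  [3, 4, 5, 4, 6, 5, 4, 3, 5, 4, 5, 4, 3, 6, 5, 4, 3, 5, 4, 3, 6, 5],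
  [3, 4, 5, 4, 6, 5, 4, 3, 5, 4, 5, 4, 3, 6, 5, 4, 3, 5, 4, 3, 6, 7],
  [3, 4, 5, 4, 6, 5, 4, 3, 5, 4, 5, 4, 3, 6, 5, 4, 3, 5, 4, 5, 6, 5],
  [3, 4, 5, 4, 6, 5, 4, 3, 5, 4, 5, 4, 3, 6, 5, 4, 3, 5, 4, 6, 5, 4],
  [3, 4, 5, 4, 6, 5, 4, 3, 5, 4, 5, 4, 3, 6, 5, 4, 5, 4, 6, 5, 4, 3],
  [3, 4, 5, 4, 6, 5, 4, 3, 5, 4, 5, 4, 3, 6, 5, 4, 7, 6, 5, 4, 3, 2],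
  [3, 4, 5, 4, 6, 5, 4, 3, 5, 4, 5, 4, 6, 5, 4, 3, 2, 5, 4, 3, 5, 4],
  [3, 4, 5, 4, 6, 5, 4, 3, 5, 4, 5, 6, 5, 4, 3, 2, 5, 4, 3, 2, 5, 6],
  [3, 4, 5, 4, 6, 5, 4, 3, 5, 4, 5, 6, 5, 4, 3, 5, 4, 3, 5, 4, 6, 5],
  [3, 4, 5, 4, 6, 5, 4, 3, 5, 4, 5, 6, 5, 4, 3, 5, 4, 3, 5, 4, 6, 7],
  [3, 4, 5, 4, 6, 5, 4, 3, 5, 4, 5, 6, 5, 4, 3, 5, 4, 5, 7, 6, 5, 4],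
  [3, 4, 5, 4, 6, 5, 4, 3, 5, 4, 5, 6, 5, 4, 3, 5, 4, 7, 6, 5, 4, 3],
  [3, 4, 5, 4, 6, 5, 4, 3, 5, 4, 5, 6, 5, 4, 3, 5, 4, 7, 6, 5, 4, 5],
  [3, 2, 4, 3, 5, 4, 3, 2, 5, 6, 5, 4, 3, 2, 5, 7, 6, 5, 4, 3, 5, 4, 5],
  [3, 2, 4, 3, 5, 4, 3, 2, 5, 6, 5, 4, 3, 5, 4, 3, 5, 6, 5, 4, 3, 2, 5],
  [3, 2, 4, 3, 5, 4, 3, 2, 5, 6, 5, 4, 3, 5, 4, 3, 5, 6, 5, 4, 3, 5, 4],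
  [3, 2, 4, 3, 5, 4, 3, 2, 5, 6, 5, 4, 3, 5, 4, 3, 5, 6, 5, 4, 3, 5, 6],
  [3, 2, 4, 3, 5, 4, 3, 2, 5, 6, 5, 4, 3, 5, 4, 3, 6, 5, 4, 3, 2, 5, 6],
  [3, 2, 4, 3, 5, 4, 3, 2, 5, 6, 5, 4, 3, 5, 4, 3, 6, 5, 4, 3, 5, 4, 6],
  [3, 2, 4, 3, 5, 4, 3, 2, 5, 6, 5, 4, 3, 5, 4, 3, 6, 5, 4, 3, 5, 6, 7],
  [3, 2, 4, 3, 5, 4, 3, 2, 5, 6, 5, 4, 3, 5, 4, 5, 6, 5, 4, 3, 2, 5, 4],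
  [3, 2, 4, 3, 5, 4, 3, 2, 5, 6, 5, 4, 3, 5, 4, 5, 6, 5, 4, 3, 2, 5, 7],
  [3, 2, 4, 3, 5, 4, 3, 2, 5, 6, 5, 4, 3, 5, 4, 5, 6, 5, 4, 3, 5, 4, 3],
  [3, 2, 4, 3, 5, 4, 3, 2, 5, 6, 5, 4, 3, 5, 4, 5, 6, 5, 4, 3, 5, 4, 5],
  [3, 2, 4, 3, 5, 4, 3, 2, 5, 6, 5, 4, 3, 5, 4, 5, 6, 5, 4, 3, 5, 4, 7],
  [3, 2, 4, 3, 5, 4, 3, 2, 5, 6, 5, 4, 3, 5, 4, 5, 6, 5, 4, 3, 5, 7, 6],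
  [3, 2, 4, 3, 5, 4, 3, 2, 5, 6, 5, 4, 3, 5, 4, 5, 6, 5, 4, 5, 4, 3, 2],
  [3, 2, 4, 3, 5, 4, 3, 2, 5, 6, 5, 4, 3, 5, 7, 6, 5, 4, 5, 4, 3, 2, 6],
  [3, 2, 4, 3, 5, 4, 3, 2, 6, 5, 4, 3, 2, 7, 6, 5, 4, 3, 2, 5, 4, 6, 5],
  [3, 2, 4, 3, 5, 4, 3, 2, 6, 5, 4, 3, 2, 7, 6, 5, 4, 3, 2, 5, 4, 6, 7],
  [3, 2, 4, 3, 5, 4, 3, 2, 6, 5, 4, 3, 2, 7, 6, 5, 4, 3, 5, 4, 5, 6, 5],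
  [3, 2, 4, 3, 5, 4, 3, 2, 6, 5, 4, 3, 2, 7, 6, 5, 4, 3, 5, 4, 5, 6, 7],
  [3, 2, 4, 3, 5, 4, 3, 2, 6, 5, 4, 3, 2, 7, 6, 5, 4, 3, 5, 4, 6, 5, 4],
  [3, 2, 4, 3, 5, 4, 3, 2, 6, 5, 4, 3, 2, 7, 6, 5, 4, 3, 5, 4, 6, 5, 7],
  [3, 2, 4, 3, 5, 4, 3, 2, 6, 5, 4, 3, 7, 6, 5, 4, 3, 5, 4, 3, 2, 6, 5],
  [3, 2, 4, 3, 5, 4, 3, 2, 6, 5, 4, 3, 7, 6, 5, 4, 3, 5, 4, 3, 2, 6, 7],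
  [3, 2, 4, 3, 5, 4, 3, 2, 6, 5, 4, 3, 7, 6, 5, 4, 3, 5, 4, 3, 6, 5, 4],
  [3, 2, 4, 3, 5, 4, 3, 2, 6, 5, 4, 3, 7, 6, 5, 4, 3, 5, 4, 3, 6, 5, 7],
  [3, 2, 4, 3, 5, 4, 3, 2, 6, 5, 4, 3, 7, 6, 5, 4, 3, 5, 4, 6, 5, 4, 3],
  [3, 2, 4, 3, 5, 4, 3, 2, 6, 5, 4, 3, 7, 6, 5, 4, 3, 5, 4, 6, 5, 7, 6],
  [3, 2, 4, 3, 5, 4, 3, 2, 6, 5, 4, 3, 7, 6, 5, 4, 5, 4, 3, 2, 6, 5, 4],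
  [3, 2, 4, 3, 5, 4, 3, 2, 6, 5, 4, 3, 7, 6, 5, 4, 5, 4, 3, 2, 6, 5, 7],
  [3, 2, 4, 3, 5, 4, 3, 2, 6, 5, 4, 3, 7, 6, 5, 4, 5, 4, 3, 6, 5, 4, 3],
  [3, 2, 4, 3, 5, 4, 3, 2, 6, 5, 4, 3, 7, 6, 5, 4, 5, 4, 3, 6, 5, 4, 5],
  [3, 2, 4, 3, 5, 4, 3, 2, 6, 5, 4, 3, 7, 6, 5, 4, 5, 4, 3, 6, 5, 4, 7],
  [3, 2, 4, 3, 5, 4, 3, 2, 6, 5, 4, 3, 7, 6, 5, 4, 5, 4, 6, 5, 4, 3, 2],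
  [3, 2, 4, 3, 5, 4, 3, 2, 6, 5, 4, 3, 7, 6, 5, 4, 5, 4, 6, 5, 4, 3, 5],
  [3, 2, 4, 3, 5, 4, 3, 2, 6, 5, 4, 3, 7, 6, 5, 4, 5, 4, 6, 5, 4, 3, 7],
  [3, 2, 4, 3, 5, 4, 3, 5, 6, 5, 4, 3, 2, 5, 4, 3, 2, 6, 5, 4, 3, 5, 6],
  [3, 2, 4, 3, 5, 4, 3, 5, 6, 5, 4, 3, 2, 5, 4, 3, 2, 6, 5, 4, 3, 7, 6],
  [3, 2, 4, 3, 5, 4, 3, 5, 6, 5, 4, 3, 2, 5, 4, 3, 5, 6, 5, 4, 3, 2, 5],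
  [3, 2, 4, 3, 5, 4, 3, 5, 6, 5, 4, 3, 2, 5, 4, 3, 5, 6, 5, 4, 3, 2, 7],
  [3, 2, 4, 3, 5, 4, 3, 5, 6, 5, 4, 3, 2, 5, 4, 3, 5, 6, 5, 4, 3, 5, 4],
  [3, 2, 4, 3, 5, 4, 3, 5, 6, 5, 4, 3, 2, 5, 4, 3, 5, 6, 5, 4, 3, 5, 6],
  [3, 2, 4, 3, 5, 4, 3, 5, 6, 5, 4, 3, 2, 5, 4, 3, 5, 6, 5, 4, 3, 5, 7],
  [3, 2, 4, 3, 5, 4, 3, 5, 6, 5, 4, 3, 2, 5, 4, 3, 5, 6, 5, 4, 5, 4, 6],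
  [3, 2, 4, 3, 5, 4, 3, 5, 6, 5, 4, 3, 2, 5, 4, 3, 5, 6, 5, 4, 5, 6, 7],
  [3, 2, 4, 3, 5, 4, 3, 5, 6, 5, 4, 3, 2, 5, 4, 3, 5, 6, 5, 4, 7, 6, 5],
  [3, 2, 4, 3, 5, 4, 3, 5, 6, 5, 4, 3, 2, 5, 4, 3, 6, 5, 4, 3, 2, 5, 6],
  [3, 2, 4, 3, 5, 4, 3, 5, 6, 5, 4, 3, 2, 5, 4, 3, 6, 5, 4, 3, 5, 4, 6],
  [3, 2, 4, 3, 5, 4, 3, 5, 6, 5, 4, 3, 2, 5, 4, 3, 6, 5, 4, 7, 6, 5, 4],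
  [3, 2, 4, 3, 5, 4, 3, 5, 6, 5, 4, 3, 2, 5, 4, 5, 6, 5, 4, 3, 2, 5, 4],
  [3, 2, 4, 3, 5, 4, 3, 5, 6, 5, 4, 3, 2, 5, 4, 5, 6, 5, 4, 3, 2, 5, 7],
  [3, 2, 4, 3, 5, 4, 3, 5, 6, 5, 4, 3, 2, 5, 4, 5, 6, 5, 4, 3, 5, 4, 3],
  [3, 2, 4, 3, 5, 4, 3, 5, 6, 5, 4, 3, 2, 5, 4, 5, 6, 5, 4, 3, 5, 4, 5],
  [3, 2, 4, 3, 5, 4, 3, 5, 6, 5, 4, 3, 2, 5, 4, 5, 6, 5, 4, 3, 5, 4, 7],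
  [3, 2, 4, 3, 5, 4, 3, 5, 6, 5, 4, 3, 2, 5, 4, 5, 6, 5, 4, 5, 4, 3, 2],
  [3, 2, 4, 3, 5, 4, 3, 5, 6, 5, 4, 3, 2, 5, 4, 7, 6, 5, 4, 3, 2, 5, 6],
  [3, 2, 4, 3, 5, 4, 3, 5, 6, 5, 4, 3, 2, 5, 6, 7, 6, 5, 4, 3, 5, 4, 5],
  [3, 2, 4, 3, 5, 4, 3, 5, 6, 5, 4, 3, 2, 5, 6, 7, 6, 5, 4, 3, 5, 4, 6],
  [3, 2, 4, 3, 5, 4, 3, 5, 6, 5, 4, 3, 2, 5, 7, 6, 5, 4, 3, 5, 4, 5, 6],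
  [3, 2, 4, 3, 5, 4, 3, 5, 6, 5, 4, 3, 5, 4, 3, 5, 6, 5, 4, 3, 2, 5, 4],
  [3, 2, 4, 3, 5, 4, 3, 5, 6, 5, 4, 3, 5, 4, 3, 5, 6, 5, 4, 3, 2, 5, 6],
  [3, 2, 4, 3, 5, 4, 3, 5, 6, 5, 4, 3, 5, 4, 3, 5, 6, 5, 4, 3, 2, 7, 6],
  [3, 2, 4, 3, 5, 4, 3, 5, 6, 5, 4, 3, 5, 4, 3, 5, 6, 5, 4, 3, 5, 4, 5]]
def ows1c19 : List (List Nat) := [[3, 2, 4, 3, 5, 4, 3, 5, 6, 5, 4, 3, 5, 4, 3, 5, 6, 5, 4, 3, 5, 4, 6],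
  [3, 2, 4, 3, 5, 4, 3, 5, 6, 5, 4, 3, 5, 4, 3, 6, 5, 4, 3, 2, 5, 4, 6],
  [3, 2, 4, 3, 5, 4, 3, 5, 6, 5, 4, 3, 5, 4, 3, 6, 5, 4, 3, 5, 4, 5, 6],
  [3, 2, 4, 3, 5, 4, 3, 5, 6, 5, 4, 3, 5, 4, 3, 6, 5, 4, 3, 5, 4, 6, 5],
  [3, 2, 4, 3, 5, 4, 3, 5, 6, 5, 4, 3, 5, 4, 5, 4, 3, 6, 5, 4, 3, 5, 4],
  [3, 2, 4, 3, 5, 4, 3, 5, 6, 5, 4, 3, 5, 4, 5, 4, 3, 6, 5, 4, 3, 5, 7],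
  [3, 2, 4, 3, 5, 4, 3, 5, 6, 5, 4, 3, 5, 4, 5, 4, 3, 6, 5, 4, 3, 7, 6],
  [3, 2, 4, 3, 5, 4, 3, 5, 6, 5, 4, 3, 5, 4, 5, 4, 3, 6, 5, 4, 5, 4, 6],
  [3, 2, 4, 3, 5, 4, 3, 5, 6, 5, 4, 3, 5, 4, 5, 4, 3, 6, 5, 4, 5, 6, 7],
  [3, 2, 4, 3, 5, 4, 3, 5, 6, 5, 4, 3, 5, 4, 5, 4, 3, 6, 5, 4, 7, 6, 5],
  [3, 2, 4, 3, 5, 4, 3, 5, 6, 5, 4, 3, 5, 4, 5, 4, 6, 5, 4, 3, 2, 5, 4],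
  [3, 2, 4, 3, 5, 4, 3, 5, 6, 5, 4, 3, 5, 4, 5, 4, 6, 5, 4, 3, 2, 7, 6],
  [3, 2, 4, 3, 5, 4, 3, 5, 6, 5, 4, 3, 5, 4, 5, 4, 6, 5, 4, 3, 5, 4, 5],
  [3, 2, 4, 3, 5, 4, 3, 5, 6, 5, 4, 3, 5, 4, 5, 4, 6, 5, 4, 3, 7, 6, 5],
  [3, 2, 4, 3, 5, 4, 3, 5, 6, 5, 4, 3, 5, 4, 5, 6, 5, 4, 3, 2, 5, 4, 3],
  [3, 2, 4, 3, 5, 4, 3, 5, 6, 5, 4, 3, 5, 4, 5, 6, 5, 4, 3, 2, 5, 4, 5],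
  [3, 2, 4, 3, 5, 4, 3, 5, 6, 5, 4, 3, 5, 4, 5, 6, 5, 4, 3, 2, 5, 4, 6],
  [3, 2, 4, 3, 5, 4, 3, 5, 6, 5, 4, 3, 5, 4, 5, 6, 5, 4, 3, 2, 5, 4, 7],
  [3, 2, 4, 3, 5, 4, 3, 5, 6, 5, 4, 3, 5, 4, 5, 6, 5, 4, 3, 5, 4, 3, 2],
  [3, 2, 4, 3, 5, 4, 3, 5, 6, 5, 4, 3, 5, 4, 5, 6, 5, 4, 3, 5, 4, 3, 5],
  [3, 2, 4, 3, 5, 4, 3, 5, 6, 5, 4, 3, 5, 4, 5, 6, 5, 4, 3, 5, 4, 3, 6],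
  [3, 2, 4, 3, 5, 4, 3, 5, 6, 5, 4, 3, 5, 4, 5, 6, 5, 4, 3, 5, 4, 5, 4],
  [3, 2, 4, 3, 5, 4, 3, 5, 6, 5, 4, 3, 5, 4, 5, 6, 5, 4, 3, 5, 4, 5, 6],
  [3, 2, 4, 3, 5, 4, 3, 5, 6, 5, 4, 3, 5, 4, 5, 6, 5, 4, 3, 5, 4, 5, 7],
  [3, 2, 4, 3, 5, 4, 3, 5, 6, 5, 4, 3, 5, 4, 5, 6, 5, 4, 3, 5, 4, 6, 5],
  [3, 2, 4, 3, 5, 4, 3, 5, 6, 5, 4, 3, 5, 4, 5, 6, 5, 4, 5, 4, 3, 2, 6],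
  [3, 2, 4, 3, 5, 4, 3, 5, 6, 5, 4, 3, 5, 4, 5, 6, 5, 4, 5, 4, 3, 6, 5],
  [3, 2, 4, 3, 5, 4, 3, 5, 6, 5, 4, 3, 5, 4, 6, 5, 4, 3, 2, 5, 4, 6, 5],
  [3, 2, 4, 3, 5, 4, 3, 5, 6, 5, 4, 3, 5, 4, 6, 5, 4, 3, 5, 4, 6, 5, 4],
  [3, 2, 4, 3, 5, 4, 3, 5, 6, 5, 4, 3, 7, 6, 5, 4, 3, 2, 5, 4, 6, 5, 4],
  [3, 2, 4, 3, 5, 4, 3, 5, 6, 5, 4, 3, 7, 6, 5, 4, 3, 2, 5, 4, 6, 5, 7],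
  [3, 2, 4, 3, 5, 4, 3, 5, 6, 5, 4, 3, 7, 6, 5, 4, 3, 5, 4, 5, 6, 5, 4],
  [3, 2, 4, 3, 5, 4, 3, 5, 6, 5, 4, 3, 7, 6, 5, 4, 3, 5, 4, 5, 6, 5, 7],
  [3, 2, 4, 3, 5, 4, 3, 5, 6, 5, 4, 3, 7, 6, 5, 4, 3, 5, 4, 6, 5, 7, 6],
  [3, 2, 4, 3, 5, 4, 3, 6, 5, 4, 3, 2, 5, 4, 3, 6, 5, 4, 3, 2, 5, 6, 7],
  [3, 2, 4, 3, 5, 4, 3, 6, 5, 4, 3, 2, 5, 4, 3, 6, 5, 4, 3, 5, 4, 6, 5],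
  [3, 2, 4, 3, 5, 4, 3, 6, 5, 4, 3, 2, 5, 4, 3, 6, 5, 4, 3, 5, 4, 6, 7],
  [3, 2, 4, 3, 5, 4, 3, 6, 5, 4, 3, 2, 5, 4, 6, 5, 7, 6, 5, 4, 3, 2, 5],
  [3, 2, 4, 3, 5, 4, 3, 6, 5, 4, 3, 2, 5, 4, 6, 5, 7, 6, 5, 4, 3, 5, 4],
  [3, 2, 4, 3, 5, 4, 3, 6, 5, 4, 3, 2, 5, 4, 7, 6, 5, 4, 3, 2, 5, 6, 7],
  [3, 2, 4, 3, 5, 4, 3, 6, 5, 4, 3, 2, 5, 6, 7, 6, 5, 4, 3, 5, 4, 5, 6],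
  [3, 2, 4, 3, 5, 4, 3, 6, 5, 4, 3, 2, 5, 6, 7, 6, 5, 4, 3, 5, 4, 6, 5],
  [3, 2, 4, 3, 5, 4, 3, 6, 5, 4, 3, 2, 5, 6, 7, 6, 5, 4, 3, 5, 4, 6, 7],
  [3, 2, 4, 3, 5, 4, 3, 6, 5, 4, 3, 2, 5, 7, 6, 5, 4, 3, 2, 5, 4, 5, 6],
  [3, 2, 4, 3, 5, 4, 3, 6, 5, 4, 3, 2, 5, 7, 6, 5, 4, 3, 2, 5, 4, 6, 5],
  [3, 2, 4, 3, 5, 4, 3, 6, 5, 4, 3, 2, 5, 7, 6, 5, 4, 3, 2, 5, 4, 6, 7],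
  [3, 2, 4, 3, 5, 4, 3, 6, 5, 4, 3, 2, 5, 7, 6, 5, 4, 3, 5, 4, 3, 2, 6],
  [3, 2, 4, 3, 5, 4, 3, 6, 5, 4, 3, 2, 5, 7, 6, 5, 4, 3, 5, 4, 3, 5, 6],
  [3, 2, 4, 3, 5, 4, 3, 6, 5, 4, 3, 2, 5, 7, 6, 5, 4, 3, 5, 4, 3, 6, 5],
  [3, 2, 4, 3, 5, 4, 3, 6, 5, 4, 3, 2, 5, 7, 6, 5, 4, 3, 5, 4, 3, 6, 7],
  [3, 2, 4, 3, 5, 4, 3, 6, 5, 4, 3, 2, 5, 7, 6, 5, 4, 3, 5, 4, 5, 6, 5],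
  [3, 2, 4, 3, 5, 4, 3, 6, 5, 4, 3, 2, 5, 7, 6, 5, 4, 3, 5, 4, 5, 6, 7],
  [3, 2, 4, 3, 5, 4, 3, 6, 5, 4, 3, 2, 5, 7, 6, 5, 4, 3, 5, 4, 6, 5, 4],
  [3, 2, 4, 3, 5, 4, 3, 6, 5, 4, 3, 2, 5, 7, 6, 5, 4, 3, 5, 4, 6, 5, 7],
  [3, 2, 4, 3, 5, 4, 3, 6, 5, 4, 3, 2, 5, 7, 6, 5, 4, 5, 4, 3, 2, 6, 5],
  [3, 2, 4, 3, 5, 4, 3, 6, 5, 4, 3, 2, 5, 7, 6, 5, 4, 5, 4, 3, 2, 6, 7],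
  [3, 2, 4, 3, 5, 4, 3, 6, 5, 4, 3, 2, 5, 7, 6, 5, 4, 5, 4, 3, 6, 5, 4],
  [3, 2, 4, 3, 5, 4, 3, 6, 5, 4, 3, 2, 5, 7, 6, 5, 4, 5, 4, 3, 6, 5, 7],
  [3, 2, 4, 3, 5, 4, 3, 6, 5, 4, 3, 2, 7, 6, 5, 4, 3, 2, 5, 4, 3, 6, 5],
  [3, 2, 4, 3, 5, 4, 3, 6, 5, 4, 3, 2, 7, 6, 5, 4, 3, 2, 5, 4, 6, 5, 4],
  [3, 2, 4, 3, 5, 4, 3, 6, 5, 4, 3, 2, 7, 6, 5, 4, 3, 2, 5, 4, 6, 5, 7],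
  [3, 2, 4, 3, 5, 4, 3, 6, 5, 4, 3, 2, 7, 6, 5, 4, 3, 5, 4, 5, 4, 6, 5],
  [3, 2, 4, 3, 5, 4, 3, 6, 5, 4, 3, 2, 7, 6, 5, 4, 3, 5, 4, 5, 6, 5, 4],
  [3, 2, 4, 3, 5, 4, 3, 6, 5, 4, 3, 2, 7, 6, 5, 4, 3, 5, 4, 6, 5, 4, 3],
  [3, 2, 4, 3, 5, 4, 3, 6, 5, 4, 3, 2, 7, 6, 5, 4, 3, 5, 4, 6, 5, 4, 5],
  [3, 2, 4, 3, 5, 4, 3, 6, 5, 4, 3, 2, 7, 6, 5, 4, 3, 5, 4, 6, 5, 4, 7],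
  [3, 2, 4, 3, 5, 4, 3, 6, 5, 4, 3, 5, 4, 3, 6, 5, 4, 3, 2, 5, 4, 3, 6],
  [3, 2, 4, 3, 5, 4, 3, 6, 5, 4, 3, 5, 4, 3, 6, 5, 4, 3, 2, 5, 4, 6, 5],
  [3, 2, 4, 3, 5, 4, 3, 6, 5, 4, 3, 5, 4, 3, 6, 5, 4, 3, 2, 5, 4, 6, 7],
  [3, 2, 4, 3, 5, 4, 3, 6, 5, 4, 3, 5, 4, 3, 6, 5, 4, 3, 2, 7, 6, 5, 4],
  [3, 2, 4, 3, 5, 4, 3, 6, 5, 4, 3, 5, 4, 3, 6, 5, 4, 3, 5, 4, 5, 6, 5],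
  [3, 2, 4, 3, 5, 4, 3, 6, 5, 4, 3, 5, 4, 3, 6, 5, 4, 3, 5, 4, 6, 5, 4],
  [3, 2, 4, 3, 5, 4, 3, 6, 5, 4, 3, 5, 4, 3, 6, 5, 4, 3, 5, 4, 6, 5, 7],
  [3, 2, 4, 3, 5, 4, 3, 6, 5, 4, 3, 5, 4, 3, 6, 5, 4, 3, 7, 6, 5, 4, 3],
  [3, 2, 4, 3, 5, 4, 3, 6, 5, 4, 3, 5, 4, 3, 6, 5, 4, 3, 7, 6, 5, 4, 5],
  [3, 2, 4, 3, 5, 4, 3, 6, 5, 4, 3, 5, 4, 3, 6, 5, 4, 7, 6, 5, 4, 3, 2],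
  [3, 2, 4, 3, 5, 4, 3, 6, 5, 4, 3, 5, 4, 6, 5, 4, 3, 2, 7, 6, 5, 4, 3],
  [3, 2, 4, 3, 5, 4, 3, 6, 5, 4, 3, 5, 4, 6, 5, 4, 3, 2, 7, 6, 5, 4, 5],
  [3, 2, 4, 3, 5, 4, 3, 6, 5, 4, 3, 5, 4, 6, 5, 4, 3, 7, 6, 5, 4, 3, 2],
  [3, 2, 4, 3, 5, 4, 3, 6, 5, 4, 3, 5, 4, 6, 5, 4, 3, 7, 6, 5, 4, 3, 5],
  [3, 2, 4, 3, 5, 4, 3, 6, 5, 4, 3, 5, 4, 6, 5, 4, 3, 7, 6, 5, 4, 5, 4],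
  [3, 2, 4, 3, 5, 4, 3, 6, 5, 4, 3, 5, 4, 6, 5, 4, 3, 7, 6, 5, 4, 5, 6],
  [3, 2, 4, 3, 5, 4, 3, 6, 5, 4, 3, 5, 4, 6, 5, 4, 7, 6, 5, 4, 3, 2, 5],
  [3, 2, 4, 3, 5, 4, 3, 6, 5, 4, 3, 5, 4, 6, 5, 4, 7, 6, 5, 4, 3, 5, 4],
  [3, 2, 4, 3, 5, 4, 3, 6, 5, 4, 3, 5, 4, 6, 5, 7, 6, 5, 4, 3, 2, 5, 4],
  [3, 2, 4, 3, 5, 4, 3, 6, 5, 4, 3, 5, 4, 6, 5, 7, 6, 5, 4, 3, 5, 4, 5],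
  [3, 2, 4, 3, 5, 4, 3, 6, 5, 4, 3, 5, 4, 7, 6, 5, 4, 3, 2, 5, 4, 3, 6],
  [3, 2, 4, 3, 5, 4, 3, 6, 5, 4, 3, 5, 4, 7, 6, 5, 4, 3, 2, 5, 4, 6, 5],
  [3, 2, 4, 3, 5, 4, 3, 6, 5, 4, 3, 5, 4, 7, 6, 5, 4, 3, 2, 5, 4, 6, 7],
  [3, 2, 4, 3, 5, 4, 3, 6, 5, 4, 3, 5, 4, 7, 6, 5, 4, 3, 5, 4, 5, 6, 5],
  [3, 2, 4, 3, 5, 4, 3, 6, 5, 4, 3, 5, 4, 7, 6, 5, 4, 3, 5, 4, 5, 6, 7],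
  [3, 2, 4, 3, 5, 4, 3, 6, 5, 4, 3, 5, 4, 7, 6, 5, 4, 3, 5, 4, 6, 5, 4],
  [3, 2, 4, 3, 5, 4, 3, 6, 5, 4, 3, 5, 4, 7, 6, 5, 4, 3, 5, 4, 6, 5, 7],
  [3, 2, 4, 3, 5, 4, 3, 6, 5, 4, 3, 5, 7, 6, 5, 4, 3, 5, 4, 3, 2, 6, 5],
  [3, 2, 4, 3, 5, 4, 3, 6, 5, 4, 3, 5, 7, 6, 5, 4, 3, 5, 4, 3, 2, 6, 7],
  [3, 2, 4, 3, 5, 4, 3, 6, 5, 4, 3, 5, 7, 6, 5, 4, 3, 5, 4, 3, 6, 5, 4],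
  [3, 2, 4, 3, 5, 4, 3, 6, 5, 4, 3, 5, 7, 6, 5, 4, 3, 5, 4, 3, 6, 5, 7],
  [3, 2, 4, 3, 5, 4, 3, 6, 5, 4, 3, 5, 7, 6, 5, 4, 3, 5, 4, 6, 5, 4, 3],
  [3, 2, 4, 3, 5, 4, 3, 6, 5, 4, 3, 5, 7, 6, 5, 4, 3, 5, 4, 6, 5, 4, 5],
  [3, 2, 4, 3, 5, 4, 3, 6, 5, 4, 3, 5, 7, 6, 5, 4, 3, 5, 4, 6, 5, 4, 7],
  [3, 2, 4, 3, 5, 4, 3, 6, 5, 4, 3, 5, 7, 6, 5, 4, 3, 5, 4, 6, 5, 7, 6],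
  [3, 2, 4, 3, 5, 4, 3, 6, 5, 4, 3, 5, 7, 6, 5, 4, 5, 4, 3, 2, 6, 5, 4],
  [3, 2, 4, 3, 5, 4, 3, 6, 5, 4, 3, 5, 7, 6, 5, 4, 5, 4, 3, 2, 6, 5, 7],
  [3, 2, 4, 3, 5, 4, 3, 6, 5, 4, 3, 5, 7, 6, 5, 4, 5, 4, 3, 6, 5, 4, 5],
  [3, 2, 4, 3, 5, 4, 3, 6, 5, 4, 3, 7, 6, 5, 4, 3, 2, 5, 4, 3, 6, 5, 4],
  [3, 2, 4, 3, 5, 4, 3, 6, 5, 4, 3, 7, 6, 5, 4, 3, 2, 5, 4, 3, 6, 5, 7],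
  [3, 2, 4, 3, 5, 4, 3, 6, 5, 4, 3, 7, 6, 5, 4, 3, 2, 5, 4, 6, 5, 4, 3],
  [3, 2, 4, 3, 5, 4, 3, 6, 5, 4, 3, 7, 6, 5, 4, 3, 2, 5, 4, 6, 5, 7, 6],
  [3, 2, 4, 3, 5, 4, 3, 6, 5, 4, 3, 7, 6, 5, 4, 3, 5, 4, 3, 2, 6, 5, 4],
  [3, 2, 4, 3, 5, 4, 3, 6, 5, 4, 3, 7, 6, 5, 4, 3, 5, 4, 3, 5, 6, 5, 4],
  [3, 2, 4, 3, 5, 4, 3, 6, 5, 4, 3, 7, 6, 5, 4, 3, 5, 4, 3, 5, 6, 5, 7],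
  [3, 2, 4, 3, 5, 4, 3, 6, 5, 4, 3, 7, 6, 5, 4, 3, 5, 4, 3, 6, 5, 4, 3],
  [3, 2, 4, 3, 5, 4, 3, 6, 5, 4, 3, 7, 6, 5, 4, 3, 5, 4, 3, 6, 5, 4, 5],
  [3, 2, 4, 3, 5, 4, 3, 6, 5, 4, 3, 7, 6, 5, 4, 3, 5, 4, 3, 6, 5, 7, 6],
  [3, 2, 4, 3, 5, 4, 3, 6, 5, 4, 3, 7, 6, 5, 4, 3, 5, 4, 6, 5, 4, 3, 2],
  [3, 2, 4, 3, 5, 4, 3, 6, 5, 4, 3, 7, 6, 5, 4, 3, 5, 4, 6, 5, 4, 3, 5],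
  [3, 2, 4, 3, 5, 4, 3, 6, 5, 4, 5, 4, 3, 6, 5, 4, 5, 4, 3, 2, 6, 5, 4],
  [3, 2, 4, 3, 5, 4, 3, 6, 5, 4, 5, 4, 3, 6, 5, 4, 5, 4, 3, 2, 6, 5, 7],
  [3, 2, 4, 3, 5, 4, 3, 6, 5, 4, 5, 4, 3, 6, 5, 4, 5, 4, 3, 6, 5, 4, 3],
  [3, 2, 4, 3, 5, 4, 3, 6, 5, 4, 7, 6, 5, 4, 3, 5, 4, 5, 4, 6, 5, 4, 7],
  [3, 2, 4, 3, 5, 4, 3, 6, 5, 4, 7, 6, 5, 4, 3, 5, 4, 5, 4, 6, 5, 7, 6],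
  [3, 2, 4, 3, 5, 4, 3, 6, 5, 4, 7, 6, 5, 4, 3, 5, 4, 5, 6, 5, 4, 5, 4],
  [3, 2, 4, 3, 5, 4, 5, 6, 5, 4, 3, 2, 5, 4, 3, 5, 6, 5, 4, 5, 4, 6, 7],
  [3, 2, 4, 3, 5, 4, 5, 6, 5, 4, 3, 2, 5, 4, 3, 6, 5, 4, 5, 4, 6, 5, 4],
  [3, 2, 4, 3, 5, 4, 5, 6, 5, 4, 3, 2, 5, 4, 3, 6, 5, 4, 5, 4, 6, 5, 7],
  [3, 2, 4, 3, 5, 4, 5, 6, 5, 4, 3, 5, 4, 3, 5, 6, 5, 4, 3, 2, 5, 4, 3],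
  [3, 2, 4, 3, 5, 4, 5, 6, 5, 4, 3, 5, 4, 3, 5, 6, 5, 4, 3, 2, 5, 4, 5],
  [3, 2, 4, 3, 5, 4, 5, 6, 5, 4, 3, 5, 4, 3, 5, 6, 5, 4, 3, 5, 4, 5, 4],
  [3, 2, 4, 3, 5, 4, 5, 6, 5, 4, 3, 5, 4, 3, 5, 6, 5, 4, 3, 5, 4, 5, 6],
  [3, 2, 4, 3, 5, 4, 5, 6, 5, 4, 3, 5, 4, 5, 6, 5, 4, 3, 2, 5, 4, 5, 6],
  [3, 2, 4, 3, 5, 4, 5, 6, 5, 4, 3, 5, 4, 5, 6, 5, 4, 3, 2, 5, 4, 7, 6],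
  [3, 2, 4, 3, 5, 4, 5, 6, 5, 4, 3, 5, 4, 5, 6, 5, 4, 3, 5, 4, 3, 5, 6],
  [3, 2, 4, 3, 5, 4, 5, 6, 5, 4, 3, 5, 4, 5, 6, 5, 4, 3, 5, 4, 5, 4, 3],
  [3, 2, 4, 3, 5, 4, 5, 6, 5, 4, 3, 5, 4, 5, 6, 5, 4, 3, 5, 4, 5, 4, 6],
  [3, 2, 4, 3, 5, 4, 5, 6, 5, 4, 3, 5, 4, 5, 6, 5, 4, 3, 5, 4, 5, 6, 7],
  [3, 2, 4, 3, 5, 4, 5, 6, 5, 4, 3, 5, 4, 5, 6, 5, 4, 3, 5, 4, 5, 7, 6],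
  [3, 2, 4, 3, 5, 4, 5, 6, 5, 4, 3, 5, 4, 5, 6, 5, 4, 3, 5, 4, 7, 6, 5],
  [3, 2, 4, 5, 4, 3, 2, 6, 5, 4, 3, 5, 4, 5, 6, 5, 4, 3, 2, 5, 4, 6, 5],
  [3, 2, 4, 5, 4, 3, 2, 6, 5, 4, 3, 5, 4, 5, 6, 5, 4, 3, 2, 5, 4, 6, 7],
  [3, 2, 4, 5, 4, 3, 2, 6, 5, 4, 3, 5, 4, 5, 6, 5, 4, 3, 2, 7, 6, 5, 4],
  [3, 2, 4, 5, 4, 3, 2, 6, 5, 4, 3, 5, 4, 5, 6, 5, 4, 3, 5, 4, 5, 6, 5],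
  [3, 2, 4, 5, 4, 3, 2, 6, 5, 4, 3, 5, 4, 5, 6, 5, 4, 3, 5, 4, 5, 6, 7],
  [3, 2, 4, 5, 4, 3, 2, 6, 5, 4, 3, 5, 4, 5, 6, 5, 4, 3, 5, 4, 6, 5, 4],
  [3, 2, 4, 5, 4, 3, 2, 6, 5, 4, 3, 5, 4, 5, 6, 5, 4, 3, 5, 4, 6, 5, 7],
  [3, 2, 4, 5, 4, 3, 2, 6, 5, 4, 3, 5, 4, 5, 6, 5, 4, 3, 7, 6, 5, 4, 3],
  [3, 2, 4, 5, 4, 3, 2, 6, 5, 4, 3, 5, 4, 5, 6, 5, 4, 3, 7, 6, 5, 4, 5],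
  [3, 2, 4, 5, 4, 3, 2, 6, 5, 4, 3, 5, 4, 5, 6, 5, 4, 7, 6, 5, 4, 3, 2],
  [3, 2, 4, 5, 4, 3, 2, 6, 5, 4, 3, 5, 4, 6, 5, 4, 3, 2, 5, 4, 5, 6, 5],
  [3, 2, 4, 5, 4, 3, 2, 6, 5, 4, 3, 5, 4, 6, 5, 4, 3, 2, 5, 4, 5, 6, 7],
  [3, 2, 4, 5, 4, 3, 2, 6, 5, 4, 3, 5, 4, 6, 5, 4, 3, 2, 5, 4, 6, 5, 4],
  [3, 2, 4, 5, 4, 3, 2, 6, 5, 4, 3, 5, 4, 6, 5, 4, 3, 2, 7, 6, 5, 4, 3],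
  [3, 2, 4, 5, 4, 3, 2, 6, 5, 4, 3, 5, 4, 6, 5, 4, 3, 2, 7, 6, 5, 4, 5],
  [3, 2, 4, 5, 4, 3, 2, 6, 5, 4, 3, 5, 4, 6, 5, 4, 3, 5, 4, 5, 4, 6, 5],
  [3, 2, 4, 5, 4, 3, 2, 6, 5, 4, 3, 5, 4, 6, 5, 4, 3, 5, 4, 5, 4, 6, 7],
  [3, 2, 4, 5, 4, 3, 2, 6, 5, 4, 3, 5, 4, 6, 5, 4, 3, 5, 4, 5, 6, 5, 4],
  [3, 2, 4, 5, 4, 3, 2, 6, 5, 4, 3, 5, 4, 6, 5, 4, 3, 5, 4, 6, 5, 4, 3],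
  [3, 2, 4, 5, 4, 3, 2, 6, 5, 4, 3, 5, 4, 6, 5, 4, 3, 5, 4, 6, 5, 4, 5],
  [3, 2, 4, 5, 4, 3, 2, 6, 5, 4, 3, 5, 4, 6, 5, 4, 3, 7, 6, 5, 4, 3, 2],
  [3, 2, 4, 5, 4, 3, 2, 6, 5, 4, 3, 5, 4, 6, 5, 4, 3, 7, 6, 5, 4, 3, 5],
  [3, 2, 4, 5, 4, 3, 2, 6, 5, 4, 3, 5, 4, 6, 5, 4, 3, 7, 6, 5, 4, 5, 4],
  [3, 2, 4, 5, 4, 3, 2, 6, 5, 4, 3, 5, 4, 6, 5, 4, 3, 7, 6, 5, 4, 5, 6],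
  [3, 2, 4, 5, 4, 3, 2, 6, 5, 4, 3, 5, 4, 6, 5, 4, 7, 6, 5, 4, 3, 2, 5],
  [3, 2, 4, 5, 4, 3, 2, 6, 5, 4, 3, 5, 4, 6, 5, 4, 7, 6, 5, 4, 3, 5, 4],
  [3, 2, 4, 5, 4, 3, 6, 5, 4, 3, 5, 4, 3, 2, 6, 5, 4, 3, 2, 7, 6, 5, 4],
  [3, 2, 4, 5, 4, 3, 6, 5, 4, 3, 5, 4, 3, 2, 6, 5, 4, 7, 6, 5, 4, 3, 2],
  [3, 2, 4, 5, 4, 3, 6, 5, 4, 3, 5, 4, 3, 6, 5, 4, 3, 2, 5, 4, 3, 6, 5],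
  [3, 2, 4, 5, 4, 3, 6, 5, 4, 3, 5, 4, 3, 6, 5, 4, 3, 2, 5, 4, 3, 6, 7],
  [3, 2, 4, 5, 4, 3, 6, 5, 4, 3, 5, 4, 3, 6, 5, 4, 3, 2, 5, 4, 6, 5, 4],
  [3, 2, 4, 5, 4, 3, 6, 5, 4, 3, 5, 4, 3, 6, 5, 4, 3, 2, 5, 4, 6, 5, 7],
  [3, 2, 4, 5, 4, 3, 6, 5, 4, 3, 5, 4, 3, 6, 5, 4, 3, 2, 5, 4, 6, 7, 6],
  [3, 2, 4, 5, 4, 3, 6, 5, 4, 3, 5, 4, 3, 6, 5, 4, 3, 2, 5, 4, 7, 6, 5],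
  [3, 2, 4, 5, 4, 3, 6, 5, 4, 3, 5, 4, 3, 6, 5, 4, 3, 2, 5, 6, 7, 6, 5],
  [3, 2, 4, 5, 4, 3, 6, 5, 4, 3, 5, 4, 3, 6, 5, 4, 3, 2, 5, 7, 6, 5, 4],
  [3, 2, 4, 5, 4, 3, 6, 5, 4, 3, 5, 4, 3, 6, 5, 4, 3, 2, 7, 6, 5, 4, 3],
  [3, 2, 4, 5, 4, 3, 6, 5, 4, 3, 5, 4, 3, 6, 5, 4, 3, 5, 4, 3, 5, 6, 5],
  [3, 2, 4, 5, 4, 3, 6, 5, 4, 3, 5, 4, 3, 6, 5, 4, 3, 5, 4, 3, 5, 6, 7],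
  [3, 2, 4, 5, 4, 3, 6, 5, 4, 3, 5, 4, 3, 6, 5, 4, 3, 5, 4, 3, 6, 5, 4],
  [3, 2, 4, 5, 4, 3, 6, 5, 4, 3, 5, 4, 3, 6, 5, 4, 3, 5, 4, 3, 6, 5, 7],
  [3, 2, 4, 5, 4, 3, 6, 5, 4, 3, 5, 4, 3, 6, 5, 4, 3, 5, 4, 5, 6, 5, 4],
  [3, 2, 4, 5, 4, 3, 6, 5, 4, 3, 5, 4, 3, 6, 5, 4, 3, 5, 4, 5, 6, 5, 7],
  [3, 2, 4, 5, 4, 3, 6, 5, 4, 3, 5, 4, 3, 6, 5, 4, 3, 5, 4, 5, 6, 7, 6],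
  [3, 2, 4, 5, 4, 3, 6, 5, 4, 3, 5, 4, 3, 6, 5, 4, 3, 5, 4, 5, 7, 6, 5],
  [3, 2, 4, 5, 4, 3, 6, 5, 4, 3, 5, 4, 3, 6, 5, 4, 3, 5, 4, 6, 5, 4, 3],
  [3, 2, 4, 5, 4, 3, 6, 5, 4, 3, 5, 4, 3, 6, 5, 4, 3, 5, 4, 6, 5, 4, 5],
  [3, 2, 4, 5, 4, 3, 6, 5, 4, 3, 5, 4, 3, 6, 5, 4, 3, 5, 4, 6, 5, 4, 7],
  [3, 2, 4, 5, 4, 3, 6, 5, 4, 3, 5, 4, 3, 6, 5, 4, 3, 5, 4, 6, 5, 7, 6],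
  [3, 2, 4, 5, 4, 3, 6, 5, 4, 3, 5, 4, 3, 6, 5, 4, 3, 5, 4, 6, 7, 6, 5],
  [3, 2, 4, 5, 4, 3, 6, 5, 4, 3, 5, 4, 3, 6, 5, 4, 3, 5, 4, 7, 6, 5, 4],
  [3, 2, 4, 5, 4, 3, 6, 5, 4, 3, 5, 4, 3, 6, 5, 4, 3, 5, 6, 7, 6, 5, 4],
  [3, 2, 4, 5, 4, 3, 6, 5, 4, 3, 5, 4, 3, 6, 5, 4, 3, 5, 7, 6, 5, 4, 3],
  [3, 2, 4, 5, 4, 3, 6, 5, 4, 3, 5, 4, 3, 6, 5, 4, 3, 5, 7, 6, 5, 4, 5],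
  [3, 2, 4, 5, 4, 3, 6, 5, 4, 3, 5, 4, 3, 6, 5, 4, 3, 7, 6, 5, 4, 3, 2],
  [3, 2, 4, 5, 4, 3, 6, 5, 4, 3, 5, 4, 3, 6, 5, 4, 5, 4, 3, 6, 5, 4, 5],
  [3, 2, 4, 5, 4, 3, 6, 5, 4, 3, 5, 4, 3, 6, 5, 4, 5, 4, 3, 6, 5, 4, 7],
  [3, 2, 4, 5, 4, 3, 6, 5, 4, 3, 5, 4, 3, 6, 5, 4, 5, 7, 6, 5, 4, 3, 2],
  [3, 2, 4, 5, 4, 3, 6, 5, 4, 3, 5, 4, 3, 6, 5, 4, 7, 6, 5, 4, 3, 2, 5],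
  [3, 2, 4, 5, 4, 3, 6, 5, 4, 3, 5, 4, 3, 6, 5, 4, 7, 6, 5, 4, 3, 5, 6],
  [3, 2, 4, 5, 4, 3, 6, 5, 4, 3, 5, 4, 6, 5, 4, 3, 2, 5, 4, 3, 5, 4, 6],
  [3, 2, 4, 5, 4, 3, 6, 5, 4, 3, 5, 4, 6, 5, 4, 3, 2, 5, 4, 3, 5, 6, 5],
  [3, 2, 4, 5, 4, 3, 6, 5, 4, 3, 5, 4, 6, 5, 4, 3, 2, 5, 4, 3, 5, 6, 7]]
def ows1c20 : List (List Nat) := [[3, 2, 4, 5, 4, 3, 6, 5, 4, 3, 5, 4, 6, 5, 4, 3, 2, 5, 4, 3, 6, 5, 4],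
  [3, 2, 4, 5, 4, 3, 6, 5, 4, 3, 5, 4, 6, 5, 4, 3, 2, 5, 4, 5, 6, 5, 4],
  [3, 2, 4, 5, 4, 3, 6, 5, 4, 3, 5, 4, 6, 5, 4, 3, 2, 5, 4, 5, 6, 5, 7],
  [3, 2, 4, 5, 4, 3, 6, 5, 4, 3, 5, 4, 6, 5, 4, 3, 2, 5, 4, 6, 5, 4, 3],
  [3, 2, 4, 5, 4, 3, 6, 5, 4, 3, 5, 4, 6, 5, 4, 3, 5, 4, 5, 4, 6, 5, 4],
  [3, 2, 4, 5, 4, 3, 6, 5, 4, 3, 5, 4, 6, 5, 4, 3, 5, 4, 5, 4, 6, 5, 7],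
  [3, 2, 4, 5, 4, 3, 6, 5, 4, 3, 5, 4, 6, 5, 4, 3, 5, 4, 5, 6, 5, 4, 3],
  [3, 2, 4, 5, 4, 3, 6, 5, 4, 3, 5, 4, 6, 5, 4, 3, 5, 4, 5, 6, 5, 4, 5],
  [3, 2, 4, 5, 4, 3, 6, 5, 4, 3, 5, 4, 6, 5, 4, 3, 5, 4, 5, 6, 5, 4, 7],
  [3, 2, 4, 5, 4, 3, 6, 5, 4, 3, 5, 4, 6, 5, 4, 3, 5, 4, 6, 5, 4, 3, 2],
  [3, 2, 4, 5, 4, 3, 6, 5, 4, 5, 4, 3, 2, 6, 5, 4, 3, 2, 5, 4, 5, 6, 5],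
  [3, 2, 4, 5, 4, 3, 6, 5, 4, 5, 4, 3, 2, 6, 5, 4, 3, 2, 5, 4, 5, 6, 7],
  [3, 2, 4, 5, 4, 3, 6, 5, 4, 5, 4, 3, 2, 6, 5, 4, 3, 2, 5, 4, 6, 5, 4],
  [3, 2, 4, 5, 4, 3, 6, 5, 4, 5, 4, 3, 2, 6, 5, 4, 3, 2, 5, 4, 6, 5, 7],
  [3, 2, 4, 5, 4, 3, 6, 5, 4, 5, 4, 3, 2, 6, 5, 4, 3, 5, 4, 5, 4, 6, 5],
  [3, 2, 4, 5, 4, 3, 6, 5, 4, 5, 4, 3, 2, 6, 5, 4, 3, 5, 4, 5, 4, 6, 7],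
  [3, 2, 4, 5, 4, 3, 6, 5, 4, 5, 4, 3, 2, 6, 5, 4, 3, 5, 4, 5, 6, 5, 4],
  [3, 2, 4, 5, 4, 3, 6, 5, 4, 5, 4, 3, 2, 6, 5, 4, 3, 5, 4, 5, 6, 5, 7],
  [3, 2, 4, 5, 4, 3, 6, 5, 4, 5, 4, 3, 2, 6, 5, 4, 3, 5, 4, 6, 5, 4, 3],
  [3, 2, 4, 5, 4, 3, 6, 5, 4, 5, 4, 3, 2, 6, 5, 4, 3, 5, 4, 6, 5, 4, 5],
  [3, 2, 4, 5, 4, 3, 6, 5, 4, 5, 4, 3, 2, 6, 5, 4, 3, 5, 4, 6, 5, 4, 7],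
  [3, 2, 4, 5, 4, 3, 6, 5, 4, 5, 4, 3, 2, 6, 5, 4, 3, 5, 4, 6, 5, 7, 6],
  [3, 2, 4, 5, 4, 3, 6, 5, 4, 5, 4, 3, 6, 5, 4, 3, 5, 4, 3, 6, 5, 7, 6],
  [3, 2, 4, 5, 4, 3, 6, 5, 4, 5, 4, 3, 6, 5, 4, 5, 4, 3, 2, 6, 5, 4, 3],
  [3, 2, 4, 5, 4, 3, 6, 5, 4, 5, 4, 3, 6, 5, 4, 5, 4, 3, 2, 6, 5, 7, 6],
  [3, 2, 4, 5, 4, 3, 6, 5, 4, 5, 4, 3, 6, 5, 4, 5, 6, 7, 6, 5, 4, 3, 2],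
  [3, 2, 4, 5, 4, 3, 6, 5, 4, 5, 7, 6, 5, 4, 3, 2, 5, 4, 3, 5, 4, 5, 6],
  [3, 2, 4, 5, 4, 3, 6, 5, 4, 5, 7, 6, 5, 4, 3, 2, 5, 4, 3, 5, 4, 6, 5],
  [3, 2, 4, 5, 4, 3, 6, 5, 4, 5, 7, 6, 5, 4, 3, 5, 4, 5, 4, 6, 5, 4, 5],
  [3, 4, 5, 4, 3, 2, 6, 5, 4, 3, 2, 5, 4, 3, 6, 5, 4, 3, 5, 4, 3, 6, 5],
  [3, 4, 5, 4, 3, 2, 6, 5, 4, 3, 2, 5, 4, 3, 6, 5, 4, 3, 5, 4, 3, 6, 7],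
  [3, 4, 5, 4, 3, 2, 6, 5, 4, 3, 2, 5, 4, 3, 6, 5, 4, 3, 5, 4, 6, 5, 4],
  [3, 4, 5, 4, 3, 2, 6, 5, 4, 3, 2, 5, 4, 3, 6, 5, 4, 3, 5, 4, 6, 5, 7],
  [3, 4, 5, 4, 3, 2, 6, 5, 4, 3, 2, 5, 4, 3, 6, 5, 4, 5, 4, 3, 6, 5, 4],
  [3, 4, 5, 4, 3, 2, 6, 5, 4, 3, 2, 5, 4, 5, 6, 5, 4, 3, 2, 5, 4, 7, 6],
  [3, 4, 5, 4, 3, 2, 6, 5, 4, 3, 2, 5, 4, 5, 6, 5, 4, 3, 5, 4, 3, 5, 6],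
  [3, 4, 5, 4, 3, 2, 6, 5, 4, 3, 2, 5, 4, 5, 6, 5, 4, 3, 5, 4, 5, 6, 7],
  [3, 4, 5, 4, 3, 2, 6, 5, 4, 3, 2, 5, 4, 5, 6, 5, 4, 3, 5, 4, 5, 7, 6],
  [3, 4, 5, 4, 3, 2, 6, 5, 4, 3, 2, 5, 4, 5, 6, 5, 4, 3, 5, 4, 7, 6, 5],
  [3, 4, 5, 4, 3, 2, 6, 5, 4, 3, 5, 4, 5, 4, 6, 5, 4, 3, 2, 5, 4, 3, 6],
  [3, 4, 5, 4, 3, 2, 6, 5, 4, 3, 5, 4, 5, 4, 6, 5, 4, 3, 2, 5, 4, 6, 5],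
  [3, 4, 5, 4, 3, 2, 6, 5, 4, 3, 5, 4, 5, 4, 6, 5, 4, 3, 2, 5, 4, 6, 7],
  [3, 4, 5, 4, 3, 2, 6, 5, 4, 3, 5, 4, 5, 4, 6, 5, 4, 3, 2, 7, 6, 5, 4],
  [3, 4, 5, 4, 3, 2, 6, 5, 4, 3, 5, 4, 5, 4, 6, 5, 4, 3, 5, 4, 5, 6, 5],
  [3, 4, 5, 4, 3, 2, 6, 5, 4, 3, 5, 4, 5, 4, 6, 5, 4, 3, 5, 4, 5, 6, 7],
  [3, 4, 5, 4, 3, 2, 6, 5, 4, 3, 5, 4, 5, 4, 6, 5, 4, 3, 5, 4, 6, 5, 4],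
  [3, 4, 5, 4, 3, 2, 6, 5, 4, 3, 5, 4, 5, 4, 6, 5, 4, 3, 5, 4, 6, 5, 7],
  [3, 4, 5, 4, 3, 2, 6, 5, 4, 3, 5, 4, 5, 4, 6, 5, 4, 3, 7, 6, 5, 4, 5],
  [3, 4, 5, 4, 3, 2, 6, 5, 4, 3, 5, 4, 5, 6, 5, 4, 3, 2, 5, 4, 3, 6, 7],
  [3, 4, 5, 4, 3, 2, 6, 5, 4, 3, 5, 4, 5, 6, 5, 4, 3, 2, 5, 4, 6, 5, 7],
  [3, 4, 5, 4, 3, 2, 6, 5, 4, 3, 5, 4, 5, 6, 5, 4, 3, 2, 5, 4, 6, 7, 6],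
  [3, 4, 5, 4, 3, 2, 6, 5, 4, 3, 5, 4, 5, 6, 5, 4, 3, 2, 5, 4, 7, 6, 5],
  [3, 4, 5, 4, 3, 2, 6, 5, 4, 3, 5, 4, 5, 6, 5, 4, 3, 5, 4, 3, 2, 6, 7],
  [3, 4, 5, 4, 3, 2, 6, 5, 4, 3, 5, 4, 5, 6, 5, 4, 3, 5, 4, 3, 6, 5, 7],
  [3, 4, 5, 4, 3, 2, 6, 5, 4, 3, 5, 4, 5, 6, 5, 4, 3, 5, 4, 5, 6, 5, 7],
  [3, 4, 5, 4, 3, 2, 6, 5, 4, 3, 5, 4, 5, 6, 5, 4, 3, 5, 4, 5, 7, 6, 5],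
  [3, 4, 5, 4, 3, 2, 6, 5, 4, 3, 5, 4, 5, 6, 5, 4, 3, 5, 4, 6, 5, 7, 6],
  [3, 4, 5, 4, 3, 2, 6, 5, 4, 3, 5, 4, 5, 6, 5, 4, 3, 5, 4, 6, 7, 6, 5],
  [3, 4, 5, 4, 3, 2, 6, 5, 4, 3, 5, 4, 5, 6, 5, 4, 3, 7, 6, 5, 4, 3, 5],
  [3, 4, 5, 4, 3, 2, 6, 5, 4, 3, 5, 4, 5, 6, 5, 4, 3, 7, 6, 5, 4, 5, 6],
  [3, 4, 5, 4, 3, 2, 6, 5, 4, 3, 5, 4, 5, 6, 5, 4, 5, 4, 3, 2, 6, 5, 4],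
  [3, 4, 5, 4, 3, 2, 6, 5, 4, 3, 5, 4, 5, 6, 5, 4, 5, 4, 3, 6, 5, 4, 5],
  [3, 4, 5, 4, 3, 2, 6, 5, 4, 3, 5, 4, 6, 5, 4, 3, 7, 6, 5, 4, 3, 2, 5],
  [3, 4, 5, 4, 3, 2, 6, 5, 4, 3, 5, 4, 6, 5, 4, 3, 7, 6, 5, 4, 3, 5, 4],
  [3, 4, 5, 4, 3, 2, 6, 5, 4, 3, 5, 4, 6, 5, 4, 7, 6, 5, 4, 3, 2, 5, 4],
  [3, 4, 5, 4, 3, 2, 6, 5, 4, 3, 5, 4, 6, 5, 4, 7, 6, 5, 4, 3, 5, 4, 5],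
  [3, 4, 5, 4, 3, 2, 6, 5, 4, 3, 7, 6, 5, 4, 3, 5, 4, 6, 5, 4, 3, 5, 4],
  [3, 4, 5, 4, 3, 2, 6, 5, 4, 3, 7, 6, 5, 4, 3, 5, 4, 6, 5, 4, 3, 7, 6],
  [3, 4, 5, 4, 3, 2, 6, 5, 4, 3, 7, 6, 5, 4, 3, 5, 4, 6, 5, 4, 5, 6, 7],
  [3, 4, 5, 4, 3, 2, 6, 5, 4, 3, 7, 6, 5, 4, 3, 5, 4, 6, 5, 4, 7, 6, 5],
  [3, 4, 5, 4, 3, 6, 5, 4, 3, 2, 5, 4, 3, 2, 6, 5, 4, 3, 2, 5, 4, 6, 5],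
  [3, 4, 5, 4, 3, 6, 5, 4, 3, 2, 5, 4, 3, 2, 6, 5, 4, 3, 2, 5, 4, 6, 7],
  [3, 4, 5, 4, 3, 6, 5, 4, 3, 2, 5, 4, 3, 2, 6, 5, 4, 3, 5, 4, 5, 6, 5],
  [3, 4, 5, 4, 3, 6, 5, 4, 3, 2, 5, 4, 3, 2, 6, 5, 4, 3, 5, 4, 5, 6, 7],
  [3, 4, 5, 4, 3, 6, 5, 4, 3, 2, 5, 4, 3, 2, 6, 5, 4, 3, 5, 4, 6, 5, 4],
  [3, 4, 5, 4, 3, 6, 5, 4, 3, 2, 5, 4, 3, 2, 6, 5, 4, 3, 5, 4, 6, 5, 7],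
  [3, 4, 5, 4, 3, 6, 5, 4, 3, 2, 5, 4, 3, 2, 6, 5, 4, 3, 7, 6, 5, 4, 3],
  [3, 4, 5, 4, 3, 6, 5, 4, 3, 2, 5, 4, 3, 2, 6, 5, 4, 3, 7, 6, 5, 4, 5],
  [3, 4, 5, 4, 3, 6, 5, 4, 3, 2, 5, 4, 3, 2, 6, 5, 4, 7, 6, 5, 4, 3, 2],
  [3, 4, 5, 4, 3, 6, 5, 4, 3, 2, 5, 4, 3, 6, 5, 4, 3, 5, 4, 3, 2, 6, 5],
  [3, 4, 5, 4, 3, 6, 5, 4, 3, 2, 5, 4, 3, 6, 5, 4, 3, 5, 4, 3, 2, 6, 7],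
  [3, 4, 5, 4, 3, 6, 5, 4, 3, 2, 5, 4, 3, 6, 5, 4, 3, 5, 4, 3, 6, 5, 7],
  [3, 4, 5, 4, 3, 6, 5, 4, 3, 2, 5, 4, 3, 6, 5, 4, 3, 5, 4, 6, 5, 4, 5],
  [3, 4, 5, 4, 3, 6, 5, 4, 3, 2, 5, 4, 3, 6, 5, 4, 3, 5, 4, 6, 5, 4, 7],
  [3, 4, 5, 4, 3, 6, 5, 4, 3, 2, 5, 4, 3, 6, 5, 4, 3, 5, 4, 6, 5, 7, 6],
  [3, 4, 5, 4, 3, 6, 5, 4, 3, 2, 5, 4, 3, 6, 5, 4, 5, 4, 3, 2, 6, 5, 7],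
  [3, 4, 5, 4, 3, 6, 5, 4, 3, 2, 5, 4, 3, 6, 5, 4, 5, 7, 6, 5, 4, 3, 2],
  [3, 4, 5, 4, 3, 6, 5, 4, 3, 2, 5, 4, 3, 6, 5, 4, 7, 6, 5, 4, 3, 2, 5],
  [3, 4, 5, 4, 3, 6, 5, 4, 3, 2, 5, 4, 3, 6, 5, 4, 7, 6, 5, 4, 3, 5, 4],
  [3, 4, 5, 4, 3, 6, 5, 4, 3, 2, 5, 4, 3, 6, 5, 7, 6, 5, 4, 3, 5, 4, 3],
  [3, 4, 5, 4, 3, 6, 5, 4, 3, 2, 5, 4, 3, 6, 5, 7, 6, 5, 4, 5, 4, 3, 2],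
  [3, 4, 5, 4, 3, 6, 5, 4, 3, 2, 5, 4, 3, 7, 6, 5, 4, 3, 2, 5, 4, 6, 5],
  [3, 4, 5, 4, 3, 6, 5, 4, 3, 2, 5, 4, 3, 7, 6, 5, 4, 3, 2, 5, 4, 6, 7],
  [3, 4, 5, 4, 3, 6, 5, 4, 3, 2, 5, 4, 3, 7, 6, 5, 4, 3, 5, 4, 5, 6, 5],
  [3, 4, 5, 4, 3, 6, 5, 4, 3, 2, 5, 4, 3, 7, 6, 5, 4, 3, 5, 4, 5, 6, 7],
  [3, 4, 5, 4, 3, 6, 5, 4, 3, 2, 5, 4, 3, 7, 6, 5, 4, 3, 5, 4, 6, 5, 4],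
  [3, 4, 5, 4, 3, 6, 5, 4, 3, 2, 5, 4, 3, 7, 6, 5, 4, 3, 5, 4, 6, 5, 7],
  [3, 4, 5, 4, 3, 6, 5, 4, 3, 2, 5, 4, 7, 6, 5, 4, 3, 2, 5, 4, 3, 6, 5],
  [3, 4, 5, 4, 3, 6, 5, 4, 3, 2, 5, 4, 7, 6, 5, 4, 3, 2, 5, 4, 5, 6, 5],
  [3, 4, 5, 4, 3, 6, 5, 4, 3, 2, 5, 4, 7, 6, 5, 4, 3, 2, 5, 4, 5, 6, 7],
  [3, 4, 5, 4, 3, 6, 5, 4, 3, 2, 5, 4, 7, 6, 5, 4, 3, 2, 5, 4, 6, 5, 4],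
  [3, 4, 5, 4, 3, 6, 5, 4, 3, 2, 5, 4, 7, 6, 5, 4, 3, 5, 4, 5, 4, 6, 5],
  [3, 4, 5, 4, 3, 6, 5, 4, 3, 2, 5, 4, 7, 6, 5, 4, 3, 5, 4, 5, 4, 6, 7],
  [3, 4, 5, 4, 3, 6, 5, 4, 3, 2, 5, 6, 7, 6, 5, 4, 3, 2, 5, 4, 3, 6, 5],
  [3, 4, 5, 4, 3, 6, 5, 4, 3, 2, 5, 7, 6, 5, 4, 3, 5, 4, 5, 4, 3, 6, 5],
  [3, 4, 5, 4, 3, 6, 5, 4, 3, 2, 5, 7, 6, 5, 4, 3, 5, 4, 5, 4, 3, 6, 7],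
  [3, 4, 5, 4, 3, 6, 5, 4, 3, 5, 4, 3, 2, 5, 6, 5, 4, 3, 7, 6, 5, 4, 5],
  [3, 4, 5, 4, 3, 6, 5, 4, 3, 5, 4, 3, 2, 6, 5, 4, 3, 2, 5, 4, 3, 6, 5],
  [3, 4, 5, 4, 3, 6, 5, 4, 3, 5, 4, 3, 2, 6, 5, 4, 3, 2, 5, 4, 3, 6, 7],
  [3, 4, 5, 4, 3, 6, 5, 4, 3, 5, 4, 3, 2, 6, 5, 4, 3, 2, 5, 4, 5, 6, 5],
  [3, 4, 5, 4, 3, 6, 5, 4, 3, 5, 4, 3, 2, 6, 5, 4, 3, 2, 5, 4, 5, 6, 7],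
  [3, 4, 5, 4, 3, 6, 5, 4, 3, 5, 4, 3, 2, 6, 5, 4, 3, 2, 7, 6, 5, 4, 3],
  [3, 4, 5, 4, 3, 6, 5, 4, 3, 5, 4, 3, 2, 6, 5, 4, 3, 2, 7, 6, 5, 4, 5],
  [3, 4, 5, 4, 3, 6, 5, 4, 3, 5, 4, 3, 2, 6, 5, 4, 3, 5, 4, 5, 4, 6, 5],
  [3, 4, 5, 4, 3, 6, 5, 4, 3, 5, 4, 3, 2, 6, 5, 4, 3, 5, 4, 5, 4, 6, 7],
  [3, 4, 5, 4, 3, 6, 5, 4, 3, 5, 4, 3, 2, 6, 5, 4, 3, 7, 6, 5, 4, 3, 2],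
  [3, 4, 5, 4, 3, 6, 5, 4, 3, 5, 4, 3, 2, 6, 5, 4, 3, 7, 6, 5, 4, 3, 5],
  [3, 4, 5, 4, 3, 6, 5, 4, 3, 5, 4, 3, 2, 6, 5, 4, 3, 7, 6, 5, 4, 5, 4],
  [3, 4, 5, 4, 3, 6, 5, 4, 3, 5, 4, 3, 2, 6, 5, 4, 3, 7, 6, 5, 4, 5, 6],
  [3, 4, 5, 4, 3, 6, 5, 4, 3, 5, 4, 3, 5, 6, 5, 4, 3, 5, 4, 3, 6, 5, 4],
  [3, 4, 5, 4, 3, 6, 5, 4, 3, 5, 4, 3, 5, 6, 5, 4, 3, 5, 4, 3, 6, 5, 7],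
  [3, 4, 5, 4, 3, 6, 5, 4, 3, 5, 4, 3, 5, 6, 5, 4, 3, 5, 4, 6, 5, 4, 3],
  [3, 4, 5, 4, 3, 6, 5, 4, 3, 5, 4, 3, 5, 6, 5, 4, 3, 5, 4, 6, 5, 4, 5],
  [3, 4, 5, 4, 3, 6, 5, 4, 3, 5, 4, 3, 5, 6, 5, 4, 3, 5, 4, 6, 5, 4, 7],
  [3, 4, 5, 4, 3, 6, 5, 4, 3, 5, 4, 3, 5, 6, 5, 4, 5, 4, 3, 2, 6, 5, 4],
  [3, 4, 5, 4, 3, 6, 5, 4, 3, 5, 4, 3, 5, 6, 5, 4, 5, 4, 3, 6, 5, 4, 5],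
  [3, 4, 5, 4, 3, 6, 5, 4, 3, 5, 4, 3, 6, 5, 4, 3, 2, 5, 4, 3, 2, 6, 5],
  [3, 4, 5, 4, 3, 6, 5, 4, 3, 5, 4, 3, 6, 5, 4, 3, 2, 5, 4, 3, 6, 5, 4],
  [3, 4, 5, 4, 3, 6, 5, 4, 3, 5, 4, 3, 6, 5, 4, 3, 2, 5, 4, 3, 6, 5, 7],
  [3, 4, 5, 4, 3, 6, 5, 4, 3, 5, 4, 3, 6, 5, 4, 3, 2, 5, 4, 6, 5, 4, 3],
  [3, 4, 5, 4, 3, 6, 5, 4, 3, 5, 4, 3, 6, 5, 4, 3, 2, 5, 4, 6, 5, 7, 6],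
  [3, 4, 5, 4, 3, 6, 5, 4, 3, 5, 4, 3, 6, 5, 4, 3, 2, 5, 4, 7, 6, 5, 4],
  [3, 4, 5, 4, 3, 6, 5, 4, 3, 5, 4, 3, 6, 5, 4, 3, 2, 5, 6, 7, 6, 5, 4],
  [3, 4, 5, 4, 3, 6, 5, 4, 3, 5, 4, 3, 6, 5, 4, 3, 2, 5, 7, 6, 5, 4, 3],
  [3, 4, 5, 4, 3, 6, 5, 4, 3, 5, 4, 3, 6, 5, 4, 3, 2, 5, 7, 6, 5, 4, 5],
  [3, 4, 5, 4, 3, 6, 5, 4, 3, 5, 4, 3, 6, 5, 4, 3, 2, 7, 6, 5, 4, 3, 2],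
  [3, 4, 5, 4, 3, 6, 5, 4, 3, 5, 4, 3, 6, 5, 4, 3, 5, 4, 3, 6, 5, 4, 3],
  [3, 4, 5, 4, 3, 6, 5, 4, 3, 5, 4, 3, 6, 5, 4, 3, 5, 4, 3, 6, 5, 4, 5],
  [3, 4, 5, 4, 3, 6, 5, 4, 3, 5, 4, 3, 6, 5, 4, 3, 5, 4, 5, 6, 5, 4, 3],
  [3, 4, 5, 4, 3, 6, 5, 4, 3, 5, 4, 3, 6, 5, 4, 3, 5, 4, 5, 6, 7, 6, 5],
  [3, 4, 5, 4, 3, 6, 5, 4, 3, 5, 4, 3, 6, 5, 4, 3, 5, 4, 5, 7, 6, 5, 4],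
  [3, 4, 5, 4, 3, 6, 5, 4, 3, 5, 4, 3, 6, 5, 4, 3, 5, 4, 6, 5, 4, 3, 2],
  [3, 4, 5, 4, 3, 6, 5, 4, 3, 5, 4, 3, 6, 5, 4, 3, 5, 4, 6, 5, 4, 3, 7],
  [3, 4, 5, 4, 3, 6, 5, 4, 3, 5, 4, 3, 6, 5, 4, 3, 5, 4, 6, 5, 4, 7, 6],
  [3, 4, 5, 4, 3, 6, 5, 4, 3, 5, 4, 3, 6, 5, 4, 3, 5, 4, 7, 6, 5, 4, 5],
  [3, 4, 5, 4, 3, 6, 5, 4, 3, 5, 4, 3, 6, 5, 4, 3, 5, 6, 7, 6, 5, 4, 5],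
  [3, 4, 5, 4, 3, 6, 5, 4, 3, 5, 4, 3, 6, 5, 4, 3, 5, 7, 6, 5, 4, 5, 4],
  [3, 4, 5, 4, 3, 6, 5, 4, 3, 5, 4, 3, 6, 5, 4, 5, 4, 3, 2, 6, 5, 4, 3],
  [3, 4, 5, 4, 3, 6, 5, 4, 3, 5, 4, 3, 6, 5, 4, 5, 4, 3, 2, 6, 5, 4, 5],
  [3, 4, 5, 4, 3, 6, 5, 4, 3, 5, 4, 3, 6, 5, 4, 5, 4, 3, 6, 5, 4, 5, 4],
  [3, 4, 5, 4, 3, 6, 5, 4, 3, 5, 4, 3, 6, 5, 4, 5, 4, 3, 6, 5, 4, 5, 6],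
  [3, 4, 5, 4, 3, 6, 5, 4, 3, 5, 4, 3, 6, 5, 4, 5, 4, 3, 6, 5, 4, 5, 7],
  [3, 4, 5, 4, 3, 6, 5, 4, 3, 5, 4, 5, 7, 6, 5, 4, 3, 5, 4, 5, 4, 6, 7],
  [3, 4, 5, 4, 3, 6, 5, 4, 3, 5, 4, 6, 5, 4, 3, 2, 5, 4, 3, 6, 5, 4, 3],
  [3, 4, 5, 4, 3, 6, 5, 4, 3, 5, 4, 6, 5, 4, 3, 2, 5, 4, 3, 6, 5, 4, 5],
  [3, 4, 5, 4, 3, 6, 5, 4, 3, 5, 4, 6, 5, 4, 3, 2, 5, 4, 5, 6, 5, 4, 3],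
  [3, 4, 5, 4, 3, 6, 5, 4, 3, 5, 4, 6, 5, 4, 3, 5, 4, 5, 4, 6, 5, 4, 3],
  [3, 4, 5, 4, 3, 6, 5, 4, 3, 5, 4, 6, 5, 4, 3, 5, 4, 5, 4, 6, 5, 4, 5],
  [3, 4, 5, 4, 3, 6, 5, 4, 3, 5, 4, 6, 5, 4, 3, 5, 4, 5, 4, 6, 5, 4, 7],
  [3, 4, 5, 4, 3, 6, 5, 4, 3, 5, 4, 6, 5, 4, 3, 5, 4, 5, 4, 6, 5, 7, 6],
  [3, 4, 5, 4, 3, 6, 5, 4, 3, 5, 4, 7, 6, 5, 4, 3, 2, 5, 4, 3, 6, 5, 4],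
  [3, 4, 5, 4, 3, 6, 5, 4, 3, 5, 6, 7, 6, 5, 4, 3, 2, 5, 4, 3, 6, 5, 4],
  [3, 4, 5, 4, 3, 6, 5, 4, 3, 5, 7, 6, 5, 4, 3, 5, 4, 3, 5, 4, 6, 5, 7],
  [3, 4, 5, 4, 3, 6, 5, 4, 5, 4, 3, 2, 6, 5, 4, 3, 7, 6, 5, 4, 5, 6, 7],
  [3, 4, 5, 4, 3, 6, 5, 4, 5, 4, 3, 6, 5, 4, 3, 2, 5, 4, 3, 2, 6, 5, 4],
  [3, 4, 5, 4, 3, 6, 5, 4, 5, 4, 3, 6, 5, 4, 3, 2, 5, 4, 3, 2, 6, 5, 7],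
  [3, 4, 5, 4, 3, 6, 5, 4, 5, 4, 3, 6, 5, 4, 3, 2, 5, 4, 3, 6, 5, 4, 3],
  [3, 4, 5, 4, 3, 6, 5, 4, 5, 4, 3, 6, 5, 4, 3, 2, 5, 4, 3, 6, 5, 4, 5],
  [3, 4, 5, 4, 3, 6, 5, 4, 5, 4, 3, 6, 5, 4, 3, 2, 5, 4, 3, 6, 5, 4, 7],
  [3, 4, 5, 4, 3, 6, 5, 4, 5, 4, 3, 6, 5, 4, 3, 2, 5, 4, 3, 6, 5, 7, 6],
  [3, 4, 5, 4, 3, 6, 5, 4, 5, 4, 3, 6, 5, 4, 3, 2, 5, 4, 3, 6, 7, 6, 5],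
  [3, 4, 5, 4, 3, 6, 5, 4, 5, 4, 3, 6, 5, 4, 3, 2, 5, 4, 3, 7, 6, 5, 4],
  [3, 4, 5, 4, 3, 6, 5, 4, 5, 4, 3, 6, 5, 4, 3, 2, 5, 4, 6, 5, 4, 3, 2],
  [3, 4, 5, 4, 3, 6, 5, 4, 5, 4, 3, 6, 5, 4, 3, 2, 5, 4, 6, 5, 7, 6, 5],
  [3, 4, 5, 4, 3, 6, 5, 4, 5, 4, 3, 6, 5, 4, 3, 2, 5, 4, 7, 6, 5, 4, 3],
  [3, 4, 5, 4, 3, 6, 5, 4, 5, 4, 3, 6, 5, 4, 3, 5, 4, 3, 2, 5, 6, 5, 4],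
  [3, 4, 5, 4, 3, 6, 5, 4, 5, 4, 3, 6, 5, 4, 3, 5, 4, 3, 2, 5, 6, 5, 7],
  [3, 4, 5, 4, 3, 6, 5, 4, 5, 4, 3, 6, 5, 4, 3, 5, 4, 3, 2, 6, 5, 4, 3],
  [3, 4, 5, 4, 3, 6, 5, 4, 5, 4, 3, 6, 5, 4, 3, 5, 4, 3, 2, 6, 5, 4, 5],
  [3, 4, 5, 4, 3, 6, 5, 4, 5, 4, 3, 6, 5, 4, 3, 5, 4, 3, 5, 4, 6, 5, 4],
  [3, 4, 5, 4, 3, 6, 5, 4, 5, 4, 3, 6, 5, 4, 3, 5, 4, 3, 5, 4, 6, 5, 7],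
  [3, 4, 5, 4, 3, 6, 5, 4, 5, 4, 3, 6, 5, 4, 3, 5, 4, 3, 5, 6, 5, 4, 3],
  [3, 4, 5, 4, 3, 6, 5, 4, 5, 4, 3, 6, 5, 4, 3, 5, 4, 3, 5, 6, 5, 4, 5],
  [3, 4, 5, 4, 3, 6, 5, 4, 5, 4, 3, 6, 5, 4, 3, 5, 4, 3, 5, 6, 5, 4, 7],
  [3, 4, 5, 4, 3, 6, 5, 4, 5, 4, 3, 6, 5, 4, 3, 5, 4, 3, 6, 5, 4, 3, 2],
  [3, 4, 5, 4, 3, 6, 5, 4, 5, 4, 3, 6, 5, 4, 3, 5, 4, 3, 6, 5, 4, 3, 5],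
  [3, 4, 5, 4, 3, 6, 5, 4, 5, 4, 3, 6, 5, 4, 3, 5, 4, 3, 6, 5, 4, 5, 4],
  [3, 4, 5, 4, 3, 6, 5, 4, 5, 4, 3, 6, 5, 4, 3, 5, 4, 3, 6, 5, 4, 5, 6],
  [3, 4, 5, 4, 3, 6, 5, 4, 5, 4, 3, 6, 5, 4, 3, 5, 4, 3, 6, 5, 4, 5, 7],
  [3, 4, 5, 4, 3, 6, 5, 4, 5, 4, 3, 6, 5, 4, 3, 5, 4, 5, 6, 5, 4, 3, 2],
  [3, 4, 5, 4, 3, 6, 5, 4, 5, 4, 3, 6, 5, 4, 3, 5, 7, 6, 5, 4, 3, 5, 6],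
  [3, 4, 5, 4, 3, 6, 5, 4, 5, 4, 3, 6, 5, 4, 3, 5, 7, 6, 5, 4, 5, 4, 3],
  [3, 4, 5, 4, 3, 6, 5, 4, 5, 4, 3, 6, 5, 4, 3, 7, 6, 5, 4, 3, 2, 5, 6],
  [3, 4, 5, 4, 3, 6, 5, 4, 5, 4, 3, 6, 5, 4, 3, 7, 6, 5, 4, 3, 5, 4, 6],
  [3, 4, 5, 4, 3, 6, 5, 4, 5, 4, 3, 6, 5, 4, 3, 7, 6, 5, 4, 3, 5, 6, 7],
  [3, 4, 5, 4, 3, 6, 5, 4, 5, 4, 3, 6, 5, 4, 5, 4, 3, 2, 6, 5, 4, 3, 2],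
  [3, 4, 5, 4, 3, 6, 5, 4, 5, 4, 3, 6, 5, 4, 5, 4, 3, 2, 6, 5, 4, 3, 5],
  [3, 4, 5, 4, 3, 6, 5, 4, 5, 4, 3, 6, 5, 4, 5, 4, 3, 6, 5, 4, 3, 5, 6],
  [3, 4, 5, 4, 3, 6, 5, 4, 5, 4, 6, 5, 4, 3, 2, 5, 4, 3, 5, 4, 6, 5, 4],
  [3, 4, 5, 4, 3, 6, 5, 4, 5, 4, 6, 5, 4, 3, 2, 5, 4, 3, 5, 4, 6, 5, 7]]
def ows1c21 : List (List Nat) := [[3, 4, 5, 4, 3, 6, 5, 4, 5, 4, 6, 5, 4, 3, 5, 4, 5, 4, 3, 2, 6, 5, 4],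
  [3, 4, 5, 4, 3, 6, 5, 4, 5, 4, 6, 5, 4, 3, 5, 4, 5, 4, 3, 2, 6, 5, 7],
  [3, 4, 5, 4, 3, 6, 5, 4, 5, 4, 6, 5, 4, 3, 5, 4, 5, 4, 3, 6, 5, 4, 3],
  [3, 4, 5, 4, 3, 6, 5, 4, 5, 4, 6, 5, 4, 3, 5, 4, 5, 4, 3, 6, 5, 4, 5],
  [3, 4, 5, 4, 3, 6, 5, 4, 5, 4, 6, 5, 4, 3, 5, 4, 5, 4, 3, 6, 5, 4, 7],
  [3, 4, 5, 4, 3, 6, 5, 4, 5, 4, 6, 5, 4, 3, 5, 4, 5, 4, 3, 6, 5, 7, 6],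
  [3, 4, 5, 4, 3, 6, 5, 4, 5, 7, 6, 5, 4, 3, 2, 5, 4, 3, 5, 4, 5, 6, 5],
  [3, 4, 5, 4, 3, 6, 5, 4, 5, 7, 6, 5, 4, 3, 2, 5, 4, 3, 5, 4, 5, 6, 7],
  [3, 4, 5, 4, 3, 6, 5, 4, 5, 7, 6, 5, 4, 3, 2, 5, 4, 3, 5, 4, 6, 5, 4],
  [3, 4, 5, 4, 3, 6, 5, 4, 5, 7, 6, 5, 4, 3, 2, 5, 4, 3, 5, 4, 6, 5, 7],
  [3, 4, 5, 4, 3, 6, 5, 4, 5, 7, 6, 5, 4, 3, 2, 5, 4, 3, 5, 6, 5, 4, 5],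
  [3, 4, 5, 4, 3, 6, 5, 4, 5, 7, 6, 5, 4, 3, 2, 5, 4, 3, 5, 6, 5, 4, 7],
  [3, 4, 5, 4, 3, 6, 5, 4, 5, 7, 6, 5, 4, 3, 2, 5, 4, 3, 6, 5, 4, 5, 6],
  [3, 4, 5, 4, 3, 6, 5, 4, 5, 7, 6, 5, 4, 3, 5, 4, 5, 4, 3, 2, 6, 5, 4],
  [3, 4, 5, 4, 3, 6, 5, 4, 5, 7, 6, 5, 4, 3, 5, 4, 5, 4, 3, 2, 6, 5, 7],
  [3, 4, 5, 4, 3, 6, 5, 4, 5, 7, 6, 5, 4, 3, 5, 4, 5, 4, 3, 6, 5, 4, 3],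
  [3, 4, 5, 4, 3, 6, 5, 4, 5, 7, 6, 5, 4, 3, 5, 4, 5, 4, 3, 6, 5, 4, 5],
  [3, 4, 5, 4, 3, 6, 5, 4, 5, 7, 6, 5, 4, 3, 5, 4, 5, 4, 3, 6, 5, 4, 7],
  [3, 4, 5, 4, 3, 6, 5, 4, 5, 7, 6, 5, 4, 3, 5, 4, 5, 4, 3, 6, 5, 7, 6],
  [3, 4, 5, 4, 3, 6, 5, 4, 5, 7, 6, 5, 4, 3, 5, 4, 5, 4, 6, 5, 4, 3, 7],
  [3, 4, 5, 4, 3, 6, 5, 4, 7, 6, 5, 4, 3, 5, 4, 5, 4, 6, 5, 4, 7, 6, 5],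
  [3, 4, 5, 4, 3, 6, 5, 4, 7, 6, 5, 4, 3, 5, 4, 6, 5, 4, 3, 5, 4, 6, 7],
  [3, 4, 5, 4, 6, 5, 4, 3, 2, 5, 4, 3, 5, 4, 6, 5, 4, 3, 2, 7, 6, 5, 4],
  [3, 4, 5, 4, 6, 5, 4, 3, 2, 5, 4, 3, 5, 4, 6, 5, 4, 3, 7, 6, 5, 4, 3],
  [3, 4, 5, 4, 6, 5, 4, 3, 2, 5, 4, 3, 5, 4, 6, 5, 4, 3, 7, 6, 5, 4, 5],
  [3, 4, 5, 4, 6, 5, 4, 3, 2, 5, 4, 3, 5, 4, 6, 5, 4, 7, 6, 5, 4, 3, 2],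
  [3, 4, 5, 4, 6, 5, 4, 3, 2, 5, 4, 3, 5, 6, 5, 4, 5, 4, 3, 2, 6, 5, 4],
  [3, 4, 5, 4, 6, 5, 4, 3, 2, 5, 4, 3, 5, 6, 5, 4, 5, 4, 3, 2, 6, 5, 7],
  [3, 4, 5, 4, 6, 5, 4, 3, 2, 5, 4, 3, 5, 6, 5, 4, 5, 4, 3, 6, 5, 4, 3],
  [3, 4, 5, 4, 6, 5, 4, 3, 2, 5, 4, 5, 6, 5, 4, 3, 2, 5, 4, 3, 2, 5, 6],
  [3, 4, 5, 4, 6, 5, 4, 3, 5, 4, 5, 4, 3, 2, 6, 5, 4, 3, 2, 5, 4, 6, 7],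
  [3, 4, 5, 4, 6, 5, 4, 3, 5, 4, 5, 4, 3, 2, 6, 5, 4, 3, 2, 7, 6, 5, 4],
  [3, 4, 5, 4, 6, 5, 4, 3, 5, 4, 5, 4, 3, 2, 6, 5, 4, 3, 5, 4, 6, 5, 4],
  [3, 4, 5, 4, 6, 5, 4, 3, 5, 4, 5, 4, 3, 2, 6, 5, 4, 3, 7, 6, 5, 4, 5],
  [3, 4, 5, 4, 6, 5, 4, 3, 5, 4, 5, 4, 3, 6, 5, 4, 3, 5, 4, 6, 5, 4, 3],
  [3, 4, 5, 4, 6, 5, 4, 3, 5, 4, 5, 4, 3, 6, 5, 4, 3, 5, 4, 6, 5, 4, 5],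
  [3, 4, 5, 4, 6, 5, 4, 3, 5, 4, 5, 6, 5, 4, 3, 5, 4, 3, 5, 4, 6, 5, 7],
  [3, 2, 4, 3, 5, 4, 3, 2, 5, 6, 5, 4, 3, 2, 5, 7, 6, 5, 4, 3, 5, 4, 5, 6],
  [3, 2, 4, 3, 5, 4, 3, 2, 5, 6, 5, 4, 3, 5, 4, 3, 5, 6, 5, 4, 3, 2, 5, 4],
  [3, 2, 4, 3, 5, 4, 3, 2, 5, 6, 5, 4, 3, 5, 4, 3, 5, 6, 5, 4, 3, 5, 4, 5],
  [3, 2, 4, 3, 5, 4, 3, 2, 5, 6, 5, 4, 3, 5, 4, 3, 5, 6, 5, 4, 3, 5, 4, 6],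
  [3, 2, 4, 3, 5, 4, 3, 2, 5, 6, 5, 4, 3, 5, 4, 3, 6, 5, 4, 3, 2, 5, 6, 7],
  [3, 2, 4, 3, 5, 4, 3, 2, 5, 6, 5, 4, 3, 5, 4, 3, 6, 5, 4, 3, 5, 4, 6, 5],
  [3, 2, 4, 3, 5, 4, 3, 2, 5, 6, 5, 4, 3, 5, 4, 3, 6, 5, 4, 3, 5, 4, 6, 7],
  [3, 2, 4, 3, 5, 4, 3, 2, 5, 6, 5, 4, 3, 5, 4, 5, 6, 5, 4, 3, 2, 5, 4, 5],
  [3, 2, 4, 3, 5, 4, 3, 2, 5, 6, 5, 4, 3, 5, 4, 5, 6, 5, 4, 3, 2, 5, 4, 7],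
  [3, 2, 4, 3, 5, 4, 3, 2, 5, 6, 5, 4, 3, 5, 4, 5, 6, 5, 4, 3, 2, 5, 7, 6],
  [3, 2, 4, 3, 5, 4, 3, 2, 5, 6, 5, 4, 3, 5, 4, 5, 6, 5, 4, 3, 5, 4, 3, 2],
  [3, 2, 4, 3, 5, 4, 3, 2, 5, 6, 5, 4, 3, 5, 4, 5, 6, 5, 4, 3, 5, 4, 3, 5],
  [3, 2, 4, 3, 5, 4, 3, 2, 5, 6, 5, 4, 3, 5, 4, 5, 6, 5, 4, 3, 5, 4, 5, 4],
  [3, 2, 4, 3, 5, 4, 3, 2, 5, 6, 5, 4, 3, 5, 4, 5, 6, 5, 4, 3, 5, 4, 5, 6],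
  [3, 2, 4, 3, 5, 4, 3, 2, 5, 6, 5, 4, 3, 5, 4, 5, 6, 5, 4, 3, 5, 4, 5, 7],
  [3, 2, 4, 3, 5, 4, 3, 2, 5, 6, 5, 4, 3, 5, 4, 5, 6, 5, 4, 3, 5, 4, 7, 6],
  [3, 2, 4, 3, 5, 4, 3, 2, 6, 5, 4, 3, 2, 7, 6, 5, 4, 3, 2, 5, 4, 6, 5, 4],
  [3, 2, 4, 3, 5, 4, 3, 2, 6, 5, 4, 3, 2, 7, 6, 5, 4, 3, 2, 5, 4, 6, 5, 7],
  [3, 2, 4, 3, 5, 4, 3, 2, 6, 5, 4, 3, 2, 7, 6, 5, 4, 3, 5, 4, 5, 6, 5, 4],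
  [3, 2, 4, 3, 5, 4, 3, 2, 6, 5, 4, 3, 2, 7, 6, 5, 4, 3, 5, 4, 5, 6, 5, 7],
  [3, 2, 4, 3, 5, 4, 3, 2, 6, 5, 4, 3, 2, 7, 6, 5, 4, 3, 5, 4, 6, 5, 4, 3],
  [3, 2, 4, 3, 5, 4, 3, 2, 6, 5, 4, 3, 2, 7, 6, 5, 4, 3, 5, 4, 6, 5, 4, 5],
  [3, 2, 4, 3, 5, 4, 3, 2, 6, 5, 4, 3, 2, 7, 6, 5, 4, 3, 5, 4, 6, 5, 4, 7],
  [3, 2, 4, 3, 5, 4, 3, 2, 6, 5, 4, 3, 2, 7, 6, 5, 4, 3, 5, 4, 6, 5, 7, 6],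
  [3, 2, 4, 3, 5, 4, 3, 2, 6, 5, 4, 3, 7, 6, 5, 4, 3, 5, 4, 3, 2, 6, 5, 4],
  [3, 2, 4, 3, 5, 4, 3, 2, 6, 5, 4, 3, 7, 6, 5, 4, 3, 5, 4, 3, 2, 6, 5, 7],
  [3, 2, 4, 3, 5, 4, 3, 2, 6, 5, 4, 3, 7, 6, 5, 4, 3, 5, 4, 3, 6, 5, 4, 3],
  [3, 2, 4, 3, 5, 4, 3, 2, 6, 5, 4, 3, 7, 6, 5, 4, 3, 5, 4, 3, 6, 5, 4, 5],
  [3, 2, 4, 3, 5, 4, 3, 2, 6, 5, 4, 3, 7, 6, 5, 4, 3, 5, 4, 3, 6, 5, 4, 7],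
  [3, 2, 4, 3, 5, 4, 3, 2, 6, 5, 4, 3, 7, 6, 5, 4, 3, 5, 4, 3, 6, 5, 7, 6],
  [3, 2, 4, 3, 5, 4, 3, 2, 6, 5, 4, 3, 7, 6, 5, 4, 5, 4, 3, 2, 6, 5, 4, 5],
  [3, 2, 4, 3, 5, 4, 3, 2, 6, 5, 4, 3, 7, 6, 5, 4, 5, 4, 3, 2, 6, 5, 4, 7],
  [3, 2, 4, 3, 5, 4, 3, 2, 6, 5, 4, 3, 7, 6, 5, 4, 5, 4, 3, 6, 5, 4, 3, 5],
  [3, 2, 4, 3, 5, 4, 3, 2, 6, 5, 4, 3, 7, 6, 5, 4, 5, 4, 3, 6, 5, 4, 3, 7],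
  [3, 2, 4, 3, 5, 4, 3, 2, 6, 5, 4, 3, 7, 6, 5, 4, 5, 4, 3, 6, 5, 4, 5, 4],
  [3, 2, 4, 3, 5, 4, 3, 2, 6, 5, 4, 3, 7, 6, 5, 4, 5, 4, 3, 6, 5, 4, 5, 6],
  [3, 2, 4, 3, 5, 4, 3, 2, 6, 5, 4, 3, 7, 6, 5, 4, 5, 4, 3, 6, 5, 4, 5, 7],
  [3, 2, 4, 3, 5, 4, 3, 2, 6, 5, 4, 3, 7, 6, 5, 4, 5, 4, 6, 5, 4, 3, 5, 4],
  [3, 2, 4, 3, 5, 4, 3, 5, 6, 5, 4, 3, 2, 5, 4, 3, 5, 6, 5, 4, 3, 2, 5, 4],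
  [3, 2, 4, 3, 5, 4, 3, 5, 6, 5, 4, 3, 2, 5, 4, 3, 5, 6, 5, 4, 3, 2, 5, 6],
  [3, 2, 4, 3, 5, 4, 3, 5, 6, 5, 4, 3, 2, 5, 4, 3, 5, 6, 5, 4, 3, 2, 5, 7],
  [3, 2, 4, 3, 5, 4, 3, 5, 6, 5, 4, 3, 2, 5, 4, 3, 5, 6, 5, 4, 3, 5, 4, 3],
  [3, 2, 4, 3, 5, 4, 3, 5, 6, 5, 4, 3, 2, 5, 4, 3, 5, 6, 5, 4, 3, 5, 4, 5],
  [3, 2, 4, 3, 5, 4, 3, 5, 6, 5, 4, 3, 2, 5, 4, 3, 5, 6, 5, 4, 3, 5, 4, 6],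
  [3, 2, 4, 3, 5, 4, 3, 5, 6, 5, 4, 3, 2, 5, 4, 3, 6, 5, 4, 3, 5, 4, 6, 5],
  [3, 2, 4, 3, 5, 4, 3, 5, 6, 5, 4, 3, 2, 5, 4, 5, 6, 5, 4, 3, 2, 5, 4, 3],
  [3, 2, 4, 3, 5, 4, 3, 5, 6, 5, 4, 3, 2, 5, 4, 5, 6, 5, 4, 3, 2, 5, 4, 5],
  [3, 2, 4, 3, 5, 4, 3, 5, 6, 5, 4, 3, 2, 5, 4, 5, 6, 5, 4, 3, 2, 5, 4, 7],
  [3, 2, 4, 3, 5, 4, 3, 5, 6, 5, 4, 3, 2, 5, 4, 5, 6, 5, 4, 3, 5, 4, 3, 2],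
  [3, 2, 4, 3, 5, 4, 3, 5, 6, 5, 4, 3, 2, 5, 4, 5, 6, 5, 4, 3, 5, 4, 3, 5],
  [3, 2, 4, 3, 5, 4, 3, 5, 6, 5, 4, 3, 2, 5, 4, 5, 6, 5, 4, 3, 5, 4, 5, 4],
  [3, 2, 4, 3, 5, 4, 3, 5, 6, 5, 4, 3, 2, 5, 4, 5, 6, 5, 4, 3, 5, 4, 5, 6],
  [3, 2, 4, 3, 5, 4, 3, 5, 6, 5, 4, 3, 2, 5, 4, 5, 6, 5, 4, 3, 5, 4, 5, 7],
  [3, 2, 4, 3, 5, 4, 3, 5, 6, 5, 4, 3, 2, 5, 6, 7, 6, 5, 4, 3, 5, 4, 5, 6],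
  [3, 2, 4, 3, 5, 4, 3, 5, 6, 5, 4, 3, 2, 5, 6, 7, 6, 5, 4, 3, 5, 4, 6, 5],
  [3, 2, 4, 3, 5, 4, 3, 5, 6, 5, 4, 3, 2, 5, 7, 6, 5, 4, 3, 5, 4, 5, 6, 7],
  [3, 2, 4, 3, 5, 4, 3, 5, 6, 5, 4, 3, 5, 4, 3, 5, 6, 5, 4, 3, 2, 5, 4, 5],
  [3, 2, 4, 3, 5, 4, 3, 5, 6, 5, 4, 3, 5, 4, 3, 5, 6, 5, 4, 3, 5, 4, 5, 4],
  [3, 2, 4, 3, 5, 4, 3, 5, 6, 5, 4, 3, 5, 4, 3, 5, 6, 5, 4, 3, 5, 4, 5, 6],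
  [3, 2, 4, 3, 5, 4, 3, 5, 6, 5, 4, 3, 5, 4, 3, 5, 6, 5, 4, 3, 5, 4, 6, 5],
  [3, 2, 4, 3, 5, 4, 3, 5, 6, 5, 4, 3, 5, 4, 3, 6, 5, 4, 3, 2, 5, 4, 6, 5],
  [3, 2, 4, 3, 5, 4, 3, 5, 6, 5, 4, 3, 5, 4, 3, 6, 5, 4, 3, 5, 4, 5, 6, 5],
  [3, 2, 4, 3, 5, 4, 3, 5, 6, 5, 4, 3, 5, 4, 3, 6, 5, 4, 3, 5, 4, 5, 6, 7],
  [3, 2, 4, 3, 5, 4, 3, 5, 6, 5, 4, 3, 5, 4, 3, 6, 5, 4, 3, 5, 4, 6, 5, 4],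
  [3, 2, 4, 3, 5, 4, 3, 5, 6, 5, 4, 3, 5, 4, 5, 4, 3, 6, 5, 4, 3, 5, 4, 3],
  [3, 2, 4, 3, 5, 4, 3, 5, 6, 5, 4, 3, 5, 4, 5, 4, 3, 6, 5, 4, 3, 5, 4, 5],
  [3, 2, 4, 3, 5, 4, 3, 5, 6, 5, 4, 3, 5, 4, 5, 4, 3, 6, 5, 4, 3, 5, 7, 6],
  [3, 2, 4, 3, 5, 4, 3, 5, 6, 5, 4, 3, 5, 4, 5, 4, 3, 6, 5, 4, 3, 7, 6, 5],
  [3, 2, 4, 3, 5, 4, 3, 5, 6, 5, 4, 3, 5, 4, 5, 4, 3, 6, 5, 4, 5, 4, 6, 5],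
  [3, 2, 4, 3, 5, 4, 3, 5, 6, 5, 4, 3, 5, 4, 5, 4, 3, 6, 5, 4, 5, 4, 6, 7],
  [3, 2, 4, 3, 5, 4, 3, 5, 6, 5, 4, 3, 5, 4, 5, 4, 3, 6, 5, 4, 7, 6, 5, 4],
  [3, 2, 4, 3, 5, 4, 3, 5, 6, 5, 4, 3, 5, 4, 5, 4, 6, 5, 4, 3, 2, 5, 4, 3],
  [3, 2, 4, 3, 5, 4, 3, 5, 6, 5, 4, 3, 5, 4, 5, 4, 6, 5, 4, 3, 2, 5, 4, 5],
  [3, 2, 4, 3, 5, 4, 3, 5, 6, 5, 4, 3, 5, 4, 5, 4, 6, 5, 4, 3, 2, 7, 6, 5],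
  [3, 2, 4, 3, 5, 4, 3, 5, 6, 5, 4, 3, 5, 4, 5, 4, 6, 5, 4, 3, 5, 4, 5, 4],
  [3, 2, 4, 3, 5, 4, 3, 5, 6, 5, 4, 3, 5, 4, 5, 4, 6, 5, 4, 3, 5, 4, 5, 6],
  [3, 2, 4, 3, 5, 4, 3, 5, 6, 5, 4, 3, 5, 4, 5, 4, 6, 5, 4, 3, 7, 6, 5, 4],
  [3, 2, 4, 3, 5, 4, 3, 5, 6, 5, 4, 3, 5, 4, 5, 6, 5, 4, 3, 2, 5, 4, 3, 2],
  [3, 2, 4, 3, 5, 4, 3, 5, 6, 5, 4, 3, 5, 4, 5, 6, 5, 4, 3, 2, 5, 4, 3, 5],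
  [3, 2, 4, 3, 5, 4, 3, 5, 6, 5, 4, 3, 5, 4, 5, 6, 5, 4, 3, 2, 5, 4, 3, 6],
  [3, 2, 4, 3, 5, 4, 3, 5, 6, 5, 4, 3, 5, 4, 5, 6, 5, 4, 3, 2, 5, 4, 3, 7],
  [3, 2, 4, 3, 5, 4, 3, 5, 6, 5, 4, 3, 5, 4, 5, 6, 5, 4, 3, 2, 5, 4, 5, 6],
  [3, 2, 4, 3, 5, 4, 3, 5, 6, 5, 4, 3, 5, 4, 5, 6, 5, 4, 3, 2, 5, 4, 6, 5],
  [3, 2, 4, 3, 5, 4, 3, 5, 6, 5, 4, 3, 5, 4, 5, 6, 5, 4, 3, 5, 4, 3, 2, 6],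
  [3, 2, 4, 3, 5, 4, 3, 5, 6, 5, 4, 3, 5, 4, 5, 6, 5, 4, 3, 5, 4, 3, 5, 6],
  [3, 2, 4, 3, 5, 4, 3, 5, 6, 5, 4, 3, 5, 4, 5, 6, 5, 4, 3, 5, 4, 3, 6, 5],
  [3, 2, 4, 3, 5, 4, 3, 5, 6, 5, 4, 3, 5, 4, 5, 6, 5, 4, 3, 5, 4, 5, 6, 5],
  [3, 2, 4, 3, 5, 4, 3, 5, 6, 5, 4, 3, 5, 4, 5, 6, 5, 4, 3, 5, 4, 5, 6, 7],
  [3, 2, 4, 3, 5, 4, 3, 5, 6, 5, 4, 3, 5, 4, 5, 6, 5, 4, 3, 5, 4, 5, 7, 6],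
  [3, 2, 4, 3, 5, 4, 3, 5, 6, 5, 4, 3, 5, 4, 5, 6, 5, 4, 3, 5, 4, 6, 5, 4],
  [3, 2, 4, 3, 5, 4, 3, 5, 6, 5, 4, 3, 5, 4, 5, 6, 5, 4, 5, 4, 3, 2, 6, 5],
  [3, 2, 4, 3, 5, 4, 3, 5, 6, 5, 4, 3, 5, 4, 5, 6, 5, 4, 5, 4, 3, 6, 5, 4],
  [3, 2, 4, 3, 5, 4, 3, 5, 6, 5, 4, 3, 5, 4, 6, 5, 4, 3, 2, 5, 4, 6, 5, 4],
  [3, 2, 4, 3, 5, 4, 3, 5, 6, 5, 4, 3, 5, 4, 6, 5, 4, 3, 5, 4, 6, 5, 4, 5],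
  [3, 2, 4, 3, 5, 4, 3, 5, 6, 5, 4, 3, 7, 6, 5, 4, 3, 5, 4, 5, 6, 5, 4, 7],
  [3, 2, 4, 3, 5, 4, 3, 6, 5, 4, 3, 2, 5, 4, 3, 6, 5, 4, 3, 5, 4, 6, 5, 4],
  [3, 2, 4, 3, 5, 4, 3, 6, 5, 4, 3, 2, 5, 4, 3, 6, 5, 4, 3, 5, 4, 6, 5, 7],
  [3, 2, 4, 3, 5, 4, 3, 6, 5, 4, 3, 2, 5, 4, 6, 5, 7, 6, 5, 4, 3, 2, 5, 4],
  [3, 2, 4, 3, 5, 4, 3, 6, 5, 4, 3, 2, 5, 4, 6, 5, 7, 6, 5, 4, 3, 5, 4, 5],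
  [3, 2, 4, 3, 5, 4, 3, 6, 5, 4, 3, 2, 5, 6, 7, 6, 5, 4, 3, 5, 4, 5, 6, 5],
  [3, 2, 4, 3, 5, 4, 3, 6, 5, 4, 3, 2, 5, 6, 7, 6, 5, 4, 3, 5, 4, 5, 6, 7],
  [3, 2, 4, 3, 5, 4, 3, 6, 5, 4, 3, 2, 5, 6, 7, 6, 5, 4, 3, 5, 4, 6, 5, 4],
  [3, 2, 4, 3, 5, 4, 3, 6, 5, 4, 3, 2, 5, 6, 7, 6, 5, 4, 3, 5, 4, 6, 5, 7],
  [3, 2, 4, 3, 5, 4, 3, 6, 5, 4, 3, 2, 5, 7, 6, 5, 4, 3, 2, 5, 4, 5, 6, 5],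
  [3, 2, 4, 3, 5, 4, 3, 6, 5, 4, 3, 2, 5, 7, 6, 5, 4, 3, 2, 5, 4, 5, 6, 7],
  [3, 2, 4, 3, 5, 4, 3, 6, 5, 4, 3, 2, 5, 7, 6, 5, 4, 3, 2, 5, 4, 6, 5, 4],
  [3, 2, 4, 3, 5, 4, 3, 6, 5, 4, 3, 2, 5, 7, 6, 5, 4, 3, 2, 5, 4, 6, 5, 7],
  [3, 2, 4, 3, 5, 4, 3, 6, 5, 4, 3, 2, 5, 7, 6, 5, 4, 3, 5, 4, 3, 2, 6, 5],
  [3, 2, 4, 3, 5, 4, 3, 6, 5, 4, 3, 2, 5, 7, 6, 5, 4, 3, 5, 4, 3, 2, 6, 7],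
  [3, 2, 4, 3, 5, 4, 3, 6, 5, 4, 3, 2, 5, 7, 6, 5, 4, 3, 5, 4, 3, 5, 6, 5],
  [3, 2, 4, 3, 5, 4, 3, 6, 5, 4, 3, 2, 5, 7, 6, 5, 4, 3, 5, 4, 3, 5, 6, 7],
  [3, 2, 4, 3, 5, 4, 3, 6, 5, 4, 3, 2, 5, 7, 6, 5, 4, 3, 5, 4, 3, 6, 5, 4],
  [3, 2, 4, 3, 5, 4, 3, 6, 5, 4, 3, 2, 5, 7, 6, 5, 4, 3, 5, 4, 3, 6, 5, 7],
  [3, 2, 4, 3, 5, 4, 3, 6, 5, 4, 3, 2, 5, 7, 6, 5, 4, 3, 5, 4, 5, 6, 5, 4],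
  [3, 2, 4, 3, 5, 4, 3, 6, 5, 4, 3, 2, 5, 7, 6, 5, 4, 3, 5, 4, 5, 6, 5, 7],
  [3, 2, 4, 3, 5, 4, 3, 6, 5, 4, 3, 2, 5, 7, 6, 5, 4, 3, 5, 4, 6, 5, 4, 3],
  [3, 2, 4, 3, 5, 4, 3, 6, 5, 4, 3, 2, 5, 7, 6, 5, 4, 3, 5, 4, 6, 5, 4, 5],
  [3, 2, 4, 3, 5, 4, 3, 6, 5, 4, 3, 2, 5, 7, 6, 5, 4, 3, 5, 4, 6, 5, 4, 7],
  [3, 2, 4, 3, 5, 4, 3, 6, 5, 4, 3, 2, 5, 7, 6, 5, 4, 3, 5, 4, 6, 5, 7, 6],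
  [3, 2, 4, 3, 5, 4, 3, 6, 5, 4, 3, 2, 5, 7, 6, 5, 4, 5, 4, 3, 2, 6, 5, 4],
  [3, 2, 4, 3, 5, 4, 3, 6, 5, 4, 3, 2, 5, 7, 6, 5, 4, 5, 4, 3, 2, 6, 5, 7],
  [3, 2, 4, 3, 5, 4, 3, 6, 5, 4, 3, 2, 5, 7, 6, 5, 4, 5, 4, 3, 6, 5, 4, 5],
  [3, 2, 4, 3, 5, 4, 3, 6, 5, 4, 3, 2, 5, 7, 6, 5, 4, 5, 4, 3, 6, 5, 4, 7],
  [3, 2, 4, 3, 5, 4, 3, 6, 5, 4, 3, 2, 7, 6, 5, 4, 3, 2, 5, 4, 3, 6, 5, 4],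
  [3, 2, 4, 3, 5, 4, 3, 6, 5, 4, 3, 2, 7, 6, 5, 4, 3, 2, 5, 4, 6, 5, 4, 3],
  [3, 2, 4, 3, 5, 4, 3, 6, 5, 4, 3, 2, 7, 6, 5, 4, 3, 5, 4, 5, 4, 6, 5, 4],
  [3, 2, 4, 3, 5, 4, 3, 6, 5, 4, 3, 2, 7, 6, 5, 4, 3, 5, 4, 5, 6, 5, 4, 5],
  [3, 2, 4, 3, 5, 4, 3, 6, 5, 4, 3, 2, 7, 6, 5, 4, 3, 5, 4, 6, 5, 4, 3, 2],
  [3, 2, 4, 3, 5, 4, 3, 6, 5, 4, 3, 2, 7, 6, 5, 4, 3, 5, 4, 6, 5, 4, 3, 5],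
  [3, 2, 4, 3, 5, 4, 3, 6, 5, 4, 3, 2, 7, 6, 5, 4, 3, 5, 4, 6, 5, 4, 5, 6],
  [3, 2, 4, 3, 5, 4, 3, 6, 5, 4, 3, 5, 4, 3, 6, 5, 4, 3, 2, 5, 4, 6, 5, 7],
  [3, 2, 4, 3, 5, 4, 3, 6, 5, 4, 3, 5, 4, 3, 6, 5, 4, 3, 2, 7, 6, 5, 4, 3],
  [3, 2, 4, 3, 5, 4, 3, 6, 5, 4, 3, 5, 4, 3, 6, 5, 4, 3, 5, 4, 5, 6, 5, 4],
  [3, 2, 4, 3, 5, 4, 3, 6, 5, 4, 3, 5, 4, 3, 6, 5, 4, 3, 5, 4, 6, 5, 4, 3],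
  [3, 2, 4, 3, 5, 4, 3, 6, 5, 4, 3, 5, 4, 3, 6, 5, 4, 3, 5, 4, 6, 5, 4, 5],
  [3, 2, 4, 3, 5, 4, 3, 6, 5, 4, 3, 5, 4, 3, 6, 5, 4, 3, 5, 4, 6, 5, 4, 7],
  [3, 2, 4, 3, 5, 4, 3, 6, 5, 4, 3, 5, 4, 3, 6, 5, 4, 3, 7, 6, 5, 4, 3, 2],
  [3, 2, 4, 3, 5, 4, 3, 6, 5, 4, 3, 5, 4, 3, 6, 5, 4, 3, 7, 6, 5, 4, 3, 5],
  [3, 2, 4, 3, 5, 4, 3, 6, 5, 4, 3, 5, 4, 6, 5, 4, 3, 2, 7, 6, 5, 4, 3, 2],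
  [3, 2, 4, 3, 5, 4, 3, 6, 5, 4, 3, 5, 4, 6, 5, 4, 3, 2, 7, 6, 5, 4, 3, 5],
  [3, 2, 4, 3, 5, 4, 3, 6, 5, 4, 3, 5, 4, 6, 5, 4, 3, 2, 7, 6, 5, 4, 5, 6],
  [3, 2, 4, 3, 5, 4, 3, 6, 5, 4, 3, 5, 4, 6, 5, 4, 3, 7, 6, 5, 4, 3, 2, 5],
  [3, 2, 4, 3, 5, 4, 3, 6, 5, 4, 3, 5, 4, 6, 5, 4, 3, 7, 6, 5, 4, 3, 5, 4],
  [3, 2, 4, 3, 5, 4, 3, 6, 5, 4, 3, 5, 4, 6, 5, 4, 3, 7, 6, 5, 4, 3, 5, 6],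
  [3, 2, 4, 3, 5, 4, 3, 6, 5, 4, 3, 5, 4, 6, 5, 4, 3, 7, 6, 5, 4, 5, 4, 3],
  [3, 2, 4, 3, 5, 4, 3, 6, 5, 4, 3, 5, 4, 6, 5, 4, 3, 7, 6, 5, 4, 5, 4, 6],
  [3, 2, 4, 3, 5, 4, 3, 6, 5, 4, 3, 5, 4, 6, 5, 4, 3, 7, 6, 5, 4, 5, 6, 7],
  [3, 2, 4, 3, 5, 4, 3, 6, 5, 4, 3, 5, 4, 6, 5, 4, 7, 6, 5, 4, 3, 2, 5, 4],
  [3, 2, 4, 3, 5, 4, 3, 6, 5, 4, 3, 5, 4, 6, 5, 4, 7, 6, 5, 4, 3, 5, 4, 5],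
  [3, 2, 4, 3, 5, 4, 3, 6, 5, 4, 3, 5, 4, 6, 5, 7, 6, 5, 4, 3, 2, 5, 4, 3],
  [3, 2, 4, 3, 5, 4, 3, 6, 5, 4, 3, 5, 4, 6, 5, 7, 6, 5, 4, 3, 2, 5, 4, 5],
  [3, 2, 4, 3, 5, 4, 3, 6, 5, 4, 3, 5, 4, 6, 5, 7, 6, 5, 4, 3, 5, 4, 5, 4],
  [3, 2, 4, 3, 5, 4, 3, 6, 5, 4, 3, 5, 4, 6, 5, 7, 6, 5, 4, 3, 5, 4, 5, 6],
  [3, 2, 4, 3, 5, 4, 3, 6, 5, 4, 3, 5, 4, 7, 6, 5, 4, 3, 2, 5, 4, 3, 6, 5],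
  [3, 2, 4, 3, 5, 4, 3, 6, 5, 4, 3, 5, 4, 7, 6, 5, 4, 3, 2, 5, 4, 3, 6, 7],
  [3, 2, 4, 3, 5, 4, 3, 6, 5, 4, 3, 5, 4, 7, 6, 5, 4, 3, 2, 5, 4, 6, 5, 4],
  [3, 2, 4, 3, 5, 4, 3, 6, 5, 4, 3, 5, 4, 7, 6, 5, 4, 3, 2, 5, 4, 6, 5, 7],
  [3, 2, 4, 3, 5, 4, 3, 6, 5, 4, 3, 5, 4, 7, 6, 5, 4, 3, 5, 4, 5, 6, 5, 4],
  [3, 2, 4, 3, 5, 4, 3, 6, 5, 4, 3, 5, 4, 7, 6, 5, 4, 3, 5, 4, 5, 6, 5, 7],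
  [3, 2, 4, 3, 5, 4, 3, 6, 5, 4, 3, 5, 4, 7, 6, 5, 4, 3, 5, 4, 6, 5, 4, 3],
  [3, 2, 4, 3, 5, 4, 3, 6, 5, 4, 3, 5, 4, 7, 6, 5, 4, 3, 5, 4, 6, 5, 4, 5],
  [3, 2, 4, 3, 5, 4, 3, 6, 5, 4, 3, 5, 4, 7, 6, 5, 4, 3, 5, 4, 6, 5, 4, 7],
  [3, 2, 4, 3, 5, 4, 3, 6, 5, 4, 3, 5, 4, 7, 6, 5, 4, 3, 5, 4, 6, 5, 7, 6]]
def ows1c22 : List (List Nat) := [[3, 2, 4, 3, 5, 4, 3, 6, 5, 4, 3, 5, 7, 6, 5, 4, 3, 5, 4, 3, 2, 6, 5, 4],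
  [3, 2, 4, 3, 5, 4, 3, 6, 5, 4, 3, 5, 7, 6, 5, 4, 3, 5, 4, 3, 2, 6, 5, 7],
  [3, 2, 4, 3, 5, 4, 3, 6, 5, 4, 3, 5, 7, 6, 5, 4, 3, 5, 4, 3, 6, 5, 4, 3],
  [3, 2, 4, 3, 5, 4, 3, 6, 5, 4, 3, 5, 7, 6, 5, 4, 3, 5, 4, 3, 6, 5, 4, 5],
  [3, 2, 4, 3, 5, 4, 3, 6, 5, 4, 3, 5, 7, 6, 5, 4, 3, 5, 4, 3, 6, 5, 4, 7],
  [3, 2, 4, 3, 5, 4, 3, 6, 5, 4, 3, 5, 7, 6, 5, 4, 3, 5, 4, 3, 6, 5, 7, 6],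
  [3, 2, 4, 3, 5, 4, 3, 6, 5, 4, 3, 5, 7, 6, 5, 4, 3, 5, 4, 6, 5, 4, 3, 2],
  [3, 2, 4, 3, 5, 4, 3, 6, 5, 4, 3, 5, 7, 6, 5, 4, 3, 5, 4, 6, 5, 4, 3, 5],
  [3, 2, 4, 3, 5, 4, 3, 6, 5, 4, 3, 5, 7, 6, 5, 4, 3, 5, 4, 6, 5, 4, 3, 7],
  [3, 2, 4, 3, 5, 4, 3, 6, 5, 4, 3, 5, 7, 6, 5, 4, 5, 4, 3, 2, 6, 5, 4, 3],
  [3, 2, 4, 3, 5, 4, 3, 6, 5, 4, 3, 5, 7, 6, 5, 4, 5, 4, 3, 2, 6, 5, 4, 5],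
  [3, 2, 4, 3, 5, 4, 3, 6, 5, 4, 3, 5, 7, 6, 5, 4, 5, 4, 3, 6, 5, 4, 5, 4],
  [3, 2, 4, 3, 5, 4, 3, 6, 5, 4, 3, 5, 7, 6, 5, 4, 5, 4, 3, 6, 5, 4, 5, 6],
  [3, 2, 4, 3, 5, 4, 3, 6, 5, 4, 3, 7, 6, 5, 4, 3, 2, 5, 4, 3, 6, 5, 4, 3],
  [3, 2, 4, 3, 5, 4, 3, 6, 5, 4, 3, 7, 6, 5, 4, 3, 2, 5, 4, 3, 6, 5, 4, 5],
  [3, 2, 4, 3, 5, 4, 3, 6, 5, 4, 3, 7, 6, 5, 4, 3, 2, 5, 4, 3, 6, 5, 4, 7],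
  [3, 2, 4, 3, 5, 4, 3, 6, 5, 4, 3, 7, 6, 5, 4, 3, 2, 5, 4, 3, 6, 5, 7, 6],
  [3, 2, 4, 3, 5, 4, 3, 6, 5, 4, 3, 7, 6, 5, 4, 3, 2, 5, 4, 6, 5, 4, 3, 2],
  [3, 2, 4, 3, 5, 4, 3, 6, 5, 4, 3, 7, 6, 5, 4, 3, 5, 4, 3, 2, 6, 5, 4, 3],
  [3, 2, 4, 3, 5, 4, 3, 6, 5, 4, 3, 7, 6, 5, 4, 3, 5, 4, 3, 6, 5, 4, 3, 2],
  [3, 2, 4, 3, 5, 4, 3, 6, 5, 4, 3, 7, 6, 5, 4, 3, 5, 4, 6, 5, 4, 3, 5, 4],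
  [3, 2, 4, 3, 5, 4, 3, 6, 5, 4, 5, 4, 3, 6, 5, 4, 5, 4, 3, 2, 6, 5, 4, 3],
  [3, 2, 4, 3, 5, 4, 3, 6, 5, 4, 5, 4, 3, 6, 5, 4, 5, 4, 3, 2, 6, 5, 4, 7],
  [3, 2, 4, 3, 5, 4, 5, 6, 5, 4, 3, 2, 5, 4, 3, 6, 5, 4, 5, 4, 6, 5, 4, 3],
  [3, 2, 4, 3, 5, 4, 5, 6, 5, 4, 3, 2, 5, 4, 3, 6, 5, 4, 5, 4, 6, 5, 4, 7],
  [3, 2, 4, 3, 5, 4, 5, 6, 5, 4, 3, 2, 5, 4, 3, 6, 5, 4, 5, 4, 6, 5, 7, 6],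
  [3, 2, 4, 3, 5, 4, 5, 6, 5, 4, 3, 5, 4, 3, 5, 6, 5, 4, 3, 2, 5, 4, 3, 5],
  [3, 2, 4, 3, 5, 4, 5, 6, 5, 4, 3, 5, 4, 3, 5, 6, 5, 4, 3, 2, 5, 4, 5, 6],
  [3, 2, 4, 3, 5, 4, 5, 6, 5, 4, 3, 5, 4, 3, 5, 6, 5, 4, 3, 5, 4, 5, 4, 6],
  [3, 2, 4, 3, 5, 4, 5, 6, 5, 4, 3, 5, 4, 3, 5, 6, 5, 4, 3, 5, 4, 5, 6, 7],
  [3, 2, 4, 3, 5, 4, 5, 6, 5, 4, 3, 5, 4, 5, 6, 5, 4, 3, 2, 5, 4, 5, 6, 7],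
  [3, 2, 4, 3, 5, 4, 5, 6, 5, 4, 3, 5, 4, 5, 6, 5, 4, 3, 2, 5, 4, 7, 6, 5],
  [3, 2, 4, 3, 5, 4, 5, 6, 5, 4, 3, 5, 4, 5, 6, 5, 4, 3, 5, 4, 3, 5, 6, 7],
  [3, 2, 4, 3, 5, 4, 5, 6, 5, 4, 3, 5, 4, 5, 6, 5, 4, 3, 5, 4, 5, 4, 3, 6],
  [3, 2, 4, 3, 5, 4, 5, 6, 5, 4, 3, 5, 4, 5, 6, 5, 4, 3, 5, 4, 5, 4, 6, 5],
  [3, 2, 4, 3, 5, 4, 5, 6, 5, 4, 3, 5, 4, 5, 6, 5, 4, 3, 5, 4, 5, 4, 6, 7],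
  [3, 2, 4, 3, 5, 4, 5, 6, 5, 4, 3, 5, 4, 5, 6, 5, 4, 3, 5, 4, 5, 6, 7, 6],
  [3, 2, 4, 3, 5, 4, 5, 6, 5, 4, 3, 5, 4, 5, 6, 5, 4, 3, 5, 4, 5, 7, 6, 5],
  [3, 2, 4, 3, 5, 4, 5, 6, 5, 4, 3, 5, 4, 5, 6, 5, 4, 3, 5, 4, 7, 6, 5, 4],
  [3, 2, 4, 5, 4, 3, 2, 6, 5, 4, 3, 5, 4, 5, 6, 5, 4, 3, 2, 5, 4, 6, 5, 7],
  [3, 2, 4, 5, 4, 3, 2, 6, 5, 4, 3, 5, 4, 5, 6, 5, 4, 3, 2, 7, 6, 5, 4, 3],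
  [3, 2, 4, 5, 4, 3, 2, 6, 5, 4, 3, 5, 4, 5, 6, 5, 4, 3, 5, 4, 5, 6, 5, 4],
  [3, 2, 4, 5, 4, 3, 2, 6, 5, 4, 3, 5, 4, 5, 6, 5, 4, 3, 5, 4, 6, 5, 4, 3],
  [3, 2, 4, 5, 4, 3, 2, 6, 5, 4, 3, 5, 4, 5, 6, 5, 4, 3, 5, 4, 6, 5, 4, 7],
  [3, 2, 4, 5, 4, 3, 2, 6, 5, 4, 3, 5, 4, 5, 6, 5, 4, 3, 5, 4, 6, 5, 7, 6],
  [3, 2, 4, 5, 4, 3, 2, 6, 5, 4, 3, 5, 4, 5, 6, 5, 4, 3, 7, 6, 5, 4, 3, 2],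
  [3, 2, 4, 5, 4, 3, 2, 6, 5, 4, 3, 5, 4, 5, 6, 5, 4, 3, 7, 6, 5, 4, 3, 5],
  [3, 2, 4, 5, 4, 3, 2, 6, 5, 4, 3, 5, 4, 5, 6, 5, 4, 3, 7, 6, 5, 4, 5, 6],
  [3, 2, 4, 5, 4, 3, 2, 6, 5, 4, 3, 5, 4, 6, 5, 4, 3, 2, 5, 4, 5, 6, 5, 4],
  [3, 2, 4, 5, 4, 3, 2, 6, 5, 4, 3, 5, 4, 6, 5, 4, 3, 2, 5, 4, 6, 5, 4, 3],
  [3, 2, 4, 5, 4, 3, 2, 6, 5, 4, 3, 5, 4, 6, 5, 4, 3, 2, 7, 6, 5, 4, 3, 5],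
  [3, 2, 4, 5, 4, 3, 2, 6, 5, 4, 3, 5, 4, 6, 5, 4, 3, 5, 4, 5, 4, 6, 5, 4],
  [3, 2, 4, 5, 4, 3, 2, 6, 5, 4, 3, 5, 4, 6, 5, 4, 3, 5, 4, 5, 4, 6, 5, 7],
  [3, 2, 4, 5, 4, 3, 2, 6, 5, 4, 3, 5, 4, 6, 5, 4, 3, 5, 4, 5, 6, 5, 4, 3],
  [3, 2, 4, 5, 4, 3, 2, 6, 5, 4, 3, 5, 4, 6, 5, 4, 3, 5, 4, 5, 6, 5, 4, 5],
  [3, 2, 4, 5, 4, 3, 2, 6, 5, 4, 3, 5, 4, 6, 5, 4, 3, 5, 4, 6, 5, 4, 3, 2],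
  [3, 2, 4, 5, 4, 3, 2, 6, 5, 4, 3, 5, 4, 6, 5, 4, 3, 5, 4, 6, 5, 4, 3, 5],
  [3, 2, 4, 5, 4, 3, 2, 6, 5, 4, 3, 5, 4, 6, 5, 4, 3, 5, 4, 6, 5, 4, 5, 6],
  [3, 2, 4, 5, 4, 3, 2, 6, 5, 4, 3, 5, 4, 6, 5, 4, 3, 7, 6, 5, 4, 3, 2, 5],
  [3, 2, 4, 5, 4, 3, 2, 6, 5, 4, 3, 5, 4, 6, 5, 4, 3, 7, 6, 5, 4, 3, 5, 4],
  [3, 2, 4, 5, 4, 3, 2, 6, 5, 4, 3, 5, 4, 6, 5, 4, 3, 7, 6, 5, 4, 3, 5, 6],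
  [3, 2, 4, 5, 4, 3, 2, 6, 5, 4, 3, 5, 4, 6, 5, 4, 3, 7, 6, 5, 4, 5, 4, 3],
  [3, 2, 4, 5, 4, 3, 2, 6, 5, 4, 3, 5, 4, 6, 5, 4, 3, 7, 6, 5, 4, 5, 4, 6],
  [3, 2, 4, 5, 4, 3, 2, 6, 5, 4, 3, 5, 4, 6, 5, 4, 3, 7, 6, 5, 4, 5, 6, 7],
  [3, 2, 4, 5, 4, 3, 2, 6, 5, 4, 3, 5, 4, 6, 5, 4, 7, 6, 5, 4, 3, 2, 5, 4],
  [3, 2, 4, 5, 4, 3, 2, 6, 5, 4, 3, 5, 4, 6, 5, 4, 7, 6, 5, 4, 3, 5, 4, 5],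
  [3, 2, 4, 5, 4, 3, 6, 5, 4, 3, 5, 4, 3, 2, 6, 5, 4, 3, 2, 7, 6, 5, 4, 3],
  [3, 2, 4, 5, 4, 3, 6, 5, 4, 3, 5, 4, 3, 6, 5, 4, 3, 2, 5, 4, 3, 6, 5, 7],
  [3, 2, 4, 5, 4, 3, 6, 5, 4, 3, 5, 4, 3, 6, 5, 4, 3, 2, 5, 4, 6, 5, 7, 6],
  [3, 2, 4, 5, 4, 3, 6, 5, 4, 3, 5, 4, 3, 6, 5, 4, 3, 2, 5, 4, 6, 7, 6, 5],
  [3, 2, 4, 5, 4, 3, 6, 5, 4, 3, 5, 4, 3, 6, 5, 4, 3, 2, 5, 4, 7, 6, 5, 4],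
  [3, 2, 4, 5, 4, 3, 6, 5, 4, 3, 5, 4, 3, 6, 5, 4, 3, 2, 5, 6, 7, 6, 5, 4],
  [3, 2, 4, 5, 4, 3, 6, 5, 4, 3, 5, 4, 3, 6, 5, 4, 3, 2, 5, 7, 6, 5, 4, 3],
  [3, 2, 4, 5, 4, 3, 6, 5, 4, 3, 5, 4, 3, 6, 5, 4, 3, 2, 5, 7, 6, 5, 4, 5],
  [3, 2, 4, 5, 4, 3, 6, 5, 4, 3, 5, 4, 3, 6, 5, 4, 3, 2, 7, 6, 5, 4, 3, 2],
  [3, 2, 4, 5, 4, 3, 6, 5, 4, 3, 5, 4, 3, 6, 5, 4, 3, 5, 4, 3, 5, 6, 5, 4],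
  [3, 2, 4, 5, 4, 3, 6, 5, 4, 3, 5, 4, 3, 6, 5, 4, 3, 5, 4, 3, 5, 6, 5, 7],
  [3, 2, 4, 5, 4, 3, 6, 5, 4, 3, 5, 4, 3, 6, 5, 4, 3, 5, 4, 3, 6, 5, 4, 3],
  [3, 2, 4, 5, 4, 3, 6, 5, 4, 3, 5, 4, 3, 6, 5, 4, 3, 5, 4, 3, 6, 5, 4, 5],
  [3, 2, 4, 5, 4, 3, 6, 5, 4, 3, 5, 4, 3, 6, 5, 4, 3, 5, 4, 3, 6, 5, 4, 7],
  [3, 2, 4, 5, 4, 3, 6, 5, 4, 3, 5, 4, 3, 6, 5, 4, 3, 5, 4, 3, 6, 5, 7, 6],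
  [3, 2, 4, 5, 4, 3, 6, 5, 4, 3, 5, 4, 3, 6, 5, 4, 3, 5, 4, 5, 6, 5, 4, 3],
  [3, 2, 4, 5, 4, 3, 6, 5, 4, 3, 5, 4, 3, 6, 5, 4, 3, 5, 4, 5, 6, 5, 7, 6],
  [3, 2, 4, 5, 4, 3, 6, 5, 4, 3, 5, 4, 3, 6, 5, 4, 3, 5, 4, 5, 6, 7, 6, 5],
  [3, 2, 4, 5, 4, 3, 6, 5, 4, 3, 5, 4, 3, 6, 5, 4, 3, 5, 4, 5, 7, 6, 5, 4],
  [3, 2, 4, 5, 4, 3, 6, 5, 4, 3, 5, 4, 3, 6, 5, 4, 3, 5, 4, 6, 5, 4, 3, 5],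
  [3, 2, 4, 5, 4, 3, 6, 5, 4, 3, 5, 4, 3, 6, 5, 4, 3, 5, 4, 6, 5, 4, 3, 7],
  [3, 2, 4, 5, 4, 3, 6, 5, 4, 3, 5, 4, 3, 6, 5, 4, 3, 5, 4, 6, 5, 4, 5, 6],
  [3, 2, 4, 5, 4, 3, 6, 5, 4, 3, 5, 4, 3, 6, 5, 4, 3, 5, 4, 6, 5, 4, 7, 6],
  [3, 2, 4, 5, 4, 3, 6, 5, 4, 3, 5, 4, 3, 6, 5, 4, 3, 5, 4, 6, 5, 7, 6, 5],
  [3, 2, 4, 5, 4, 3, 6, 5, 4, 3, 5, 4, 3, 6, 5, 4, 3, 5, 4, 6, 7, 6, 5, 4],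
  [3, 2, 4, 5, 4, 3, 6, 5, 4, 3, 5, 4, 3, 6, 5, 4, 3, 5, 4, 7, 6, 5, 4, 3],
  [3, 2, 4, 5, 4, 3, 6, 5, 4, 3, 5, 4, 3, 6, 5, 4, 3, 5, 4, 7, 6, 5, 4, 5],
  [3, 2, 4, 5, 4, 3, 6, 5, 4, 3, 5, 4, 3, 6, 5, 4, 3, 5, 6, 7, 6, 5, 4, 5],
  [3, 2, 4, 5, 4, 3, 6, 5, 4, 3, 5, 4, 3, 6, 5, 4, 3, 5, 7, 6, 5, 4, 3, 2],
  [3, 2, 4, 5, 4, 3, 6, 5, 4, 3, 5, 4, 3, 6, 5, 4, 3, 5, 7, 6, 5, 4, 3, 5],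
  [3, 2, 4, 5, 4, 3, 6, 5, 4, 3, 5, 4, 3, 6, 5, 4, 3, 5, 7, 6, 5, 4, 5, 4],
  [3, 2, 4, 5, 4, 3, 6, 5, 4, 3, 5, 4, 3, 6, 5, 4, 5, 4, 3, 6, 5, 4, 5, 4],
  [3, 2, 4, 5, 4, 3, 6, 5, 4, 3, 5, 4, 3, 6, 5, 4, 5, 4, 3, 6, 5, 4, 5, 7],
  [3, 2, 4, 5, 4, 3, 6, 5, 4, 3, 5, 4, 6, 5, 4, 3, 2, 5, 4, 3, 5, 4, 6, 5],
  [3, 2, 4, 5, 4, 3, 6, 5, 4, 3, 5, 4, 6, 5, 4, 3, 2, 5, 4, 3, 5, 4, 6, 7],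
  [3, 2, 4, 5, 4, 3, 6, 5, 4, 3, 5, 4, 6, 5, 4, 3, 2, 5, 4, 3, 5, 6, 5, 4],
  [3, 2, 4, 5, 4, 3, 6, 5, 4, 3, 5, 4, 6, 5, 4, 3, 2, 5, 4, 3, 6, 5, 4, 3],
  [3, 2, 4, 5, 4, 3, 6, 5, 4, 3, 5, 4, 6, 5, 4, 3, 2, 5, 4, 3, 6, 5, 4, 5],
  [3, 2, 4, 5, 4, 3, 6, 5, 4, 3, 5, 4, 6, 5, 4, 3, 2, 5, 4, 5, 6, 5, 4, 7],
  [3, 2, 4, 5, 4, 3, 6, 5, 4, 3, 5, 4, 6, 5, 4, 3, 2, 5, 4, 6, 5, 4, 3, 2],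
  [3, 2, 4, 5, 4, 3, 6, 5, 4, 3, 5, 4, 6, 5, 4, 3, 5, 4, 5, 4, 6, 5, 4, 3],
  [3, 2, 4, 5, 4, 3, 6, 5, 4, 3, 5, 4, 6, 5, 4, 3, 5, 4, 5, 4, 6, 5, 4, 5],
  [3, 2, 4, 5, 4, 3, 6, 5, 4, 3, 5, 4, 6, 5, 4, 3, 5, 4, 5, 4, 6, 5, 4, 7],
  [3, 2, 4, 5, 4, 3, 6, 5, 4, 3, 5, 4, 6, 5, 4, 3, 5, 4, 5, 4, 6, 5, 7, 6],
  [3, 2, 4, 5, 4, 3, 6, 5, 4, 3, 5, 4, 6, 5, 4, 3, 5, 4, 5, 6, 5, 4, 3, 2],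
  [3, 2, 4, 5, 4, 3, 6, 5, 4, 3, 5, 4, 6, 5, 4, 3, 5, 4, 5, 6, 5, 4, 5, 4],
  [3, 2, 4, 5, 4, 3, 6, 5, 4, 3, 5, 4, 6, 5, 4, 3, 5, 4, 5, 6, 5, 4, 5, 7],
  [3, 2, 4, 5, 4, 3, 6, 5, 4, 5, 4, 3, 2, 6, 5, 4, 3, 2, 5, 4, 5, 6, 5, 4],
  [3, 2, 4, 5, 4, 3, 6, 5, 4, 5, 4, 3, 2, 6, 5, 4, 3, 2, 5, 4, 5, 6, 5, 7],
  [3, 2, 4, 5, 4, 3, 6, 5, 4, 5, 4, 3, 2, 6, 5, 4, 3, 2, 5, 4, 6, 5, 7, 6],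
  [3, 2, 4, 5, 4, 3, 6, 5, 4, 5, 4, 3, 2, 6, 5, 4, 3, 5, 4, 5, 4, 6, 5, 4],
  [3, 2, 4, 5, 4, 3, 6, 5, 4, 5, 4, 3, 2, 6, 5, 4, 3, 5, 4, 5, 4, 6, 5, 7],
  [3, 2, 4, 5, 4, 3, 6, 5, 4, 5, 4, 3, 2, 6, 5, 4, 3, 5, 4, 5, 6, 5, 4, 3],
  [3, 2, 4, 5, 4, 3, 6, 5, 4, 5, 4, 3, 2, 6, 5, 4, 3, 5, 4, 5, 6, 5, 4, 7],
  [3, 2, 4, 5, 4, 3, 6, 5, 4, 5, 4, 3, 2, 6, 5, 4, 3, 5, 4, 5, 6, 5, 7, 6],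
  [3, 2, 4, 5, 4, 3, 6, 5, 4, 5, 4, 3, 2, 6, 5, 4, 3, 5, 4, 6, 5, 4, 3, 2],
  [3, 2, 4, 5, 4, 3, 6, 5, 4, 5, 4, 3, 2, 6, 5, 4, 3, 5, 4, 6, 5, 4, 3, 5],
  [3, 2, 4, 5, 4, 3, 6, 5, 4, 5, 4, 3, 2, 6, 5, 4, 3, 5, 4, 6, 5, 4, 3, 7],
  [3, 2, 4, 5, 4, 3, 6, 5, 4, 5, 4, 3, 2, 6, 5, 4, 3, 5, 4, 6, 5, 4, 7, 6],
  [3, 2, 4, 5, 4, 3, 6, 5, 4, 5, 7, 6, 5, 4, 3, 2, 5, 4, 3, 5, 4, 5, 6, 5],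
  [3, 2, 4, 5, 4, 3, 6, 5, 4, 5, 7, 6, 5, 4, 3, 2, 5, 4, 3, 5, 4, 5, 6, 7],
  [3, 4, 5, 4, 3, 2, 6, 5, 4, 3, 2, 5, 4, 3, 6, 5, 4, 3, 5, 4, 3, 6, 5, 7],
  [3, 4, 5, 4, 3, 2, 6, 5, 4, 3, 2, 5, 4, 3, 6, 5, 4, 3, 5, 4, 6, 5, 4, 7],
  [3, 4, 5, 4, 3, 2, 6, 5, 4, 3, 2, 5, 4, 3, 6, 5, 4, 3, 5, 4, 6, 5, 7, 6],
  [3, 4, 5, 4, 3, 2, 6, 5, 4, 3, 2, 5, 4, 5, 6, 5, 4, 3, 2, 5, 4, 7, 6, 5],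
  [3, 4, 5, 4, 3, 2, 6, 5, 4, 3, 2, 5, 4, 5, 6, 5, 4, 3, 5, 4, 3, 5, 6, 7],
  [3, 4, 5, 4, 3, 2, 6, 5, 4, 3, 2, 5, 4, 5, 6, 5, 4, 3, 5, 4, 5, 6, 7, 6],
  [3, 4, 5, 4, 3, 2, 6, 5, 4, 3, 2, 5, 4, 5, 6, 5, 4, 3, 5, 4, 5, 7, 6, 5],
  [3, 4, 5, 4, 3, 2, 6, 5, 4, 3, 2, 5, 4, 5, 6, 5, 4, 3, 5, 4, 7, 6, 5, 4],
  [3, 4, 5, 4, 3, 2, 6, 5, 4, 3, 5, 4, 5, 4, 6, 5, 4, 3, 2, 5, 4, 3, 6, 5],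
  [3, 4, 5, 4, 3, 2, 6, 5, 4, 3, 5, 4, 5, 4, 6, 5, 4, 3, 2, 5, 4, 3, 6, 7],
  [3, 4, 5, 4, 3, 2, 6, 5, 4, 3, 5, 4, 5, 4, 6, 5, 4, 3, 2, 5, 4, 6, 5, 7],
  [3, 4, 5, 4, 3, 2, 6, 5, 4, 3, 5, 4, 5, 4, 6, 5, 4, 3, 2, 7, 6, 5, 4, 3],
  [3, 4, 5, 4, 3, 2, 6, 5, 4, 3, 5, 4, 5, 4, 6, 5, 4, 3, 2, 7, 6, 5, 4, 5],
  [3, 4, 5, 4, 3, 2, 6, 5, 4, 3, 5, 4, 5, 4, 6, 5, 4, 3, 5, 4, 5, 6, 5, 7],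
  [3, 4, 5, 4, 3, 2, 6, 5, 4, 3, 5, 4, 5, 4, 6, 5, 4, 3, 5, 4, 6, 5, 4, 7],
  [3, 4, 5, 4, 3, 2, 6, 5, 4, 3, 5, 4, 5, 4, 6, 5, 4, 3, 5, 4, 6, 5, 7, 6],
  [3, 4, 5, 4, 3, 2, 6, 5, 4, 3, 5, 4, 5, 4, 6, 5, 4, 3, 7, 6, 5, 4, 5, 6],
  [3, 4, 5, 4, 3, 2, 6, 5, 4, 3, 5, 4, 5, 6, 5, 4, 3, 2, 5, 4, 6, 5, 7, 6],
  [3, 4, 5, 4, 3, 2, 6, 5, 4, 3, 5, 4, 5, 6, 5, 4, 3, 2, 5, 4, 6, 7, 6, 5],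
  [3, 4, 5, 4, 3, 2, 6, 5, 4, 3, 5, 4, 5, 6, 5, 4, 3, 5, 4, 3, 6, 5, 7, 6],
  [3, 4, 5, 4, 3, 2, 6, 5, 4, 3, 5, 4, 5, 6, 5, 4, 3, 5, 4, 5, 6, 5, 7, 6],
  [3, 4, 5, 4, 3, 2, 6, 5, 4, 3, 5, 4, 5, 6, 5, 4, 3, 5, 4, 6, 5, 7, 6, 5],
  [3, 4, 5, 4, 3, 2, 6, 5, 4, 3, 5, 4, 5, 6, 5, 4, 5, 4, 3, 2, 6, 5, 4, 3],
  [3, 4, 5, 4, 3, 2, 6, 5, 4, 3, 5, 4, 5, 6, 5, 4, 5, 4, 3, 2, 6, 5, 4, 5],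
  [3, 4, 5, 4, 3, 2, 6, 5, 4, 3, 5, 4, 5, 6, 5, 4, 5, 4, 3, 6, 5, 4, 5, 4],
  [3, 4, 5, 4, 3, 2, 6, 5, 4, 3, 5, 4, 5, 6, 5, 4, 5, 4, 3, 6, 5, 4, 5, 6],
  [3, 4, 5, 4, 3, 2, 6, 5, 4, 3, 5, 4, 6, 5, 4, 3, 7, 6, 5, 4, 3, 2, 5, 4],
  [3, 4, 5, 4, 3, 2, 6, 5, 4, 3, 5, 4, 6, 5, 4, 7, 6, 5, 4, 3, 2, 5, 4, 3],
  [3, 4, 5, 4, 3, 2, 6, 5, 4, 3, 5, 4, 6, 5, 4, 7, 6, 5, 4, 3, 2, 5, 4, 5],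
  [3, 4, 5, 4, 3, 2, 6, 5, 4, 3, 5, 4, 6, 5, 4, 7, 6, 5, 4, 3, 5, 4, 5, 4],
  [3, 4, 5, 4, 3, 2, 6, 5, 4, 3, 5, 4, 6, 5, 4, 7, 6, 5, 4, 3, 5, 4, 5, 6],
  [3, 4, 5, 4, 3, 2, 6, 5, 4, 3, 7, 6, 5, 4, 3, 5, 4, 6, 5, 4, 3, 7, 6, 5],
  [3, 4, 5, 4, 3, 6, 5, 4, 3, 2, 5, 4, 3, 2, 6, 5, 4, 3, 2, 5, 4, 6, 5, 4],
  [3, 4, 5, 4, 3, 6, 5, 4, 3, 2, 5, 4, 3, 2, 6, 5, 4, 3, 2, 5, 4, 6, 5, 7],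
  [3, 4, 5, 4, 3, 6, 5, 4, 3, 2, 5, 4, 3, 2, 6, 5, 4, 3, 5, 4, 5, 6, 5, 4],
  [3, 4, 5, 4, 3, 6, 5, 4, 3, 2, 5, 4, 3, 2, 6, 5, 4, 3, 5, 4, 5, 6, 5, 7],
  [3, 4, 5, 4, 3, 6, 5, 4, 3, 2, 5, 4, 3, 2, 6, 5, 4, 3, 5, 4, 6, 5, 4, 3],
  [3, 4, 5, 4, 3, 6, 5, 4, 3, 2, 5, 4, 3, 2, 6, 5, 4, 3, 5, 4, 6, 5, 4, 5],
  [3, 4, 5, 4, 3, 6, 5, 4, 3, 2, 5, 4, 3, 2, 6, 5, 4, 3, 5, 4, 6, 5, 4, 7],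
  [3, 4, 5, 4, 3, 6, 5, 4, 3, 2, 5, 4, 3, 2, 6, 5, 4, 3, 5, 4, 6, 5, 7, 6],
  [3, 4, 5, 4, 3, 6, 5, 4, 3, 2, 5, 4, 3, 6, 5, 4, 3, 5, 4, 3, 2, 6, 5, 7],
  [3, 4, 5, 4, 3, 6, 5, 4, 3, 2, 5, 4, 3, 6, 5, 4, 3, 5, 4, 3, 6, 5, 7, 6],
  [3, 4, 5, 4, 3, 6, 5, 4, 3, 2, 5, 4, 3, 6, 5, 4, 3, 5, 4, 6, 5, 4, 5, 6],
  [3, 4, 5, 4, 3, 6, 5, 4, 3, 2, 5, 4, 3, 6, 5, 4, 3, 5, 4, 6, 5, 4, 7, 6],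
  [3, 4, 5, 4, 3, 6, 5, 4, 3, 2, 5, 4, 3, 6, 5, 4, 7, 6, 5, 4, 3, 2, 5, 4],
  [3, 4, 5, 4, 3, 6, 5, 4, 3, 2, 5, 4, 3, 6, 5, 4, 7, 6, 5, 4, 3, 5, 4, 5],
  [3, 4, 5, 4, 3, 6, 5, 4, 3, 2, 5, 4, 3, 7, 6, 5, 4, 3, 2, 5, 4, 6, 5, 7],
  [3, 4, 5, 4, 3, 6, 5, 4, 3, 2, 5, 4, 3, 7, 6, 5, 4, 3, 5, 4, 5, 6, 5, 7],
  [3, 4, 5, 4, 3, 6, 5, 4, 3, 2, 5, 4, 3, 7, 6, 5, 4, 3, 5, 4, 6, 5, 4, 7],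
  [3, 4, 5, 4, 3, 6, 5, 4, 3, 2, 5, 4, 3, 7, 6, 5, 4, 3, 5, 4, 6, 5, 7, 6],
  [3, 4, 5, 4, 3, 6, 5, 4, 3, 2, 5, 4, 7, 6, 5, 4, 3, 2, 5, 4, 3, 6, 5, 4],
  [3, 4, 5, 4, 3, 6, 5, 4, 3, 2, 5, 4, 7, 6, 5, 4, 3, 5, 4, 5, 4, 6, 5, 7],
  [3, 4, 5, 4, 3, 6, 5, 4, 3, 2, 5, 6, 7, 6, 5, 4, 3, 2, 5, 4, 3, 6, 5, 4],
  [3, 4, 5, 4, 3, 6, 5, 4, 3, 2, 5, 7, 6, 5, 4, 3, 5, 4, 5, 4, 3, 6, 5, 4],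
  [3, 4, 5, 4, 3, 6, 5, 4, 3, 5, 4, 3, 2, 5, 6, 5, 4, 3, 7, 6, 5, 4, 5, 6],
  [3, 4, 5, 4, 3, 6, 5, 4, 3, 5, 4, 3, 2, 6, 5, 4, 3, 2, 5, 4, 3, 6, 5, 4],
  [3, 4, 5, 4, 3, 6, 5, 4, 3, 5, 4, 3, 2, 6, 5, 4, 3, 5, 4, 5, 4, 6, 5, 7],
  [3, 4, 5, 4, 3, 6, 5, 4, 3, 5, 4, 3, 2, 6, 5, 4, 3, 7, 6, 5, 4, 3, 5, 4],
  [3, 4, 5, 4, 3, 6, 5, 4, 3, 5, 4, 3, 2, 6, 5, 4, 3, 7, 6, 5, 4, 3, 5, 6],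
  [3, 4, 5, 4, 3, 6, 5, 4, 3, 5, 4, 3, 2, 6, 5, 4, 3, 7, 6, 5, 4, 5, 4, 3],
  [3, 4, 5, 4, 3, 6, 5, 4, 3, 5, 4, 3, 5, 6, 5, 4, 3, 5, 4, 3, 6, 5, 4, 3],
  [3, 4, 5, 4, 3, 6, 5, 4, 3, 5, 4, 3, 5, 6, 5, 4, 3, 5, 4, 3, 6, 5, 4, 5],
  [3, 4, 5, 4, 3, 6, 5, 4, 3, 5, 4, 3, 5, 6, 5, 4, 3, 5, 4, 3, 6, 5, 4, 7],
  [3, 4, 5, 4, 3, 6, 5, 4, 3, 5, 4, 3, 5, 6, 5, 4, 3, 5, 4, 6, 5, 4, 3, 2],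
  [3, 4, 5, 4, 3, 6, 5, 4, 3, 5, 4, 3, 5, 6, 5, 4, 3, 5, 4, 6, 5, 4, 3, 5],
  [3, 4, 5, 4, 3, 6, 5, 4, 3, 5, 4, 3, 5, 6, 5, 4, 3, 5, 4, 6, 5, 4, 3, 7],
  [3, 4, 5, 4, 3, 6, 5, 4, 3, 5, 4, 3, 5, 6, 5, 4, 3, 5, 4, 6, 5, 4, 5, 6],
  [3, 4, 5, 4, 3, 6, 5, 4, 3, 5, 4, 3, 5, 6, 5, 4, 5, 4, 3, 2, 6, 5, 4, 3],
  [3, 4, 5, 4, 3, 6, 5, 4, 3, 5, 4, 3, 5, 6, 5, 4, 5, 4, 3, 2, 6, 5, 4, 5],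
  [3, 4, 5, 4, 3, 6, 5, 4, 3, 5, 4, 3, 5, 6, 5, 4, 5, 4, 3, 6, 5, 4, 5, 4],
  [3, 4, 5, 4, 3, 6, 5, 4, 3, 5, 4, 3, 5, 6, 5, 4, 5, 4, 3, 6, 5, 4, 5, 6],
  [3, 4, 5, 4, 3, 6, 5, 4, 3, 5, 4, 3, 6, 5, 4, 3, 2, 5, 4, 3, 2, 6, 5, 4],
  [3, 4, 5, 4, 3, 6, 5, 4, 3, 5, 4, 3, 6, 5, 4, 3, 2, 5, 4, 3, 6, 5, 4, 3]]
def ows1c23 : List (List Nat) := [[3, 4, 5, 4, 3, 6, 5, 4, 3, 5, 4, 3, 6, 5, 4, 3, 2, 5, 4, 3, 6, 5, 4, 5],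
  [3, 4, 5, 4, 3, 6, 5, 4, 3, 5, 4, 3, 6, 5, 4, 3, 2, 5, 4, 3, 6, 5, 4, 7],
  [3, 4, 5, 4, 3, 6, 5, 4, 3, 5, 4, 3, 6, 5, 4, 3, 2, 5, 4, 3, 6, 5, 7, 6],
  [3, 4, 5, 4, 3, 6, 5, 4, 3, 5, 4, 3, 6, 5, 4, 3, 2, 5, 4, 6, 5, 4, 3, 2],
  [3, 4, 5, 4, 3, 6, 5, 4, 3, 5, 4, 3, 6, 5, 4, 3, 2, 5, 4, 7, 6, 5, 4, 3],
  [3, 4, 5, 4, 3, 6, 5, 4, 3, 5, 4, 3, 6, 5, 4, 3, 2, 5, 4, 7, 6, 5, 4, 5],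
  [3, 4, 5, 4, 3, 6, 5, 4, 3, 5, 4, 3, 6, 5, 4, 3, 2, 5, 6, 7, 6, 5, 4, 3],
  [3, 4, 5, 4, 3, 6, 5, 4, 3, 5, 4, 3, 6, 5, 4, 3, 2, 5, 6, 7, 6, 5, 4, 5],
  [3, 4, 5, 4, 3, 6, 5, 4, 3, 5, 4, 3, 6, 5, 4, 3, 2, 5, 7, 6, 5, 4, 3, 5],
  [3, 4, 5, 4, 3, 6, 5, 4, 3, 5, 4, 3, 6, 5, 4, 3, 5, 4, 5, 6, 7, 6, 5, 4],
  [3, 4, 5, 4, 3, 6, 5, 4, 3, 5, 4, 3, 6, 5, 4, 3, 5, 4, 6, 5, 4, 3, 2, 7],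
  [3, 4, 5, 4, 3, 6, 5, 4, 3, 5, 4, 3, 6, 5, 4, 5, 4, 3, 6, 5, 4, 5, 4, 3],
  [3, 4, 5, 4, 3, 6, 5, 4, 3, 5, 4, 6, 5, 4, 3, 5, 4, 5, 4, 6, 5, 4, 7, 6],
  [3, 4, 5, 4, 3, 6, 5, 4, 3, 5, 4, 7, 6, 5, 4, 3, 2, 5, 4, 3, 6, 5, 4, 5],
  [3, 4, 5, 4, 3, 6, 5, 4, 3, 5, 6, 7, 6, 5, 4, 3, 2, 5, 4, 3, 6, 5, 4, 5],
  [3, 4, 5, 4, 3, 6, 5, 4, 3, 5, 7, 6, 5, 4, 3, 5, 4, 3, 5, 4, 6, 5, 7, 6],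
  [3, 4, 5, 4, 3, 6, 5, 4, 5, 4, 3, 6, 5, 4, 3, 2, 5, 4, 3, 2, 6, 5, 4, 3],
  [3, 4, 5, 4, 3, 6, 5, 4, 5, 4, 3, 6, 5, 4, 3, 2, 5, 4, 3, 2, 6, 5, 4, 5],
  [3, 4, 5, 4, 3, 6, 5, 4, 5, 4, 3, 6, 5, 4, 3, 2, 5, 4, 3, 2, 6, 5, 4, 7],
  [3, 4, 5, 4, 3, 6, 5, 4, 5, 4, 3, 6, 5, 4, 3, 2, 5, 4, 3, 6, 5, 4, 3, 2],
  [3, 4, 5, 4, 3, 6, 5, 4, 5, 4, 3, 6, 5, 4, 3, 2, 5, 4, 3, 6, 5, 4, 3, 5],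
  [3, 4, 5, 4, 3, 6, 5, 4, 5, 4, 3, 6, 5, 4, 3, 2, 5, 4, 3, 6, 5, 4, 5, 4],
  [3, 4, 5, 4, 3, 6, 5, 4, 5, 4, 3, 6, 5, 4, 3, 2, 5, 4, 3, 6, 5, 4, 5, 6],
  [3, 4, 5, 4, 3, 6, 5, 4, 5, 4, 3, 6, 5, 4, 3, 2, 5, 4, 3, 6, 5, 4, 5, 7],
  [3, 4, 5, 4, 3, 6, 5, 4, 5, 4, 3, 6, 5, 4, 3, 2, 5, 4, 3, 6, 5, 7, 6, 5],
  [3, 4, 5, 4, 3, 6, 5, 4, 5, 4, 3, 6, 5, 4, 3, 2, 5, 4, 3, 6, 7, 6, 5, 4],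
  [3, 4, 5, 4, 3, 6, 5, 4, 5, 4, 3, 6, 5, 4, 3, 2, 5, 4, 3, 7, 6, 5, 4, 3],
  [3, 4, 5, 4, 3, 6, 5, 4, 5, 4, 3, 6, 5, 4, 3, 2, 5, 4, 3, 7, 6, 5, 4, 5],
  [3, 4, 5, 4, 3, 6, 5, 4, 5, 4, 3, 6, 5, 4, 3, 5, 4, 3, 2, 5, 6, 5, 4, 3],
  [3, 4, 5, 4, 3, 6, 5, 4, 5, 4, 3, 6, 5, 4, 3, 5, 4, 3, 2, 6, 5, 4, 3, 2],
  [3, 4, 5, 4, 3, 6, 5, 4, 5, 4, 3, 6, 5, 4, 3, 5, 4, 3, 2, 6, 5, 4, 3, 5],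
  [3, 4, 5, 4, 3, 6, 5, 4, 5, 4, 3, 6, 5, 4, 3, 5, 4, 3, 5, 4, 6, 5, 4, 5],
  [3, 4, 5, 4, 3, 6, 5, 4, 5, 4, 3, 6, 5, 4, 3, 5, 4, 3, 5, 4, 6, 5, 4, 7],
  [3, 4, 5, 4, 3, 6, 5, 4, 5, 4, 3, 6, 5, 4, 3, 5, 4, 3, 5, 4, 6, 5, 7, 6],
  [3, 4, 5, 4, 3, 6, 5, 4, 5, 4, 3, 6, 5, 4, 3, 5, 4, 3, 5, 6, 5, 4, 3, 2],
  [3, 4, 5, 4, 3, 6, 5, 4, 5, 4, 3, 6, 5, 4, 3, 5, 4, 3, 5, 6, 5, 4, 5, 4],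
  [3, 4, 5, 4, 3, 6, 5, 4, 5, 4, 3, 6, 5, 4, 3, 5, 4, 3, 5, 6, 5, 4, 5, 7],
  [3, 4, 5, 4, 3, 6, 5, 4, 5, 4, 3, 6, 5, 4, 3, 5, 4, 3, 6, 5, 4, 5, 4, 3],
  [3, 4, 5, 4, 3, 6, 5, 4, 5, 4, 3, 6, 5, 4, 3, 5, 4, 3, 6, 5, 4, 5, 4, 6],
  [3, 4, 5, 4, 3, 6, 5, 4, 5, 4, 3, 6, 5, 4, 3, 7, 6, 5, 4, 3, 5, 4, 6, 5],
  [3, 4, 5, 4, 3, 6, 5, 4, 5, 4, 3, 6, 5, 4, 3, 7, 6, 5, 4, 3, 5, 4, 6, 7],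
  [3, 4, 5, 4, 3, 6, 5, 4, 5, 4, 3, 6, 5, 4, 5, 4, 3, 2, 6, 5, 4, 3, 5, 4],
  [3, 4, 5, 4, 3, 6, 5, 4, 5, 4, 6, 5, 4, 3, 2, 5, 4, 3, 5, 4, 6, 5, 4, 7],
  [3, 4, 5, 4, 3, 6, 5, 4, 5, 4, 6, 5, 4, 3, 2, 5, 4, 3, 5, 4, 6, 5, 7, 6],
  [3, 4, 5, 4, 3, 6, 5, 4, 5, 4, 6, 5, 4, 3, 5, 4, 5, 4, 3, 6, 5, 4, 5, 6],
  [3, 4, 5, 4, 3, 6, 5, 4, 5, 7, 6, 5, 4, 3, 2, 5, 4, 3, 5, 4, 5, 6, 5, 4],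
  [3, 4, 5, 4, 3, 6, 5, 4, 5, 7, 6, 5, 4, 3, 2, 5, 4, 3, 5, 4, 5, 6, 5, 7],
  [3, 4, 5, 4, 3, 6, 5, 4, 5, 7, 6, 5, 4, 3, 2, 5, 4, 3, 5, 4, 6, 5, 4, 5],
  [3, 4, 5, 4, 3, 6, 5, 4, 5, 7, 6, 5, 4, 3, 2, 5, 4, 3, 5, 4, 6, 5, 4, 7],
  [3, 4, 5, 4, 3, 6, 5, 4, 5, 7, 6, 5, 4, 3, 2, 5, 4, 3, 5, 4, 6, 5, 7, 6],
  [3, 4, 5, 4, 3, 6, 5, 4, 5, 7, 6, 5, 4, 3, 2, 5, 4, 3, 5, 6, 5, 4, 5, 4],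
  [3, 4, 5, 4, 3, 6, 5, 4, 5, 7, 6, 5, 4, 3, 2, 5, 4, 3, 5, 6, 5, 4, 5, 6],
  [3, 4, 5, 4, 3, 6, 5, 4, 5, 7, 6, 5, 4, 3, 2, 5, 4, 3, 5, 6, 5, 4, 5, 7],
  [3, 4, 5, 4, 3, 6, 5, 4, 5, 7, 6, 5, 4, 3, 2, 5, 4, 3, 6, 5, 4, 5, 6, 7],
  [3, 4, 5, 4, 3, 6, 5, 4, 5, 7, 6, 5, 4, 3, 5, 4, 5, 4, 3, 2, 6, 5, 4, 3],
  [3, 4, 5, 4, 3, 6, 5, 4, 5, 7, 6, 5, 4, 3, 5, 4, 5, 4, 3, 6, 5, 4, 3, 5],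
  [3, 4, 5, 4, 3, 6, 5, 4, 5, 7, 6, 5, 4, 3, 5, 4, 5, 4, 3, 6, 5, 4, 3, 7],
  [3, 4, 5, 4, 3, 6, 5, 4, 5, 7, 6, 5, 4, 3, 5, 4, 5, 4, 3, 6, 5, 4, 5, 6],
  [3, 4, 5, 4, 3, 6, 5, 4, 5, 7, 6, 5, 4, 3, 5, 4, 5, 4, 3, 6, 5, 4, 7, 6],
  [3, 4, 5, 4, 6, 5, 4, 3, 2, 5, 4, 3, 5, 4, 6, 5, 4, 3, 2, 7, 6, 5, 4, 3],
  [3, 4, 5, 4, 6, 5, 4, 3, 2, 5, 4, 3, 5, 4, 6, 5, 4, 3, 2, 7, 6, 5, 4, 5],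
  [3, 4, 5, 4, 6, 5, 4, 3, 2, 5, 4, 3, 5, 4, 6, 5, 4, 3, 7, 6, 5, 4, 3, 2],
  [3, 4, 5, 4, 6, 5, 4, 3, 2, 5, 4, 3, 5, 4, 6, 5, 4, 3, 7, 6, 5, 4, 3, 5],
  [3, 4, 5, 4, 6, 5, 4, 3, 2, 5, 4, 3, 5, 6, 5, 4, 5, 4, 3, 2, 6, 5, 4, 3],
  [3, 4, 5, 4, 6, 5, 4, 3, 2, 5, 4, 3, 5, 6, 5, 4, 5, 4, 3, 2, 6, 5, 4, 5],
  [3, 4, 5, 4, 6, 5, 4, 3, 5, 4, 5, 4, 3, 2, 6, 5, 4, 3, 5, 4, 6, 5, 4, 5],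
  [3, 4, 5, 4, 6, 5, 4, 3, 5, 4, 5, 4, 3, 6, 5, 4, 3, 5, 4, 6, 5, 4, 3, 5],
  [3, 4, 5, 4, 6, 5, 4, 3, 5, 4, 5, 4, 3, 6, 5, 4, 3, 5, 4, 6, 5, 4, 5, 6],
  [3, 4, 5, 4, 6, 5, 4, 3, 5, 4, 5, 6, 5, 4, 3, 5, 4, 3, 5, 4, 6, 5, 7, 6],
  [3, 2, 4, 3, 5, 4, 3, 2, 5, 6, 5, 4, 3, 5, 4, 3, 5, 6, 5, 4, 3, 2, 5, 4, 5],
  [3, 2, 4, 3, 5, 4, 3, 2, 5, 6, 5, 4, 3, 5, 4, 3, 5, 6, 5, 4, 3, 5, 4, 5, 4],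
  [3, 2, 4, 3, 5, 4, 3, 2, 5, 6, 5, 4, 3, 5, 4, 3, 5, 6, 5, 4, 3, 5, 4, 5, 6],
  [3, 2, 4, 3, 5, 4, 3, 2, 5, 6, 5, 4, 3, 5, 4, 3, 5, 6, 5, 4, 3, 5, 4, 6, 5],
  [3, 2, 4, 3, 5, 4, 3, 2, 5, 6, 5, 4, 3, 5, 4, 3, 6, 5, 4, 3, 5, 4, 6, 5, 4],
  [3, 2, 4, 3, 5, 4, 3, 2, 5, 6, 5, 4, 3, 5, 4, 3, 6, 5, 4, 3, 5, 4, 6, 5, 7],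
  [3, 2, 4, 3, 5, 4, 3, 2, 5, 6, 5, 4, 3, 5, 4, 5, 6, 5, 4, 3, 2, 5, 4, 5, 6],
  [3, 2, 4, 3, 5, 4, 3, 2, 5, 6, 5, 4, 3, 5, 4, 5, 6, 5, 4, 3, 5, 4, 5, 4, 3],
  [3, 2, 4, 3, 5, 4, 3, 2, 5, 6, 5, 4, 3, 5, 4, 5, 6, 5, 4, 3, 5, 4, 5, 4, 6],
  [3, 2, 4, 3, 5, 4, 3, 2, 5, 6, 5, 4, 3, 5, 4, 5, 6, 5, 4, 3, 5, 4, 5, 7, 6],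
  [3, 2, 4, 3, 5, 4, 3, 2, 5, 6, 5, 4, 3, 5, 4, 5, 6, 5, 4, 3, 5, 4, 7, 6, 5],
  [3, 2, 4, 3, 5, 4, 3, 2, 6, 5, 4, 3, 2, 7, 6, 5, 4, 3, 2, 5, 4, 6, 5, 4, 3],
  [3, 2, 4, 3, 5, 4, 3, 2, 6, 5, 4, 3, 2, 7, 6, 5, 4, 3, 2, 5, 4, 6, 5, 7, 6],
  [3, 2, 4, 3, 5, 4, 3, 2, 6, 5, 4, 3, 2, 7, 6, 5, 4, 3, 5, 4, 5, 6, 5, 4, 3],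
  [3, 2, 4, 3, 5, 4, 3, 2, 6, 5, 4, 3, 2, 7, 6, 5, 4, 3, 5, 4, 5, 6, 5, 4, 5],
  [3, 2, 4, 3, 5, 4, 3, 2, 6, 5, 4, 3, 2, 7, 6, 5, 4, 3, 5, 4, 5, 6, 5, 4, 7],
  [3, 2, 4, 3, 5, 4, 3, 2, 6, 5, 4, 3, 2, 7, 6, 5, 4, 3, 5, 4, 6, 5, 4, 3, 5],
  [3, 2, 4, 3, 5, 4, 3, 2, 6, 5, 4, 3, 2, 7, 6, 5, 4, 3, 5, 4, 6, 5, 4, 3, 7],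
  [3, 2, 4, 3, 5, 4, 3, 2, 6, 5, 4, 3, 2, 7, 6, 5, 4, 3, 5, 4, 6, 5, 4, 5, 6],
  [3, 2, 4, 3, 5, 4, 3, 2, 6, 5, 4, 3, 2, 7, 6, 5, 4, 3, 5, 4, 6, 5, 4, 7, 6],
  [3, 2, 4, 3, 5, 4, 3, 2, 6, 5, 4, 3, 7, 6, 5, 4, 3, 5, 4, 3, 2, 6, 5, 4, 3],
  [3, 2, 4, 3, 5, 4, 3, 2, 6, 5, 4, 3, 7, 6, 5, 4, 3, 5, 4, 3, 2, 6, 5, 4, 5],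
  [3, 2, 4, 3, 5, 4, 3, 2, 6, 5, 4, 3, 7, 6, 5, 4, 3, 5, 4, 3, 2, 6, 5, 4, 7],
  [3, 2, 4, 3, 5, 4, 3, 2, 6, 5, 4, 3, 7, 6, 5, 4, 3, 5, 4, 3, 2, 6, 5, 7, 6],
  [3, 2, 4, 3, 5, 4, 3, 2, 6, 5, 4, 3, 7, 6, 5, 4, 3, 5, 4, 3, 6, 5, 4, 5, 4],
  [3, 2, 4, 3, 5, 4, 3, 2, 6, 5, 4, 3, 7, 6, 5, 4, 3, 5, 4, 3, 6, 5, 4, 5, 6],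
  [3, 2, 4, 3, 5, 4, 3, 2, 6, 5, 4, 3, 7, 6, 5, 4, 3, 5, 4, 3, 6, 5, 4, 5, 7],
  [3, 2, 4, 3, 5, 4, 3, 2, 6, 5, 4, 3, 7, 6, 5, 4, 3, 5, 4, 3, 6, 5, 4, 7, 6],
  [3, 2, 4, 3, 5, 4, 3, 2, 6, 5, 4, 3, 7, 6, 5, 4, 5, 4, 3, 6, 5, 4, 3, 5, 4],
  [3, 2, 4, 3, 5, 4, 3, 2, 6, 5, 4, 3, 7, 6, 5, 4, 5, 4, 3, 6, 5, 4, 3, 5, 7],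
  [3, 2, 4, 3, 5, 4, 3, 2, 6, 5, 4, 3, 7, 6, 5, 4, 5, 4, 3, 6, 5, 4, 5, 4, 3],
  [3, 2, 4, 3, 5, 4, 3, 2, 6, 5, 4, 3, 7, 6, 5, 4, 5, 4, 3, 6, 5, 4, 5, 4, 6],
  [3, 2, 4, 3, 5, 4, 3, 2, 6, 5, 4, 3, 7, 6, 5, 4, 5, 4, 3, 6, 5, 4, 5, 6, 7],
  [3, 2, 4, 3, 5, 4, 3, 2, 6, 5, 4, 3, 7, 6, 5, 4, 5, 4, 3, 6, 5, 4, 5, 7, 6],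
  [3, 2, 4, 3, 5, 4, 3, 2, 6, 5, 4, 3, 7, 6, 5, 4, 5, 4, 6, 5, 4, 3, 5, 4, 5],
  [3, 2, 4, 3, 5, 4, 3, 5, 6, 5, 4, 3, 2, 5, 4, 3, 5, 6, 5, 4, 3, 2, 5, 4, 3],
  [3, 2, 4, 3, 5, 4, 3, 5, 6, 5, 4, 3, 2, 5, 4, 3, 5, 6, 5, 4, 3, 2, 5, 4, 5],
  [3, 2, 4, 3, 5, 4, 3, 5, 6, 5, 4, 3, 2, 5, 4, 3, 5, 6, 5, 4, 3, 2, 5, 4, 7],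
  [3, 2, 4, 3, 5, 4, 3, 5, 6, 5, 4, 3, 2, 5, 4, 3, 5, 6, 5, 4, 3, 5, 4, 3, 5],
  [3, 2, 4, 3, 5, 4, 3, 5, 6, 5, 4, 3, 2, 5, 4, 3, 5, 6, 5, 4, 3, 5, 4, 5, 4],
  [3, 2, 4, 3, 5, 4, 3, 5, 6, 5, 4, 3, 2, 5, 4, 3, 5, 6, 5, 4, 3, 5, 4, 5, 6],
  [3, 2, 4, 3, 5, 4, 3, 5, 6, 5, 4, 3, 2, 5, 4, 3, 5, 6, 5, 4, 3, 5, 4, 6, 5],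
  [3, 2, 4, 3, 5, 4, 3, 5, 6, 5, 4, 3, 2, 5, 4, 5, 6, 5, 4, 3, 2, 5, 4, 3, 2],
  [3, 2, 4, 3, 5, 4, 3, 5, 6, 5, 4, 3, 2, 5, 4, 5, 6, 5, 4, 3, 2, 5, 4, 3, 5],
  [3, 2, 4, 3, 5, 4, 3, 5, 6, 5, 4, 3, 2, 5, 4, 5, 6, 5, 4, 3, 2, 5, 4, 3, 7],
  [3, 2, 4, 3, 5, 4, 3, 5, 6, 5, 4, 3, 2, 5, 4, 5, 6, 5, 4, 3, 2, 5, 4, 5, 6],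
  [3, 2, 4, 3, 5, 4, 3, 5, 6, 5, 4, 3, 2, 5, 4, 5, 6, 5, 4, 3, 5, 4, 3, 2, 5],
  [3, 2, 4, 3, 5, 4, 3, 5, 6, 5, 4, 3, 2, 5, 4, 5, 6, 5, 4, 3, 5, 4, 3, 5, 6],
  [3, 2, 4, 3, 5, 4, 3, 5, 6, 5, 4, 3, 2, 5, 4, 5, 6, 5, 4, 3, 5, 4, 5, 4, 6],
  [3, 2, 4, 3, 5, 4, 3, 5, 6, 5, 4, 3, 2, 5, 4, 5, 6, 5, 4, 3, 5, 4, 5, 6, 7],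
  [3, 2, 4, 3, 5, 4, 3, 5, 6, 5, 4, 3, 2, 5, 4, 5, 6, 5, 4, 3, 5, 4, 5, 7, 6],
  [3, 2, 4, 3, 5, 4, 3, 5, 6, 5, 4, 3, 2, 5, 6, 7, 6, 5, 4, 3, 5, 4, 5, 6, 5],
  [3, 2, 4, 3, 5, 4, 3, 5, 6, 5, 4, 3, 2, 5, 6, 7, 6, 5, 4, 3, 5, 4, 5, 6, 7],
  [3, 2, 4, 3, 5, 4, 3, 5, 6, 5, 4, 3, 2, 5, 6, 7, 6, 5, 4, 3, 5, 4, 6, 5, 4],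
  [3, 2, 4, 3, 5, 4, 3, 5, 6, 5, 4, 3, 5, 4, 3, 5, 6, 5, 4, 3, 2, 5, 4, 5, 6],
  [3, 2, 4, 3, 5, 4, 3, 5, 6, 5, 4, 3, 5, 4, 3, 5, 6, 5, 4, 3, 5, 4, 5, 4, 3],
  [3, 2, 4, 3, 5, 4, 3, 5, 6, 5, 4, 3, 5, 4, 3, 5, 6, 5, 4, 3, 5, 4, 5, 4, 6],
  [3, 2, 4, 3, 5, 4, 3, 5, 6, 5, 4, 3, 5, 4, 3, 5, 6, 5, 4, 3, 5, 4, 5, 6, 5],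
  [3, 2, 4, 3, 5, 4, 3, 5, 6, 5, 4, 3, 5, 4, 3, 5, 6, 5, 4, 3, 5, 4, 5, 6, 7],
  [3, 2, 4, 3, 5, 4, 3, 5, 6, 5, 4, 3, 5, 4, 3, 5, 6, 5, 4, 3, 5, 4, 6, 5, 4],
  [3, 2, 4, 3, 5, 4, 3, 5, 6, 5, 4, 3, 5, 4, 3, 6, 5, 4, 3, 2, 5, 4, 6, 5, 4],
  [3, 2, 4, 3, 5, 4, 3, 5, 6, 5, 4, 3, 5, 4, 3, 6, 5, 4, 3, 5, 4, 5, 6, 5, 4],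
  [3, 2, 4, 3, 5, 4, 3, 5, 6, 5, 4, 3, 5, 4, 3, 6, 5, 4, 3, 5, 4, 5, 6, 5, 7],
  [3, 2, 4, 3, 5, 4, 3, 5, 6, 5, 4, 3, 5, 4, 3, 6, 5, 4, 3, 5, 4, 6, 5, 4, 3],
  [3, 2, 4, 3, 5, 4, 3, 5, 6, 5, 4, 3, 5, 4, 5, 4, 3, 6, 5, 4, 3, 5, 4, 3, 5],
  [3, 2, 4, 3, 5, 4, 3, 5, 6, 5, 4, 3, 5, 4, 5, 4, 3, 6, 5, 4, 3, 5, 4, 5, 6],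
  [3, 2, 4, 3, 5, 4, 3, 5, 6, 5, 4, 3, 5, 4, 5, 4, 3, 6, 5, 4, 3, 5, 7, 6, 5],
  [3, 2, 4, 3, 5, 4, 3, 5, 6, 5, 4, 3, 5, 4, 5, 4, 3, 6, 5, 4, 3, 7, 6, 5, 4],
  [3, 2, 4, 3, 5, 4, 3, 5, 6, 5, 4, 3, 5, 4, 5, 4, 3, 6, 5, 4, 7, 6, 5, 4, 3],
  [3, 2, 4, 3, 5, 4, 3, 5, 6, 5, 4, 3, 5, 4, 5, 4, 6, 5, 4, 3, 2, 5, 4, 3, 5],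
  [3, 2, 4, 3, 5, 4, 3, 5, 6, 5, 4, 3, 5, 4, 5, 4, 6, 5, 4, 3, 2, 5, 4, 5, 6],
  [3, 2, 4, 3, 5, 4, 3, 5, 6, 5, 4, 3, 5, 4, 5, 4, 6, 5, 4, 3, 2, 7, 6, 5, 4],
  [3, 2, 4, 3, 5, 4, 3, 5, 6, 5, 4, 3, 5, 4, 5, 4, 6, 5, 4, 3, 5, 4, 5, 4, 3],
  [3, 2, 4, 3, 5, 4, 3, 5, 6, 5, 4, 3, 5, 4, 5, 4, 6, 5, 4, 3, 5, 4, 5, 4, 6],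
  [3, 2, 4, 3, 5, 4, 3, 5, 6, 5, 4, 3, 5, 4, 5, 4, 6, 5, 4, 3, 5, 4, 5, 6, 7],
  [3, 2, 4, 3, 5, 4, 3, 5, 6, 5, 4, 3, 5, 4, 5, 4, 6, 5, 4, 3, 7, 6, 5, 4, 5],
  [3, 2, 4, 3, 5, 4, 3, 5, 6, 5, 4, 3, 5, 4, 5, 6, 5, 4, 3, 2, 5, 4, 3, 2, 6],
  [3, 2, 4, 3, 5, 4, 3, 5, 6, 5, 4, 3, 5, 4, 5, 6, 5, 4, 3, 2, 5, 4, 3, 5, 6],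
  [3, 2, 4, 3, 5, 4, 3, 5, 6, 5, 4, 3, 5, 4, 5, 6, 5, 4, 3, 2, 5, 4, 3, 6, 5],
  [3, 2, 4, 3, 5, 4, 3, 5, 6, 5, 4, 3, 5, 4, 5, 6, 5, 4, 3, 2, 5, 4, 5, 6, 5],
  [3, 2, 4, 3, 5, 4, 3, 5, 6, 5, 4, 3, 5, 4, 5, 6, 5, 4, 3, 2, 5, 4, 5, 6, 7],
  [3, 2, 4, 3, 5, 4, 3, 5, 6, 5, 4, 3, 5, 4, 5, 6, 5, 4, 3, 5, 4, 3, 2, 6, 5],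
  [3, 2, 4, 3, 5, 4, 3, 5, 6, 5, 4, 3, 5, 4, 5, 6, 5, 4, 3, 5, 4, 3, 5, 6, 5],
  [3, 2, 4, 3, 5, 4, 3, 5, 6, 5, 4, 3, 5, 4, 5, 6, 5, 4, 3, 5, 4, 3, 5, 6, 7],
  [3, 2, 4, 3, 5, 4, 3, 5, 6, 5, 4, 3, 5, 4, 5, 6, 5, 4, 3, 5, 4, 3, 6, 5, 4],
  [3, 2, 4, 3, 5, 4, 3, 5, 6, 5, 4, 3, 5, 4, 5, 6, 5, 4, 3, 5, 4, 5, 6, 5, 4],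
  [3, 2, 4, 3, 5, 4, 3, 5, 6, 5, 4, 3, 5, 4, 5, 6, 5, 4, 3, 5, 4, 5, 6, 5, 7],
  [3, 2, 4, 3, 5, 4, 3, 5, 6, 5, 4, 3, 5, 4, 5, 6, 5, 4, 3, 5, 4, 5, 6, 7, 6],
  [3, 2, 4, 3, 5, 4, 3, 5, 6, 5, 4, 3, 5, 4, 5, 6, 5, 4, 3, 5, 4, 6, 5, 4, 3],
  [3, 2, 4, 3, 5, 4, 3, 5, 6, 5, 4, 3, 5, 4, 5, 6, 5, 4, 5, 4, 3, 2, 6, 5, 4],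
  [3, 2, 4, 3, 5, 4, 3, 5, 6, 5, 4, 3, 5, 4, 5, 6, 5, 4, 5, 4, 3, 6, 5, 4, 5],
  [3, 2, 4, 3, 5, 4, 3, 5, 6, 5, 4, 3, 5, 4, 6, 5, 4, 3, 2, 5, 4, 6, 5, 4, 3],
  [3, 2, 4, 3, 5, 4, 3, 5, 6, 5, 4, 3, 5, 4, 6, 5, 4, 3, 5, 4, 6, 5, 4, 5, 6],
  [3, 2, 4, 3, 5, 4, 3, 6, 5, 4, 3, 2, 5, 4, 3, 6, 5, 4, 3, 5, 4, 6, 5, 7, 6],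
  [3, 2, 4, 3, 5, 4, 3, 6, 5, 4, 3, 2, 5, 4, 6, 5, 7, 6, 5, 4, 3, 2, 5, 4, 3],
  [3, 2, 4, 3, 5, 4, 3, 6, 5, 4, 3, 2, 5, 6, 7, 6, 5, 4, 3, 5, 4, 5, 6, 5, 4],
  [3, 2, 4, 3, 5, 4, 3, 6, 5, 4, 3, 2, 5, 6, 7, 6, 5, 4, 3, 5, 4, 5, 6, 5, 7],
  [3, 2, 4, 3, 5, 4, 3, 6, 5, 4, 3, 2, 5, 6, 7, 6, 5, 4, 3, 5, 4, 6, 5, 4, 3],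
  [3, 2, 4, 3, 5, 4, 3, 6, 5, 4, 3, 2, 5, 6, 7, 6, 5, 4, 3, 5, 4, 6, 5, 4, 5],
  [3, 2, 4, 3, 5, 4, 3, 6, 5, 4, 3, 2, 5, 6, 7, 6, 5, 4, 3, 5, 4, 6, 5, 4, 7],
  [3, 2, 4, 3, 5, 4, 3, 6, 5, 4, 3, 2, 5, 6, 7, 6, 5, 4, 3, 5, 4, 6, 5, 7, 6],
  [3, 2, 4, 3, 5, 4, 3, 6, 5, 4, 3, 2, 5, 7, 6, 5, 4, 3, 2, 5, 4, 5, 6, 5, 4],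
  [3, 2, 4, 3, 5, 4, 3, 6, 5, 4, 3, 2, 5, 7, 6, 5, 4, 3, 2, 5, 4, 5, 6, 5, 7],
  [3, 2, 4, 3, 5, 4, 3, 6, 5, 4, 3, 2, 5, 7, 6, 5, 4, 3, 2, 5, 4, 6, 5, 7, 6],
  [3, 2, 4, 3, 5, 4, 3, 6, 5, 4, 3, 2, 5, 7, 6, 5, 4, 3, 5, 4, 3, 2, 6, 5, 4],
  [3, 2, 4, 3, 5, 4, 3, 6, 5, 4, 3, 2, 5, 7, 6, 5, 4, 3, 5, 4, 3, 2, 6, 5, 7],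
  [3, 2, 4, 3, 5, 4, 3, 6, 5, 4, 3, 2, 5, 7, 6, 5, 4, 3, 5, 4, 3, 5, 6, 5, 4],
  [3, 2, 4, 3, 5, 4, 3, 6, 5, 4, 3, 2, 5, 7, 6, 5, 4, 3, 5, 4, 3, 5, 6, 5, 7],
  [3, 2, 4, 3, 5, 4, 3, 6, 5, 4, 3, 2, 5, 7, 6, 5, 4, 3, 5, 4, 3, 6, 5, 4, 3],
  [3, 2, 4, 3, 5, 4, 3, 6, 5, 4, 3, 2, 5, 7, 6, 5, 4, 3, 5, 4, 3, 6, 5, 4, 5],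
  [3, 2, 4, 3, 5, 4, 3, 6, 5, 4, 3, 2, 5, 7, 6, 5, 4, 3, 5, 4, 3, 6, 5, 4, 7],
  [3, 2, 4, 3, 5, 4, 3, 6, 5, 4, 3, 2, 5, 7, 6, 5, 4, 3, 5, 4, 3, 6, 5, 7, 6],
  [3, 2, 4, 3, 5, 4, 3, 6, 5, 4, 3, 2, 5, 7, 6, 5, 4, 3, 5, 4, 5, 6, 5, 4, 3],
  [3, 2, 4, 3, 5, 4, 3, 6, 5, 4, 3, 2, 5, 7, 6, 5, 4, 3, 5, 4, 5, 6, 5, 4, 5],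
  [3, 2, 4, 3, 5, 4, 3, 6, 5, 4, 3, 2, 5, 7, 6, 5, 4, 3, 5, 4, 5, 6, 5, 4, 7],
  [3, 2, 4, 3, 5, 4, 3, 6, 5, 4, 3, 2, 5, 7, 6, 5, 4, 3, 5, 4, 5, 6, 5, 7, 6],
  [3, 2, 4, 3, 5, 4, 3, 6, 5, 4, 3, 2, 5, 7, 6, 5, 4, 3, 5, 4, 6, 5, 4, 3, 2],
  [3, 2, 4, 3, 5, 4, 3, 6, 5, 4, 3, 2, 5, 7, 6, 5, 4, 3, 5, 4, 6, 5, 4, 3, 5],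
  [3, 2, 4, 3, 5, 4, 3, 6, 5, 4, 3, 2, 5, 7, 6, 5, 4, 3, 5, 4, 6, 5, 4, 3, 7],
  [3, 2, 4, 3, 5, 4, 3, 6, 5, 4, 3, 2, 5, 7, 6, 5, 4, 3, 5, 4, 6, 5, 4, 7, 6],
  [3, 2, 4, 3, 5, 4, 3, 6, 5, 4, 3, 2, 5, 7, 6, 5, 4, 5, 4, 3, 2, 6, 5, 4, 3],
  [3, 2, 4, 3, 5, 4, 3, 6, 5, 4, 3, 2, 5, 7, 6, 5, 4, 5, 4, 3, 2, 6, 5, 4, 5],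
  [3, 2, 4, 3, 5, 4, 3, 6, 5, 4, 3, 2, 5, 7, 6, 5, 4, 5, 4, 3, 2, 6, 5, 4, 7],
  [3, 2, 4, 3, 5, 4, 3, 6, 5, 4, 3, 2, 5, 7, 6, 5, 4, 5, 4, 3, 6, 5, 4, 5, 4],
  [3, 2, 4, 3, 5, 4, 3, 6, 5, 4, 3, 2, 5, 7, 6, 5, 4, 5, 4, 3, 6, 5, 4, 5, 6],
  [3, 2, 4, 3, 5, 4, 3, 6, 5, 4, 3, 2, 5, 7, 6, 5, 4, 5, 4, 3, 6, 5, 4, 5, 7],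
  [3, 2, 4, 3, 5, 4, 3, 6, 5, 4, 3, 2, 7, 6, 5, 4, 3, 2, 5, 4, 3, 6, 5, 4, 3],
  [3, 2, 4, 3, 5, 4, 3, 6, 5, 4, 3, 2, 7, 6, 5, 4, 3, 2, 5, 4, 3, 6, 5, 4, 5],
  [3, 2, 4, 3, 5, 4, 3, 6, 5, 4, 3, 2, 7, 6, 5, 4, 3, 2, 5, 4, 6, 5, 4, 3, 2],
  [3, 2, 4, 3, 5, 4, 3, 6, 5, 4, 3, 2, 7, 6, 5, 4, 3, 5, 4, 5, 4, 6, 5, 4, 3],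
  [3, 2, 4, 3, 5, 4, 3, 6, 5, 4, 3, 2, 7, 6, 5, 4, 3, 5, 4, 5, 4, 6, 5, 4, 5]]
def ows1c24 : List (List Nat) := [[3, 2, 4, 3, 5, 4, 3, 6, 5, 4, 3, 2, 7, 6, 5, 4, 3, 5, 4, 5, 6, 5, 4, 5, 4],
  [3, 2, 4, 3, 5, 4, 3, 6, 5, 4, 3, 2, 7, 6, 5, 4, 3, 5, 4, 5, 6, 5, 4, 5, 6],
  [3, 2, 4, 3, 5, 4, 3, 6, 5, 4, 3, 2, 7, 6, 5, 4, 3, 5, 4, 6, 5, 4, 3, 2, 5],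
  [3, 2, 4, 3, 5, 4, 3, 6, 5, 4, 3, 2, 7, 6, 5, 4, 3, 5, 4, 6, 5, 4, 3, 5, 4],
  [3, 2, 4, 3, 5, 4, 3, 6, 5, 4, 3, 2, 7, 6, 5, 4, 3, 5, 4, 6, 5, 4, 3, 5, 6],
  [3, 2, 4, 3, 5, 4, 3, 6, 5, 4, 3, 2, 7, 6, 5, 4, 3, 5, 4, 6, 5, 4, 5, 6, 7],
  [3, 2, 4, 3, 5, 4, 3, 6, 5, 4, 3, 5, 4, 3, 6, 5, 4, 3, 2, 7, 6, 5, 4, 3, 2],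
  [3, 2, 4, 3, 5, 4, 3, 6, 5, 4, 3, 5, 4, 3, 6, 5, 4, 3, 5, 4, 6, 5, 4, 3, 5],
  [3, 2, 4, 3, 5, 4, 3, 6, 5, 4, 3, 5, 4, 3, 6, 5, 4, 3, 5, 4, 6, 5, 4, 5, 6],
  [3, 2, 4, 3, 5, 4, 3, 6, 5, 4, 3, 5, 4, 6, 5, 4, 3, 2, 7, 6, 5, 4, 3, 2, 5],
  [3, 2, 4, 3, 5, 4, 3, 6, 5, 4, 3, 5, 4, 6, 5, 4, 3, 2, 7, 6, 5, 4, 3, 5, 4],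
  [3, 2, 4, 3, 5, 4, 3, 6, 5, 4, 3, 5, 4, 6, 5, 4, 3, 2, 7, 6, 5, 4, 3, 5, 6],
  [3, 2, 4, 3, 5, 4, 3, 6, 5, 4, 3, 5, 4, 6, 5, 4, 3, 2, 7, 6, 5, 4, 5, 6, 7],
  [3, 2, 4, 3, 5, 4, 3, 6, 5, 4, 3, 5, 4, 6, 5, 4, 3, 7, 6, 5, 4, 3, 2, 5, 4],
  [3, 2, 4, 3, 5, 4, 3, 6, 5, 4, 3, 5, 4, 6, 5, 4, 3, 7, 6, 5, 4, 3, 2, 5, 6],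
  [3, 2, 4, 3, 5, 4, 3, 6, 5, 4, 3, 5, 4, 6, 5, 4, 3, 7, 6, 5, 4, 3, 5, 4, 3],
  [3, 2, 4, 3, 5, 4, 3, 6, 5, 4, 3, 5, 4, 6, 5, 4, 3, 7, 6, 5, 4, 3, 5, 4, 5],
  [3, 2, 4, 3, 5, 4, 3, 6, 5, 4, 3, 5, 4, 6, 5, 4, 3, 7, 6, 5, 4, 3, 5, 4, 6],
  [3, 2, 4, 3, 5, 4, 3, 6, 5, 4, 3, 5, 4, 6, 5, 4, 3, 7, 6, 5, 4, 3, 5, 6, 7],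
  [3, 2, 4, 3, 5, 4, 3, 6, 5, 4, 3, 5, 4, 6, 5, 4, 3, 7, 6, 5, 4, 5, 4, 3, 2],
  [3, 2, 4, 3, 5, 4, 3, 6, 5, 4, 3, 5, 4, 6, 5, 4, 3, 7, 6, 5, 4, 5, 4, 3, 6],
  [3, 2, 4, 3, 5, 4, 3, 6, 5, 4, 3, 5, 4, 6, 5, 4, 3, 7, 6, 5, 4, 5, 4, 6, 5],
  [3, 2, 4, 3, 5, 4, 3, 6, 5, 4, 3, 5, 4, 6, 5, 4, 7, 6, 5, 4, 3, 2, 5, 4, 3],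
  [3, 2, 4, 3, 5, 4, 3, 6, 5, 4, 3, 5, 4, 6, 5, 4, 7, 6, 5, 4, 3, 2, 5, 4, 5],
  [3, 2, 4, 3, 5, 4, 3, 6, 5, 4, 3, 5, 4, 6, 5, 4, 7, 6, 5, 4, 3, 5, 4, 5, 4],
  [3, 2, 4, 3, 5, 4, 3, 6, 5, 4, 3, 5, 4, 6, 5, 4, 7, 6, 5, 4, 3, 5, 4, 5, 6],
  [3, 2, 4, 3, 5, 4, 3, 6, 5, 4, 3, 5, 4, 6, 5, 7, 6, 5, 4, 3, 2, 5, 4, 3, 5],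
  [3, 2, 4, 3, 5, 4, 3, 6, 5, 4, 3, 5, 4, 6, 5, 7, 6, 5, 4, 3, 2, 5, 4, 5, 6],
  [3, 2, 4, 3, 5, 4, 3, 6, 5, 4, 3, 5, 4, 6, 5, 7, 6, 5, 4, 3, 5, 4, 5, 4, 3],
  [3, 2, 4, 3, 5, 4, 3, 6, 5, 4, 3, 5, 4, 6, 5, 7, 6, 5, 4, 3, 5, 4, 5, 4, 6],
  [3, 2, 4, 3, 5, 4, 3, 6, 5, 4, 3, 5, 4, 6, 5, 7, 6, 5, 4, 3, 5, 4, 5, 6, 7],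
  [3, 2, 4, 3, 5, 4, 3, 6, 5, 4, 3, 5, 4, 7, 6, 5, 4, 3, 2, 5, 4, 3, 6, 5, 7],
  [3, 2, 4, 3, 5, 4, 3, 6, 5, 4, 3, 5, 4, 7, 6, 5, 4, 3, 2, 5, 4, 6, 5, 7, 6],
  [3, 2, 4, 3, 5, 4, 3, 6, 5, 4, 3, 5, 4, 7, 6, 5, 4, 3, 5, 4, 5, 6, 5, 7, 6],
  [3, 2, 4, 3, 5, 4, 3, 6, 5, 4, 3, 5, 4, 7, 6, 5, 4, 3, 5, 4, 6, 5, 4, 3, 7],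
  [3, 2, 4, 3, 5, 4, 3, 6, 5, 4, 3, 5, 4, 7, 6, 5, 4, 3, 5, 4, 6, 5, 4, 7, 6],
  [3, 2, 4, 3, 5, 4, 3, 6, 5, 4, 3, 5, 7, 6, 5, 4, 3, 5, 4, 3, 2, 6, 5, 4, 3],
  [3, 2, 4, 3, 5, 4, 3, 6, 5, 4, 3, 5, 7, 6, 5, 4, 3, 5, 4, 3, 2, 6, 5, 4, 7],
  [3, 2, 4, 3, 5, 4, 3, 6, 5, 4, 3, 5, 7, 6, 5, 4, 3, 5, 4, 3, 2, 6, 5, 7, 6],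
  [3, 2, 4, 3, 5, 4, 3, 6, 5, 4, 3, 5, 7, 6, 5, 4, 3, 5, 4, 3, 6, 5, 4, 3, 2],
  [3, 2, 4, 3, 5, 4, 3, 6, 5, 4, 3, 5, 7, 6, 5, 4, 3, 5, 4, 3, 6, 5, 4, 3, 5],
  [3, 2, 4, 3, 5, 4, 3, 6, 5, 4, 3, 5, 7, 6, 5, 4, 3, 5, 4, 3, 6, 5, 4, 5, 6],
  [3, 2, 4, 3, 5, 4, 3, 6, 5, 4, 3, 5, 7, 6, 5, 4, 3, 5, 4, 3, 6, 5, 4, 5, 7],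
  [3, 2, 4, 3, 5, 4, 3, 6, 5, 4, 3, 5, 7, 6, 5, 4, 3, 5, 4, 6, 5, 4, 3, 5, 4],
  [3, 2, 4, 3, 5, 4, 3, 6, 5, 4, 3, 5, 7, 6, 5, 4, 5, 4, 3, 2, 6, 5, 4, 5, 6],
  [3, 2, 4, 3, 5, 4, 3, 6, 5, 4, 3, 5, 7, 6, 5, 4, 5, 4, 3, 6, 5, 4, 5, 4, 6],
  [3, 2, 4, 3, 5, 4, 3, 6, 5, 4, 3, 5, 7, 6, 5, 4, 5, 4, 3, 6, 5, 4, 5, 6, 7],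
  [3, 2, 4, 3, 5, 4, 3, 6, 5, 4, 3, 7, 6, 5, 4, 3, 2, 5, 4, 3, 6, 5, 4, 3, 2],
  [3, 2, 4, 3, 5, 4, 3, 6, 5, 4, 3, 7, 6, 5, 4, 3, 2, 5, 4, 3, 6, 5, 4, 3, 5],
  [3, 2, 4, 3, 5, 4, 3, 6, 5, 4, 3, 7, 6, 5, 4, 3, 2, 5, 4, 3, 6, 5, 4, 5, 6],
  [3, 2, 4, 3, 5, 4, 3, 6, 5, 4, 3, 7, 6, 5, 4, 3, 2, 5, 4, 3, 6, 5, 4, 7, 6],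
  [3, 2, 4, 3, 5, 4, 3, 6, 5, 4, 3, 7, 6, 5, 4, 3, 5, 4, 3, 2, 6, 5, 4, 3, 2],
  [3, 2, 4, 3, 5, 4, 3, 6, 5, 4, 5, 4, 3, 6, 5, 4, 5, 4, 3, 2, 6, 5, 4, 3, 2],
  [3, 2, 4, 3, 5, 4, 5, 6, 5, 4, 3, 5, 4, 3, 5, 6, 5, 4, 3, 2, 5, 4, 3, 5, 6],
  [3, 2, 4, 3, 5, 4, 5, 6, 5, 4, 3, 5, 4, 3, 5, 6, 5, 4, 3, 2, 5, 4, 5, 6, 7],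
  [3, 2, 4, 3, 5, 4, 5, 6, 5, 4, 3, 5, 4, 3, 5, 6, 5, 4, 3, 5, 4, 5, 4, 6, 5],
  [3, 2, 4, 3, 5, 4, 5, 6, 5, 4, 3, 5, 4, 3, 5, 6, 5, 4, 3, 5, 4, 5, 4, 6, 7],
  [3, 2, 4, 3, 5, 4, 5, 6, 5, 4, 3, 5, 4, 5, 6, 5, 4, 3, 5, 4, 5, 4, 3, 6, 5],
  [3, 2, 4, 3, 5, 4, 5, 6, 5, 4, 3, 5, 4, 5, 6, 5, 4, 3, 5, 4, 5, 4, 3, 6, 7],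
  [3, 2, 4, 3, 5, 4, 5, 6, 5, 4, 3, 5, 4, 5, 6, 5, 4, 3, 5, 4, 5, 4, 6, 5, 4],
  [3, 2, 4, 3, 5, 4, 5, 6, 5, 4, 3, 5, 4, 5, 6, 5, 4, 3, 5, 4, 5, 4, 6, 5, 7],
  [3, 2, 4, 3, 5, 4, 5, 6, 5, 4, 3, 5, 4, 5, 6, 5, 4, 3, 5, 4, 5, 6, 7, 6, 5],
  [3, 2, 4, 3, 5, 4, 5, 6, 5, 4, 3, 5, 4, 5, 6, 5, 4, 3, 5, 4, 5, 7, 6, 5, 4],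
  [3, 2, 4, 3, 5, 4, 5, 6, 5, 4, 3, 5, 4, 5, 6, 5, 4, 3, 5, 4, 7, 6, 5, 4, 3],
  [3, 2, 4, 5, 4, 3, 2, 6, 5, 4, 3, 5, 4, 5, 6, 5, 4, 3, 5, 4, 5, 6, 5, 4, 3],
  [3, 2, 4, 5, 4, 3, 2, 6, 5, 4, 3, 5, 4, 5, 6, 5, 4, 3, 5, 4, 6, 5, 4, 3, 7],
  [3, 2, 4, 5, 4, 3, 2, 6, 5, 4, 3, 5, 4, 5, 6, 5, 4, 3, 5, 4, 6, 5, 4, 7, 6],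
  [3, 2, 4, 5, 4, 3, 2, 6, 5, 4, 3, 5, 4, 5, 6, 5, 4, 3, 7, 6, 5, 4, 3, 2, 5],
  [3, 2, 4, 5, 4, 3, 2, 6, 5, 4, 3, 5, 4, 5, 6, 5, 4, 3, 7, 6, 5, 4, 3, 5, 4],
  [3, 2, 4, 5, 4, 3, 2, 6, 5, 4, 3, 5, 4, 5, 6, 5, 4, 3, 7, 6, 5, 4, 3, 5, 6],
  [3, 2, 4, 5, 4, 3, 2, 6, 5, 4, 3, 5, 4, 5, 6, 5, 4, 3, 7, 6, 5, 4, 5, 6, 7],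
  [3, 2, 4, 5, 4, 3, 2, 6, 5, 4, 3, 5, 4, 6, 5, 4, 3, 2, 7, 6, 5, 4, 3, 5, 4],
  [3, 2, 4, 5, 4, 3, 2, 6, 5, 4, 3, 5, 4, 6, 5, 4, 3, 5, 4, 5, 4, 6, 5, 4, 3],
  [3, 2, 4, 5, 4, 3, 2, 6, 5, 4, 3, 5, 4, 6, 5, 4, 3, 5, 4, 5, 4, 6, 5, 4, 5],
  [3, 2, 4, 5, 4, 3, 2, 6, 5, 4, 3, 5, 4, 6, 5, 4, 3, 5, 4, 5, 4, 6, 5, 4, 7],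
  [3, 2, 4, 5, 4, 3, 2, 6, 5, 4, 3, 5, 4, 6, 5, 4, 3, 5, 4, 5, 4, 6, 5, 7, 6],
  [3, 2, 4, 5, 4, 3, 2, 6, 5, 4, 3, 5, 4, 6, 5, 4, 3, 5, 4, 5, 6, 5, 4, 3, 5],
  [3, 2, 4, 5, 4, 3, 2, 6, 5, 4, 3, 5, 4, 6, 5, 4, 3, 5, 4, 5, 6, 5, 4, 5, 4],
  [3, 2, 4, 5, 4, 3, 2, 6, 5, 4, 3, 5, 4, 6, 5, 4, 3, 5, 4, 5, 6, 5, 4, 5, 6],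
  [3, 2, 4, 5, 4, 3, 2, 6, 5, 4, 3, 5, 4, 6, 5, 4, 3, 5, 4, 6, 5, 4, 3, 2, 5],
  [3, 2, 4, 5, 4, 3, 2, 6, 5, 4, 3, 5, 4, 6, 5, 4, 3, 7, 6, 5, 4, 3, 2, 5, 4],
  [3, 2, 4, 5, 4, 3, 2, 6, 5, 4, 3, 5, 4, 6, 5, 4, 3, 7, 6, 5, 4, 3, 5, 4, 3],
  [3, 2, 4, 5, 4, 3, 2, 6, 5, 4, 3, 5, 4, 6, 5, 4, 3, 7, 6, 5, 4, 3, 5, 4, 5],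
  [3, 2, 4, 5, 4, 3, 2, 6, 5, 4, 3, 5, 4, 6, 5, 4, 3, 7, 6, 5, 4, 3, 5, 4, 6],
  [3, 2, 4, 5, 4, 3, 2, 6, 5, 4, 3, 5, 4, 6, 5, 4, 3, 7, 6, 5, 4, 3, 5, 6, 7],
  [3, 2, 4, 5, 4, 3, 2, 6, 5, 4, 3, 5, 4, 6, 5, 4, 3, 7, 6, 5, 4, 5, 4, 3, 2],
  [3, 2, 4, 5, 4, 3, 2, 6, 5, 4, 3, 5, 4, 6, 5, 4, 3, 7, 6, 5, 4, 5, 4, 3, 6],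
  [3, 2, 4, 5, 4, 3, 2, 6, 5, 4, 3, 5, 4, 6, 5, 4, 3, 7, 6, 5, 4, 5, 4, 6, 7],
  [3, 2, 4, 5, 4, 3, 2, 6, 5, 4, 3, 5, 4, 6, 5, 4, 7, 6, 5, 4, 3, 2, 5, 4, 3],
  [3, 2, 4, 5, 4, 3, 2, 6, 5, 4, 3, 5, 4, 6, 5, 4, 7, 6, 5, 4, 3, 2, 5, 4, 5],
  [3, 2, 4, 5, 4, 3, 2, 6, 5, 4, 3, 5, 4, 6, 5, 4, 7, 6, 5, 4, 3, 5, 4, 5, 4],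
  [3, 2, 4, 5, 4, 3, 2, 6, 5, 4, 3, 5, 4, 6, 5, 4, 7, 6, 5, 4, 3, 5, 4, 5, 6],
  [3, 2, 4, 5, 4, 3, 6, 5, 4, 3, 5, 4, 3, 6, 5, 4, 3, 2, 5, 4, 3, 6, 5, 7, 6],
  [3, 2, 4, 5, 4, 3, 6, 5, 4, 3, 5, 4, 3, 6, 5, 4, 3, 2, 5, 4, 6, 5, 7, 6, 5],
  [3, 2, 4, 5, 4, 3, 6, 5, 4, 3, 5, 4, 3, 6, 5, 4, 3, 2, 5, 4, 6, 7, 6, 5, 4],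
  [3, 2, 4, 5, 4, 3, 6, 5, 4, 3, 5, 4, 3, 6, 5, 4, 3, 2, 5, 4, 7, 6, 5, 4, 3],
  [3, 2, 4, 5, 4, 3, 6, 5, 4, 3, 5, 4, 3, 6, 5, 4, 3, 2, 5, 4, 7, 6, 5, 4, 5],
  [3, 2, 4, 5, 4, 3, 6, 5, 4, 3, 5, 4, 3, 6, 5, 4, 3, 2, 5, 6, 7, 6, 5, 4, 5],
  [3, 2, 4, 5, 4, 3, 6, 5, 4, 3, 5, 4, 3, 6, 5, 4, 3, 2, 5, 7, 6, 5, 4, 3, 5],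
  [3, 2, 4, 5, 4, 3, 6, 5, 4, 3, 5, 4, 3, 6, 5, 4, 3, 2, 5, 7, 6, 5, 4, 5, 4],
  [3, 2, 4, 5, 4, 3, 6, 5, 4, 3, 5, 4, 3, 6, 5, 4, 3, 5, 4, 3, 5, 6, 5, 4, 3],
  [3, 2, 4, 5, 4, 3, 6, 5, 4, 3, 5, 4, 3, 6, 5, 4, 3, 5, 4, 3, 5, 6, 5, 4, 5],
  [3, 2, 4, 5, 4, 3, 6, 5, 4, 3, 5, 4, 3, 6, 5, 4, 3, 5, 4, 3, 5, 6, 5, 4, 7],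
  [3, 2, 4, 5, 4, 3, 6, 5, 4, 3, 5, 4, 3, 6, 5, 4, 3, 5, 4, 3, 5, 6, 5, 7, 6],
  [3, 2, 4, 5, 4, 3, 6, 5, 4, 3, 5, 4, 3, 6, 5, 4, 3, 5, 4, 3, 6, 5, 4, 3, 5],
  [3, 2, 4, 5, 4, 3, 6, 5, 4, 3, 5, 4, 3, 6, 5, 4, 3, 5, 4, 3, 6, 5, 4, 3, 7],
  [3, 2, 4, 5, 4, 3, 6, 5, 4, 3, 5, 4, 3, 6, 5, 4, 3, 5, 4, 3, 6, 5, 4, 5, 6],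
  [3, 2, 4, 5, 4, 3, 6, 5, 4, 3, 5, 4, 3, 6, 5, 4, 3, 5, 4, 3, 6, 5, 4, 7, 6],
  [3, 2, 4, 5, 4, 3, 6, 5, 4, 3, 5, 4, 3, 6, 5, 4, 3, 5, 4, 5, 6, 5, 7, 6, 5],
  [3, 2, 4, 5, 4, 3, 6, 5, 4, 3, 5, 4, 3, 6, 5, 4, 3, 5, 4, 5, 6, 7, 6, 5, 4],
  [3, 2, 4, 5, 4, 3, 6, 5, 4, 3, 5, 4, 3, 6, 5, 4, 3, 5, 4, 5, 7, 6, 5, 4, 3],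
  [3, 2, 4, 5, 4, 3, 6, 5, 4, 3, 5, 4, 3, 6, 5, 4, 3, 5, 4, 5, 7, 6, 5, 4, 5],
  [3, 2, 4, 5, 4, 3, 6, 5, 4, 3, 5, 4, 3, 6, 5, 4, 3, 5, 4, 6, 5, 4, 3, 5, 4],
  [3, 2, 4, 5, 4, 3, 6, 5, 4, 3, 5, 4, 3, 6, 5, 4, 3, 5, 4, 6, 5, 4, 3, 5, 6],
  [3, 2, 4, 5, 4, 3, 6, 5, 4, 3, 5, 4, 3, 6, 5, 4, 3, 5, 4, 6, 5, 4, 3, 7, 6],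
  [3, 2, 4, 5, 4, 3, 6, 5, 4, 3, 5, 4, 3, 6, 5, 4, 3, 5, 4, 6, 5, 7, 6, 5, 4],
  [3, 2, 4, 5, 4, 3, 6, 5, 4, 3, 5, 4, 3, 6, 5, 4, 3, 5, 4, 6, 7, 6, 5, 4, 3],
  [3, 2, 4, 5, 4, 3, 6, 5, 4, 3, 5, 4, 3, 6, 5, 4, 3, 5, 4, 7, 6, 5, 4, 3, 2],
  [3, 2, 4, 5, 4, 3, 6, 5, 4, 3, 5, 4, 3, 6, 5, 4, 3, 5, 4, 7, 6, 5, 4, 3, 5],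
  [3, 2, 4, 5, 4, 3, 6, 5, 4, 3, 5, 4, 3, 6, 5, 4, 3, 5, 4, 7, 6, 5, 4, 5, 6],
  [3, 2, 4, 5, 4, 3, 6, 5, 4, 3, 5, 4, 3, 6, 5, 4, 3, 5, 6, 7, 6, 5, 4, 5, 6],
  [3, 2, 4, 5, 4, 3, 6, 5, 4, 3, 5, 4, 3, 6, 5, 4, 3, 5, 7, 6, 5, 4, 3, 2, 5],
  [3, 2, 4, 5, 4, 3, 6, 5, 4, 3, 5, 4, 3, 6, 5, 4, 3, 5, 7, 6, 5, 4, 3, 5, 4],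
  [3, 2, 4, 5, 4, 3, 6, 5, 4, 3, 5, 4, 3, 6, 5, 4, 3, 5, 7, 6, 5, 4, 5, 4, 3],
  [3, 2, 4, 5, 4, 3, 6, 5, 4, 3, 5, 4, 3, 6, 5, 4, 5, 4, 3, 6, 5, 4, 5, 4, 3],
  [3, 2, 4, 5, 4, 3, 6, 5, 4, 3, 5, 4, 3, 6, 5, 4, 5, 4, 3, 6, 5, 4, 5, 7, 6],
  [3, 2, 4, 5, 4, 3, 6, 5, 4, 3, 5, 4, 6, 5, 4, 3, 2, 5, 4, 3, 5, 4, 6, 5, 7],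
  [3, 2, 4, 5, 4, 3, 6, 5, 4, 3, 5, 4, 6, 5, 4, 3, 5, 4, 5, 4, 6, 5, 4, 5, 6],
  [3, 2, 4, 5, 4, 3, 6, 5, 4, 3, 5, 4, 6, 5, 4, 3, 5, 4, 5, 4, 6, 5, 4, 7, 6],
  [3, 2, 4, 5, 4, 3, 6, 5, 4, 3, 5, 4, 6, 5, 4, 3, 5, 4, 5, 6, 5, 4, 5, 7, 6],
  [3, 2, 4, 5, 4, 3, 6, 5, 4, 5, 4, 3, 2, 6, 5, 4, 3, 2, 5, 4, 5, 6, 5, 4, 7],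
  [3, 2, 4, 5, 4, 3, 6, 5, 4, 5, 4, 3, 2, 6, 5, 4, 3, 2, 5, 4, 5, 6, 5, 7, 6],
  [3, 2, 4, 5, 4, 3, 6, 5, 4, 5, 4, 3, 2, 6, 5, 4, 3, 5, 4, 5, 4, 6, 5, 4, 7],
  [3, 2, 4, 5, 4, 3, 6, 5, 4, 5, 4, 3, 2, 6, 5, 4, 3, 5, 4, 5, 4, 6, 5, 7, 6],
  [3, 2, 4, 5, 4, 3, 6, 5, 4, 5, 4, 3, 2, 6, 5, 4, 3, 5, 4, 5, 6, 5, 4, 3, 7],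
  [3, 2, 4, 5, 4, 3, 6, 5, 4, 5, 4, 3, 2, 6, 5, 4, 3, 5, 4, 5, 6, 5, 4, 7, 6],
  [3, 2, 4, 5, 4, 3, 6, 5, 4, 5, 4, 3, 2, 6, 5, 4, 3, 5, 4, 6, 5, 4, 3, 7, 6],
  [3, 2, 4, 5, 4, 3, 6, 5, 4, 5, 7, 6, 5, 4, 3, 2, 5, 4, 3, 5, 4, 5, 6, 5, 7],
  [3, 4, 5, 4, 3, 2, 6, 5, 4, 3, 2, 5, 4, 3, 6, 5, 4, 3, 5, 4, 3, 6, 5, 7, 6],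
  [3, 4, 5, 4, 3, 2, 6, 5, 4, 3, 2, 5, 4, 3, 6, 5, 4, 3, 5, 4, 6, 5, 4, 7, 6],
  [3, 4, 5, 4, 3, 2, 6, 5, 4, 3, 2, 5, 4, 5, 6, 5, 4, 3, 5, 4, 5, 6, 7, 6, 5],
  [3, 4, 5, 4, 3, 2, 6, 5, 4, 3, 2, 5, 4, 5, 6, 5, 4, 3, 5, 4, 5, 7, 6, 5, 4],
  [3, 4, 5, 4, 3, 2, 6, 5, 4, 3, 5, 4, 5, 4, 6, 5, 4, 3, 2, 5, 4, 3, 6, 5, 4],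
  [3, 4, 5, 4, 3, 2, 6, 5, 4, 3, 5, 4, 5, 4, 6, 5, 4, 3, 2, 5, 4, 3, 6, 5, 7],
  [3, 4, 5, 4, 3, 2, 6, 5, 4, 3, 5, 4, 5, 4, 6, 5, 4, 3, 2, 5, 4, 6, 5, 7, 6],
  [3, 4, 5, 4, 3, 2, 6, 5, 4, 3, 5, 4, 5, 4, 6, 5, 4, 3, 2, 7, 6, 5, 4, 3, 5],
  [3, 4, 5, 4, 3, 2, 6, 5, 4, 3, 5, 4, 5, 4, 6, 5, 4, 3, 2, 7, 6, 5, 4, 5, 6],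
  [3, 4, 5, 4, 3, 2, 6, 5, 4, 3, 5, 4, 5, 4, 6, 5, 4, 3, 5, 4, 5, 6, 5, 7, 6],
  [3, 4, 5, 4, 3, 2, 6, 5, 4, 3, 5, 4, 5, 4, 6, 5, 4, 3, 5, 4, 6, 5, 4, 7, 6],
  [3, 4, 5, 4, 3, 2, 6, 5, 4, 3, 5, 4, 5, 6, 5, 4, 3, 2, 5, 4, 6, 5, 7, 6, 5],
  [3, 4, 5, 4, 3, 2, 6, 5, 4, 3, 7, 6, 5, 4, 3, 5, 4, 6, 5, 4, 3, 7, 6, 5, 4],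
  [3, 4, 5, 4, 3, 6, 5, 4, 3, 2, 5, 4, 3, 2, 6, 5, 4, 3, 2, 5, 4, 6, 5, 7, 6],
  [3, 4, 5, 4, 3, 6, 5, 4, 3, 2, 5, 4, 3, 2, 6, 5, 4, 3, 5, 4, 5, 6, 5, 4, 3],
  [3, 4, 5, 4, 3, 6, 5, 4, 3, 2, 5, 4, 3, 2, 6, 5, 4, 3, 5, 4, 5, 6, 5, 4, 5],
  [3, 4, 5, 4, 3, 6, 5, 4, 3, 2, 5, 4, 3, 2, 6, 5, 4, 3, 5, 4, 5, 6, 5, 4, 7],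
  [3, 4, 5, 4, 3, 6, 5, 4, 3, 2, 5, 4, 3, 2, 6, 5, 4, 3, 5, 4, 5, 6, 5, 7, 6],
  [3, 4, 5, 4, 3, 6, 5, 4, 3, 2, 5, 4, 3, 2, 6, 5, 4, 3, 5, 4, 6, 5, 4, 3, 7],
  [3, 4, 5, 4, 3, 6, 5, 4, 3, 2, 5, 4, 3, 2, 6, 5, 4, 3, 5, 4, 6, 5, 4, 7, 6],
  [3, 4, 5, 4, 3, 6, 5, 4, 3, 2, 5, 4, 3, 6, 5, 4, 3, 5, 4, 3, 2, 6, 5, 7, 6],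
  [3, 4, 5, 4, 3, 6, 5, 4, 3, 2, 5, 4, 3, 6, 5, 4, 7, 6, 5, 4, 3, 2, 5, 4, 5],
  [3, 4, 5, 4, 3, 6, 5, 4, 3, 2, 5, 4, 3, 7, 6, 5, 4, 3, 2, 5, 4, 6, 5, 7, 6],
  [3, 4, 5, 4, 3, 6, 5, 4, 3, 2, 5, 4, 3, 7, 6, 5, 4, 3, 5, 4, 5, 6, 5, 7, 6],
  [3, 4, 5, 4, 3, 6, 5, 4, 3, 2, 5, 4, 3, 7, 6, 5, 4, 3, 5, 4, 6, 5, 4, 7, 6],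
  [3, 4, 5, 4, 3, 6, 5, 4, 3, 2, 5, 4, 7, 6, 5, 4, 3, 2, 5, 4, 3, 6, 5, 4, 5],
  [3, 4, 5, 4, 3, 6, 5, 4, 3, 2, 5, 4, 7, 6, 5, 4, 3, 5, 4, 5, 4, 6, 5, 7, 6],
  [3, 4, 5, 4, 3, 6, 5, 4, 3, 5, 4, 3, 2, 6, 5, 4, 3, 2, 5, 4, 3, 6, 5, 4, 5],
  [3, 4, 5, 4, 3, 6, 5, 4, 3, 5, 4, 3, 2, 6, 5, 4, 3, 5, 4, 5, 4, 6, 5, 7, 6],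
  [3, 4, 5, 4, 3, 6, 5, 4, 3, 5, 4, 3, 2, 6, 5, 4, 3, 7, 6, 5, 4, 3, 5, 4, 6],
  [3, 4, 5, 4, 3, 6, 5, 4, 3, 5, 4, 3, 5, 6, 5, 4, 3, 5, 4, 3, 6, 5, 4, 3, 2],
  [3, 4, 5, 4, 3, 6, 5, 4, 3, 5, 4, 3, 5, 6, 5, 4, 3, 5, 4, 3, 6, 5, 4, 3, 5],
  [3, 4, 5, 4, 3, 6, 5, 4, 3, 5, 4, 3, 5, 6, 5, 4, 3, 5, 4, 3, 6, 5, 4, 3, 7],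
  [3, 4, 5, 4, 3, 6, 5, 4, 3, 5, 4, 3, 5, 6, 5, 4, 3, 5, 4, 3, 6, 5, 4, 5, 7],
  [3, 4, 5, 4, 3, 6, 5, 4, 3, 5, 4, 3, 5, 6, 5, 4, 3, 5, 4, 6, 5, 4, 3, 2, 5],
  [3, 4, 5, 4, 3, 6, 5, 4, 3, 5, 4, 3, 5, 6, 5, 4, 3, 5, 4, 6, 5, 4, 3, 5, 4],
  [3, 4, 5, 4, 3, 6, 5, 4, 3, 5, 4, 3, 5, 6, 5, 4, 3, 5, 4, 6, 5, 4, 3, 5, 6],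
  [3, 4, 5, 4, 3, 6, 5, 4, 3, 5, 4, 3, 5, 6, 5, 4, 5, 4, 3, 2, 6, 5, 4, 5, 6],
  [3, 4, 5, 4, 3, 6, 5, 4, 3, 5, 4, 3, 5, 6, 5, 4, 5, 4, 3, 6, 5, 4, 5, 4, 6],
  [3, 4, 5, 4, 3, 6, 5, 4, 3, 5, 4, 3, 5, 6, 5, 4, 5, 4, 3, 6, 5, 4, 5, 6, 7],
  [3, 4, 5, 4, 3, 6, 5, 4, 3, 5, 4, 3, 6, 5, 4, 3, 2, 5, 4, 3, 2, 6, 5, 4, 5],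
  [3, 4, 5, 4, 3, 6, 5, 4, 3, 5, 4, 3, 6, 5, 4, 3, 2, 5, 4, 3, 6, 5, 4, 3, 2],
  [3, 4, 5, 4, 3, 6, 5, 4, 3, 5, 4, 3, 6, 5, 4, 3, 2, 5, 4, 3, 6, 5, 4, 3, 5],
  [3, 4, 5, 4, 3, 6, 5, 4, 3, 5, 4, 3, 6, 5, 4, 3, 2, 5, 4, 3, 6, 5, 4, 5, 4],
  [3, 4, 5, 4, 3, 6, 5, 4, 3, 5, 4, 3, 6, 5, 4, 3, 2, 5, 4, 3, 6, 5, 4, 5, 6],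
  [3, 4, 5, 4, 3, 6, 5, 4, 3, 5, 4, 3, 6, 5, 4, 3, 2, 5, 4, 3, 6, 5, 4, 5, 7],
  [3, 4, 5, 4, 3, 6, 5, 4, 3, 5, 4, 3, 6, 5, 4, 3, 2, 5, 4, 3, 6, 5, 4, 7, 6],
  [3, 4, 5, 4, 3, 6, 5, 4, 3, 5, 4, 7, 6, 5, 4, 3, 2, 5, 4, 3, 6, 5, 4, 5, 6],
  [3, 4, 5, 4, 3, 6, 5, 4, 3, 5, 6, 7, 6, 5, 4, 3, 2, 5, 4, 3, 6, 5, 4, 5, 6],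
  [3, 4, 5, 4, 3, 6, 5, 4, 5, 4, 3, 6, 5, 4, 3, 2, 5, 4, 3, 2, 6, 5, 4, 3, 2],
  [3, 4, 5, 4, 3, 6, 5, 4, 5, 4, 3, 6, 5, 4, 3, 2, 5, 4, 3, 2, 6, 5, 4, 3, 5],
  [3, 4, 5, 4, 3, 6, 5, 4, 5, 4, 3, 6, 5, 4, 3, 2, 5, 4, 3, 2, 6, 5, 4, 5, 6],
  [3, 4, 5, 4, 3, 6, 5, 4, 5, 4, 3, 6, 5, 4, 3, 2, 5, 4, 3, 6, 5, 4, 3, 5, 6],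
  [3, 4, 5, 4, 3, 6, 5, 4, 5, 4, 3, 6, 5, 4, 3, 2, 5, 4, 3, 6, 5, 4, 5, 4, 3],
  [3, 4, 5, 4, 3, 6, 5, 4, 5, 4, 3, 6, 5, 4, 3, 2, 5, 4, 3, 6, 5, 4, 5, 4, 6],
  [3, 4, 5, 4, 3, 6, 5, 4, 5, 4, 3, 6, 5, 4, 3, 2, 5, 4, 3, 7, 6, 5, 4, 3, 5],
  [3, 4, 5, 4, 3, 6, 5, 4, 5, 4, 3, 6, 5, 4, 3, 2, 5, 4, 3, 7, 6, 5, 4, 5, 6],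
  [3, 4, 5, 4, 3, 6, 5, 4, 5, 4, 3, 6, 5, 4, 3, 5, 4, 3, 5, 4, 6, 5, 4, 7, 6],
  [3, 4, 5, 4, 3, 6, 5, 4, 5, 4, 3, 6, 5, 4, 3, 7, 6, 5, 4, 3, 5, 4, 6, 5, 4],
  [3, 4, 5, 4, 3, 6, 5, 4, 5, 4, 3, 6, 5, 4, 3, 7, 6, 5, 4, 3, 5, 4, 6, 5, 7],
  [3, 4, 5, 4, 3, 6, 5, 4, 5, 4, 6, 5, 4, 3, 2, 5, 4, 3, 5, 4, 6, 5, 4, 7, 6],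
  [3, 4, 5, 4, 3, 6, 5, 4, 5, 7, 6, 5, 4, 3, 2, 5, 4, 3, 5, 4, 5, 6, 5, 4, 5]]
def ows1c25 : List (List Nat) := [[3, 4, 5, 4, 3, 6, 5, 4, 5, 7, 6, 5, 4, 3, 2, 5, 4, 3, 5, 4, 5, 6, 5, 4, 7],
  [3, 4, 5, 4, 3, 6, 5, 4, 5, 7, 6, 5, 4, 3, 2, 5, 4, 3, 5, 4, 5, 6, 5, 7, 6],
  [3, 4, 5, 4, 3, 6, 5, 4, 5, 7, 6, 5, 4, 3, 2, 5, 4, 3, 5, 4, 6, 5, 4, 5, 6],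
  [3, 4, 5, 4, 3, 6, 5, 4, 5, 7, 6, 5, 4, 3, 2, 5, 4, 3, 5, 4, 6, 5, 4, 7, 6],
  [3, 4, 5, 4, 3, 6, 5, 4, 5, 7, 6, 5, 4, 3, 2, 5, 4, 3, 5, 6, 5, 4, 5, 4, 3],
  [3, 4, 5, 4, 3, 6, 5, 4, 5, 7, 6, 5, 4, 3, 2, 5, 4, 3, 5, 6, 5, 4, 5, 4, 6],
  [3, 4, 5, 4, 3, 6, 5, 4, 5, 7, 6, 5, 4, 3, 2, 5, 4, 3, 5, 6, 5, 4, 5, 6, 7],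
  [3, 4, 5, 4, 3, 6, 5, 4, 5, 7, 6, 5, 4, 3, 2, 5, 4, 3, 5, 6, 5, 4, 5, 7, 6],
  [3, 4, 5, 4, 3, 6, 5, 4, 5, 7, 6, 5, 4, 3, 5, 4, 5, 4, 3, 6, 5, 4, 3, 5, 6],
  [3, 4, 5, 4, 6, 5, 4, 3, 2, 5, 4, 3, 5, 4, 6, 5, 4, 3, 2, 7, 6, 5, 4, 3, 2],
  [3, 4, 5, 4, 6, 5, 4, 3, 2, 5, 4, 3, 5, 4, 6, 5, 4, 3, 2, 7, 6, 5, 4, 3, 5],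
  [3, 4, 5, 4, 6, 5, 4, 3, 2, 5, 4, 3, 5, 4, 6, 5, 4, 3, 7, 6, 5, 4, 3, 2, 5],
  [3, 4, 5, 4, 6, 5, 4, 3, 2, 5, 4, 3, 5, 4, 6, 5, 4, 3, 7, 6, 5, 4, 3, 5, 4],
  [3, 4, 5, 4, 6, 5, 4, 3, 2, 5, 4, 3, 5, 6, 5, 4, 5, 4, 3, 2, 6, 5, 4, 3, 2],
  [3, 4, 5, 4, 6, 5, 4, 3, 5, 4, 5, 4, 3, 2, 6, 5, 4, 3, 5, 4, 6, 5, 4, 5, 6],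
  [3, 4, 5, 4, 6, 5, 4, 3, 5, 4, 5, 4, 3, 6, 5, 4, 3, 5, 4, 6, 5, 4, 3, 5, 4],
  [3, 4, 5, 4, 6, 5, 4, 3, 5, 4, 5, 4, 3, 6, 5, 4, 3, 5, 4, 6, 5, 4, 3, 5, 6],
  [3, 2, 4, 3, 5, 4, 3, 2, 5, 6, 5, 4, 3, 5, 4, 3, 5, 6, 5, 4, 3, 2, 5, 4, 5, 6],
  [3, 2, 4, 3, 5, 4, 3, 2, 5, 6, 5, 4, 3, 5, 4, 3, 5, 6, 5, 4, 3, 5, 4, 5, 4, 6],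
  [3, 2, 4, 3, 5, 4, 3, 2, 5, 6, 5, 4, 3, 5, 4, 3, 5, 6, 5, 4, 3, 5, 4, 5, 6, 5],
  [3, 2, 4, 3, 5, 4, 3, 2, 5, 6, 5, 4, 3, 5, 4, 3, 5, 6, 5, 4, 3, 5, 4, 6, 5, 4],
  [3, 2, 4, 3, 5, 4, 3, 2, 5, 6, 5, 4, 3, 5, 4, 3, 6, 5, 4, 3, 5, 4, 6, 5, 4, 3],
  [3, 2, 4, 3, 5, 4, 3, 2, 5, 6, 5, 4, 3, 5, 4, 3, 6, 5, 4, 3, 5, 4, 6, 5, 4, 7],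
  [3, 2, 4, 3, 5, 4, 3, 2, 5, 6, 5, 4, 3, 5, 4, 3, 6, 5, 4, 3, 5, 4, 6, 5, 7, 6],
  [3, 2, 4, 3, 5, 4, 3, 2, 5, 6, 5, 4, 3, 5, 4, 5, 6, 5, 4, 3, 5, 4, 5, 4, 3, 6],
  [3, 2, 4, 3, 5, 4, 3, 2, 5, 6, 5, 4, 3, 5, 4, 5, 6, 5, 4, 3, 5, 4, 5, 7, 6, 5],
  [3, 2, 4, 3, 5, 4, 3, 2, 5, 6, 5, 4, 3, 5, 4, 5, 6, 5, 4, 3, 5, 4, 7, 6, 5, 4],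
  [3, 2, 4, 3, 5, 4, 3, 2, 6, 5, 4, 3, 2, 7, 6, 5, 4, 3, 5, 4, 5, 6, 5, 4, 3, 5],
  [3, 2, 4, 3, 5, 4, 3, 2, 6, 5, 4, 3, 2, 7, 6, 5, 4, 3, 5, 4, 5, 6, 5, 4, 5, 6],
  [3, 2, 4, 3, 5, 4, 3, 2, 6, 5, 4, 3, 2, 7, 6, 5, 4, 3, 5, 4, 6, 5, 4, 3, 5, 6],
  [3, 2, 4, 3, 5, 4, 3, 2, 6, 5, 4, 3, 2, 7, 6, 5, 4, 3, 5, 4, 6, 5, 4, 5, 6, 7],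
  [3, 2, 4, 3, 5, 4, 3, 2, 6, 5, 4, 3, 7, 6, 5, 4, 3, 5, 4, 3, 2, 6, 5, 4, 3, 5],
  [3, 2, 4, 3, 5, 4, 3, 2, 6, 5, 4, 3, 7, 6, 5, 4, 3, 5, 4, 3, 2, 6, 5, 4, 5, 6],
  [3, 2, 4, 3, 5, 4, 3, 2, 6, 5, 4, 3, 7, 6, 5, 4, 3, 5, 4, 3, 2, 6, 5, 4, 7, 6],
  [3, 2, 4, 3, 5, 4, 3, 2, 6, 5, 4, 3, 7, 6, 5, 4, 3, 5, 4, 3, 6, 5, 4, 5, 4, 6],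
  [3, 2, 4, 3, 5, 4, 3, 2, 6, 5, 4, 3, 7, 6, 5, 4, 3, 5, 4, 3, 6, 5, 4, 5, 6, 7],
  [3, 2, 4, 3, 5, 4, 3, 2, 6, 5, 4, 3, 7, 6, 5, 4, 3, 5, 4, 3, 6, 5, 4, 7, 6, 5],
  [3, 2, 4, 3, 5, 4, 3, 2, 6, 5, 4, 3, 7, 6, 5, 4, 5, 4, 3, 6, 5, 4, 3, 5, 4, 3],
  [3, 2, 4, 3, 5, 4, 3, 2, 6, 5, 4, 3, 7, 6, 5, 4, 5, 4, 3, 6, 5, 4, 3, 5, 4, 7],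
  [3, 2, 4, 3, 5, 4, 3, 2, 6, 5, 4, 3, 7, 6, 5, 4, 5, 4, 3, 6, 5, 4, 3, 5, 7, 6],
  [3, 2, 4, 3, 5, 4, 3, 2, 6, 5, 4, 3, 7, 6, 5, 4, 5, 4, 3, 6, 5, 4, 5, 4, 3, 6],
  [3, 2, 4, 3, 5, 4, 3, 2, 6, 5, 4, 3, 7, 6, 5, 4, 5, 4, 3, 6, 5, 4, 5, 4, 6, 5],
  [3, 2, 4, 3, 5, 4, 3, 2, 6, 5, 4, 3, 7, 6, 5, 4, 5, 4, 3, 6, 5, 4, 5, 4, 6, 7],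
  [3, 2, 4, 3, 5, 4, 3, 2, 6, 5, 4, 3, 7, 6, 5, 4, 5, 4, 3, 6, 5, 4, 5, 6, 7, 6],
  [3, 2, 4, 3, 5, 4, 3, 2, 6, 5, 4, 3, 7, 6, 5, 4, 5, 4, 6, 5, 4, 3, 5, 4, 5, 4],
  [3, 2, 4, 3, 5, 4, 3, 2, 6, 5, 4, 3, 7, 6, 5, 4, 5, 4, 6, 5, 4, 3, 5, 4, 5, 6],
  [3, 2, 4, 3, 5, 4, 3, 5, 6, 5, 4, 3, 2, 5, 4, 3, 5, 6, 5, 4, 3, 2, 5, 4, 3, 5],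
  [3, 2, 4, 3, 5, 4, 3, 5, 6, 5, 4, 3, 2, 5, 4, 3, 5, 6, 5, 4, 3, 2, 5, 4, 5, 6],
  [3, 2, 4, 3, 5, 4, 3, 5, 6, 5, 4, 3, 2, 5, 4, 3, 5, 6, 5, 4, 3, 5, 4, 3, 5, 6],
  [3, 2, 4, 3, 5, 4, 3, 5, 6, 5, 4, 3, 2, 5, 4, 3, 5, 6, 5, 4, 3, 5, 4, 5, 4, 3],
  [3, 2, 4, 3, 5, 4, 3, 5, 6, 5, 4, 3, 2, 5, 4, 3, 5, 6, 5, 4, 3, 5, 4, 5, 4, 6],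
  [3, 2, 4, 3, 5, 4, 3, 5, 6, 5, 4, 3, 2, 5, 4, 3, 5, 6, 5, 4, 3, 5, 4, 5, 6, 5],
  [3, 2, 4, 3, 5, 4, 3, 5, 6, 5, 4, 3, 2, 5, 4, 3, 5, 6, 5, 4, 3, 5, 4, 5, 6, 7],
  [3, 2, 4, 3, 5, 4, 3, 5, 6, 5, 4, 3, 2, 5, 4, 5, 6, 5, 4, 3, 2, 5, 4, 3, 2, 5],
  [3, 2, 4, 3, 5, 4, 3, 5, 6, 5, 4, 3, 2, 5, 4, 5, 6, 5, 4, 3, 2, 5, 4, 3, 5, 6],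
  [3, 2, 4, 3, 5, 4, 3, 5, 6, 5, 4, 3, 2, 5, 4, 5, 6, 5, 4, 3, 2, 5, 4, 5, 6, 7],
  [3, 2, 4, 3, 5, 4, 3, 5, 6, 5, 4, 3, 2, 5, 4, 5, 6, 5, 4, 3, 5, 4, 3, 2, 5, 6],
  [3, 2, 4, 3, 5, 4, 3, 5, 6, 5, 4, 3, 2, 5, 4, 5, 6, 5, 4, 3, 5, 4, 3, 5, 6, 7],
  [3, 2, 4, 3, 5, 4, 3, 5, 6, 5, 4, 3, 2, 5, 4, 5, 6, 5, 4, 3, 5, 4, 5, 4, 6, 7],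
  [3, 2, 4, 3, 5, 4, 3, 5, 6, 5, 4, 3, 2, 5, 4, 5, 6, 5, 4, 3, 5, 4, 5, 6, 7, 6],
  [3, 2, 4, 3, 5, 4, 3, 5, 6, 5, 4, 3, 2, 5, 6, 7, 6, 5, 4, 3, 5, 4, 5, 6, 5, 4],
  [3, 2, 4, 3, 5, 4, 3, 5, 6, 5, 4, 3, 2, 5, 6, 7, 6, 5, 4, 3, 5, 4, 5, 6, 5, 7],
  [3, 2, 4, 3, 5, 4, 3, 5, 6, 5, 4, 3, 2, 5, 6, 7, 6, 5, 4, 3, 5, 4, 6, 5, 4, 3],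
  [3, 2, 4, 3, 5, 4, 3, 5, 6, 5, 4, 3, 5, 4, 3, 5, 6, 5, 4, 3, 5, 4, 5, 4, 3, 6],
  [3, 2, 4, 3, 5, 4, 3, 5, 6, 5, 4, 3, 5, 4, 3, 5, 6, 5, 4, 3, 5, 4, 5, 4, 6, 7],
  [3, 2, 4, 3, 5, 4, 3, 5, 6, 5, 4, 3, 5, 4, 3, 5, 6, 5, 4, 3, 5, 4, 5, 6, 5, 4],
  [3, 2, 4, 3, 5, 4, 3, 5, 6, 5, 4, 3, 5, 4, 3, 5, 6, 5, 4, 3, 5, 4, 5, 6, 5, 7],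
  [3, 2, 4, 3, 5, 4, 3, 5, 6, 5, 4, 3, 5, 4, 3, 5, 6, 5, 4, 3, 5, 4, 6, 5, 4, 3],
  [3, 2, 4, 3, 5, 4, 3, 5, 6, 5, 4, 3, 5, 4, 5, 4, 3, 6, 5, 4, 3, 5, 4, 3, 5, 6],
  [3, 2, 4, 3, 5, 4, 3, 5, 6, 5, 4, 3, 5, 4, 5, 4, 3, 6, 5, 4, 3, 5, 4, 5, 6, 7],
  [3, 2, 4, 3, 5, 4, 3, 5, 6, 5, 4, 3, 5, 4, 5, 4, 3, 6, 5, 4, 3, 5, 7, 6, 5, 4],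
  [3, 2, 4, 3, 5, 4, 3, 5, 6, 5, 4, 3, 5, 4, 5, 4, 3, 6, 5, 4, 3, 7, 6, 5, 4, 3],
  [3, 2, 4, 3, 5, 4, 3, 5, 6, 5, 4, 3, 5, 4, 5, 4, 3, 6, 5, 4, 3, 7, 6, 5, 4, 5],
  [3, 2, 4, 3, 5, 4, 3, 5, 6, 5, 4, 3, 5, 4, 5, 4, 6, 5, 4, 3, 2, 5, 4, 3, 5, 6],
  [3, 2, 4, 3, 5, 4, 3, 5, 6, 5, 4, 3, 5, 4, 5, 4, 6, 5, 4, 3, 2, 5, 4, 5, 6, 7],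
  [3, 2, 4, 3, 5, 4, 3, 5, 6, 5, 4, 3, 5, 4, 5, 4, 6, 5, 4, 3, 2, 7, 6, 5, 4, 3],
  [3, 2, 4, 3, 5, 4, 3, 5, 6, 5, 4, 3, 5, 4, 5, 4, 6, 5, 4, 3, 2, 7, 6, 5, 4, 5],
  [3, 2, 4, 3, 5, 4, 3, 5, 6, 5, 4, 3, 5, 4, 5, 4, 6, 5, 4, 3, 5, 4, 5, 4, 3, 6],
  [3, 2, 4, 3, 5, 4, 3, 5, 6, 5, 4, 3, 5, 4, 5, 4, 6, 5, 4, 3, 5, 4, 5, 4, 6, 5],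
  [3, 2, 4, 3, 5, 4, 3, 5, 6, 5, 4, 3, 5, 4, 5, 4, 6, 5, 4, 3, 5, 4, 5, 4, 6, 7],
  [3, 2, 4, 3, 5, 4, 3, 5, 6, 5, 4, 3, 5, 4, 5, 4, 6, 5, 4, 3, 7, 6, 5, 4, 5, 6],
  [3, 2, 4, 3, 5, 4, 3, 5, 6, 5, 4, 3, 5, 4, 5, 6, 5, 4, 3, 2, 5, 4, 3, 2, 6, 5],
  [3, 2, 4, 3, 5, 4, 3, 5, 6, 5, 4, 3, 5, 4, 5, 6, 5, 4, 3, 2, 5, 4, 3, 5, 6, 5],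
  [3, 2, 4, 3, 5, 4, 3, 5, 6, 5, 4, 3, 5, 4, 5, 6, 5, 4, 3, 2, 5, 4, 3, 5, 6, 7],
  [3, 2, 4, 3, 5, 4, 3, 5, 6, 5, 4, 3, 5, 4, 5, 6, 5, 4, 3, 5, 4, 3, 2, 6, 5, 4],
  [3, 2, 4, 3, 5, 4, 3, 5, 6, 5, 4, 3, 5, 4, 5, 6, 5, 4, 3, 5, 4, 3, 5, 6, 5, 4],
  [3, 2, 4, 3, 5, 4, 3, 5, 6, 5, 4, 3, 5, 4, 5, 6, 5, 4, 3, 5, 4, 3, 5, 6, 5, 7],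
  [3, 2, 4, 3, 5, 4, 3, 5, 6, 5, 4, 3, 5, 4, 5, 6, 5, 4, 3, 5, 4, 3, 6, 5, 4, 3],
  [3, 2, 4, 3, 5, 4, 3, 5, 6, 5, 4, 3, 5, 4, 5, 6, 5, 4, 3, 5, 4, 3, 6, 5, 4, 5],
  [3, 2, 4, 3, 5, 4, 3, 5, 6, 5, 4, 3, 5, 4, 5, 6, 5, 4, 3, 5, 4, 5, 6, 5, 4, 3],
  [3, 2, 4, 3, 5, 4, 3, 5, 6, 5, 4, 3, 5, 4, 5, 6, 5, 4, 5, 4, 3, 2, 6, 5, 4, 3],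
  [3, 2, 4, 3, 5, 4, 3, 5, 6, 5, 4, 3, 5, 4, 5, 6, 5, 4, 5, 4, 3, 2, 6, 5, 4, 5],
  [3, 2, 4, 3, 5, 4, 3, 5, 6, 5, 4, 3, 5, 4, 5, 6, 5, 4, 5, 4, 3, 6, 5, 4, 5, 4],
  [3, 2, 4, 3, 5, 4, 3, 6, 5, 4, 3, 2, 5, 6, 7, 6, 5, 4, 3, 5, 4, 5, 6, 5, 4, 5],
  [3, 2, 4, 3, 5, 4, 3, 6, 5, 4, 3, 2, 5, 6, 7, 6, 5, 4, 3, 5, 4, 5, 6, 5, 4, 7],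
  [3, 2, 4, 3, 5, 4, 3, 6, 5, 4, 3, 2, 5, 6, 7, 6, 5, 4, 3, 5, 4, 5, 6, 5, 7, 6],
  [3, 2, 4, 3, 5, 4, 3, 6, 5, 4, 3, 2, 5, 6, 7, 6, 5, 4, 3, 5, 4, 6, 5, 4, 5, 6],
  [3, 2, 4, 3, 5, 4, 3, 6, 5, 4, 3, 2, 5, 6, 7, 6, 5, 4, 3, 5, 4, 6, 5, 4, 7, 6],
  [3, 2, 4, 3, 5, 4, 3, 6, 5, 4, 3, 2, 5, 7, 6, 5, 4, 3, 2, 5, 4, 5, 6, 5, 4, 7],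
  [3, 2, 4, 3, 5, 4, 3, 6, 5, 4, 3, 2, 5, 7, 6, 5, 4, 3, 2, 5, 4, 5, 6, 5, 7, 6],
  [3, 2, 4, 3, 5, 4, 3, 6, 5, 4, 3, 2, 5, 7, 6, 5, 4, 3, 5, 4, 3, 2, 6, 5, 4, 3],
  [3, 2, 4, 3, 5, 4, 3, 6, 5, 4, 3, 2, 5, 7, 6, 5, 4, 3, 5, 4, 3, 2, 6, 5, 4, 5],
  [3, 2, 4, 3, 5, 4, 3, 6, 5, 4, 3, 2, 5, 7, 6, 5, 4, 3, 5, 4, 3, 2, 6, 5, 4, 7],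
  [3, 2, 4, 3, 5, 4, 3, 6, 5, 4, 3, 2, 5, 7, 6, 5, 4, 3, 5, 4, 3, 2, 6, 5, 7, 6],
  [3, 2, 4, 3, 5, 4, 3, 6, 5, 4, 3, 2, 5, 7, 6, 5, 4, 3, 5, 4, 3, 5, 6, 5, 4, 3],
  [3, 2, 4, 3, 5, 4, 3, 6, 5, 4, 3, 2, 5, 7, 6, 5, 4, 3, 5, 4, 3, 5, 6, 5, 4, 7],
  [3, 2, 4, 3, 5, 4, 3, 6, 5, 4, 3, 2, 5, 7, 6, 5, 4, 3, 5, 4, 3, 5, 6, 5, 7, 6],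
  [3, 2, 4, 3, 5, 4, 3, 6, 5, 4, 3, 2, 5, 7, 6, 5, 4, 3, 5, 4, 3, 6, 5, 4, 3, 2],
  [3, 2, 4, 3, 5, 4, 3, 6, 5, 4, 3, 2, 5, 7, 6, 5, 4, 3, 5, 4, 3, 6, 5, 4, 3, 5],
  [3, 2, 4, 3, 5, 4, 3, 6, 5, 4, 3, 2, 5, 7, 6, 5, 4, 3, 5, 4, 3, 6, 5, 4, 3, 7],
  [3, 2, 4, 3, 5, 4, 3, 6, 5, 4, 3, 2, 5, 7, 6, 5, 4, 3, 5, 4, 3, 6, 5, 4, 5, 4],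
  [3, 2, 4, 3, 5, 4, 3, 6, 5, 4, 3, 2, 5, 7, 6, 5, 4, 3, 5, 4, 3, 6, 5, 4, 5, 6],
  [3, 2, 4, 3, 5, 4, 3, 6, 5, 4, 3, 2, 5, 7, 6, 5, 4, 3, 5, 4, 3, 6, 5, 4, 5, 7],
  [3, 2, 4, 3, 5, 4, 3, 6, 5, 4, 3, 2, 5, 7, 6, 5, 4, 3, 5, 4, 3, 6, 5, 4, 7, 6],
  [3, 2, 4, 3, 5, 4, 3, 6, 5, 4, 3, 2, 5, 7, 6, 5, 4, 3, 5, 4, 5, 6, 5, 4, 3, 2],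
  [3, 2, 4, 3, 5, 4, 3, 6, 5, 4, 3, 2, 5, 7, 6, 5, 4, 3, 5, 4, 5, 6, 5, 4, 3, 5],
  [3, 2, 4, 3, 5, 4, 3, 6, 5, 4, 3, 2, 5, 7, 6, 5, 4, 3, 5, 4, 5, 6, 5, 4, 3, 7],
  [3, 2, 4, 3, 5, 4, 3, 6, 5, 4, 3, 2, 5, 7, 6, 5, 4, 3, 5, 4, 5, 6, 5, 4, 5, 4],
  [3, 2, 4, 3, 5, 4, 3, 6, 5, 4, 3, 2, 5, 7, 6, 5, 4, 3, 5, 4, 5, 6, 5, 4, 5, 7],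
  [3, 2, 4, 3, 5, 4, 3, 6, 5, 4, 3, 2, 5, 7, 6, 5, 4, 3, 5, 4, 5, 6, 5, 4, 7, 6],
  [3, 2, 4, 3, 5, 4, 3, 6, 5, 4, 3, 2, 5, 7, 6, 5, 4, 3, 5, 4, 6, 5, 4, 3, 2, 7],
  [3, 2, 4, 3, 5, 4, 3, 6, 5, 4, 3, 2, 5, 7, 6, 5, 4, 3, 5, 4, 6, 5, 4, 3, 7, 6],
  [3, 2, 4, 3, 5, 4, 3, 6, 5, 4, 3, 2, 5, 7, 6, 5, 4, 3, 5, 4, 6, 5, 4, 7, 6, 5],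
  [3, 2, 4, 3, 5, 4, 3, 6, 5, 4, 3, 2, 5, 7, 6, 5, 4, 5, 4, 3, 2, 6, 5, 4, 3, 5],
  [3, 2, 4, 3, 5, 4, 3, 6, 5, 4, 3, 2, 5, 7, 6, 5, 4, 5, 4, 3, 2, 6, 5, 4, 3, 7],
  [3, 2, 4, 3, 5, 4, 3, 6, 5, 4, 3, 2, 5, 7, 6, 5, 4, 5, 4, 3, 2, 6, 5, 4, 5, 6],
  [3, 2, 4, 3, 5, 4, 3, 6, 5, 4, 3, 2, 5, 7, 6, 5, 4, 5, 4, 3, 6, 5, 4, 5, 4, 3],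
  [3, 2, 4, 3, 5, 4, 3, 6, 5, 4, 3, 2, 5, 7, 6, 5, 4, 5, 4, 3, 6, 5, 4, 5, 4, 6],
  [3, 2, 4, 3, 5, 4, 3, 6, 5, 4, 3, 2, 5, 7, 6, 5, 4, 5, 4, 3, 6, 5, 4, 5, 6, 7],
  [3, 2, 4, 3, 5, 4, 3, 6, 5, 4, 3, 2, 5, 7, 6, 5, 4, 5, 4, 3, 6, 5, 4, 5, 7, 6],
  [3, 2, 4, 3, 5, 4, 3, 6, 5, 4, 3, 2, 7, 6, 5, 4, 3, 2, 5, 4, 3, 6, 5, 4, 3, 5],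
  [3, 2, 4, 3, 5, 4, 3, 6, 5, 4, 3, 2, 7, 6, 5, 4, 3, 5, 4, 5, 4, 6, 5, 4, 3, 2],
  [3, 2, 4, 3, 5, 4, 3, 6, 5, 4, 3, 2, 7, 6, 5, 4, 3, 5, 4, 5, 4, 6, 5, 4, 3, 5],
  [3, 2, 4, 3, 5, 4, 3, 6, 5, 4, 3, 2, 7, 6, 5, 4, 3, 5, 4, 5, 4, 6, 5, 4, 5, 6],
  [3, 2, 4, 3, 5, 4, 3, 6, 5, 4, 3, 2, 7, 6, 5, 4, 3, 5, 4, 5, 6, 5, 4, 5, 4, 3],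
  [3, 2, 4, 3, 5, 4, 3, 6, 5, 4, 3, 2, 7, 6, 5, 4, 3, 5, 4, 5, 6, 5, 4, 5, 4, 6],
  [3, 2, 4, 3, 5, 4, 3, 6, 5, 4, 3, 2, 7, 6, 5, 4, 3, 5, 4, 5, 6, 5, 4, 5, 6, 7],
  [3, 2, 4, 3, 5, 4, 3, 6, 5, 4, 3, 2, 7, 6, 5, 4, 3, 5, 4, 6, 5, 4, 3, 2, 5, 6],
  [3, 2, 4, 3, 5, 4, 3, 6, 5, 4, 3, 2, 7, 6, 5, 4, 3, 5, 4, 6, 5, 4, 3, 5, 4, 6],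
  [3, 2, 4, 3, 5, 4, 3, 6, 5, 4, 3, 2, 7, 6, 5, 4, 3, 5, 4, 6, 5, 4, 3, 5, 6, 7],
  [3, 2, 4, 3, 5, 4, 3, 6, 5, 4, 3, 5, 4, 3, 6, 5, 4, 3, 5, 4, 6, 5, 4, 3, 5, 4],
  [3, 2, 4, 3, 5, 4, 3, 6, 5, 4, 3, 5, 4, 6, 5, 4, 3, 2, 7, 6, 5, 4, 3, 2, 5, 4],
  [3, 2, 4, 3, 5, 4, 3, 6, 5, 4, 3, 5, 4, 6, 5, 4, 3, 2, 7, 6, 5, 4, 3, 2, 5, 6],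
  [3, 2, 4, 3, 5, 4, 3, 6, 5, 4, 3, 5, 4, 6, 5, 4, 3, 2, 7, 6, 5, 4, 3, 5, 4, 6],
  [3, 2, 4, 3, 5, 4, 3, 6, 5, 4, 3, 5, 4, 6, 5, 4, 3, 7, 6, 5, 4, 3, 2, 5, 4, 3],
  [3, 2, 4, 3, 5, 4, 3, 6, 5, 4, 3, 5, 4, 6, 5, 4, 3, 7, 6, 5, 4, 3, 2, 5, 4, 6],
  [3, 2, 4, 3, 5, 4, 3, 6, 5, 4, 3, 5, 4, 6, 5, 4, 3, 7, 6, 5, 4, 3, 2, 5, 6, 7],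
  [3, 2, 4, 3, 5, 4, 3, 6, 5, 4, 3, 5, 4, 6, 5, 4, 3, 7, 6, 5, 4, 3, 5, 4, 3, 2],
  [3, 2, 4, 3, 5, 4, 3, 6, 5, 4, 3, 5, 4, 6, 5, 4, 3, 7, 6, 5, 4, 3, 5, 4, 3, 5],
  [3, 2, 4, 3, 5, 4, 3, 6, 5, 4, 3, 5, 4, 6, 5, 4, 3, 7, 6, 5, 4, 3, 5, 4, 3, 6],
  [3, 2, 4, 3, 5, 4, 3, 6, 5, 4, 3, 5, 4, 6, 5, 4, 3, 7, 6, 5, 4, 3, 5, 4, 6, 5],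
  [3, 2, 4, 3, 5, 4, 3, 6, 5, 4, 3, 5, 4, 6, 5, 4, 3, 7, 6, 5, 4, 3, 5, 4, 6, 7],
  [3, 2, 4, 3, 5, 4, 3, 6, 5, 4, 3, 5, 4, 6, 5, 4, 3, 7, 6, 5, 4, 5, 4, 3, 2, 6],
  [3, 2, 4, 3, 5, 4, 3, 6, 5, 4, 3, 5, 4, 6, 5, 4, 7, 6, 5, 4, 3, 2, 5, 4, 3, 5],
  [3, 2, 4, 3, 5, 4, 3, 6, 5, 4, 3, 5, 4, 6, 5, 4, 7, 6, 5, 4, 3, 2, 5, 4, 5, 6],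
  [3, 2, 4, 3, 5, 4, 3, 6, 5, 4, 3, 5, 4, 6, 5, 4, 7, 6, 5, 4, 3, 5, 4, 5, 4, 3],
  [3, 2, 4, 3, 5, 4, 3, 6, 5, 4, 3, 5, 4, 6, 5, 4, 7, 6, 5, 4, 3, 5, 4, 5, 4, 6],
  [3, 2, 4, 3, 5, 4, 3, 6, 5, 4, 3, 5, 4, 6, 5, 4, 7, 6, 5, 4, 3, 5, 4, 5, 6, 7],
  [3, 2, 4, 3, 5, 4, 3, 6, 5, 4, 3, 5, 4, 6, 5, 7, 6, 5, 4, 3, 2, 5, 4, 3, 5, 4],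
  [3, 2, 4, 3, 5, 4, 3, 6, 5, 4, 3, 5, 4, 6, 5, 7, 6, 5, 4, 3, 2, 5, 4, 3, 5, 6],
  [3, 2, 4, 3, 5, 4, 3, 6, 5, 4, 3, 5, 4, 6, 5, 7, 6, 5, 4, 3, 2, 5, 4, 5, 6, 7],
  [3, 2, 4, 3, 5, 4, 3, 6, 5, 4, 3, 5, 4, 6, 5, 7, 6, 5, 4, 3, 5, 4, 5, 4, 3, 6],
  [3, 2, 4, 3, 5, 4, 3, 6, 5, 4, 3, 5, 4, 7, 6, 5, 4, 3, 2, 5, 4, 3, 6, 5, 7, 6],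
  [3, 2, 4, 3, 5, 4, 3, 6, 5, 4, 3, 5, 4, 7, 6, 5, 4, 3, 5, 4, 6, 5, 4, 3, 7, 6],
  [3, 2, 4, 3, 5, 4, 3, 6, 5, 4, 3, 5, 4, 7, 6, 5, 4, 3, 5, 4, 6, 5, 4, 7, 6, 5],
  [3, 2, 4, 3, 5, 4, 3, 6, 5, 4, 3, 5, 7, 6, 5, 4, 3, 5, 4, 3, 6, 5, 4, 3, 2, 5],
  [3, 2, 4, 3, 5, 4, 3, 6, 5, 4, 3, 5, 7, 6, 5, 4, 3, 5, 4, 3, 6, 5, 4, 3, 5, 4],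
  [3, 2, 4, 3, 5, 4, 3, 6, 5, 4, 3, 5, 7, 6, 5, 4, 3, 5, 4, 3, 6, 5, 4, 3, 5, 6],
  [3, 2, 4, 3, 5, 4, 3, 6, 5, 4, 3, 7, 6, 5, 4, 3, 2, 5, 4, 3, 6, 5, 4, 3, 2, 5],
  [3, 2, 4, 3, 5, 4, 3, 6, 5, 4, 3, 7, 6, 5, 4, 3, 2, 5, 4, 3, 6, 5, 4, 3, 5, 6],
  [3, 2, 4, 3, 5, 4, 3, 6, 5, 4, 3, 7, 6, 5, 4, 3, 2, 5, 4, 3, 6, 5, 4, 5, 6, 7],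
  [3, 2, 4, 3, 5, 4, 3, 6, 5, 4, 3, 7, 6, 5, 4, 3, 2, 5, 4, 3, 6, 5, 4, 7, 6, 5],
  [3, 2, 4, 3, 5, 4, 5, 6, 5, 4, 3, 5, 4, 3, 5, 6, 5, 4, 3, 2, 5, 4, 3, 5, 6, 7],
  [3, 2, 4, 3, 5, 4, 5, 6, 5, 4, 3, 5, 4, 3, 5, 6, 5, 4, 3, 5, 4, 5, 4, 6, 5, 7],
  [3, 2, 4, 3, 5, 4, 5, 6, 5, 4, 3, 5, 4, 5, 6, 5, 4, 3, 5, 4, 5, 6, 7, 6, 5, 4],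
  [3, 2, 4, 3, 5, 4, 5, 6, 5, 4, 3, 5, 4, 5, 6, 5, 4, 3, 5, 4, 5, 7, 6, 5, 4, 3],
  [3, 2, 4, 5, 4, 3, 2, 6, 5, 4, 3, 5, 4, 5, 6, 5, 4, 3, 7, 6, 5, 4, 3, 2, 5, 4],
  [3, 2, 4, 5, 4, 3, 2, 6, 5, 4, 3, 5, 4, 5, 6, 5, 4, 3, 7, 6, 5, 4, 3, 2, 5, 6],
  [3, 2, 4, 5, 4, 3, 2, 6, 5, 4, 3, 5, 4, 5, 6, 5, 4, 3, 7, 6, 5, 4, 3, 5, 4, 5],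
  [3, 2, 4, 5, 4, 3, 2, 6, 5, 4, 3, 5, 4, 5, 6, 5, 4, 3, 7, 6, 5, 4, 3, 5, 4, 6],
  [3, 2, 4, 5, 4, 3, 2, 6, 5, 4, 3, 5, 4, 5, 6, 5, 4, 3, 7, 6, 5, 4, 3, 5, 6, 7],
  [3, 2, 4, 5, 4, 3, 2, 6, 5, 4, 3, 5, 4, 6, 5, 4, 3, 5, 4, 5, 4, 6, 5, 4, 5, 6],
  [3, 2, 4, 5, 4, 3, 2, 6, 5, 4, 3, 5, 4, 6, 5, 4, 3, 5, 4, 5, 4, 6, 5, 4, 7, 6],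
  [3, 2, 4, 5, 4, 3, 2, 6, 5, 4, 3, 5, 4, 6, 5, 4, 3, 5, 4, 5, 6, 5, 4, 5, 4, 3],
  [3, 2, 4, 5, 4, 3, 2, 6, 5, 4, 3, 5, 4, 6, 5, 4, 3, 5, 4, 5, 6, 5, 4, 5, 4, 6],
  [3, 2, 4, 5, 4, 3, 2, 6, 5, 4, 3, 5, 4, 6, 5, 4, 3, 7, 6, 5, 4, 3, 2, 5, 4, 3],
  [3, 2, 4, 5, 4, 3, 2, 6, 5, 4, 3, 5, 4, 6, 5, 4, 3, 7, 6, 5, 4, 3, 5, 4, 3, 2],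
  [3, 2, 4, 5, 4, 3, 2, 6, 5, 4, 3, 5, 4, 6, 5, 4, 3, 7, 6, 5, 4, 3, 5, 4, 3, 5],
  [3, 2, 4, 5, 4, 3, 2, 6, 5, 4, 3, 5, 4, 6, 5, 4, 3, 7, 6, 5, 4, 3, 5, 4, 3, 6],
  [3, 2, 4, 5, 4, 3, 2, 6, 5, 4, 3, 5, 4, 6, 5, 4, 3, 7, 6, 5, 4, 3, 5, 4, 6, 7],
  [3, 2, 4, 5, 4, 3, 2, 6, 5, 4, 3, 5, 4, 6, 5, 4, 3, 7, 6, 5, 4, 5, 4, 3, 6, 7],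
  [3, 2, 4, 5, 4, 3, 2, 6, 5, 4, 3, 5, 4, 6, 5, 4, 7, 6, 5, 4, 3, 2, 5, 4, 3, 5],
  [3, 2, 4, 5, 4, 3, 2, 6, 5, 4, 3, 5, 4, 6, 5, 4, 7, 6, 5, 4, 3, 2, 5, 4, 5, 6],
  [3, 2, 4, 5, 4, 3, 2, 6, 5, 4, 3, 5, 4, 6, 5, 4, 7, 6, 5, 4, 3, 5, 4, 5, 4, 3],
  [3, 2, 4, 5, 4, 3, 2, 6, 5, 4, 3, 5, 4, 6, 5, 4, 7, 6, 5, 4, 3, 5, 4, 5, 4, 6],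
  [3, 2, 4, 5, 4, 3, 6, 5, 4, 3, 5, 4, 3, 6, 5, 4, 3, 2, 5, 4, 6, 5, 7, 6, 5, 4],
  [3, 2, 4, 5, 4, 3, 6, 5, 4, 3, 5, 4, 3, 6, 5, 4, 3, 2, 5, 4, 6, 7, 6, 5, 4, 3],
  [3, 2, 4, 5, 4, 3, 6, 5, 4, 3, 5, 4, 3, 6, 5, 4, 3, 2, 5, 4, 7, 6, 5, 4, 3, 5],
  [3, 2, 4, 5, 4, 3, 6, 5, 4, 3, 5, 4, 3, 6, 5, 4, 3, 2, 5, 4, 7, 6, 5, 4, 5, 6],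
  [3, 2, 4, 5, 4, 3, 6, 5, 4, 3, 5, 4, 3, 6, 5, 4, 3, 2, 5, 6, 7, 6, 5, 4, 5, 6]]
def ows1c26 : List (List Nat) := [[3, 2, 4, 5, 4, 3, 6, 5, 4, 3, 5, 4, 3, 6, 5, 4, 3, 2, 5, 7, 6, 5, 4, 5, 4, 3],
  [3, 2, 4, 5, 4, 3, 6, 5, 4, 3, 5, 4, 3, 6, 5, 4, 3, 5, 4, 3, 5, 6, 5, 4, 3, 5],
  [3, 2, 4, 5, 4, 3, 6, 5, 4, 3, 5, 4, 3, 6, 5, 4, 3, 5, 4, 3, 5, 6, 5, 4, 5, 6],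
  [3, 2, 4, 5, 4, 3, 6, 5, 4, 3, 5, 4, 3, 6, 5, 4, 3, 5, 4, 3, 6, 5, 4, 3, 5, 4],
  [3, 2, 4, 5, 4, 3, 6, 5, 4, 3, 5, 4, 3, 6, 5, 4, 3, 5, 4, 3, 6, 5, 4, 3, 5, 6],
  [3, 2, 4, 5, 4, 3, 6, 5, 4, 3, 5, 4, 3, 6, 5, 4, 3, 5, 4, 3, 6, 5, 4, 3, 7, 6],
  [3, 2, 4, 5, 4, 3, 6, 5, 4, 3, 5, 4, 3, 6, 5, 4, 3, 5, 4, 3, 6, 5, 4, 5, 6, 7],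
  [3, 2, 4, 5, 4, 3, 6, 5, 4, 3, 5, 4, 3, 6, 5, 4, 3, 5, 4, 5, 6, 5, 7, 6, 5, 4],
  [3, 2, 4, 5, 4, 3, 6, 5, 4, 3, 5, 4, 3, 6, 5, 4, 3, 5, 4, 5, 7, 6, 5, 4, 5, 6],
  [3, 2, 4, 5, 4, 3, 6, 5, 4, 3, 5, 4, 3, 6, 5, 4, 3, 5, 4, 6, 5, 4, 3, 5, 4, 5],
  [3, 2, 4, 5, 4, 3, 6, 5, 4, 3, 5, 4, 3, 6, 5, 4, 3, 5, 4, 6, 5, 4, 3, 5, 4, 6],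
  [3, 2, 4, 5, 4, 3, 6, 5, 4, 3, 5, 4, 3, 6, 5, 4, 3, 5, 4, 6, 5, 7, 6, 5, 4, 3],
  [3, 2, 4, 5, 4, 3, 6, 5, 4, 3, 5, 4, 3, 6, 5, 4, 3, 5, 4, 7, 6, 5, 4, 3, 2, 5],
  [3, 2, 4, 5, 4, 3, 6, 5, 4, 3, 5, 4, 3, 6, 5, 4, 3, 5, 4, 7, 6, 5, 4, 3, 5, 6],
  [3, 2, 4, 5, 4, 3, 6, 5, 4, 3, 5, 4, 3, 6, 5, 4, 3, 5, 7, 6, 5, 4, 3, 5, 4, 3],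
  [3, 2, 4, 5, 4, 3, 6, 5, 4, 3, 5, 4, 3, 6, 5, 4, 3, 5, 7, 6, 5, 4, 5, 4, 3, 2],
  [3, 2, 4, 5, 4, 3, 6, 5, 4, 3, 5, 4, 6, 5, 4, 3, 2, 5, 4, 3, 5, 4, 6, 5, 7, 6],
  [3, 2, 4, 5, 4, 3, 6, 5, 4, 5, 4, 3, 2, 6, 5, 4, 3, 5, 4, 5, 4, 6, 5, 4, 7, 6],
  [3, 2, 4, 5, 4, 3, 6, 5, 4, 5, 4, 3, 2, 6, 5, 4, 3, 5, 4, 5, 6, 5, 4, 3, 7, 6],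
  [3, 4, 5, 4, 3, 2, 6, 5, 4, 3, 2, 5, 4, 3, 6, 5, 4, 3, 5, 4, 6, 5, 4, 7, 6, 5],
  [3, 4, 5, 4, 3, 2, 6, 5, 4, 3, 2, 5, 4, 5, 6, 5, 4, 3, 5, 4, 5, 6, 7, 6, 5, 4],
  [3, 4, 5, 4, 3, 2, 6, 5, 4, 3, 5, 4, 5, 4, 6, 5, 4, 3, 2, 5, 4, 3, 6, 5, 4, 7],
  [3, 4, 5, 4, 3, 2, 6, 5, 4, 3, 5, 4, 5, 4, 6, 5, 4, 3, 2, 5, 4, 3, 6, 5, 7, 6],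
  [3, 4, 5, 4, 3, 2, 6, 5, 4, 3, 5, 4, 5, 4, 6, 5, 4, 3, 2, 7, 6, 5, 4, 3, 5, 6],
  [3, 4, 5, 4, 3, 2, 6, 5, 4, 3, 5, 4, 5, 4, 6, 5, 4, 3, 5, 4, 6, 5, 4, 7, 6, 5],
  [3, 4, 5, 4, 3, 2, 6, 5, 4, 3, 7, 6, 5, 4, 3, 5, 4, 6, 5, 4, 3, 7, 6, 5, 4, 5],
  [3, 4, 5, 4, 3, 6, 5, 4, 3, 2, 5, 4, 3, 2, 6, 5, 4, 3, 5, 4, 5, 6, 5, 4, 7, 6],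
  [3, 4, 5, 4, 3, 6, 5, 4, 3, 2, 5, 4, 3, 2, 6, 5, 4, 3, 5, 4, 6, 5, 4, 3, 7, 6],
  [3, 4, 5, 4, 3, 6, 5, 4, 3, 2, 5, 4, 3, 2, 6, 5, 4, 3, 5, 4, 6, 5, 4, 7, 6, 5],
  [3, 4, 5, 4, 3, 6, 5, 4, 3, 5, 4, 3, 5, 6, 5, 4, 3, 5, 4, 3, 6, 5, 4, 3, 5, 7],
  [3, 4, 5, 4, 3, 6, 5, 4, 3, 5, 4, 3, 5, 6, 5, 4, 3, 5, 4, 3, 6, 5, 4, 5, 7, 6],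
  [3, 4, 5, 4, 3, 6, 5, 4, 3, 5, 4, 3, 5, 6, 5, 4, 3, 5, 4, 6, 5, 4, 3, 2, 5, 4],
  [3, 4, 5, 4, 3, 6, 5, 4, 3, 5, 4, 3, 5, 6, 5, 4, 3, 5, 4, 6, 5, 4, 3, 5, 4, 5],
  [3, 4, 5, 4, 3, 6, 5, 4, 3, 5, 4, 3, 5, 6, 5, 4, 3, 5, 4, 6, 5, 4, 3, 5, 4, 6],
  [3, 4, 5, 4, 3, 6, 5, 4, 3, 5, 4, 3, 5, 6, 5, 4, 5, 4, 3, 6, 5, 4, 5, 4, 6, 7],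
  [3, 4, 5, 4, 3, 6, 5, 4, 3, 5, 4, 3, 6, 5, 4, 3, 2, 5, 4, 3, 6, 5, 4, 3, 2, 5],
  [3, 4, 5, 4, 3, 6, 5, 4, 3, 5, 4, 3, 6, 5, 4, 3, 2, 5, 4, 3, 6, 5, 4, 3, 5, 4],
  [3, 4, 5, 4, 3, 6, 5, 4, 3, 5, 4, 3, 6, 5, 4, 3, 2, 5, 4, 3, 6, 5, 4, 5, 6, 7],
  [3, 4, 5, 4, 3, 6, 5, 4, 3, 5, 4, 3, 6, 5, 4, 3, 2, 5, 4, 3, 6, 5, 4, 5, 7, 6],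
  [3, 4, 5, 4, 3, 6, 5, 4, 3, 5, 4, 3, 6, 5, 4, 3, 2, 5, 4, 3, 6, 5, 4, 7, 6, 5],
  [3, 4, 5, 4, 3, 6, 5, 4, 3, 5, 6, 7, 6, 5, 4, 3, 2, 5, 4, 3, 6, 5, 4, 5, 6, 7],
  [3, 4, 5, 4, 3, 6, 5, 4, 5, 4, 3, 6, 5, 4, 3, 2, 5, 4, 3, 6, 5, 4, 5, 4, 3, 6],
  [3, 4, 5, 4, 3, 6, 5, 4, 5, 4, 3, 6, 5, 4, 3, 2, 5, 4, 3, 6, 5, 4, 5, 4, 6, 5],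
  [3, 4, 5, 4, 3, 6, 5, 4, 5, 4, 3, 6, 5, 4, 3, 7, 6, 5, 4, 3, 5, 4, 6, 5, 4, 3],
  [3, 4, 5, 4, 3, 6, 5, 4, 5, 4, 3, 6, 5, 4, 3, 7, 6, 5, 4, 3, 5, 4, 6, 5, 4, 7],
  [3, 4, 5, 4, 3, 6, 5, 4, 5, 4, 6, 5, 4, 3, 2, 5, 4, 3, 5, 4, 6, 5, 4, 7, 6, 5],
  [3, 4, 5, 4, 3, 6, 5, 4, 5, 7, 6, 5, 4, 3, 2, 5, 4, 3, 5, 4, 5, 6, 5, 4, 5, 4],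
  [3, 4, 5, 4, 3, 6, 5, 4, 5, 7, 6, 5, 4, 3, 2, 5, 4, 3, 5, 4, 5, 6, 5, 4, 5, 6],
  [3, 4, 5, 4, 3, 6, 5, 4, 5, 7, 6, 5, 4, 3, 2, 5, 4, 3, 5, 4, 5, 6, 5, 4, 7, 6],
  [3, 4, 5, 4, 3, 6, 5, 4, 5, 7, 6, 5, 4, 3, 2, 5, 4, 3, 5, 4, 6, 5, 4, 5, 6, 7],
  [3, 4, 5, 4, 3, 6, 5, 4, 5, 7, 6, 5, 4, 3, 2, 5, 4, 3, 5, 4, 6, 5, 4, 7, 6, 5],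
  [3, 4, 5, 4, 3, 6, 5, 4, 5, 7, 6, 5, 4, 3, 2, 5, 4, 3, 5, 6, 5, 4, 5, 4, 3, 6],
  [3, 4, 5, 4, 3, 6, 5, 4, 5, 7, 6, 5, 4, 3, 2, 5, 4, 3, 5, 6, 5, 4, 5, 4, 6, 5],
  [3, 4, 5, 4, 3, 6, 5, 4, 5, 7, 6, 5, 4, 3, 2, 5, 4, 3, 5, 6, 5, 4, 5, 4, 6, 7],
  [3, 4, 5, 4, 3, 6, 5, 4, 5, 7, 6, 5, 4, 3, 2, 5, 4, 3, 5, 6, 5, 4, 5, 6, 7, 6],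
  [3, 4, 5, 4, 6, 5, 4, 3, 2, 5, 4, 3, 5, 4, 6, 5, 4, 3, 2, 7, 6, 5, 4, 3, 2, 5],
  [3, 4, 5, 4, 6, 5, 4, 3, 2, 5, 4, 3, 5, 4, 6, 5, 4, 3, 2, 7, 6, 5, 4, 3, 5, 4],
  [3, 4, 5, 4, 6, 5, 4, 3, 5, 4, 5, 4, 3, 6, 5, 4, 3, 5, 4, 6, 5, 4, 3, 5, 4, 6],
  [3, 2, 4, 3, 5, 4, 3, 2, 5, 6, 5, 4, 3, 5, 4, 3, 5, 6, 5, 4, 3, 5, 4, 5, 6, 5, 4],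
  [3, 2, 4, 3, 5, 4, 3, 2, 5, 6, 5, 4, 3, 5, 4, 3, 5, 6, 5, 4, 3, 5, 4, 6, 5, 4, 3],
  [3, 2, 4, 3, 5, 4, 3, 2, 5, 6, 5, 4, 3, 5, 4, 5, 6, 5, 4, 3, 5, 4, 5, 7, 6, 5, 4],
  [3, 2, 4, 3, 5, 4, 3, 2, 5, 6, 5, 4, 3, 5, 4, 5, 6, 5, 4, 3, 5, 4, 7, 6, 5, 4, 3],
  [3, 2, 4, 3, 5, 4, 3, 2, 6, 5, 4, 3, 2, 7, 6, 5, 4, 3, 5, 4, 5, 6, 5, 4, 3, 5, 6],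
  [3, 2, 4, 3, 5, 4, 3, 2, 6, 5, 4, 3, 2, 7, 6, 5, 4, 3, 5, 4, 5, 6, 5, 4, 5, 6, 7],
  [3, 2, 4, 3, 5, 4, 3, 2, 6, 5, 4, 3, 7, 6, 5, 4, 3, 5, 4, 3, 2, 6, 5, 4, 3, 5, 4],
  [3, 2, 4, 3, 5, 4, 3, 2, 6, 5, 4, 3, 7, 6, 5, 4, 3, 5, 4, 3, 2, 6, 5, 4, 3, 5, 6],
  [3, 2, 4, 3, 5, 4, 3, 2, 6, 5, 4, 3, 7, 6, 5, 4, 3, 5, 4, 3, 2, 6, 5, 4, 5, 6, 7],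
  [3, 2, 4, 3, 5, 4, 3, 2, 6, 5, 4, 3, 7, 6, 5, 4, 3, 5, 4, 3, 2, 6, 5, 4, 7, 6, 5],
  [3, 2, 4, 3, 5, 4, 3, 2, 6, 5, 4, 3, 7, 6, 5, 4, 5, 4, 3, 6, 5, 4, 3, 5, 4, 7, 6],
  [3, 2, 4, 3, 5, 4, 3, 2, 6, 5, 4, 3, 7, 6, 5, 4, 5, 4, 3, 6, 5, 4, 5, 4, 3, 6, 5],
  [3, 2, 4, 3, 5, 4, 3, 2, 6, 5, 4, 3, 7, 6, 5, 4, 5, 4, 3, 6, 5, 4, 5, 4, 3, 6, 7],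
  [3, 2, 4, 3, 5, 4, 3, 2, 6, 5, 4, 3, 7, 6, 5, 4, 5, 4, 3, 6, 5, 4, 5, 4, 6, 5, 7],
  [3, 2, 4, 3, 5, 4, 3, 2, 6, 5, 4, 3, 7, 6, 5, 4, 5, 4, 6, 5, 4, 3, 5, 4, 5, 4, 3],
  [3, 2, 4, 3, 5, 4, 3, 2, 6, 5, 4, 3, 7, 6, 5, 4, 5, 4, 6, 5, 4, 3, 5, 4, 5, 4, 6],
  [3, 2, 4, 3, 5, 4, 3, 5, 6, 5, 4, 3, 2, 5, 4, 3, 5, 6, 5, 4, 3, 2, 5, 4, 3, 5, 6],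
  [3, 2, 4, 3, 5, 4, 3, 5, 6, 5, 4, 3, 2, 5, 4, 3, 5, 6, 5, 4, 3, 2, 5, 4, 5, 6, 7],
  [3, 2, 4, 3, 5, 4, 3, 5, 6, 5, 4, 3, 2, 5, 4, 3, 5, 6, 5, 4, 3, 5, 4, 3, 5, 6, 7],
  [3, 2, 4, 3, 5, 4, 3, 5, 6, 5, 4, 3, 2, 5, 4, 3, 5, 6, 5, 4, 3, 5, 4, 5, 4, 3, 6],
  [3, 2, 4, 3, 5, 4, 3, 5, 6, 5, 4, 3, 2, 5, 4, 3, 5, 6, 5, 4, 3, 5, 4, 5, 4, 6, 7],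
  [3, 2, 4, 3, 5, 4, 3, 5, 6, 5, 4, 3, 2, 5, 4, 3, 5, 6, 5, 4, 3, 5, 4, 5, 6, 5, 7],
  [3, 2, 4, 3, 5, 4, 3, 5, 6, 5, 4, 3, 2, 5, 4, 5, 6, 5, 4, 3, 2, 5, 4, 3, 2, 5, 6],
  [3, 2, 4, 3, 5, 4, 3, 5, 6, 5, 4, 3, 2, 5, 4, 5, 6, 5, 4, 3, 2, 5, 4, 3, 5, 6, 7],
  [3, 2, 4, 3, 5, 4, 3, 5, 6, 5, 4, 3, 2, 5, 4, 5, 6, 5, 4, 3, 5, 4, 3, 2, 5, 6, 7],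
  [3, 2, 4, 3, 5, 4, 3, 5, 6, 5, 4, 3, 2, 5, 6, 7, 6, 5, 4, 3, 5, 4, 5, 6, 5, 4, 5],
  [3, 2, 4, 3, 5, 4, 3, 5, 6, 5, 4, 3, 2, 5, 6, 7, 6, 5, 4, 3, 5, 4, 5, 6, 5, 4, 7],
  [3, 2, 4, 3, 5, 4, 3, 5, 6, 5, 4, 3, 5, 4, 3, 5, 6, 5, 4, 3, 5, 4, 5, 4, 3, 6, 7],
  [3, 2, 4, 3, 5, 4, 3, 5, 6, 5, 4, 3, 5, 4, 3, 5, 6, 5, 4, 3, 5, 4, 5, 6, 5, 4, 3],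
  [3, 2, 4, 3, 5, 4, 3, 5, 6, 5, 4, 3, 5, 4, 3, 5, 6, 5, 4, 3, 5, 4, 5, 6, 5, 4, 5],
  [3, 2, 4, 3, 5, 4, 3, 5, 6, 5, 4, 3, 5, 4, 5, 4, 3, 6, 5, 4, 3, 5, 4, 3, 5, 6, 7],
  [3, 2, 4, 3, 5, 4, 3, 5, 6, 5, 4, 3, 5, 4, 5, 4, 3, 6, 5, 4, 3, 5, 7, 6, 5, 4, 5],
  [3, 2, 4, 3, 5, 4, 3, 5, 6, 5, 4, 3, 5, 4, 5, 4, 3, 6, 5, 4, 3, 7, 6, 5, 4, 3, 5],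
  [3, 2, 4, 3, 5, 4, 3, 5, 6, 5, 4, 3, 5, 4, 5, 4, 3, 6, 5, 4, 3, 7, 6, 5, 4, 5, 6],
  [3, 2, 4, 3, 5, 4, 3, 5, 6, 5, 4, 3, 5, 4, 5, 4, 6, 5, 4, 3, 2, 5, 4, 3, 5, 6, 7],
  [3, 2, 4, 3, 5, 4, 3, 5, 6, 5, 4, 3, 5, 4, 5, 4, 6, 5, 4, 3, 2, 7, 6, 5, 4, 3, 5],
  [3, 2, 4, 3, 5, 4, 3, 5, 6, 5, 4, 3, 5, 4, 5, 4, 6, 5, 4, 3, 2, 7, 6, 5, 4, 5, 6],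
  [3, 2, 4, 3, 5, 4, 3, 5, 6, 5, 4, 3, 5, 4, 5, 4, 6, 5, 4, 3, 5, 4, 5, 4, 6, 5, 4],
  [3, 2, 4, 3, 5, 4, 3, 5, 6, 5, 4, 3, 5, 4, 5, 4, 6, 5, 4, 3, 7, 6, 5, 4, 5, 6, 7],
  [3, 2, 4, 3, 5, 4, 3, 5, 6, 5, 4, 3, 5, 4, 5, 6, 5, 4, 3, 5, 4, 3, 5, 6, 5, 4, 3],
  [3, 2, 4, 3, 5, 4, 3, 5, 6, 5, 4, 3, 5, 4, 5, 6, 5, 4, 3, 5, 4, 3, 6, 5, 4, 3, 5],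
  [3, 2, 4, 3, 5, 4, 3, 5, 6, 5, 4, 3, 5, 4, 5, 6, 5, 4, 3, 5, 4, 3, 6, 5, 4, 5, 6],
  [3, 2, 4, 3, 5, 4, 3, 6, 5, 4, 3, 2, 5, 6, 7, 6, 5, 4, 3, 5, 4, 5, 6, 5, 4, 5, 6],
  [3, 2, 4, 3, 5, 4, 3, 6, 5, 4, 3, 2, 5, 6, 7, 6, 5, 4, 3, 5, 4, 5, 6, 5, 4, 7, 6],
  [3, 2, 4, 3, 5, 4, 3, 6, 5, 4, 3, 2, 5, 6, 7, 6, 5, 4, 3, 5, 4, 6, 5, 4, 5, 6, 7],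
  [3, 2, 4, 3, 5, 4, 3, 6, 5, 4, 3, 2, 5, 6, 7, 6, 5, 4, 3, 5, 4, 6, 5, 4, 7, 6, 5],
  [3, 2, 4, 3, 5, 4, 3, 6, 5, 4, 3, 2, 5, 7, 6, 5, 4, 3, 5, 4, 3, 2, 6, 5, 4, 3, 5],
  [3, 2, 4, 3, 5, 4, 3, 6, 5, 4, 3, 2, 5, 7, 6, 5, 4, 3, 5, 4, 3, 2, 6, 5, 4, 3, 7],
  [3, 2, 4, 3, 5, 4, 3, 6, 5, 4, 3, 2, 5, 7, 6, 5, 4, 3, 5, 4, 3, 2, 6, 5, 4, 5, 6],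
  [3, 2, 4, 3, 5, 4, 3, 6, 5, 4, 3, 2, 5, 7, 6, 5, 4, 3, 5, 4, 3, 2, 6, 5, 4, 7, 6],
  [3, 2, 4, 3, 5, 4, 3, 6, 5, 4, 3, 2, 5, 7, 6, 5, 4, 3, 5, 4, 3, 5, 6, 5, 4, 3, 7],
  [3, 2, 4, 3, 5, 4, 3, 6, 5, 4, 3, 2, 5, 7, 6, 5, 4, 3, 5, 4, 3, 5, 6, 5, 4, 7, 6],
  [3, 2, 4, 3, 5, 4, 3, 6, 5, 4, 3, 2, 5, 7, 6, 5, 4, 3, 5, 4, 3, 6, 5, 4, 3, 2, 5],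
  [3, 2, 4, 3, 5, 4, 3, 6, 5, 4, 3, 2, 5, 7, 6, 5, 4, 3, 5, 4, 3, 6, 5, 4, 3, 2, 7],
  [3, 2, 4, 3, 5, 4, 3, 6, 5, 4, 3, 2, 5, 7, 6, 5, 4, 3, 5, 4, 3, 6, 5, 4, 3, 5, 4],
  [3, 2, 4, 3, 5, 4, 3, 6, 5, 4, 3, 2, 5, 7, 6, 5, 4, 3, 5, 4, 3, 6, 5, 4, 3, 5, 6],
  [3, 2, 4, 3, 5, 4, 3, 6, 5, 4, 3, 2, 5, 7, 6, 5, 4, 3, 5, 4, 3, 6, 5, 4, 3, 5, 7],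
  [3, 2, 4, 3, 5, 4, 3, 6, 5, 4, 3, 2, 5, 7, 6, 5, 4, 3, 5, 4, 3, 6, 5, 4, 3, 7, 6],
  [3, 2, 4, 3, 5, 4, 3, 6, 5, 4, 3, 2, 5, 7, 6, 5, 4, 3, 5, 4, 3, 6, 5, 4, 5, 4, 3],
  [3, 2, 4, 3, 5, 4, 3, 6, 5, 4, 3, 2, 5, 7, 6, 5, 4, 3, 5, 4, 3, 6, 5, 4, 5, 4, 6],
  [3, 2, 4, 3, 5, 4, 3, 6, 5, 4, 3, 2, 5, 7, 6, 5, 4, 3, 5, 4, 3, 6, 5, 4, 5, 6, 7],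
  [3, 2, 4, 3, 5, 4, 3, 6, 5, 4, 3, 2, 5, 7, 6, 5, 4, 3, 5, 4, 3, 6, 5, 4, 5, 7, 6],
  [3, 2, 4, 3, 5, 4, 3, 6, 5, 4, 3, 2, 5, 7, 6, 5, 4, 3, 5, 4, 3, 6, 5, 4, 7, 6, 5],
  [3, 2, 4, 3, 5, 4, 3, 6, 5, 4, 3, 2, 5, 7, 6, 5, 4, 3, 5, 4, 5, 6, 5, 4, 3, 5, 4],
  [3, 2, 4, 3, 5, 4, 3, 6, 5, 4, 3, 2, 5, 7, 6, 5, 4, 3, 5, 4, 5, 6, 5, 4, 3, 5, 7],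
  [3, 2, 4, 3, 5, 4, 3, 6, 5, 4, 3, 2, 5, 7, 6, 5, 4, 3, 5, 4, 5, 6, 5, 4, 3, 7, 6],
  [3, 2, 4, 3, 5, 4, 3, 6, 5, 4, 3, 2, 5, 7, 6, 5, 4, 3, 5, 4, 5, 6, 5, 4, 5, 7, 6],
  [3, 2, 4, 3, 5, 4, 3, 6, 5, 4, 3, 2, 5, 7, 6, 5, 4, 3, 5, 4, 5, 6, 5, 4, 7, 6, 5],
  [3, 2, 4, 3, 5, 4, 3, 6, 5, 4, 3, 2, 5, 7, 6, 5, 4, 3, 5, 4, 6, 5, 4, 3, 2, 7, 6],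
  [3, 2, 4, 3, 5, 4, 3, 6, 5, 4, 3, 2, 5, 7, 6, 5, 4, 3, 5, 4, 6, 5, 4, 3, 7, 6, 5],
  [3, 2, 4, 3, 5, 4, 3, 6, 5, 4, 3, 2, 5, 7, 6, 5, 4, 5, 4, 3, 2, 6, 5, 4, 3, 5, 4],
  [3, 2, 4, 3, 5, 4, 3, 6, 5, 4, 3, 2, 5, 7, 6, 5, 4, 5, 4, 3, 2, 6, 5, 4, 3, 5, 6],
  [3, 2, 4, 3, 5, 4, 3, 6, 5, 4, 3, 2, 5, 7, 6, 5, 4, 5, 4, 3, 2, 6, 5, 4, 5, 6, 7],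
  [3, 2, 4, 3, 5, 4, 3, 6, 5, 4, 3, 2, 5, 7, 6, 5, 4, 5, 4, 3, 6, 5, 4, 5, 4, 3, 2],
  [3, 2, 4, 3, 5, 4, 3, 6, 5, 4, 3, 2, 5, 7, 6, 5, 4, 5, 4, 3, 6, 5, 4, 5, 4, 3, 6],
  [3, 2, 4, 3, 5, 4, 3, 6, 5, 4, 3, 2, 5, 7, 6, 5, 4, 5, 4, 3, 6, 5, 4, 5, 4, 6, 5],
  [3, 2, 4, 3, 5, 4, 3, 6, 5, 4, 3, 2, 5, 7, 6, 5, 4, 5, 4, 3, 6, 5, 4, 5, 4, 6, 7],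
  [3, 2, 4, 3, 5, 4, 3, 6, 5, 4, 3, 2, 5, 7, 6, 5, 4, 5, 4, 3, 6, 5, 4, 5, 6, 7, 6],
  [3, 2, 4, 3, 5, 4, 3, 6, 5, 4, 3, 2, 7, 6, 5, 4, 3, 2, 5, 4, 3, 6, 5, 4, 3, 5, 4],
  [3, 2, 4, 3, 5, 4, 3, 6, 5, 4, 3, 2, 7, 6, 5, 4, 3, 5, 4, 5, 4, 6, 5, 4, 3, 2, 5],
  [3, 2, 4, 3, 5, 4, 3, 6, 5, 4, 3, 2, 7, 6, 5, 4, 3, 5, 4, 5, 4, 6, 5, 4, 3, 5, 4],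
  [3, 2, 4, 3, 5, 4, 3, 6, 5, 4, 3, 2, 7, 6, 5, 4, 3, 5, 4, 5, 4, 6, 5, 4, 3, 5, 6],
  [3, 2, 4, 3, 5, 4, 3, 6, 5, 4, 3, 2, 7, 6, 5, 4, 3, 5, 4, 5, 4, 6, 5, 4, 5, 6, 7],
  [3, 2, 4, 3, 5, 4, 3, 6, 5, 4, 3, 2, 7, 6, 5, 4, 3, 5, 4, 5, 6, 5, 4, 5, 4, 3, 6],
  [3, 2, 4, 3, 5, 4, 3, 6, 5, 4, 3, 2, 7, 6, 5, 4, 3, 5, 4, 5, 6, 5, 4, 5, 4, 6, 5],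
  [3, 2, 4, 3, 5, 4, 3, 6, 5, 4, 3, 2, 7, 6, 5, 4, 3, 5, 4, 5, 6, 5, 4, 5, 4, 6, 7],
  [3, 2, 4, 3, 5, 4, 3, 6, 5, 4, 3, 5, 4, 3, 6, 5, 4, 3, 5, 4, 6, 5, 4, 3, 5, 4, 5],
  [3, 2, 4, 3, 5, 4, 3, 6, 5, 4, 3, 5, 4, 6, 5, 4, 3, 2, 7, 6, 5, 4, 3, 2, 5, 4, 6],
  [3, 2, 4, 3, 5, 4, 3, 6, 5, 4, 3, 5, 4, 6, 5, 4, 3, 7, 6, 5, 4, 3, 5, 4, 3, 2, 6],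
  [3, 2, 4, 3, 5, 4, 3, 6, 5, 4, 3, 5, 4, 6, 5, 4, 3, 7, 6, 5, 4, 3, 5, 4, 3, 5, 4],
  [3, 2, 4, 3, 5, 4, 3, 6, 5, 4, 3, 5, 4, 6, 5, 4, 7, 6, 5, 4, 3, 2, 5, 4, 3, 5, 4],
  [3, 2, 4, 3, 5, 4, 3, 6, 5, 4, 3, 5, 4, 6, 5, 4, 7, 6, 5, 4, 3, 2, 5, 4, 3, 5, 6],
  [3, 2, 4, 3, 5, 4, 3, 6, 5, 4, 3, 5, 4, 6, 5, 7, 6, 5, 4, 3, 2, 5, 4, 3, 5, 4, 5],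
  [3, 2, 4, 3, 5, 4, 3, 6, 5, 4, 3, 5, 4, 6, 5, 7, 6, 5, 4, 3, 2, 5, 4, 3, 5, 4, 6],
  [3, 2, 4, 3, 5, 4, 3, 6, 5, 4, 3, 5, 4, 6, 5, 7, 6, 5, 4, 3, 2, 5, 4, 3, 5, 6, 7],
  [3, 2, 4, 3, 5, 4, 3, 6, 5, 4, 3, 5, 4, 7, 6, 5, 4, 3, 5, 4, 6, 5, 4, 7, 6, 5, 4],
  [3, 2, 4, 3, 5, 4, 3, 6, 5, 4, 3, 5, 7, 6, 5, 4, 3, 5, 4, 3, 6, 5, 4, 3, 5, 4, 6],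
  [3, 2, 4, 3, 5, 4, 3, 6, 5, 4, 3, 7, 6, 5, 4, 3, 2, 5, 4, 3, 6, 5, 4, 3, 2, 5, 6],
  [3, 2, 4, 3, 5, 4, 3, 6, 5, 4, 3, 7, 6, 5, 4, 3, 2, 5, 4, 3, 6, 5, 4, 3, 5, 6, 7],
  [3, 2, 4, 5, 4, 3, 2, 6, 5, 4, 3, 5, 4, 5, 6, 5, 4, 3, 7, 6, 5, 4, 3, 2, 5, 4, 3],
  [3, 2, 4, 5, 4, 3, 2, 6, 5, 4, 3, 5, 4, 5, 6, 5, 4, 3, 7, 6, 5, 4, 3, 2, 5, 4, 6],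
  [3, 2, 4, 5, 4, 3, 2, 6, 5, 4, 3, 5, 4, 5, 6, 5, 4, 3, 7, 6, 5, 4, 3, 5, 4, 5, 6],
  [3, 2, 4, 5, 4, 3, 2, 6, 5, 4, 3, 5, 4, 5, 6, 5, 4, 3, 7, 6, 5, 4, 3, 5, 4, 6, 5],
  [3, 2, 4, 5, 4, 3, 2, 6, 5, 4, 3, 5, 4, 5, 6, 5, 4, 3, 7, 6, 5, 4, 3, 5, 4, 6, 7],
  [3, 2, 4, 5, 4, 3, 2, 6, 5, 4, 3, 5, 4, 6, 5, 4, 3, 5, 4, 5, 4, 6, 5, 4, 5, 6, 7],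
  [3, 2, 4, 5, 4, 3, 2, 6, 5, 4, 3, 5, 4, 6, 5, 4, 3, 5, 4, 5, 4, 6, 5, 4, 7, 6, 5],
  [3, 2, 4, 5, 4, 3, 2, 6, 5, 4, 3, 5, 4, 6, 5, 4, 3, 5, 4, 5, 6, 5, 4, 5, 4, 6, 5],
  [3, 2, 4, 5, 4, 3, 2, 6, 5, 4, 3, 5, 4, 6, 5, 4, 3, 7, 6, 5, 4, 3, 5, 4, 3, 2, 5],
  [3, 2, 4, 5, 4, 3, 2, 6, 5, 4, 3, 5, 4, 6, 5, 4, 3, 7, 6, 5, 4, 3, 5, 4, 3, 6, 7],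
  [3, 2, 4, 5, 4, 3, 2, 6, 5, 4, 3, 5, 4, 6, 5, 4, 7, 6, 5, 4, 3, 2, 5, 4, 3, 5, 4],
  [3, 2, 4, 5, 4, 3, 2, 6, 5, 4, 3, 5, 4, 6, 5, 4, 7, 6, 5, 4, 3, 2, 5, 4, 3, 5, 6],
  [3, 2, 4, 5, 4, 3, 2, 6, 5, 4, 3, 5, 4, 6, 5, 4, 7, 6, 5, 4, 3, 5, 4, 5, 4, 3, 6],
  [3, 2, 4, 5, 4, 3, 2, 6, 5, 4, 3, 5, 4, 6, 5, 4, 7, 6, 5, 4, 3, 5, 4, 5, 4, 6, 5],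
  [3, 2, 4, 5, 4, 3, 6, 5, 4, 3, 5, 4, 3, 6, 5, 4, 3, 5, 4, 3, 5, 6, 5, 4, 3, 5, 4],
  [3, 2, 4, 5, 4, 3, 6, 5, 4, 3, 5, 4, 3, 6, 5, 4, 3, 5, 4, 3, 5, 6, 5, 4, 3, 5, 6],
  [3, 2, 4, 5, 4, 3, 6, 5, 4, 3, 5, 4, 3, 6, 5, 4, 3, 5, 4, 3, 6, 5, 4, 3, 5, 4, 6],
  [3, 2, 4, 5, 4, 3, 6, 5, 4, 3, 5, 4, 3, 6, 5, 4, 3, 5, 4, 3, 6, 5, 4, 3, 5, 6, 7],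
  [3, 2, 4, 5, 4, 3, 6, 5, 4, 3, 5, 4, 3, 6, 5, 4, 3, 5, 4, 6, 5, 4, 3, 5, 4, 5, 4],
  [3, 2, 4, 5, 4, 3, 6, 5, 4, 3, 5, 4, 3, 6, 5, 4, 3, 5, 4, 7, 6, 5, 4, 3, 2, 5, 6],
  [3, 4, 5, 4, 3, 2, 6, 5, 4, 3, 2, 5, 4, 3, 6, 5, 4, 3, 5, 4, 6, 5, 4, 7, 6, 5, 4],
  [3, 4, 5, 4, 3, 2, 6, 5, 4, 3, 5, 4, 5, 4, 6, 5, 4, 3, 5, 4, 6, 5, 4, 7, 6, 5, 4],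
  [3, 4, 5, 4, 3, 6, 5, 4, 3, 5, 4, 3, 5, 6, 5, 4, 3, 5, 4, 3, 6, 5, 4, 3, 5, 7, 6],
  [3, 4, 5, 4, 3, 6, 5, 4, 3, 5, 4, 3, 5, 6, 5, 4, 3, 5, 4, 6, 5, 4, 3, 2, 5, 4, 5],
  [3, 4, 5, 4, 3, 6, 5, 4, 3, 5, 4, 3, 5, 6, 5, 4, 3, 5, 4, 6, 5, 4, 3, 5, 4, 5, 4],
  [3, 4, 5, 4, 3, 6, 5, 4, 3, 5, 4, 3, 5, 6, 5, 4, 3, 5, 4, 6, 5, 4, 3, 5, 4, 5, 6],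
  [3, 4, 5, 4, 3, 6, 5, 4, 3, 5, 4, 3, 5, 6, 5, 4, 3, 5, 4, 6, 5, 4, 3, 5, 4, 6, 5],
  [3, 4, 5, 4, 3, 6, 5, 4, 3, 5, 4, 3, 6, 5, 4, 3, 2, 5, 4, 3, 6, 5, 4, 5, 7, 6, 5],
  [3, 4, 5, 4, 3, 6, 5, 4, 5, 4, 6, 5, 4, 3, 2, 5, 4, 3, 5, 4, 6, 5, 4, 7, 6, 5, 4],
  [3, 4, 5, 4, 3, 6, 5, 4, 5, 7, 6, 5, 4, 3, 2, 5, 4, 3, 5, 6, 5, 4, 5, 4, 3, 6, 7],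
  [3, 4, 5, 4, 6, 5, 4, 3, 2, 5, 4, 3, 5, 4, 6, 5, 4, 3, 2, 7, 6, 5, 4, 3, 2, 5, 4],
  [3, 4, 5, 4, 6, 5, 4, 3, 5, 4, 5, 4, 3, 6, 5, 4, 3, 5, 4, 6, 5, 4, 3, 5, 4, 6, 5],
  [3, 2, 4, 3, 5, 4, 3, 2, 5, 6, 5, 4, 3, 5, 4, 3, 5, 6, 5, 4, 3, 5, 4, 5, 6, 5, 4, 3],
  [3, 2, 4, 3, 5, 4, 3, 2, 5, 6, 5, 4, 3, 5, 4, 3, 5, 6, 5, 4, 3, 5, 4, 5, 6, 5, 4, 5],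
  [3, 2, 4, 3, 5, 4, 3, 2, 5, 6, 5, 4, 3, 5, 4, 5, 6, 5, 4, 3, 5, 4, 5, 7, 6, 5, 4, 3],
  [3, 2, 4, 3, 5, 4, 3, 2, 6, 5, 4, 3, 7, 6, 5, 4, 3, 5, 4, 3, 2, 6, 5, 4, 3, 5, 4, 6],
  [3, 2, 4, 3, 5, 4, 3, 2, 6, 5, 4, 3, 7, 6, 5, 4, 3, 5, 4, 3, 2, 6, 5, 4, 3, 5, 6, 7],
  [3, 2, 4, 3, 5, 4, 3, 2, 6, 5, 4, 3, 7, 6, 5, 4, 5, 4, 3, 6, 5, 4, 3, 5, 4, 7, 6, 5],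
  [3, 2, 4, 3, 5, 4, 3, 2, 6, 5, 4, 3, 7, 6, 5, 4, 5, 4, 3, 6, 5, 4, 5, 4, 3, 6, 5, 7],
  [3, 2, 4, 3, 5, 4, 3, 2, 6, 5, 4, 3, 7, 6, 5, 4, 5, 4, 6, 5, 4, 3, 5, 4, 5, 4, 3, 6],
  [3, 2, 4, 3, 5, 4, 3, 2, 6, 5, 4, 3, 7, 6, 5, 4, 5, 4, 6, 5, 4, 3, 5, 4, 5, 4, 6, 5],
  [3, 2, 4, 3, 5, 4, 3, 5, 6, 5, 4, 3, 2, 5, 4, 3, 5, 6, 5, 4, 3, 2, 5, 4, 3, 5, 6, 7],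
  [3, 2, 4, 3, 5, 4, 3, 5, 6, 5, 4, 3, 2, 5, 4, 3, 5, 6, 5, 4, 3, 5, 4, 5, 4, 3, 6, 7]]
def ows1c27 : List (List Nat) := [[3, 2, 4, 3, 5, 4, 3, 5, 6, 5, 4, 3, 2, 5, 4, 5, 6, 5, 4, 3, 2, 5, 4, 3, 2, 5, 6, 7],
  [3, 2, 4, 3, 5, 4, 3, 5, 6, 5, 4, 3, 5, 4, 5, 4, 3, 6, 5, 4, 3, 5, 7, 6, 5, 4, 5, 6],
  [3, 2, 4, 3, 5, 4, 3, 5, 6, 5, 4, 3, 5, 4, 5, 4, 3, 6, 5, 4, 3, 7, 6, 5, 4, 3, 5, 4],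
  [3, 2, 4, 3, 5, 4, 3, 5, 6, 5, 4, 3, 5, 4, 5, 4, 3, 6, 5, 4, 3, 7, 6, 5, 4, 3, 5, 6],
  [3, 2, 4, 3, 5, 4, 3, 5, 6, 5, 4, 3, 5, 4, 5, 4, 3, 6, 5, 4, 3, 7, 6, 5, 4, 5, 6, 7],
  [3, 2, 4, 3, 5, 4, 3, 5, 6, 5, 4, 3, 5, 4, 5, 4, 6, 5, 4, 3, 2, 7, 6, 5, 4, 3, 5, 4],
  [3, 2, 4, 3, 5, 4, 3, 5, 6, 5, 4, 3, 5, 4, 5, 4, 6, 5, 4, 3, 2, 7, 6, 5, 4, 3, 5, 6],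
  [3, 2, 4, 3, 5, 4, 3, 5, 6, 5, 4, 3, 5, 4, 5, 4, 6, 5, 4, 3, 2, 7, 6, 5, 4, 5, 6, 7],
  [3, 2, 4, 3, 5, 4, 3, 5, 6, 5, 4, 3, 5, 4, 5, 6, 5, 4, 3, 5, 4, 3, 6, 5, 4, 3, 5, 4],
  [3, 2, 4, 3, 5, 4, 3, 5, 6, 5, 4, 3, 5, 4, 5, 6, 5, 4, 3, 5, 4, 3, 6, 5, 4, 3, 5, 6],
  [3, 2, 4, 3, 5, 4, 3, 6, 5, 4, 3, 2, 5, 7, 6, 5, 4, 3, 5, 4, 3, 2, 6, 5, 4, 5, 6, 7],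
  [3, 2, 4, 3, 5, 4, 3, 6, 5, 4, 3, 2, 5, 7, 6, 5, 4, 3, 5, 4, 3, 2, 6, 5, 4, 7, 6, 5],
  [3, 2, 4, 3, 5, 4, 3, 6, 5, 4, 3, 2, 5, 7, 6, 5, 4, 3, 5, 4, 3, 5, 6, 5, 4, 3, 7, 6],
  [3, 2, 4, 3, 5, 4, 3, 6, 5, 4, 3, 2, 5, 7, 6, 5, 4, 3, 5, 4, 3, 5, 6, 5, 4, 7, 6, 5],
  [3, 2, 4, 3, 5, 4, 3, 6, 5, 4, 3, 2, 5, 7, 6, 5, 4, 3, 5, 4, 3, 6, 5, 4, 3, 2, 5, 4],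
  [3, 2, 4, 3, 5, 4, 3, 6, 5, 4, 3, 2, 5, 7, 6, 5, 4, 3, 5, 4, 3, 6, 5, 4, 3, 2, 5, 6],
  [3, 2, 4, 3, 5, 4, 3, 6, 5, 4, 3, 2, 5, 7, 6, 5, 4, 3, 5, 4, 3, 6, 5, 4, 3, 2, 5, 7],
  [3, 2, 4, 3, 5, 4, 3, 6, 5, 4, 3, 2, 5, 7, 6, 5, 4, 3, 5, 4, 3, 6, 5, 4, 3, 2, 7, 6],
  [3, 2, 4, 3, 5, 4, 3, 6, 5, 4, 3, 2, 5, 7, 6, 5, 4, 3, 5, 4, 3, 6, 5, 4, 3, 5, 4, 3],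
  [3, 2, 4, 3, 5, 4, 3, 6, 5, 4, 3, 2, 5, 7, 6, 5, 4, 3, 5, 4, 3, 6, 5, 4, 3, 5, 4, 6],
  [3, 2, 4, 3, 5, 4, 3, 6, 5, 4, 3, 2, 5, 7, 6, 5, 4, 3, 5, 4, 3, 6, 5, 4, 3, 5, 4, 7],
  [3, 2, 4, 3, 5, 4, 3, 6, 5, 4, 3, 2, 5, 7, 6, 5, 4, 3, 5, 4, 3, 6, 5, 4, 3, 5, 6, 7],
  [3, 2, 4, 3, 5, 4, 3, 6, 5, 4, 3, 2, 5, 7, 6, 5, 4, 3, 5, 4, 3, 6, 5, 4, 3, 5, 7, 6],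
  [3, 2, 4, 3, 5, 4, 3, 6, 5, 4, 3, 2, 5, 7, 6, 5, 4, 3, 5, 4, 3, 6, 5, 4, 3, 7, 6, 5],
  [3, 2, 4, 3, 5, 4, 3, 6, 5, 4, 3, 2, 5, 7, 6, 5, 4, 3, 5, 4, 3, 6, 5, 4, 5, 4, 3, 6],
  [3, 2, 4, 3, 5, 4, 3, 6, 5, 4, 3, 2, 5, 7, 6, 5, 4, 3, 5, 4, 3, 6, 5, 4, 5, 6, 7, 6],
  [3, 2, 4, 3, 5, 4, 3, 6, 5, 4, 3, 2, 5, 7, 6, 5, 4, 3, 5, 4, 3, 6, 5, 4, 5, 7, 6, 5],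
  [3, 2, 4, 3, 5, 4, 3, 6, 5, 4, 3, 2, 5, 7, 6, 5, 4, 3, 5, 4, 3, 6, 5, 4, 7, 6, 5, 4],
  [3, 2, 4, 3, 5, 4, 3, 6, 5, 4, 3, 2, 5, 7, 6, 5, 4, 3, 5, 4, 5, 6, 5, 4, 3, 5, 4, 7],
  [3, 2, 4, 3, 5, 4, 3, 6, 5, 4, 3, 2, 5, 7, 6, 5, 4, 3, 5, 4, 5, 6, 5, 4, 3, 5, 7, 6],
  [3, 2, 4, 3, 5, 4, 3, 6, 5, 4, 3, 2, 5, 7, 6, 5, 4, 3, 5, 4, 5, 6, 5, 4, 3, 7, 6, 5],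
  [3, 2, 4, 3, 5, 4, 3, 6, 5, 4, 3, 2, 5, 7, 6, 5, 4, 3, 5, 4, 6, 5, 4, 3, 7, 6, 5, 4],
  [3, 2, 4, 3, 5, 4, 3, 6, 5, 4, 3, 2, 5, 7, 6, 5, 4, 5, 4, 3, 2, 6, 5, 4, 3, 5, 4, 6],
  [3, 2, 4, 3, 5, 4, 3, 6, 5, 4, 3, 2, 5, 7, 6, 5, 4, 5, 4, 3, 2, 6, 5, 4, 3, 5, 6, 7],
  [3, 2, 4, 3, 5, 4, 3, 6, 5, 4, 3, 2, 5, 7, 6, 5, 4, 5, 4, 3, 6, 5, 4, 5, 4, 3, 2, 6],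
  [3, 2, 4, 3, 5, 4, 3, 6, 5, 4, 3, 2, 7, 6, 5, 4, 3, 5, 4, 5, 4, 6, 5, 4, 3, 2, 5, 4],
  [3, 2, 4, 3, 5, 4, 3, 6, 5, 4, 3, 2, 7, 6, 5, 4, 3, 5, 4, 5, 4, 6, 5, 4, 3, 2, 5, 6],
  [3, 2, 4, 3, 5, 4, 3, 6, 5, 4, 3, 2, 7, 6, 5, 4, 3, 5, 4, 5, 4, 6, 5, 4, 3, 5, 4, 6],
  [3, 2, 4, 3, 5, 4, 3, 6, 5, 4, 3, 2, 7, 6, 5, 4, 3, 5, 4, 5, 4, 6, 5, 4, 3, 5, 6, 7],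
  [3, 2, 4, 3, 5, 4, 3, 6, 5, 4, 3, 5, 4, 6, 5, 4, 7, 6, 5, 4, 3, 2, 5, 4, 3, 5, 4, 5],
  [3, 2, 4, 3, 5, 4, 3, 6, 5, 4, 3, 5, 4, 6, 5, 4, 7, 6, 5, 4, 3, 2, 5, 4, 3, 5, 4, 6],
  [3, 2, 4, 3, 5, 4, 3, 6, 5, 4, 3, 5, 4, 6, 5, 7, 6, 5, 4, 3, 2, 5, 4, 3, 5, 4, 5, 6],
  [3, 2, 4, 3, 5, 4, 3, 6, 5, 4, 3, 5, 4, 6, 5, 7, 6, 5, 4, 3, 2, 5, 4, 3, 5, 4, 6, 5],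
  [3, 2, 4, 3, 5, 4, 3, 6, 5, 4, 3, 5, 4, 6, 5, 7, 6, 5, 4, 3, 2, 5, 4, 3, 5, 4, 6, 7],
  [3, 2, 4, 5, 4, 3, 2, 6, 5, 4, 3, 5, 4, 5, 6, 5, 4, 3, 7, 6, 5, 4, 3, 2, 5, 4, 3, 6],
  [3, 2, 4, 5, 4, 3, 2, 6, 5, 4, 3, 5, 4, 5, 6, 5, 4, 3, 7, 6, 5, 4, 3, 2, 5, 4, 6, 5],
  [3, 2, 4, 5, 4, 3, 2, 6, 5, 4, 3, 5, 4, 5, 6, 5, 4, 3, 7, 6, 5, 4, 3, 5, 4, 5, 6, 5],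
  [3, 2, 4, 5, 4, 3, 2, 6, 5, 4, 3, 5, 4, 5, 6, 5, 4, 3, 7, 6, 5, 4, 3, 5, 4, 6, 5, 7],
  [3, 2, 4, 5, 4, 3, 2, 6, 5, 4, 3, 5, 4, 6, 5, 4, 7, 6, 5, 4, 3, 2, 5, 4, 3, 5, 4, 6],
  [3, 2, 4, 5, 4, 3, 2, 6, 5, 4, 3, 5, 4, 6, 5, 4, 7, 6, 5, 4, 3, 5, 4, 5, 4, 3, 6, 5],
  [3, 2, 4, 5, 4, 3, 6, 5, 4, 3, 5, 4, 3, 6, 5, 4, 3, 5, 4, 3, 5, 6, 5, 4, 3, 5, 4, 6],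
  [3, 2, 4, 5, 4, 3, 6, 5, 4, 3, 5, 4, 3, 6, 5, 4, 3, 5, 4, 3, 6, 5, 4, 3, 5, 4, 6, 5],
  [3, 4, 5, 4, 3, 2, 6, 5, 4, 3, 2, 5, 4, 3, 6, 5, 4, 3, 5, 4, 6, 5, 4, 7, 6, 5, 4, 3],
  [3, 4, 5, 4, 3, 2, 6, 5, 4, 3, 5, 4, 5, 4, 6, 5, 4, 3, 5, 4, 6, 5, 4, 7, 6, 5, 4, 5],
  [3, 4, 5, 4, 3, 6, 5, 4, 3, 5, 4, 3, 5, 6, 5, 4, 3, 5, 4, 6, 5, 4, 3, 2, 5, 4, 5, 6],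
  [3, 4, 5, 4, 3, 6, 5, 4, 3, 5, 4, 3, 5, 6, 5, 4, 3, 5, 4, 6, 5, 4, 3, 5, 4, 5, 6, 5],
  [3, 4, 5, 4, 3, 6, 5, 4, 3, 5, 4, 3, 5, 6, 5, 4, 3, 5, 4, 6, 5, 4, 3, 5, 4, 6, 5, 4],
  [3, 4, 5, 4, 3, 6, 5, 4, 5, 4, 6, 5, 4, 3, 2, 5, 4, 3, 5, 4, 6, 5, 4, 7, 6, 5, 4, 3],
  [3, 2, 4, 3, 5, 4, 3, 2, 5, 6, 5, 4, 3, 5, 4, 3, 5, 6, 5, 4, 3, 5, 4, 5, 6, 5, 4, 3, 5],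
  [3, 2, 4, 3, 5, 4, 3, 2, 6, 5, 4, 3, 7, 6, 5, 4, 3, 5, 4, 3, 2, 6, 5, 4, 3, 5, 4, 6, 5],
  [3, 2, 4, 3, 5, 4, 3, 5, 6, 5, 4, 3, 5, 4, 5, 4, 3, 6, 5, 4, 3, 7, 6, 5, 4, 3, 5, 4, 6],
  [3, 2, 4, 3, 5, 4, 3, 5, 6, 5, 4, 3, 5, 4, 5, 4, 3, 6, 5, 4, 3, 7, 6, 5, 4, 3, 5, 6, 7],
  [3, 2, 4, 3, 5, 4, 3, 5, 6, 5, 4, 3, 5, 4, 5, 4, 6, 5, 4, 3, 2, 7, 6, 5, 4, 3, 5, 4, 5],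
  [3, 2, 4, 3, 5, 4, 3, 5, 6, 5, 4, 3, 5, 4, 5, 4, 6, 5, 4, 3, 2, 7, 6, 5, 4, 3, 5, 4, 6],
  [3, 2, 4, 3, 5, 4, 3, 5, 6, 5, 4, 3, 5, 4, 5, 4, 6, 5, 4, 3, 2, 7, 6, 5, 4, 3, 5, 6, 7],
  [3, 2, 4, 3, 5, 4, 3, 5, 6, 5, 4, 3, 5, 4, 5, 6, 5, 4, 3, 5, 4, 3, 6, 5, 4, 3, 5, 4, 6],
  [3, 2, 4, 3, 5, 4, 3, 6, 5, 4, 3, 2, 5, 7, 6, 5, 4, 3, 5, 4, 3, 6, 5, 4, 3, 2, 5, 4, 6],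
  [3, 2, 4, 3, 5, 4, 3, 6, 5, 4, 3, 2, 5, 7, 6, 5, 4, 3, 5, 4, 3, 6, 5, 4, 3, 2, 5, 7, 6],
  [3, 2, 4, 3, 5, 4, 3, 6, 5, 4, 3, 2, 5, 7, 6, 5, 4, 3, 5, 4, 3, 6, 5, 4, 3, 5, 4, 3, 6],
  [3, 2, 4, 3, 5, 4, 3, 6, 5, 4, 3, 2, 5, 7, 6, 5, 4, 3, 5, 4, 3, 6, 5, 4, 3, 5, 4, 6, 5],
  [3, 2, 4, 3, 5, 4, 3, 6, 5, 4, 3, 2, 5, 7, 6, 5, 4, 3, 5, 4, 3, 6, 5, 4, 3, 5, 4, 6, 7],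
  [3, 2, 4, 3, 5, 4, 3, 6, 5, 4, 3, 2, 5, 7, 6, 5, 4, 3, 5, 4, 3, 6, 5, 4, 3, 5, 4, 7, 6],
  [3, 2, 4, 3, 5, 4, 3, 6, 5, 4, 3, 2, 5, 7, 6, 5, 4, 3, 5, 4, 3, 6, 5, 4, 3, 5, 6, 7, 6],
  [3, 2, 4, 3, 5, 4, 3, 6, 5, 4, 3, 2, 5, 7, 6, 5, 4, 3, 5, 4, 3, 6, 5, 4, 3, 5, 7, 6, 5],
  [3, 2, 4, 3, 5, 4, 3, 6, 5, 4, 3, 2, 5, 7, 6, 5, 4, 3, 5, 4, 3, 6, 5, 4, 3, 7, 6, 5, 4],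
  [3, 2, 4, 3, 5, 4, 3, 6, 5, 4, 3, 2, 5, 7, 6, 5, 4, 3, 5, 4, 3, 6, 5, 4, 7, 6, 5, 4, 3],
  [3, 2, 4, 3, 5, 4, 3, 6, 5, 4, 3, 2, 5, 7, 6, 5, 4, 3, 5, 4, 5, 6, 5, 4, 3, 5, 4, 7, 6],
  [3, 2, 4, 3, 5, 4, 3, 6, 5, 4, 3, 2, 5, 7, 6, 5, 4, 3, 5, 4, 5, 6, 5, 4, 3, 7, 6, 5, 4],
  [3, 2, 4, 3, 5, 4, 3, 6, 5, 4, 3, 2, 5, 7, 6, 5, 4, 3, 5, 4, 6, 5, 4, 3, 7, 6, 5, 4, 5],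
  [3, 2, 4, 3, 5, 4, 3, 6, 5, 4, 3, 2, 5, 7, 6, 5, 4, 5, 4, 3, 2, 6, 5, 4, 3, 5, 4, 6, 5],
  [3, 2, 4, 3, 5, 4, 3, 6, 5, 4, 3, 2, 5, 7, 6, 5, 4, 5, 4, 3, 2, 6, 5, 4, 3, 5, 4, 6, 7],
  [3, 2, 4, 3, 5, 4, 3, 6, 5, 4, 3, 2, 7, 6, 5, 4, 3, 5, 4, 5, 4, 6, 5, 4, 3, 2, 5, 4, 6],
  [3, 2, 4, 3, 5, 4, 3, 6, 5, 4, 3, 2, 7, 6, 5, 4, 3, 5, 4, 5, 4, 6, 5, 4, 3, 5, 4, 6, 5],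
  [3, 2, 4, 3, 5, 4, 3, 6, 5, 4, 3, 2, 7, 6, 5, 4, 3, 5, 4, 5, 4, 6, 5, 4, 3, 5, 4, 6, 7],
  [3, 2, 4, 3, 5, 4, 3, 6, 5, 4, 3, 5, 4, 6, 5, 4, 7, 6, 5, 4, 3, 2, 5, 4, 3, 5, 4, 5, 6],
  [3, 2, 4, 3, 5, 4, 3, 6, 5, 4, 3, 5, 4, 6, 5, 4, 7, 6, 5, 4, 3, 2, 5, 4, 3, 5, 4, 6, 5],
  [3, 2, 4, 3, 5, 4, 3, 6, 5, 4, 3, 5, 4, 6, 5, 7, 6, 5, 4, 3, 2, 5, 4, 3, 5, 4, 5, 6, 5],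
  [3, 2, 4, 3, 5, 4, 3, 6, 5, 4, 3, 5, 4, 6, 5, 7, 6, 5, 4, 3, 2, 5, 4, 3, 5, 4, 6, 5, 4],
  [3, 2, 4, 3, 5, 4, 3, 6, 5, 4, 3, 5, 4, 6, 5, 7, 6, 5, 4, 3, 2, 5, 4, 3, 5, 4, 6, 5, 7],
  [3, 2, 4, 5, 4, 3, 2, 6, 5, 4, 3, 5, 4, 5, 6, 5, 4, 3, 7, 6, 5, 4, 3, 2, 5, 4, 3, 6, 5],
  [3, 2, 4, 5, 4, 3, 2, 6, 5, 4, 3, 5, 4, 6, 5, 4, 7, 6, 5, 4, 3, 2, 5, 4, 3, 5, 4, 6, 5],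
  [3, 2, 4, 5, 4, 3, 2, 6, 5, 4, 3, 5, 4, 6, 5, 4, 7, 6, 5, 4, 3, 5, 4, 5, 4, 3, 6, 5, 4],
  [3, 2, 4, 5, 4, 3, 6, 5, 4, 3, 5, 4, 3, 6, 5, 4, 3, 5, 4, 3, 5, 6, 5, 4, 3, 5, 4, 6, 5],
  [3, 2, 4, 5, 4, 3, 6, 5, 4, 3, 5, 4, 3, 6, 5, 4, 3, 5, 4, 3, 6, 5, 4, 3, 5, 4, 6, 5, 4],
  [3, 4, 5, 4, 3, 6, 5, 4, 3, 5, 4, 3, 5, 6, 5, 4, 3, 5, 4, 6, 5, 4, 3, 5, 4, 5, 6, 5, 4],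
  [3, 2, 4, 3, 5, 4, 3, 2, 5, 6, 5, 4, 3, 5, 4, 3, 5, 6, 5, 4, 3, 5, 4, 5, 6, 5, 4, 3, 5, 4],
  [3, 2, 4, 3, 5, 4, 3, 2, 6, 5, 4, 3, 7, 6, 5, 4, 3, 5, 4, 3, 2, 6, 5, 4, 3, 5, 4, 6, 5, 4],
  [3, 2, 4, 3, 5, 4, 3, 5, 6, 5, 4, 3, 5, 4, 5, 4, 3, 6, 5, 4, 3, 7, 6, 5, 4, 3, 5, 4, 6, 5],
  [3, 2, 4, 3, 5, 4, 3, 5, 6, 5, 4, 3, 5, 4, 5, 4, 3, 6, 5, 4, 3, 7, 6, 5, 4, 3, 5, 4, 6, 7],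
  [3, 2, 4, 3, 5, 4, 3, 5, 6, 5, 4, 3, 5, 4, 5, 4, 6, 5, 4, 3, 2, 7, 6, 5, 4, 3, 5, 4, 5, 6],
  [3, 2, 4, 3, 5, 4, 3, 5, 6, 5, 4, 3, 5, 4, 5, 4, 6, 5, 4, 3, 2, 7, 6, 5, 4, 3, 5, 4, 6, 5],
  [3, 2, 4, 3, 5, 4, 3, 5, 6, 5, 4, 3, 5, 4, 5, 4, 6, 5, 4, 3, 2, 7, 6, 5, 4, 3, 5, 4, 6, 7],
  [3, 2, 4, 3, 5, 4, 3, 5, 6, 5, 4, 3, 5, 4, 5, 6, 5, 4, 3, 5, 4, 3, 6, 5, 4, 3, 5, 4, 6, 5],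
  [3, 2, 4, 3, 5, 4, 3, 6, 5, 4, 3, 2, 5, 7, 6, 5, 4, 3, 5, 4, 3, 6, 5, 4, 3, 2, 5, 4, 6, 5],
  [3, 2, 4, 3, 5, 4, 3, 6, 5, 4, 3, 2, 5, 7, 6, 5, 4, 3, 5, 4, 3, 6, 5, 4, 3, 5, 4, 3, 6, 5],
  [3, 2, 4, 3, 5, 4, 3, 6, 5, 4, 3, 2, 5, 7, 6, 5, 4, 3, 5, 4, 3, 6, 5, 4, 3, 5, 4, 6, 5, 7],
  [3, 2, 4, 3, 5, 4, 3, 6, 5, 4, 3, 2, 5, 7, 6, 5, 4, 3, 5, 4, 3, 6, 5, 4, 3, 5, 4, 6, 7, 6],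
  [3, 2, 4, 3, 5, 4, 3, 6, 5, 4, 3, 2, 5, 7, 6, 5, 4, 3, 5, 4, 3, 6, 5, 4, 3, 5, 4, 7, 6, 5],
  [3, 2, 4, 3, 5, 4, 3, 6, 5, 4, 3, 2, 5, 7, 6, 5, 4, 3, 5, 4, 3, 6, 5, 4, 3, 5, 7, 6, 5, 4],
  [3, 2, 4, 3, 5, 4, 3, 6, 5, 4, 3, 2, 5, 7, 6, 5, 4, 3, 5, 4, 3, 6, 5, 4, 3, 7, 6, 5, 4, 3],
  [3, 2, 4, 3, 5, 4, 3, 6, 5, 4, 3, 2, 5, 7, 6, 5, 4, 3, 5, 4, 3, 6, 5, 4, 3, 7, 6, 5, 4, 5],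
  [3, 2, 4, 3, 5, 4, 3, 6, 5, 4, 3, 2, 5, 7, 6, 5, 4, 3, 5, 4, 5, 6, 5, 4, 3, 5, 4, 7, 6, 5],
  [3, 2, 4, 3, 5, 4, 3, 6, 5, 4, 3, 2, 5, 7, 6, 5, 4, 3, 5, 4, 5, 6, 5, 4, 3, 7, 6, 5, 4, 5],
  [3, 2, 4, 3, 5, 4, 3, 6, 5, 4, 3, 2, 5, 7, 6, 5, 4, 5, 4, 3, 2, 6, 5, 4, 3, 5, 4, 6, 5, 4],
  [3, 2, 4, 3, 5, 4, 3, 6, 5, 4, 3, 2, 5, 7, 6, 5, 4, 5, 4, 3, 2, 6, 5, 4, 3, 5, 4, 6, 5, 7],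
  [3, 2, 4, 3, 5, 4, 3, 6, 5, 4, 3, 2, 7, 6, 5, 4, 3, 5, 4, 5, 4, 6, 5, 4, 3, 2, 5, 4, 6, 5],
  [3, 2, 4, 3, 5, 4, 3, 6, 5, 4, 3, 2, 7, 6, 5, 4, 3, 5, 4, 5, 4, 6, 5, 4, 3, 5, 4, 6, 5, 7],
  [3, 2, 4, 3, 5, 4, 3, 6, 5, 4, 3, 5, 4, 6, 5, 4, 7, 6, 5, 4, 3, 2, 5, 4, 3, 5, 4, 5, 6, 5],
  [3, 2, 4, 3, 5, 4, 3, 6, 5, 4, 3, 5, 4, 6, 5, 4, 7, 6, 5, 4, 3, 2, 5, 4, 3, 5, 4, 6, 5, 4],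
  [3, 2, 4, 3, 5, 4, 3, 6, 5, 4, 3, 5, 4, 6, 5, 7, 6, 5, 4, 3, 2, 5, 4, 3, 5, 4, 5, 6, 5, 4],
  [3, 2, 4, 3, 5, 4, 3, 6, 5, 4, 3, 5, 4, 6, 5, 7, 6, 5, 4, 3, 2, 5, 4, 3, 5, 4, 6, 5, 4, 5],
  [3, 2, 4, 3, 5, 4, 3, 6, 5, 4, 3, 5, 4, 6, 5, 7, 6, 5, 4, 3, 2, 5, 4, 3, 5, 4, 6, 5, 4, 7],
  [3, 2, 4, 5, 4, 3, 2, 6, 5, 4, 3, 5, 4, 5, 6, 5, 4, 3, 7, 6, 5, 4, 3, 2, 5, 4, 3, 6, 5, 4],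
  [3, 2, 4, 5, 4, 3, 2, 6, 5, 4, 3, 5, 4, 6, 5, 4, 7, 6, 5, 4, 3, 2, 5, 4, 3, 5, 4, 6, 5, 4],
  [3, 2, 4, 5, 4, 3, 6, 5, 4, 3, 5, 4, 3, 6, 5, 4, 3, 5, 4, 3, 5, 6, 5, 4, 3, 5, 4, 6, 5, 4],
  [3, 4, 5, 4, 3, 6, 5, 4, 3, 5, 4, 3, 5, 6, 5, 4, 3, 5, 4, 6, 5, 4, 3, 5, 4, 5, 6, 5, 4, 5],
  [3, 2, 4, 3, 5, 4, 3, 2, 5, 6, 5, 4, 3, 5, 4, 3, 5, 6, 5, 4, 3, 5, 4, 5, 6, 5, 4, 3, 5, 4, 5],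
  [3, 2, 4, 3, 5, 4, 3, 2, 6, 5, 4, 3, 7, 6, 5, 4, 3, 5, 4, 3, 2, 6, 5, 4, 3, 5, 4, 6, 5, 4, 5],
  [3, 2, 4, 3, 5, 4, 3, 5, 6, 5, 4, 3, 5, 4, 5, 4, 3, 6, 5, 4, 3, 7, 6, 5, 4, 3, 5, 4, 6, 5, 7],
  [3, 2, 4, 3, 5, 4, 3, 5, 6, 5, 4, 3, 5, 4, 5, 4, 6, 5, 4, 3, 2, 7, 6, 5, 4, 3, 5, 4, 5, 6, 5],
  [3, 2, 4, 3, 5, 4, 3, 5, 6, 5, 4, 3, 5, 4, 5, 4, 6, 5, 4, 3, 2, 7, 6, 5, 4, 3, 5, 4, 6, 5, 4],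
  [3, 2, 4, 3, 5, 4, 3, 5, 6, 5, 4, 3, 5, 4, 5, 4, 6, 5, 4, 3, 2, 7, 6, 5, 4, 3, 5, 4, 6, 5, 7],
  [3, 2, 4, 3, 5, 4, 3, 5, 6, 5, 4, 3, 5, 4, 5, 6, 5, 4, 3, 5, 4, 3, 6, 5, 4, 3, 5, 4, 6, 5, 4],
  [3, 2, 4, 3, 5, 4, 3, 6, 5, 4, 3, 2, 5, 7, 6, 5, 4, 3, 5, 4, 3, 6, 5, 4, 3, 5, 4, 6, 5, 7, 6],
  [3, 2, 4, 3, 5, 4, 3, 6, 5, 4, 3, 2, 5, 7, 6, 5, 4, 3, 5, 4, 3, 6, 5, 4, 3, 5, 4, 6, 7, 6, 5],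
  [3, 2, 4, 3, 5, 4, 3, 6, 5, 4, 3, 2, 5, 7, 6, 5, 4, 3, 5, 4, 3, 6, 5, 4, 3, 5, 4, 7, 6, 5, 4],
  [3, 2, 4, 3, 5, 4, 3, 6, 5, 4, 3, 2, 5, 7, 6, 5, 4, 3, 5, 4, 3, 6, 5, 4, 3, 5, 7, 6, 5, 4, 5],
  [3, 2, 4, 3, 5, 4, 3, 6, 5, 4, 3, 2, 5, 7, 6, 5, 4, 3, 5, 4, 3, 6, 5, 4, 3, 7, 6, 5, 4, 3, 5],
  [3, 2, 4, 3, 5, 4, 3, 6, 5, 4, 3, 2, 5, 7, 6, 5, 4, 3, 5, 4, 3, 6, 5, 4, 3, 7, 6, 5, 4, 5, 6],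
  [3, 2, 4, 3, 5, 4, 3, 6, 5, 4, 3, 2, 5, 7, 6, 5, 4, 3, 5, 4, 5, 6, 5, 4, 3, 5, 4, 7, 6, 5, 4],
  [3, 2, 4, 3, 5, 4, 3, 6, 5, 4, 3, 2, 5, 7, 6, 5, 4, 3, 5, 4, 5, 6, 5, 4, 3, 7, 6, 5, 4, 5, 6],
  [3, 2, 4, 3, 5, 4, 3, 6, 5, 4, 3, 2, 5, 7, 6, 5, 4, 5, 4, 3, 2, 6, 5, 4, 3, 5, 4, 6, 5, 4, 3],
  [3, 2, 4, 3, 5, 4, 3, 6, 5, 4, 3, 2, 5, 7, 6, 5, 4, 5, 4, 3, 2, 6, 5, 4, 3, 5, 4, 6, 5, 4, 7],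
  [3, 2, 4, 3, 5, 4, 3, 6, 5, 4, 3, 2, 5, 7, 6, 5, 4, 5, 4, 3, 2, 6, 5, 4, 3, 5, 4, 6, 5, 7, 6],
  [3, 2, 4, 3, 5, 4, 3, 6, 5, 4, 3, 2, 7, 6, 5, 4, 3, 5, 4, 5, 4, 6, 5, 4, 3, 5, 4, 6, 5, 7, 6],
  [3, 2, 4, 3, 5, 4, 3, 6, 5, 4, 3, 5, 4, 6, 5, 4, 7, 6, 5, 4, 3, 2, 5, 4, 3, 5, 4, 5, 6, 5, 4],
  [3, 2, 4, 3, 5, 4, 3, 6, 5, 4, 3, 5, 4, 6, 5, 4, 7, 6, 5, 4, 3, 2, 5, 4, 3, 5, 4, 6, 5, 4, 3],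
  [3, 2, 4, 3, 5, 4, 3, 6, 5, 4, 3, 5, 4, 6, 5, 7, 6, 5, 4, 3, 2, 5, 4, 3, 5, 4, 5, 6, 5, 4, 5],
  [3, 2, 4, 3, 5, 4, 3, 6, 5, 4, 3, 5, 4, 6, 5, 7, 6, 5, 4, 3, 2, 5, 4, 3, 5, 4, 6, 5, 4, 5, 6],
  [3, 2, 4, 5, 4, 3, 2, 6, 5, 4, 3, 5, 4, 6, 5, 4, 7, 6, 5, 4, 3, 2, 5, 4, 3, 5, 4, 6, 5, 4, 3],
  [3, 2, 4, 5, 4, 3, 6, 5, 4, 3, 5, 4, 3, 6, 5, 4, 3, 5, 4, 3, 5, 6, 5, 4, 3, 5, 4, 6, 5, 4, 3],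
  [3, 2, 4, 3, 5, 4, 3, 2, 5, 6, 5, 4, 3, 5, 4, 3, 5, 6, 5, 4, 3, 5, 4, 5, 6, 5, 4, 3, 5, 4, 5, 6],
  [3, 2, 4, 3, 5, 4, 3, 2, 6, 5, 4, 3, 7, 6, 5, 4, 3, 5, 4, 3, 2, 6, 5, 4, 3, 5, 4, 6, 5, 4, 5, 6],
  [3, 2, 4, 3, 5, 4, 3, 5, 6, 5, 4, 3, 5, 4, 5, 4, 3, 6, 5, 4, 3, 7, 6, 5, 4, 3, 5, 4, 6, 5, 7, 6],
  [3, 2, 4, 3, 5, 4, 3, 5, 6, 5, 4, 3, 5, 4, 5, 4, 6, 5, 4, 3, 2, 7, 6, 5, 4, 3, 5, 4, 5, 6, 5, 4],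
  [3, 2, 4, 3, 5, 4, 3, 5, 6, 5, 4, 3, 5, 4, 5, 4, 6, 5, 4, 3, 2, 7, 6, 5, 4, 3, 5, 4, 6, 5, 7, 6],
  [3, 2, 4, 3, 5, 4, 3, 5, 6, 5, 4, 3, 5, 4, 5, 6, 5, 4, 3, 5, 4, 3, 6, 5, 4, 3, 5, 4, 6, 5, 4, 3],
  [3, 2, 4, 3, 5, 4, 3, 6, 5, 4, 3, 2, 5, 7, 6, 5, 4, 3, 5, 4, 3, 6, 5, 4, 3, 5, 4, 6, 5, 7, 6, 5],
  [3, 2, 4, 3, 5, 4, 3, 6, 5, 4, 3, 2, 5, 7, 6, 5, 4, 3, 5, 4, 3, 6, 5, 4, 3, 5, 4, 6, 7, 6, 5, 4],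
  [3, 2, 4, 3, 5, 4, 3, 6, 5, 4, 3, 2, 5, 7, 6, 5, 4, 3, 5, 4, 3, 6, 5, 4, 3, 5, 4, 7, 6, 5, 4, 3],
  [3, 2, 4, 3, 5, 4, 3, 6, 5, 4, 3, 2, 5, 7, 6, 5, 4, 3, 5, 4, 3, 6, 5, 4, 3, 5, 7, 6, 5, 4, 5, 4],
  [3, 2, 4, 3, 5, 4, 3, 6, 5, 4, 3, 2, 5, 7, 6, 5, 4, 3, 5, 4, 3, 6, 5, 4, 3, 5, 7, 6, 5, 4, 5, 6],
  [3, 2, 4, 3, 5, 4, 3, 6, 5, 4, 3, 2, 5, 7, 6, 5, 4, 3, 5, 4, 3, 6, 5, 4, 3, 7, 6, 5, 4, 3, 5, 6],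
  [3, 2, 4, 3, 5, 4, 3, 6, 5, 4, 3, 2, 5, 7, 6, 5, 4, 3, 5, 4, 5, 6, 5, 4, 3, 5, 4, 7, 6, 5, 4, 3],
  [3, 2, 4, 3, 5, 4, 3, 6, 5, 4, 3, 2, 5, 7, 6, 5, 4, 5, 4, 3, 2, 6, 5, 4, 3, 5, 4, 6, 5, 4, 3, 7],
  [3, 2, 4, 3, 5, 4, 3, 6, 5, 4, 3, 2, 5, 7, 6, 5, 4, 5, 4, 3, 2, 6, 5, 4, 3, 5, 4, 6, 5, 4, 7, 6],
  [3, 2, 4, 3, 5, 4, 3, 6, 5, 4, 3, 5, 4, 6, 5, 4, 7, 6, 5, 4, 3, 2, 5, 4, 3, 5, 4, 5, 6, 5, 4, 3],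
  [3, 2, 4, 3, 5, 4, 3, 6, 5, 4, 3, 5, 4, 6, 5, 4, 7, 6, 5, 4, 3, 2, 5, 4, 3, 5, 4, 5, 6, 5, 4, 5],
  [3, 2, 4, 3, 5, 4, 3, 6, 5, 4, 3, 5, 4, 6, 5, 7, 6, 5, 4, 3, 2, 5, 4, 3, 5, 4, 5, 6, 5, 4, 5, 6],
  [3, 2, 4, 3, 5, 4, 3, 6, 5, 4, 3, 5, 4, 6, 5, 7, 6, 5, 4, 3, 2, 5, 4, 3, 5, 4, 6, 5, 4, 5, 6, 7],
  [3, 2, 4, 3, 5, 4, 3, 6, 5, 4, 3, 2, 5, 7, 6, 5, 4, 3, 5, 4, 3, 6, 5, 4, 3, 5, 4, 6, 5, 7, 6, 5, 4],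
  [3, 2, 4, 3, 5, 4, 3, 6, 5, 4, 3, 2, 5, 7, 6, 5, 4, 3, 5, 4, 3, 6, 5, 4, 3, 5, 4, 6, 7, 6, 5, 4, 3],
  [3, 2, 4, 3, 5, 4, 3, 6, 5, 4, 3, 2, 5, 7, 6, 5, 4, 5, 4, 3, 2, 6, 5, 4, 3, 5, 4, 6, 5, 4, 3, 7, 6],
  [3, 2, 4, 3, 5, 4, 3, 6, 5, 4, 3, 2, 5, 7, 6, 5, 4, 5, 4, 3, 2, 6, 5, 4, 3, 5, 4, 6, 5, 4, 7, 6, 5],
  [3, 2, 4, 3, 5, 4, 3, 6, 5, 4, 3, 5, 4, 6, 5, 4, 7, 6, 5, 4, 3, 2, 5, 4, 3, 5, 4, 5, 6, 5, 4, 3, 5],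
  [3, 2, 4, 3, 5, 4, 3, 6, 5, 4, 3, 5, 4, 6, 5, 7, 6, 5, 4, 3, 2, 5, 4, 3, 5, 4, 5, 6, 5, 4, 5, 6, 7],
  [3, 2, 4, 3, 5, 4, 3, 6, 5, 4, 3, 2, 5, 7, 6, 5, 4, 3, 5, 4, 3, 6, 5, 4, 3, 5, 4, 6, 5, 7, 6, 5, 4, 3],
  [3, 2, 4, 3, 5, 4, 3, 6, 5, 4, 3, 2, 5, 7, 6, 5, 4, 3, 5, 4, 3, 6, 5, 4, 3, 5, 4, 6, 5, 7, 6, 5, 4, 5],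
  [3, 2, 4, 3, 5, 4, 3, 6, 5, 4, 3, 2, 5, 7, 6, 5, 4, 5, 4, 3, 2, 6, 5, 4, 3, 5, 4, 6, 5, 4, 3, 7, 6, 5],
  [3, 2, 4, 3, 5, 4, 3, 6, 5, 4, 3, 5, 4, 6, 5, 4, 7, 6, 5, 4, 3, 2, 5, 4, 3, 5, 4, 5, 6, 5, 4, 3, 5, 4],
  [3, 2, 4, 3, 5, 4, 3, 6, 5, 4, 3, 2, 5, 7, 6, 5, 4, 3, 5, 4, 3, 6, 5, 4, 3, 5, 4, 6, 5, 7, 6, 5, 4, 3, 5],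
  [3, 2, 4, 3, 5, 4, 3, 6, 5, 4, 3, 2, 5, 7, 6, 5, 4, 5, 4, 3, 2, 6, 5, 4, 3, 5, 4, 6, 5, 4, 3, 7, 6, 5, 4],
  [3, 2, 4, 3, 5, 4, 3, 6, 5, 4, 3, 2, 5, 7, 6, 5, 4, 3, 5, 4, 3, 6, 5, 4, 3, 5, 4, 6, 5, 7, 6, 5, 4, 3, 5, 4],
  [3, 2, 4, 3, 5, 4, 3, 6, 5, 4, 3, 2, 5, 7, 6, 5, 4, 5, 4, 3, 2, 6, 5, 4, 3, 5, 4, 6, 5, 4, 3, 7, 6, 5, 4, 5],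
  [3, 2, 4, 3, 5, 4, 3, 6, 5, 4, 3, 2, 5, 7, 6, 5, 4, 3, 5, 4, 3, 6, 5, 4, 3, 5, 4, 6, 5, 7, 6, 5, 4, 3, 5, 4, 5],
  [3, 2, 4, 3, 5, 4, 3, 6, 5, 4, 3, 2, 5, 7, 6, 5, 4, 3, 5, 4, 3, 6, 5, 4, 3, 5, 4, 6, 5, 7, 6, 5, 4, 3, 5, 4, 5, 6]]
def ows1 : List (List Nat) := ows1c0 ++ ows1c1 ++ ows1c2 ++ ows1c3 ++ ows1c4 ++ ows1c5 ++ ows1c6 ++ ows1c7 ++ ows1c8 ++ ows1c9 ++ ows1c10 ++ ows1c11 ++ ows1c12 ++ ows1c13 ++ ows1c14 ++ ows1c15 ++ ows1c16 ++ ows1c17 ++ ows1c18 ++ ows1c19 ++ ows1c20 ++ ows1c21 ++ ows1c22 ++ ows1c23 ++ ows1c24 ++ ows1c25 ++ ows1c26 ++ ows1c27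
def ows2c0 : List (List Nat) := [[4, 6, 3, 4, 5, 4, 5, 4, 5, 4, 2, 3, 4, 6, 3, 4, 5, 4, 5, 4, 5, 4, 2, 3, 4, 6, 5],
  [4, 6, 5, 4, 3, 4, 5, 4, 5, 4, 5, 4, 2, 3, 6, 5, 4, 5, 6],
  [3, 4, 5, 4, 5, 4, 5, 4, 2, 3, 4, 6, 5, 4, 3, 4, 5, 4, 5, 4, 5, 4, 2, 3, 6, 3, 4, 5, 4, 5, 4, 5, 4, 2, 3, 4],
  [7, 6, 5, 4, 5, 4, 6, 3, 4, 5, 4, 5, 4, 5, 4, 2, 3, 4],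
  [5, 4, 3, 4, 5, 4, 5, 4, 5, 4, 2, 3, 6, 5, 4, 3, 4, 5, 4, 5, 4, 5, 4, 2, 3, 6, 3, 4, 5, 4, 5, 4, 5, 4, 2, 3],
  [2, 4, 6, 3, 4, 5, 4, 5, 4, 5, 4, 2, 3, 4, 6, 3, 4, 5, 4, 5, 4, 5, 4, 2, 3, 4, 6, 5],
  [4, 6, 3, 4, 5, 4, 5, 4, 5, 4, 2, 3, 4, 6, 3, 4, 5, 4, 5, 4, 5, 4, 2, 3, 4, 6],
  [4, 6, 3, 4, 5, 4, 5, 4, 5, 4, 2, 3, 4, 6, 3, 4, 5, 4, 5, 4, 5, 4, 2, 3, 4, 6, 3, 4, 5, 4, 5, 4, 5, 4, 2, 3],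
  [4, 6, 5, 4, 3, 4, 5, 4, 5, 4, 5, 4, 2, 3, 6, 3, 4, 5, 4, 5, 4, 5, 4, 2, 3, 4],
  [4, 6, 5, 4, 3, 4, 5, 4, 5, 4, 5, 4, 2, 3, 6, 5, 4, 5],
  [5, 6, 5, 4, 5, 4, 6, 3, 4, 5, 4, 5, 4, 5, 4, 2, 3, 6],
  [4, 6, 3, 4, 5, 4, 5, 4, 5, 4, 2, 3, 6, 5, 4, 3, 4, 5, 4, 5, 4, 5, 4, 2, 3, 4, 6, 5],
  [4, 6, 3, 4, 5, 4, 5, 4, 5, 4, 2, 3, 4, 6, 5, 4, 5, 6],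
  [2, 5, 4, 6, 3, 4, 5, 4, 5, 4, 5, 4, 2, 3, 4, 6, 3, 4, 5, 4, 5, 4, 5, 4, 2, 3, 4, 6],
  [7, 6, 5, 4, 5, 4, 6, 5],
  [4, 3, 4, 5, 4, 5, 4, 5, 4, 2, 3, 4, 6],
  [3, 4, 5, 4, 5, 4, 5, 4, 2, 3, 4, 6, 5, 4, 3, 4, 5, 4, 5, 4, 5, 4, 2, 3, 6, 3, 4, 5, 4, 5, 4, 5, 4, 2, 3],
  [3, 4, 5, 4, 5, 4, 5, 4, 2, 3, 4, 6, 5, 4, 3, 4, 5, 4, 5, 4, 5, 4, 2, 3, 6, 5, 4],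
  [3, 4, 5, 4, 5, 4, 5, 4, 2, 3, 6, 5, 4, 5, 4, 6, 3, 4, 5, 4, 5, 4, 5, 4, 2, 3, 4],
  [4, 6, 3, 4, 5, 4, 5, 4, 5, 4, 2, 3, 4, 6, 5, 4, 3, 4, 5, 4, 5, 4, 5, 4, 2, 3, 6],
  [7, 6, 5, 4, 5, 4, 6, 3, 4, 5, 4, 5, 4, 5, 4, 2, 3],
  [4, 7, 6, 5, 4, 3, 4, 5, 4, 5, 4, 5, 4, 2, 3, 6, 3, 4, 5, 4, 5, 4, 5, 4, 2, 3, 4],
  [2, 4, 3, 4, 5, 4, 5, 4, 5, 4, 2, 3, 6, 5, 4, 3, 4, 5, 4, 5, 4, 5, 4, 2, 3, 6, 3, 4, 5, 4, 5, 4, 5, 4, 2, 3, 4],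
  [4, 5, 6, 5, 4, 3, 4, 5, 4, 5, 4, 5, 4, 2, 3, 6, 3, 4, 5, 4, 5, 4, 5, 4, 2, 3, 4],
  [3, 4, 5, 4, 5, 4, 5, 4, 2, 3, 6, 5, 4, 5, 4, 6, 3, 4, 5, 4, 5, 4, 5, 4, 2, 3, 6],
  [5, 4, 3, 4, 5, 4, 5, 4, 5, 4, 2, 3, 6, 5, 4, 3, 4, 5, 4, 5, 4, 5, 4, 2, 3, 6, 7],
  [3, 4, 5, 4, 5, 4, 5, 4, 2, 3, 4, 6, 3, 4, 5, 4, 5, 4, 5, 4, 2, 3, 4, 6, 3, 4, 5, 4, 5, 4, 5, 4, 2, 3, 6],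
  [2, 4, 6, 3, 4, 5, 4, 5, 4, 5, 4, 2, 3, 4, 6, 3, 4, 5, 4, 5, 4, 5, 4, 2, 3, 4, 6],
  [2, 4, 6, 3, 4, 5, 4, 5, 4, 5, 4, 2, 3, 4, 6, 3, 4, 5, 4, 5, 4, 5, 4, 2, 3, 4, 6, 3, 4, 5, 4, 5, 4, 5, 4, 2, 3],
  [4, 6, 3, 4, 5, 4, 5, 4, 5, 4, 2, 3, 4, 6, 3, 4, 5, 4, 5, 4, 5, 4, 2, 3, 6],
  [4, 6, 3, 4, 5, 4, 5, 4, 5, 4, 2, 3, 4, 6, 3, 4, 5, 4, 5, 4, 5, 4, 2, 3, 4],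
  [3, 4, 5, 4, 5, 4, 5, 4, 2, 3, 4, 6, 3, 4, 5, 4, 5, 4, 5, 4, 2, 3, 4, 6, 3, 4, 5, 4, 5, 4, 5, 4, 2, 3, 4],
  [4, 6, 5, 4, 3, 4, 5, 4, 5, 4, 5, 4, 2, 3, 6, 5, 4],
  [4, 6, 5, 4, 3, 4, 5, 4, 5, 4, 5, 4, 2, 3, 6, 3, 4, 5, 4, 5, 4, 5, 4, 2, 3],
  [6, 5, 4, 5, 4, 6, 3, 4, 5, 4, 5, 4, 5, 4, 2, 3, 4],
  [4, 6, 5, 4, 3, 4, 5, 4, 5, 4, 5, 4, 2, 3, 6, 5, 4, 3, 4, 5, 4, 5, 4, 5, 4, 2, 3],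
  [4, 3, 4, 5, 4, 5, 4, 5, 4, 2, 3, 4],
  [4, 5, 4, 5],
  [2, 3, 4, 5, 4, 5, 4, 5, 4, 2, 3, 4],
  [2, 5, 4, 5],
  [7, 6, 5, 4, 5, 4, 6, 7],
  [5, 6, 5, 4, 5, 4, 6, 3, 4, 5, 4, 5, 4, 5, 4, 2, 3],
  [5, 4, 6, 5, 4, 3, 4, 5, 4, 5, 4, 5, 4, 2, 3, 6, 3, 4, 5, 4, 5, 4, 5, 4, 2, 3, 4],
  [5, 4, 5, 6, 5, 4, 3, 4, 5, 4, 5, 4, 5, 4, 2, 3, 6, 3, 4, 5, 4, 5, 4, 5, 4, 2, 3],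
  [5, 6, 5, 4, 3, 4, 5, 4, 5, 4, 5, 4, 2, 3, 4, 6, 3, 4, 5, 4, 5, 4, 5, 4, 2, 3, 6],
  [2, 5, 4, 6, 3, 4, 5, 4, 5, 4, 5, 4, 2, 3, 4, 6, 3, 4, 5, 4, 5, 4, 5, 4, 2, 3, 6],
  [4, 6, 3, 4, 5, 4, 5, 4, 5, 4, 2, 3, 6, 5, 4, 3, 4, 5, 4, 5, 4, 5, 4, 2, 3, 4, 6],
  [5, 4, 6, 3, 4, 5, 4, 5, 4, 5, 4, 2, 3, 4, 6, 3, 4, 5, 4, 5, 4, 5, 4, 2, 3, 4, 6],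
  [2, 4, 6, 3, 4, 5, 4, 5, 4, 5, 4, 2, 3, 6, 5, 4, 3, 4, 5, 4, 5, 4, 5, 4, 2, 3, 6],
  [4, 6, 3, 4, 5, 4, 5, 4, 5, 4, 2, 3, 4, 6, 5, 4, 5],
  [2, 5, 4, 6, 3, 4, 5, 4, 5, 4, 5, 4, 2, 3, 4, 6, 3, 4, 5, 4, 5, 4, 5, 4, 2, 3, 4],
  [7, 6, 5, 4, 3, 4, 5, 4, 5, 4, 5, 4, 2, 3, 6, 7],
  [2, 4, 6, 3, 4, 5, 4, 5, 4, 5, 4, 2, 3, 6, 5, 4, 5],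
  [4, 6, 3, 4, 5, 4, 5, 4, 5, 4, 2, 3, 6, 5, 4, 5, 6],
  [7, 6, 5, 4, 5, 4, 6],
  [4, 3, 4, 5, 4, 5, 4, 5, 4, 2, 3, 6],
  [2, 4, 3, 4, 5, 4, 5, 4, 5, 4, 2, 3, 4, 6],
  [4, 3, 4, 5, 4, 5, 4, 5, 4, 2, 3, 4, 6, 5],
  [4, 3, 4, 5, 4, 5, 4, 5, 4, 2, 3, 4, 6, 7],
  [3, 4, 5, 4, 5, 4, 5, 4, 2, 3, 4, 6, 5, 4, 3, 4, 5, 4, 5, 4, 5, 4, 2, 3, 6, 5],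
  [3, 4, 5, 4, 5, 4, 5, 4, 2, 3, 6, 5, 4, 5, 4, 6, 3, 4, 5, 4, 5, 4, 5, 4, 2, 3],
  [3, 4, 5, 4, 5, 4, 5, 4, 2, 3, 4, 6, 5, 4, 3, 4, 5, 4, 5, 4, 5, 4, 2, 3, 6, 7],
  [3, 4, 5, 4, 5, 4, 5, 4, 2, 3, 4, 6, 3, 4, 5, 4, 5, 4, 5, 4, 2, 3, 4, 6, 5, 4],
  [3, 4, 5, 4, 5, 4, 5, 4, 2, 3, 6, 5, 4, 5, 4, 6, 5, 4],
  [4, 6, 3, 4, 5, 4, 5, 4, 5, 4, 2, 3, 6, 5, 4, 5, 4, 6],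
  [4, 6, 3, 4, 5, 4, 5, 4, 5, 4, 2, 3, 4, 6, 5, 4, 3, 4, 5, 4, 5, 4, 5, 4, 2, 3],
  [4, 7, 6, 5, 4, 3, 4, 5, 4, 5, 4, 5, 4, 2, 3, 6, 3, 4, 5, 4, 5, 4, 5, 4, 2, 3],
  [2, 4, 3, 4, 5, 4, 5, 4, 5, 4, 2, 3, 6, 5, 4, 3, 4, 5, 4, 5, 4, 5, 4, 2, 3, 6, 3, 4, 5, 4, 5, 4, 5, 4, 2, 3],
  [4, 3, 4, 5, 4, 5, 4, 5, 4, 2, 3, 6, 5, 4, 3, 4, 5, 4, 5, 4, 5, 4, 2, 3, 6, 3, 4, 5, 4, 5, 4, 5, 4, 2, 3, 4],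
  [4, 5, 6, 5, 4, 3, 4, 5, 4, 5, 4, 5, 4, 2, 3, 6, 3, 4, 5, 4, 5, 4, 5, 4, 2, 3],
  [6, 5, 4, 5, 4, 6, 3, 4, 5, 4, 5, 4, 5, 4, 2, 3, 4, 6],
  [3, 4, 5, 4, 5, 4, 5, 4, 2, 3, 6, 5, 4, 3, 4, 5, 4, 5, 4, 5, 4, 2, 3, 4, 6, 3, 4, 5, 4, 5, 4, 5, 4, 2, 3, 6],
  [2, 3, 4, 5, 4, 5, 4, 5, 4, 2, 3, 4, 6, 3, 4, 5, 4, 5, 4, 5, 4, 2, 3, 4, 6, 3, 4, 5, 4, 5, 4, 5, 4, 2, 3, 6],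
  [4, 5, 4, 6, 5, 4, 5, 6, 3, 4, 5, 4, 5, 4, 5, 4, 2, 3],
  [3, 4, 5, 4, 5, 4, 5, 4, 2, 3, 4, 6, 5, 4, 5, 6, 3, 4, 5, 4, 5, 4, 5, 4, 2, 3],
  [5, 4, 3, 4, 5, 4, 5, 4, 5, 4, 2, 3, 6, 5, 4, 3, 4, 5, 4, 5, 4, 5, 4, 2, 3, 6],
  [3, 4, 5, 4, 5, 4, 5, 4, 2, 3, 4, 6, 3, 4, 5, 4, 5, 4, 5, 4, 2, 3, 4, 6, 3, 4, 5, 4, 5, 4, 5, 4, 2, 3],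
  [2, 4, 6, 3, 4, 5, 4, 5, 4, 5, 4, 2, 3, 4, 6, 3, 4, 5, 4, 5, 4, 5, 4, 2, 3, 6],
  [2, 4, 6, 3, 4, 5, 4, 5, 4, 5, 4, 2, 3, 4, 6, 3, 4, 5, 4, 5, 4, 5, 4, 2, 3, 4],
  [2, 3, 4, 5, 4, 5, 4, 5, 4, 2, 3, 4, 6, 3, 4, 5, 4, 5, 4, 5, 4, 2, 3, 4, 6, 3, 4, 5, 4, 5, 4, 5, 4, 2, 3, 4],
  [4, 5, 6, 5, 4, 3, 4, 5, 4, 5, 4, 5, 4, 2, 3, 6],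
  [4, 6, 3, 4, 5, 4, 5, 4, 5, 4, 2, 3, 4, 6, 3, 4, 5, 4, 5, 4, 5, 4, 2, 3],
  [4, 6, 3, 4, 5, 4, 5, 4, 5, 4, 2, 3, 4, 6, 5, 4],
  [2, 5, 4, 6, 3, 4, 5, 4, 5, 4, 5, 4, 2, 3, 4, 6, 5, 4],
  [4, 6, 5, 4, 3, 4, 5, 4, 5, 4, 5, 4, 2, 3, 6, 5],
  [6, 5, 4, 5, 4, 6, 5, 4],
  [6, 5, 4, 5, 4, 6, 3, 4, 5, 4, 5, 4, 5, 4, 2, 3],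
  [4, 6, 5, 4, 3, 4, 5, 4, 5, 4, 5, 4, 2, 3, 6, 7],
  [5, 4, 6, 5, 4, 3, 4, 5, 4, 5, 4, 5, 4, 2, 3, 6, 5, 4],
  [5, 6, 5, 4, 5, 4, 6, 5],
  [4, 3, 4, 5, 4, 5, 4, 5, 4, 2, 3],
  [2, 4, 3, 4, 5, 4, 5, 4, 5, 4, 2, 3, 4],
  [4, 5, 4, 3, 4, 5, 4, 5, 4, 5, 4, 2, 3],
  [4, 5, 4],
  [2, 5, 4, 3, 4, 5, 4, 5, 4, 5, 4, 2, 3],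
  [5, 4, 3, 4, 5, 4, 5, 4, 5, 4, 2, 3, 4],
  [4, 5, 4, 5, 6],
  [2, 4, 5],
  [4],
  [5],
  [7],
  [2, 3, 4, 5, 4, 5, 4, 5, 4, 2, 3],
  [3, 4, 5, 4, 5, 4, 5, 4, 2, 3, 4],
  [2, 3, 4, 5, 4, 5, 4, 5, 4, 2, 3, 4, 6],
  [2, 5, 4],
  [5, 4, 5],
  [2, 5, 4, 5, 6],
  [3, 4, 5, 4, 5, 4, 5, 4, 2, 3, 6, 5, 4, 5, 4, 6, 5],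
  [7, 6, 5, 4, 5, 6, 7],
  [2, 7, 6, 5, 4, 5, 6],
  [4, 7, 6, 5, 4, 3, 4, 5, 4, 5, 4, 5, 4, 2, 3, 6, 7],
  [7, 6, 5, 4, 3, 4, 5, 4, 5, 4, 5, 4, 2, 3, 4, 6, 7]]
def ows2c1 : List (List Nat) := [[4, 5, 4, 5, 6, 3, 4, 5, 4, 5, 4, 5, 4, 2, 3],
  [5, 4, 6, 5, 4, 3, 4, 5, 4, 5, 4, 5, 4, 2, 3, 6, 3, 4, 5, 4, 5, 4, 5, 4, 2, 3],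
  [6, 5, 4, 5, 6, 3, 4, 5, 4, 5, 4, 5, 4, 2, 3, 4],
  [5, 4, 5, 6, 5, 4, 3, 4, 5, 4, 5, 4, 5, 4, 2, 3, 6, 7],
  [5, 4, 6, 3, 4, 5, 4, 5, 4, 5, 4, 2, 3, 4, 6, 3, 4, 5, 4, 5, 4, 5, 4, 2, 3, 6],
  [4, 3, 4, 5, 4, 5, 4, 5, 4, 2, 3, 6, 5, 4, 3, 4, 5, 4, 5, 4, 5, 4, 2, 3, 4, 6, 3, 4, 5, 4, 5, 4, 5, 4, 2, 3],
  [5, 6, 5, 4, 3, 4, 5, 4, 5, 4, 5, 4, 2, 3, 4, 6, 3, 4, 5, 4, 5, 4, 5, 4, 2, 3],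
  [2, 5, 4, 5, 6, 5, 4, 3, 4, 5, 4, 5, 4, 5, 4, 2, 3, 6],
  [2, 5, 4, 6, 3, 4, 5, 4, 5, 4, 5, 4, 2, 3, 4, 6, 3, 4, 5, 4, 5, 4, 5, 4, 2, 3],
  [4, 6, 3, 4, 5, 4, 5, 4, 5, 4, 2, 3, 6, 5, 4, 3, 4, 5, 4, 5, 4, 5, 4, 2, 3, 6],
  [4, 6, 3, 4, 5, 4, 5, 4, 5, 4, 2, 3, 6, 5, 4, 3, 4, 5, 4, 5, 4, 5, 4, 2, 3, 4],
  [5, 4, 6, 3, 4, 5, 4, 5, 4, 5, 4, 2, 3, 4, 6, 3, 4, 5, 4, 5, 4, 5, 4, 2, 3, 4],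
  [2, 4, 3, 4, 5, 4, 5, 4, 5, 4, 2, 3, 6, 5, 4, 3, 4, 5, 4, 5, 4, 5, 4, 2, 3, 6],
  [2, 4, 6, 3, 4, 5, 4, 5, 4, 5, 4, 2, 3, 6, 5, 4, 3, 4, 5, 4, 5, 4, 5, 4, 2, 3],
  [2, 7, 6, 5, 4, 3, 4, 5, 4, 5, 4, 5, 4, 2, 3, 6, 7],
  [7, 6, 5, 4, 3, 4, 5, 4, 5, 4, 5, 4, 2, 3, 6, 3, 4, 5, 4, 5, 4, 5, 4, 2, 3],
  [7, 6, 5, 4, 3, 4, 5, 4, 5, 4, 5, 4, 2, 3, 6],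
  [4, 6, 3, 4, 5, 4, 5, 4, 5, 4, 2, 3, 6, 5, 4, 5],
  [2, 4, 6, 3, 4, 5, 4, 5, 4, 5, 4, 2, 3, 6, 5, 4],
  [4, 7, 6, 5, 4, 3, 4, 5, 4, 5, 4, 5, 4, 2, 3, 6],
  [7, 6, 5, 4, 5, 6],
  [7, 6, 5, 4, 5, 4],
  [3, 4, 5, 4, 5, 4, 5, 4, 2, 3, 4, 6, 5, 4, 3, 4, 5, 4, 5, 4, 5, 4, 2, 3, 6],
  [4, 3, 4, 5, 4, 5, 4, 5, 4, 2, 3, 4, 6, 3, 4, 5, 4, 5, 4, 5, 4, 2, 3],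
  [2, 4, 3, 4, 5, 4, 5, 4, 5, 4, 2, 3, 6],
  [4, 3, 4, 5, 4, 5, 4, 5, 4, 2, 3, 6, 5],
  [4, 3, 4, 5, 4, 5, 4, 5, 4, 2, 3, 6, 7],
  [2, 4, 3, 4, 5, 4, 5, 4, 5, 4, 2, 3, 4, 6, 5],
  [2, 4, 3, 4, 5, 4, 5, 4, 5, 4, 2, 3, 4, 6, 7],
  [4, 3, 4, 5, 4, 5, 4, 5, 4, 2, 3, 4, 6, 5, 4],
  [4, 5, 4, 3, 4, 5, 4, 5, 4, 5, 4, 2, 3, 6, 5],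
  [4, 5, 4, 6, 7],
  [3, 4, 5, 4, 5, 4, 5, 4, 2, 3, 4, 6, 3, 4, 5, 4, 5, 4, 5, 4, 2, 3, 4, 6, 5],
  [7, 6, 5, 4, 5, 6, 3, 4, 5, 4, 5, 4, 5, 4, 2, 3, 4],
  [2, 7, 6, 5, 4, 5, 6, 3, 4, 5, 4, 5, 4, 5, 4, 2, 3],
  [3, 4, 5, 4, 5, 4, 5, 4, 2, 3, 4, 6, 5, 4, 5, 6, 7],
  [2, 3, 4, 5, 4, 5, 4, 5, 4, 2, 3, 4, 6, 3, 4, 5, 4, 5, 4, 5, 4, 2, 3, 4, 6, 5, 4],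
  [4, 6, 3, 4, 5, 4, 5, 4, 5, 4, 2, 3, 6, 5, 4, 5, 4],
  [4, 3, 4, 5, 4, 5, 4, 5, 4, 2, 3, 6, 5, 4, 3, 4, 5, 4, 5, 4, 5, 4, 2, 3, 6, 3, 4, 5, 4, 5, 4, 5, 4, 2, 3],
  [2, 4, 3, 4, 5, 4, 5, 4, 5, 4, 2, 3, 6, 5, 4, 3, 4, 5, 4, 5, 4, 5, 4, 2, 3, 6, 7],
  [6, 5, 4, 5, 4, 6, 3, 4, 5, 4, 5, 4, 5, 4, 2, 3, 6],
  [4, 5, 6, 5, 4, 3, 4, 5, 4, 5, 4, 5, 4, 2, 3, 6, 7],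
  [4, 5, 6, 5, 4, 3, 4, 5, 4, 5, 4, 5, 4, 2, 3, 4, 6, 3, 4, 5, 4, 5, 4, 5, 4, 2, 3],
  [3, 4, 5, 4, 5, 4, 5, 4, 2, 3, 6, 5, 4, 3, 4, 5, 4, 5, 4, 5, 4, 2, 3, 4, 6, 3, 4, 5, 4, 5, 4, 5, 4, 2, 3],
  [2, 5, 4, 3, 4, 5, 4, 5, 4, 5, 4, 2, 3, 6, 5, 4, 3, 4, 5, 4, 5, 4, 5, 4, 2, 3, 6],
  [2, 3, 4, 5, 4, 5, 4, 5, 4, 2, 3, 4, 6, 3, 4, 5, 4, 5, 4, 5, 4, 2, 3, 4, 6, 3, 4, 5, 4, 5, 4, 5, 4, 2, 3],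
  [4, 5, 4, 6, 5, 4, 5, 6, 7],
  [3, 4, 5, 4, 5, 4, 5, 4, 2, 3, 4, 6, 5, 4, 5, 6, 3, 4, 5, 4, 5, 4, 5, 4, 2, 3, 4],
  [4, 5, 4, 5, 6, 5, 4, 5, 6],
  [5, 4, 3, 4, 5, 4, 5, 4, 5, 4, 2, 3, 6, 5, 4, 5, 6],
  [5, 4, 3, 4, 5, 4, 5, 4, 5, 4, 2, 3, 6, 5, 4, 3, 4, 5, 4, 5, 4, 5, 4, 2, 3],
  [5, 4, 6, 3, 4, 5, 4, 5, 4, 5, 4, 2, 3, 6, 3, 4, 5, 4, 5, 4, 5, 4, 2, 3, 4],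
  [2, 4, 5, 6, 5, 4, 3, 4, 5, 4, 5, 4, 5, 4, 2, 3, 6],
  [2, 4, 6, 3, 4, 5, 4, 5, 4, 5, 4, 2, 3, 4, 6, 3, 4, 5, 4, 5, 4, 5, 4, 2, 3],
  [2, 4, 6, 3, 4, 5, 4, 5, 4, 5, 4, 2, 3, 4, 6, 5, 4],
  [5, 4, 6, 3, 4, 5, 4, 5, 4, 5, 4, 2, 3, 4, 6, 5, 4],
  [4, 5, 6, 5, 4, 3, 4, 5, 4, 5, 4, 5, 4, 2, 3, 4, 6],
  [4, 5, 6, 5, 4, 3, 4, 5, 4, 5, 4, 5, 4, 2, 3],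
  [4, 5, 6, 3, 4, 5, 4, 5, 4, 5, 4, 2, 3, 4, 6],
  [4, 6, 3, 4, 5, 4, 5, 4, 5, 4, 2, 3, 4, 6, 5],
  [2, 5, 4, 6, 3, 4, 5, 4, 5, 4, 5, 4, 2, 3, 4, 6, 5],
  [2],
  [2, 4, 7],
  [6, 5, 4, 5, 4, 6, 5],
  [4, 6, 5, 4, 3, 4, 5, 4, 5, 4, 5, 4, 2, 3, 6],
  [6, 5, 4, 5, 4, 6, 7],
  [2, 6, 5, 4, 5, 6, 7],
  [4, 6, 5, 4, 5, 6, 7],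
  [5, 4, 6, 5, 4, 3, 4, 5, 4, 5, 4, 5, 4, 2, 3, 6, 5],
  [5, 6, 5, 4, 5, 4, 6],
  [2, 4, 3, 4, 5, 4, 5, 4, 5, 4, 2, 3],
  [4, 7],
  [4, 5],
  [5, 4, 5, 4],
  [2, 4, 5, 4],
  [4, 5, 4, 3, 4, 5, 4, 5, 4, 5, 4, 2, 3, 6],
  [4, 5, 4, 6],
  [5, 4, 3, 4, 5, 4, 5, 4, 5, 4, 2, 3],
  [2, 5, 4, 3, 4, 5, 4, 5, 4, 5, 4, 2, 3, 6],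
  [5, 4, 3, 4, 5, 4, 5, 4, 5, 4, 2, 3, 4, 6],
  [4, 5, 4, 5, 6, 5],
  [4, 5, 4, 5, 6, 7],
  [2, 4],
  [2, 4, 5, 6],
  [],
  [4, 6],
  [5, 4],
  [2, 5],
  [5, 6],
  [3, 4, 5, 4, 5, 4, 5, 4, 2, 3],
  [2, 7],
  [7, 6],
  [2, 3, 4, 5, 4, 5, 4, 5, 4, 2, 3, 6],
  [3, 4, 5, 4, 5, 4, 5, 4, 2, 3, 4, 6],
  [2, 3, 4, 5, 4, 5, 4, 5, 4, 2, 3, 4, 6, 5],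
  [2, 3, 4, 5, 4, 5, 4, 5, 4, 2, 3, 4, 6, 7],
  [2, 5, 4, 6],
  [5, 4, 5, 6],
  [2, 5, 4, 5, 6, 5],
  [2, 5, 4, 5, 6, 7],
  [4, 7, 6, 5, 4, 5, 6],
  [4, 3, 4, 5, 4, 5, 4, 5, 4, 2, 3, 4, 6, 3, 4, 5, 4, 5, 4, 5, 4, 2, 3, 6],
  [4, 3, 4, 5, 4, 5, 4, 5, 4, 2, 3, 6, 3, 4, 5, 4, 5, 4, 5, 4, 2, 3],
  [3, 4, 5, 4, 5, 4, 5, 4, 2, 3, 6, 5, 4, 5, 4, 6],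
  [2, 3, 4, 5, 4, 5, 4, 5, 4, 2, 3, 4, 6, 3, 4, 5, 4, 5, 4, 5, 4, 2, 3, 4, 6, 5],
  [2, 7, 6, 5, 4, 5, 6, 7],
  [7, 6, 5, 4, 5, 6, 3, 4, 5, 4, 5, 4, 5, 4, 2, 3],
  [4, 5, 4, 5, 6, 3, 4, 5, 4, 5, 4, 5, 4, 2, 3, 6],
  [2, 3, 4, 5, 4, 5, 4, 5, 4, 2, 3, 6, 5, 4, 5, 6],
  [2, 7, 6, 5, 4, 5],
  [4, 7, 6, 5, 4, 5, 6, 7],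
  [7, 6, 5, 4, 3, 4, 5, 4, 5, 4, 5, 4, 2, 3, 4, 6, 3, 4, 5, 4, 5, 4, 5, 4, 2, 3]]
def ows2c2 : List (List Nat) := [[7, 6, 5, 4, 3, 4, 5, 4, 5, 4, 5, 4, 2, 3, 4, 6],
  [4, 5, 4, 5, 6, 3, 4, 5, 4, 5, 4, 5, 4, 2, 3, 4],
  [5, 4, 3, 4, 5, 4, 5, 4, 5, 4, 2, 3, 4, 6, 3, 4, 5, 4, 5, 4, 5, 4, 2, 3],
  [2, 6, 5, 4, 5, 6, 3, 4, 5, 4, 5, 4, 5, 4, 2, 3, 4],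
  [6, 5, 4, 5, 6, 3, 4, 5, 4, 5, 4, 5, 4, 2, 3],
  [5, 6, 5, 4, 3, 4, 5, 4, 5, 4, 5, 4, 2, 3, 4, 6, 7],
  [4, 3, 4, 5, 4, 5, 4, 5, 4, 2, 3, 4, 6, 5, 4, 5, 6, 3, 4, 5, 4, 5, 4, 5, 4, 2, 3],
  [5, 4, 6, 5, 4, 5, 6, 3, 4, 5, 4, 5, 4, 5, 4, 2, 3],
  [5, 4, 5, 6, 5, 4, 3, 4, 5, 4, 5, 4, 5, 4, 2, 3, 6],
  [5, 4, 6, 3, 4, 5, 4, 5, 4, 5, 4, 2, 3, 4, 6, 3, 4, 5, 4, 5, 4, 5, 4, 2, 3],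
  [4, 3, 4, 5, 4, 5, 4, 5, 4, 2, 3, 6, 5, 4, 3, 4, 5, 4, 5, 4, 5, 4, 2, 3, 4, 6, 7],
  [5, 6, 5, 4, 3, 4, 5, 4, 5, 4, 5, 4, 2, 3, 4, 6, 3, 4, 5, 4, 5, 4, 5, 4, 2, 3, 4],
  [4, 3, 4, 5, 4, 5, 4, 5, 4, 2, 3, 6, 5, 4, 3, 4, 5, 4, 5, 4, 5, 4, 2, 3, 4, 6, 5],
  [5, 6, 5, 4, 3, 4, 5, 4, 5, 4, 5, 4, 2, 3, 4, 6, 5],
  [2, 5, 4, 5, 6, 5, 4, 3, 4, 5, 4, 5, 4, 5, 4, 2, 3],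
  [2, 5, 4, 5, 6, 3, 4, 5, 4, 5, 4, 5, 4, 2, 3, 4, 6],
  [4, 3, 4, 5, 4, 5, 4, 5, 4, 2, 3, 6, 5, 4, 3, 4, 5, 4, 5, 4, 5, 4, 2, 3, 6],
  [4, 6, 3, 4, 5, 4, 5, 4, 5, 4, 2, 3, 6, 5, 4, 3, 4, 5, 4, 5, 4, 5, 4, 2, 3],
  [4, 3, 4, 5, 4, 5, 4, 5, 4, 2, 3, 4, 6, 5, 4, 5, 6],
  [2, 4, 3, 4, 5, 4, 5, 4, 5, 4, 2, 3, 6, 5, 4, 3, 4, 5, 4, 5, 4, 5, 4, 2, 3],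
  [2, 4, 6, 3, 4, 5, 4, 5, 4, 5, 4, 2, 3, 6, 3, 4, 5, 4, 5, 4, 5, 4, 2, 3, 4],
  [6, 3, 4, 5, 4, 5, 4, 5, 4, 2, 3, 6, 5, 4, 5, 6],
  [2, 7, 6, 5, 4, 3, 4, 5, 4, 5, 4, 5, 4, 2, 3, 6, 3, 4, 5, 4, 5, 4, 5, 4, 2, 3],
  [2, 7, 6, 5, 4, 3, 4, 5, 4, 5, 4, 5, 4, 2, 3, 6],
  [7, 6, 5, 4, 3, 4, 5, 4, 5, 4, 5, 4, 2, 3, 6, 3, 4, 5, 4, 5, 4, 5, 4, 2, 3, 4],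
  [3, 4, 5, 4, 5, 4, 5, 4, 2, 3, 6, 5, 4, 3, 4, 5, 4, 5, 4, 5, 4, 2, 3, 6, 3, 4, 5, 4, 5, 4, 5, 4, 2, 3],
  [7, 6, 5, 4, 3, 4, 5, 4, 5, 4, 5, 4, 2, 3],
  [4, 6, 3, 4, 5, 4, 5, 4, 5, 4, 2, 3, 6, 5, 4],
  [2, 4, 6, 3, 4, 5, 4, 5, 4, 5, 4, 2, 3, 6, 5],
  [2, 4, 7, 6, 3, 4, 5, 4, 5, 4, 5, 4, 2, 3, 4],
  [4, 7, 6, 5, 4, 3, 4, 5, 4, 5, 4, 5, 4, 2, 3],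
  [3, 4, 5, 4, 5, 4, 5, 4, 2, 3, 6, 5, 4, 5, 6],
  [7, 6, 5, 4, 5],
  [7, 6, 5, 4, 3, 4, 5, 4, 5, 4, 5, 4, 2, 3, 4],
  [3, 4, 5, 4, 5, 4, 5, 4, 2, 3, 4, 6, 5, 4, 3, 4, 5, 4, 5, 4, 5, 4, 2, 3],
  [4, 3, 4, 5, 4, 5, 4, 5, 4, 2, 3, 4, 6, 3, 4, 5, 4, 5, 4, 5, 4, 2, 3, 4],
  [2, 4, 3, 4, 5, 4, 5, 4, 5, 4, 2, 3, 4, 6, 3, 4, 5, 4, 5, 4, 5, 4, 2, 3],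
  [2, 4, 3, 4, 5, 4, 5, 4, 5, 4, 2, 3, 6, 5],
  [2, 4, 3, 4, 5, 4, 5, 4, 5, 4, 2, 3, 6, 7],
  [4, 3, 4, 5, 4, 5, 4, 5, 4, 2, 3, 6, 5, 4],
  [4, 7, 6, 5],
  [4, 5, 6, 7],
  [2, 4, 3, 4, 5, 4, 5, 4, 5, 4, 2, 3, 4, 6, 5, 4],
  [5, 4, 5, 4, 6, 5],
  [2, 4, 5, 4, 6, 7],
  [4, 3, 4, 5, 4, 5, 4, 5, 4, 2, 3, 4, 6, 5, 4, 5],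
  [4, 5, 4, 3, 4, 5, 4, 5, 4, 5, 4, 2, 3, 6, 5, 4],
  [4, 5, 4, 3, 4, 5, 4, 5, 4, 5, 4, 2, 3, 6, 3, 4, 5, 4, 5, 4, 5, 4, 2, 3],
  [4, 5, 4, 6, 3, 4, 5, 4, 5, 4, 5, 4, 2, 3],
  [3, 4, 5, 4, 5, 4, 5, 4, 2, 3, 4, 6, 3, 4, 5, 4, 5, 4, 5, 4, 2, 3, 4, 6],
  [3, 4, 5, 4, 5, 4, 5, 4, 2, 3, 6, 5, 4, 3, 4, 5, 4, 5, 4, 5, 4, 2, 3, 4, 6, 7],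
  [2, 3, 4, 5, 4, 5, 4, 5, 4, 2, 3, 6, 5, 4, 3, 4, 5, 4, 5, 4, 5, 4, 2, 3, 6, 7],
  [3, 4, 5, 4, 5, 4, 5, 4, 2, 3, 4, 6, 5, 4, 5, 6],
  [4, 3, 4, 5, 4, 5, 4, 5, 4, 2, 3, 6, 5, 4, 3, 4, 5, 4, 5, 4, 5, 4, 2, 3, 6, 7],
  [4, 3, 4, 5, 4, 5, 4, 5, 4, 2, 3, 4, 6, 5, 4, 5, 6, 7],
  [6, 5, 4, 3, 4, 5, 4, 5, 4, 5, 4, 2, 3, 4, 6, 3, 4, 5, 4, 5, 4, 5, 4, 2, 3, 6],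
  [4, 5, 6, 5, 4, 3, 4, 5, 4, 5, 4, 5, 4, 2, 3, 4, 6, 7],
  [4, 6, 5, 4, 5, 6, 3, 4, 5, 4, 5, 4, 5, 4, 2, 3],
  [3, 4, 5, 4, 5, 4, 5, 4, 2, 3, 6, 5, 4, 3, 4, 5, 4, 5, 4, 5, 4, 2, 3, 4, 6, 3, 4, 5, 4, 5, 4, 5, 4, 2, 3, 4],
  [4, 5, 6, 5, 4, 3, 4, 5, 4, 5, 4, 5, 4, 2, 3, 4, 6, 5],
  [3, 4, 5, 4, 5, 4, 5, 4, 2, 3, 6, 5, 4, 3, 4, 5, 4, 5, 4, 5, 4, 2, 3, 4, 6, 5],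
  [2, 5, 4, 3, 4, 5, 4, 5, 4, 5, 4, 2, 3, 6, 5, 4, 3, 4, 5, 4, 5, 4, 5, 4, 2, 3],
  [2, 5, 4, 6, 3, 4, 5, 4, 5, 4, 5, 4, 2, 3, 6, 3, 4, 5, 4, 5, 4, 5, 4, 2, 3, 4],
  [6, 5, 4, 3, 4, 5, 4, 5, 4, 5, 4, 2, 3, 4, 6, 3, 4, 5, 4, 5, 4, 5, 4, 2, 3, 4],
  [4, 5, 4, 6, 5, 4, 5, 6],
  [4, 5, 4, 5, 6, 5, 4, 3, 4, 5, 4, 5, 4, 5, 4, 2, 3, 6, 3, 4, 5, 4, 5, 4, 5, 4, 2, 3],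
  [4, 5, 4, 5, 6, 5, 4, 3, 4, 5, 4, 5, 4, 5, 4, 2, 3, 6],
  [4, 5, 4, 5, 6, 5, 4, 5],
  [5, 4, 3, 4, 5, 4, 5, 4, 5, 4, 2, 3, 6, 5, 4, 5],
  [5, 4, 3, 4, 5, 4, 5, 4, 5, 4, 2, 3, 6, 3, 4, 5, 4, 5, 4, 5, 4, 2, 3, 4],
  [5, 4, 6, 3, 4, 5, 4, 5, 4, 5, 4, 2, 3, 6, 3, 4, 5, 4, 5, 4, 5, 4, 2, 3],
  [2, 4, 5, 6, 5, 4, 3, 4, 5, 4, 5, 4, 5, 4, 2, 3],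
  [2, 4, 5, 6, 3, 4, 5, 4, 5, 4, 5, 4, 2, 3, 4, 6],
  [2, 4, 6, 3, 4, 5, 4, 5, 4, 5, 4, 2, 3, 4, 6, 5],
  [5, 4, 6, 3, 4, 5, 4, 5, 4, 5, 4, 2, 3, 4, 6, 5],
  [4, 5, 6, 5, 4, 3, 4, 5, 4, 5, 4, 5, 4, 2, 3, 4],
  [4, 5, 6, 3, 4, 5, 4, 5, 4, 5, 4, 2, 3, 4],
  [4, 5, 6, 5, 4, 5],
  [4, 5, 6, 3, 4, 5, 4, 5, 4, 5, 4, 2, 3, 6],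
  [4, 6, 3, 4, 5, 4, 5, 4, 5, 4, 2, 3, 4, 6],
  [2, 5, 4, 6, 3, 4, 5, 4, 5, 4, 5, 4, 2, 3, 4, 6],
  [2, 6],
  [2, 4, 7, 6],
  [6, 5, 4, 5, 4, 6],
  [2, 6, 5, 4, 5, 6],
  [4, 6, 5, 4, 3, 4, 5, 4, 5, 4, 5, 4, 2, 3],
  [6, 5, 4, 5, 6, 7],
  [6, 5, 4, 3, 4, 5, 4, 5, 4, 5, 4, 2, 3, 4, 6, 7],
  [2, 6, 5, 4, 5, 6, 3, 4, 5, 4, 5, 4, 5, 4, 2, 3],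
  [2, 6, 5, 4, 3, 4, 5, 4, 5, 4, 5, 4, 2, 3, 6, 7],
  [4, 6, 5, 4, 5, 6],
  [5, 4, 6, 5, 4, 3, 4, 5, 4, 5, 4, 5, 4, 2, 3, 6],
  [5, 6, 5, 4, 5, 6],
  [5, 6, 5, 4, 5, 4],
  [4, 7, 6],
  [4, 5, 6],
  [5, 4, 5, 4, 6],
  [2, 4, 5, 4, 6],
  [4, 5, 4, 3, 4, 5, 4, 5, 4, 5, 4, 2, 3, 6, 7],
  [4, 5, 4, 6, 5],
  [5, 4, 3, 4, 5, 4, 5, 4, 5, 4, 2, 3, 6],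
  [2, 5, 4, 3, 4, 5, 4, 5, 4, 5, 4, 2, 3, 6, 5],
  [2, 5, 4, 3, 4, 5, 4, 5, 4, 5, 4, 2, 3, 6, 7],
  [5, 4, 3, 4, 5, 4, 5, 4, 5, 4, 2, 3, 4, 6, 5],
  [5, 4, 3, 4, 5, 4, 5, 4, 5, 4, 2, 3, 4, 6, 7],
  [4, 5, 4, 5, 6, 5, 4],
  [2, 4, 6],
  [2, 4, 5, 6, 5],
  [2, 4, 5, 6, 7],
  [6],
  [4, 6, 5],
  [4, 6, 7]]
def ows2c3 : List (List Nat) := [[5, 4, 6],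
  [2, 5, 6],
  [5, 6, 5],
  [5, 6, 7],
  [3, 4, 5, 4, 5, 4, 5, 4, 2, 3, 6],
  [2, 7, 6],
  [7, 6, 5],
  [6, 7, 6],
  [2, 3, 4, 5, 4, 5, 4, 5, 4, 2, 3, 6, 5],
  [2, 3, 4, 5, 4, 5, 4, 5, 4, 2, 3, 6, 7],
  [3, 4, 5, 4, 5, 4, 5, 4, 2, 3, 4, 6, 5],
  [3, 4, 5, 4, 5, 4, 5, 4, 2, 3, 4, 6, 7],
  [2, 3, 4, 5, 4, 5, 4, 5, 4, 2, 3, 4, 6, 5, 4],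
  [2, 3, 4, 5, 4, 5, 4, 5, 4, 2, 3, 4, 6, 3, 4, 5, 4, 5, 4, 5, 4, 2, 3],
  [2, 5, 4, 6, 7],
  [2, 5, 4, 6, 5],
  [5, 4, 5, 6, 5],
  [5, 4, 5, 6, 7],
  [2, 5, 4, 5, 6, 5, 4],
  [2, 5, 4, 5, 6, 3, 4, 5, 4, 5, 4, 5, 4, 2, 3],
  [4, 3, 4, 5, 4, 5, 4, 5, 4, 2, 3, 6, 5, 4, 5, 6],
  [4, 7, 6, 5, 4, 5],
  [4, 5, 4, 6, 3, 4, 5, 4, 5, 4, 5, 4, 2, 3, 6, 3, 4, 5, 4, 5, 4, 5, 4, 2, 3],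
  [4, 3, 4, 5, 4, 5, 4, 5, 4, 2, 3, 4, 6, 3, 4, 5, 4, 5, 4, 5, 4, 2, 3, 4, 6],
  [2, 4, 3, 4, 5, 4, 5, 4, 5, 4, 2, 3, 4, 6, 3, 4, 5, 4, 5, 4, 5, 4, 2, 3, 6],
  [4, 5, 4, 6, 3, 4, 5, 4, 5, 4, 5, 4, 2, 3, 6],
  [4, 3, 4, 5, 4, 5, 4, 5, 4, 2, 3, 6, 3, 4, 5, 4, 5, 4, 5, 4, 2, 3, 4],
  [2, 4, 3, 4, 5, 4, 5, 4, 5, 4, 2, 3, 6, 3, 4, 5, 4, 5, 4, 5, 4, 2, 3],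
  [4, 6, 3, 4, 5, 4, 5, 4, 5, 4, 2, 3, 6, 3, 4, 5, 4, 5, 4, 5, 4, 2, 3],
  [3, 4, 5, 4, 5, 4, 5, 4, 2, 3, 6, 5, 4, 5, 4],
  [2, 3, 4, 5, 4, 5, 4, 5, 4, 2, 3, 4, 6, 3, 4, 5, 4, 5, 4, 5, 4, 2, 3, 4, 6],
  [3, 4, 5, 4, 5, 4, 5, 4, 2, 3, 6, 5, 4, 3, 4, 5, 4, 5, 4, 5, 4, 2, 3, 6, 7],
  [4, 5, 4, 5, 6, 3, 4, 5, 4, 5, 4, 5, 4, 2, 3, 4, 6],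
  [5, 4, 3, 4, 5, 4, 5, 4, 5, 4, 2, 3, 4, 6, 3, 4, 5, 4, 5, 4, 5, 4, 2, 3, 6],
  [2, 3, 4, 5, 4, 5, 4, 5, 4, 2, 3, 6, 5, 4, 5],
  [2, 7, 6, 5, 4],
  [2, 7, 6, 5, 4, 3, 4, 5, 4, 5, 4, 5, 4, 2, 3],
  [4, 7, 6, 5, 4, 5, 6, 3, 4, 5, 4, 5, 4, 5, 4, 2, 3],
  [4, 3, 4, 5, 4, 5, 4, 5, 4, 2, 3, 4, 6, 5, 4, 3, 4, 5, 4, 5, 4, 5, 4, 2, 3, 6, 7],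
  [2, 4, 3, 4, 5, 4, 5, 4, 5, 4, 2, 3, 6, 5, 4, 5, 6],
  [5, 4, 3, 4, 5, 4, 5, 4, 5, 4, 2, 3, 4, 6, 3, 4, 5, 4, 5, 4, 5, 4, 2, 3, 4],
  [4, 5, 4, 5, 6, 5, 4, 3, 4, 5, 4, 5, 4, 5, 4, 2, 3],
  [5, 4, 6, 5, 4, 5, 6, 7],
  [5, 6, 5, 4, 3, 4, 5, 4, 5, 4, 5, 4, 2, 3, 6, 7],
  [5, 6, 5, 4, 3, 4, 5, 4, 5, 4, 5, 4, 2, 3, 4, 6],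
  [6, 3, 4, 5, 4, 5, 4, 5, 4, 2, 3, 6, 5, 4, 5, 4, 6, 5],
  [5, 4, 6, 5, 4, 5, 6, 3, 4, 5, 4, 5, 4, 5, 4, 2, 3, 4],
  [4, 5, 4, 3, 4, 5, 4, 5, 4, 5, 4, 2, 3, 6, 5, 4, 5, 6],
  [5, 4, 5, 6, 5, 4, 5, 6],
  [5, 4, 5, 6, 5, 4, 3, 4, 5, 4, 5, 4, 5, 4, 2, 3],
  [5, 4, 5, 6, 3, 4, 5, 4, 5, 4, 5, 4, 2, 3, 4, 6],
  [4, 7, 6, 5, 4, 5, 6, 3, 4, 5, 4, 5, 4, 5, 4, 2, 3, 4],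
  [4, 3, 4, 5, 4, 5, 4, 5, 4, 2, 3, 6, 5, 4, 3, 4, 5, 4, 5, 4, 5, 4, 2, 3, 4, 6],
  [2, 6, 3, 4, 5, 4, 5, 4, 5, 4, 2, 3, 4, 6, 3, 4, 5, 4, 5, 4, 5, 4, 2, 3, 4, 6, 5, 4],
  [5, 4, 5, 4, 6, 5, 4, 3, 4, 5, 4, 5, 4, 5, 4, 2, 3, 6],
  [5, 4, 5, 4, 6, 5, 4, 5],
  [2, 5, 4, 5, 6, 5, 4, 5],
  [2, 5, 4, 5, 6, 3, 4, 5, 4, 5, 4, 5, 4, 2, 3, 4],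
  [2, 5, 4, 5, 6, 3, 4, 5, 4, 5, 4, 5, 4, 2, 3, 6],
  [4, 3, 4, 5, 4, 5, 4, 5, 4, 2, 3, 6, 5, 4, 3, 4, 5, 4, 5, 4, 5, 4, 2, 3],
  [4, 6, 3, 4, 5, 4, 5, 4, 5, 4, 2, 3, 6, 3, 4, 5, 4, 5, 4, 5, 4, 2, 3, 4],
  [2, 4, 3, 4, 5, 4, 5, 4, 5, 4, 2, 3, 6, 3, 4, 5, 4, 5, 4, 5, 4, 2, 3, 4],
  [2, 4, 3, 4, 5, 4, 5, 4, 5, 4, 2, 3, 6, 5, 4, 5],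
  [2, 4, 6, 3, 4, 5, 4, 5, 4, 5, 4, 2, 3, 6, 3, 4, 5, 4, 5, 4, 5, 4, 2, 3],
  [6, 3, 4, 5, 4, 5, 4, 5, 4, 2, 3, 6, 5, 4, 5, 4, 6],
  [2, 6, 3, 4, 5, 4, 5, 4, 5, 4, 2, 3, 6, 5, 4, 5, 6],
  [6, 3, 4, 5, 4, 5, 4, 5, 4, 2, 3, 6, 5, 4, 5],
  [2, 7, 6, 5, 4, 3, 4, 5, 4, 5, 4, 5, 4, 2, 3, 6, 3, 4, 5, 4, 5, 4, 5, 4, 2, 3, 4],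
  [2, 3, 4, 5, 4, 5, 4, 5, 4, 2, 3, 6, 5, 4, 3, 4, 5, 4, 5, 4, 5, 4, 2, 3, 6, 3, 4, 5, 4, 5, 4, 5, 4, 2, 3],
  [6, 3, 4, 5, 4, 5, 4, 5, 4, 2, 3, 6, 5, 4, 5, 4, 6, 3, 4, 5, 4, 5, 4, 5, 4, 2, 3],
  [3, 4, 5, 4, 5, 4, 5, 4, 2, 3, 6, 5, 4, 3, 4, 5, 4, 5, 4, 5, 4, 2, 3, 6, 3, 4, 5, 4, 5, 4, 5, 4, 2, 3, 4],
  [6, 3, 4, 5, 4, 5, 4, 5, 4, 2, 3, 6, 5, 4, 3, 4, 5, 4, 5, 4, 5, 4, 2, 3, 6],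
  [7, 6, 3, 4, 5, 4, 5, 4, 5, 4, 2, 3, 4],
  [4, 6, 3, 4, 5, 4, 5, 4, 5, 4, 2, 3, 6, 5],
  [4, 7, 6, 3, 4, 5, 4, 5, 4, 5, 4, 2, 3, 4],
  [2, 4, 6, 3, 4, 5, 4, 5, 4, 5, 4, 2, 3, 6],
  [2, 4, 7, 6, 3, 4, 5, 4, 5, 4, 5, 4, 2, 3],
  [2, 4, 7, 6, 5, 4],
  [3, 4, 5, 4, 5, 4, 5, 4, 2, 3, 6, 5, 4, 5],
  [7, 6, 5, 4],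
  [3, 4, 5, 4, 5, 4, 5, 4, 2, 3, 4, 6, 3, 4, 5, 4, 5, 4, 5, 4, 2, 3, 4],
  [3, 4, 5, 4, 5, 4, 5, 4, 2, 3, 4, 6, 5, 4, 5],
  [2, 4, 3, 4, 5, 4, 5, 4, 5, 4, 2, 3, 4, 6, 3, 4, 5, 4, 5, 4, 5, 4, 2, 3, 4],
  [4, 3, 4, 5, 4, 5, 4, 5, 4, 2, 3, 4, 6, 5, 4, 3, 4, 5, 4, 5, 4, 5, 4, 2, 3],
  [2, 4, 3, 4, 5, 4, 5, 4, 5, 4, 2, 3, 6, 5, 4],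
  [2, 4, 7, 6, 5],
  [4, 3, 4, 5, 4, 5, 4, 5, 4, 2, 3, 6, 5, 4, 5],
  [4, 7, 6, 5, 4],
  [4, 7, 6, 3, 4, 5, 4, 5, 4, 5, 4, 2, 3],
  [4, 5, 6, 3, 4, 5, 4, 5, 4, 5, 4, 2, 3],
  [4, 3, 4, 5, 4, 5, 4, 5, 4, 2, 3, 6, 5, 4, 3, 4, 5, 4, 5, 4, 5, 4, 2, 3, 4],
  [5, 4, 5, 4, 6, 5, 4],
  [5, 4, 5, 4, 6, 3, 4, 5, 4, 5, 4, 5, 4, 2, 3],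
  [2, 4, 5, 4, 6, 3, 4, 5, 4, 5, 4, 5, 4, 2, 3],
  [4, 5, 4, 3, 4, 5, 4, 5, 4, 5, 4, 2, 3, 6, 5, 4, 5],
  [4, 5, 4, 3, 4, 5, 4, 5, 4, 5, 4, 2, 3, 6, 3, 4, 5, 4, 5, 4, 5, 4, 2, 3, 4],
  [4, 5, 4, 6, 3, 4, 5, 4, 5, 4, 5, 4, 2, 3, 4],
  [3, 4, 5, 4, 5, 4, 5, 4, 2, 3, 4, 6, 3, 4, 5, 4, 5, 4, 5, 4, 2, 3, 6],
  [3, 4, 5, 4, 5, 4, 5, 4, 2, 3, 6, 5, 4, 3, 4, 5, 4, 5, 4, 5, 4, 2, 3, 4, 6],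
  [2, 3, 4, 5, 4, 5, 4, 5, 4, 2, 3, 6, 5, 4, 3, 4, 5, 4, 5, 4, 5, 4, 2, 3, 6],
  [6, 5, 4, 3, 4, 5, 4, 5, 4, 5, 4, 2, 3, 4, 6, 3, 4, 5, 4, 5, 4, 5, 4, 2, 3],
  [4, 6, 5, 4, 5, 6, 3, 4, 5, 4, 5, 4, 5, 4, 2, 3, 4],
  [4, 5, 6, 5, 4, 5, 6],
  [4, 5, 6, 5, 4, 5, 4, 6, 3, 4, 5, 4, 5, 4, 5, 4, 2, 3, 6],
  [5, 4, 3, 4, 5, 4, 5, 4, 5, 4, 2, 3, 4, 6, 5, 4, 3, 4, 5, 4, 5, 4, 5, 4, 2, 3, 6],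
  [5, 4, 3, 4, 5, 4, 5, 4, 5, 4, 2, 3, 4, 6, 5, 4, 5],
  [2, 5, 4, 3, 4, 5, 4, 5, 4, 5, 4, 2, 3, 6, 5, 4, 5],
  [2, 5, 4, 3, 4, 5, 4, 5, 4, 5, 4, 2, 3, 6, 3, 4, 5, 4, 5, 4, 5, 4, 2, 3, 4],
  [2, 5, 4, 6, 3, 4, 5, 4, 5, 4, 5, 4, 2, 3, 6, 3, 4, 5, 4, 5, 4, 5, 4, 2, 3],
  [4, 5, 4, 6, 5, 4, 3, 4, 5, 4, 5, 4, 5, 4, 2, 3, 6, 3, 4, 5, 4, 5, 4, 5, 4, 2, 3],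
  [4, 5, 4, 6, 5, 4, 3, 4, 5, 4, 5, 4, 5, 4, 2, 3, 6],
  [4, 5, 4, 6, 5, 4, 5]]
def ows2c4 : List (List Nat) := [[6, 3, 4, 5, 4, 5, 4, 5, 4, 2, 3, 6, 5, 4, 3, 4, 5, 4, 5, 4, 5, 4, 2, 3, 4, 6, 5],
  [4, 5, 4, 6, 3, 4, 5, 4, 5, 4, 5, 4, 2, 3, 4, 6, 3, 4, 5, 4, 5, 4, 5, 4, 2, 3, 6],
  [5, 4, 3, 4, 5, 4, 5, 4, 5, 4, 2, 3, 6, 5, 4],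
  [5, 4, 3, 4, 5, 4, 5, 4, 5, 4, 2, 3, 6, 3, 4, 5, 4, 5, 4, 5, 4, 2, 3],
  [5, 4, 5, 6, 3, 4, 5, 4, 5, 4, 5, 4, 2, 3, 6],
  [2, 4, 5, 6, 3, 4, 5, 4, 5, 4, 5, 4, 2, 3, 4],
  [2, 4, 5, 6, 5, 4, 5],
  [2, 4, 5, 6, 3, 4, 5, 4, 5, 4, 5, 4, 2, 3, 6],
  [2, 4, 6, 3, 4, 5, 4, 5, 4, 5, 4, 2, 3, 4, 6],
  [5, 4, 6, 3, 4, 5, 4, 5, 4, 5, 4, 2, 3, 4, 6],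
  [2, 4, 5, 4, 6, 5, 4],
  [4, 5, 6, 5, 4, 5, 4],
  [4, 5, 6, 5, 4],
  [4, 6, 3, 4, 5, 4, 5, 4, 5, 4, 2, 3, 6],
  [4, 6, 3, 4, 5, 4, 5, 4, 5, 4, 2, 3, 4],
  [2, 5, 4, 6, 3, 4, 5, 4, 5, 4, 5, 4, 2, 3, 6],
  [2, 5, 4, 6, 3, 4, 5, 4, 5, 4, 5, 4, 2, 3, 4],
  [2, 6, 5],
  [2, 6, 7],
  [2, 4, 6, 7, 6],
  [6, 5, 4, 5, 6],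
  [6, 5, 4, 5, 4],
  [2, 5, 6, 5, 4, 5, 6],
  [2, 6, 5, 4, 5],
  [4, 6, 5, 4, 5],
  [6, 5, 4, 3, 4, 5, 4, 5, 4, 5, 4, 2, 3, 6, 7],
  [6, 5, 4, 3, 4, 5, 4, 5, 4, 5, 4, 2, 3, 4, 6],
  [2, 5, 6, 5, 4, 3, 4, 5, 4, 5, 4, 5, 4, 2, 3, 6, 7],
  [2, 6, 5, 4, 3, 4, 5, 4, 5, 4, 5, 4, 2, 3, 6, 3, 4, 5, 4, 5, 4, 5, 4, 2, 3],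
  [2, 6, 5, 4, 3, 4, 5, 4, 5, 4, 5, 4, 2, 3, 6],
  [5, 4, 6, 5, 4, 3, 4, 5, 4, 5, 4, 5, 4, 2, 3],
  [5, 6, 5, 4, 5],
  [5, 6, 5, 4, 3, 4, 5, 4, 5, 4, 5, 4, 2, 3, 4],
  [4, 6, 7, 6],
  [4, 5, 6, 5],
  [5, 4, 5, 4, 6, 7],
  [2, 4, 5, 4, 6, 5],
  [4, 5, 4, 6, 5, 4],
  [5, 4, 3, 4, 5, 4, 5, 4, 5, 4, 2, 3, 6, 5],
  [5, 4, 3, 4, 5, 4, 5, 4, 5, 4, 2, 3, 6, 7],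
  [2, 5, 4, 3, 4, 5, 4, 5, 4, 5, 4, 2, 3, 6, 5, 4],
  [2, 5, 4, 3, 4, 5, 4, 5, 4, 5, 4, 2, 3, 6, 3, 4, 5, 4, 5, 4, 5, 4, 2, 3],
  [5, 4, 3, 4, 5, 4, 5, 4, 5, 4, 2, 3, 4, 6, 5, 4],
  [2, 4, 6, 5],
  [2, 4, 6, 7],
  [2, 4, 5, 6, 5, 4],
  [2, 4, 5, 6, 3, 4, 5, 4, 5, 4, 5, 4, 2, 3],
  [6, 5],
  [6, 7],
  [4, 6, 5, 4],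
  [4, 6, 3, 4, 5, 4, 5, 4, 5, 4, 2, 3],
  [5, 4, 6, 5],
  [5, 4, 6, 7],
  [2, 5, 6, 5],
  [2, 5, 6, 7],
  [5, 6, 5, 4],
  [5, 6, 3, 4, 5, 4, 5, 4, 5, 4, 2, 3],
  [3, 4, 5, 4, 5, 4, 5, 4, 2, 3, 6, 7],
  [3, 4, 5, 4, 5, 4, 5, 4, 2, 3, 6, 5],
  [2, 7, 6, 5],
  [2, 6, 7, 6],
  [7, 6, 3, 4, 5, 4, 5, 4, 5, 4, 2, 3],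
  [2, 3, 4, 5, 4, 5, 4, 5, 4, 2, 3, 6, 5, 4],
  [2, 3, 4, 5, 4, 5, 4, 5, 4, 2, 3, 6, 3, 4, 5, 4, 5, 4, 5, 4, 2, 3],
  [3, 4, 5, 4, 5, 4, 5, 4, 2, 3, 4, 6, 5, 4],
  [3, 4, 5, 4, 5, 4, 5, 4, 2, 3, 4, 6, 3, 4, 5, 4, 5, 4, 5, 4, 2, 3],
  [3, 4, 5, 4, 5, 4, 5, 4, 2, 3, 6, 5, 4, 3, 4, 5, 4, 5, 4, 5, 4, 2, 3, 4],
  [2, 3, 4, 5, 4, 5, 4, 5, 4, 2, 3, 4, 6, 3, 4, 5, 4, 5, 4, 5, 4, 2, 3, 4],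
  [2, 3, 4, 5, 4, 5, 4, 5, 4, 2, 3, 4, 6, 3, 4, 5, 4, 5, 4, 5, 4, 2, 3, 6],
  [2, 5, 4, 6, 3, 4, 5, 4, 5, 4, 5, 4, 2, 3],
  [2, 5, 4, 6, 5, 4],
  [5, 4, 5, 6, 5, 4],
  [5, 4, 5, 6, 3, 4, 5, 4, 5, 4, 5, 4, 2, 3],
  [4, 3, 4, 5, 4, 5, 4, 5, 4, 2, 3, 6, 5, 4, 5, 4, 6],
  [4, 5, 4, 6, 3, 4, 5, 4, 5, 4, 5, 4, 2, 3, 6, 3, 4, 5, 4, 5, 4, 5, 4, 2, 3, 4],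
  [5, 4, 5, 4, 6, 3, 4, 5, 4, 5, 4, 5, 4, 2, 3, 6],
  [2, 4, 3, 4, 5, 4, 5, 4, 5, 4, 2, 3, 4, 6, 3, 4, 5, 4, 5, 4, 5, 4, 2, 3, 4, 6],
  [4, 3, 4, 5, 4, 5, 4, 5, 4, 2, 3, 4, 6, 3, 4, 5, 4, 5, 4, 5, 4, 2, 3, 4, 6, 5],
  [2, 4, 5, 4, 6, 3, 4, 5, 4, 5, 4, 5, 4, 2, 3, 6],
  [4, 5, 4, 6, 3, 4, 5, 4, 5, 4, 5, 4, 2, 3, 4, 6],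
  [3, 4, 5, 4, 5, 4, 5, 4, 2, 3, 6, 5, 4, 3, 4, 5, 4, 5, 4, 5, 4, 2, 3, 6],
  [5, 4, 3, 4, 5, 4, 5, 4, 5, 4, 2, 3, 4, 6, 3, 4, 5, 4, 5, 4, 5, 4, 2, 3, 4, 6],
  [4, 5, 4, 6, 3, 4, 5, 4, 5, 4, 5, 4, 2, 3, 4, 6, 3, 4, 5, 4, 5, 4, 5, 4, 2, 3],
  [2, 3, 4, 5, 4, 5, 4, 5, 4, 2, 3, 6, 5, 4, 3, 4, 5, 4, 5, 4, 5, 4, 2, 3],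
  [2, 7, 6, 3, 4, 5, 4, 5, 4, 5, 4, 2, 3, 4],
  [4, 3, 4, 5, 4, 5, 4, 5, 4, 2, 3, 4, 6, 5, 4, 3, 4, 5, 4, 5, 4, 5, 4, 2, 3, 6, 3, 4, 5, 4, 5, 4, 5, 4, 2, 3],
  [4, 3, 4, 5, 4, 5, 4, 5, 4, 2, 3, 4, 6, 5, 4, 3, 4, 5, 4, 5, 4, 5, 4, 2, 3, 6],
  [5, 4, 3, 4, 5, 4, 5, 4, 5, 4, 2, 3, 4, 6, 5, 4, 3, 4, 5, 4, 5, 4, 5, 4, 2, 3],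
  [5, 4, 6, 5, 4, 5, 6],
  [5, 6, 5, 4, 3, 4, 5, 4, 5, 4, 5, 4, 2, 3, 6, 3, 4, 5, 4, 5, 4, 5, 4, 2, 3],
  [5, 6, 5, 4, 3, 4, 5, 4, 5, 4, 5, 4, 2, 3, 6],
  [4, 3, 4, 5, 4, 5, 4, 5, 4, 2, 3, 6, 5, 4, 5, 4, 6, 3, 4, 5, 4, 5, 4, 5, 4, 2, 3],
  [4, 3, 4, 5, 4, 5, 4, 5, 4, 2, 3, 4, 6, 5, 4, 3, 4, 5, 4, 5, 4, 5, 4, 2, 3, 6, 5],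
  [6, 3, 4, 5, 4, 5, 4, 5, 4, 2, 3, 4, 6, 5, 4, 3, 4, 5, 4, 5, 4, 5, 4, 2, 3, 6, 5],
  [2, 6, 3, 4, 5, 4, 5, 4, 5, 4, 2, 3, 4, 6, 3, 4, 5, 4, 5, 4, 5, 4, 2, 3, 4, 6, 5],
  [6, 3, 4, 5, 4, 5, 4, 5, 4, 2, 3, 4, 6, 3, 4, 5, 4, 5, 4, 5, 4, 2, 3, 4, 6, 5, 4],
  [4, 5, 4, 3, 4, 5, 4, 5, 4, 5, 4, 2, 3, 6, 5, 4, 3, 4, 5, 4, 5, 4, 5, 4, 2, 3, 6],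
  [5, 4, 5, 6, 5, 4, 5],
  [5, 4, 5, 6, 3, 4, 5, 4, 5, 4, 5, 4, 2, 3, 4],
  [2, 4, 3, 4, 5, 4, 5, 4, 5, 4, 2, 3, 4, 6, 3, 4, 5, 4, 5, 4, 5, 4, 2, 3, 4, 6, 3, 4, 5, 4, 5, 4, 5, 4, 2, 3, 6],
  [5, 4, 5, 4, 6, 5, 4, 3, 4, 5, 4, 5, 4, 5, 4, 2, 3],
  [6, 3, 4, 5, 4, 5, 4, 5, 4, 2, 3, 4, 6, 5, 4, 3, 4, 5, 4, 5, 4, 5, 4, 2, 3, 6],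
  [6, 3, 4, 5, 4, 5, 4, 5, 4, 2, 3, 6, 5, 4, 5, 4],
  [2, 6, 3, 4, 5, 4, 5, 4, 5, 4, 2, 3, 6, 5, 4, 5],
  [6, 3, 4, 5, 4, 5, 4, 5, 4, 2, 3, 6, 5, 4],
  [6, 3, 4, 5, 4, 5, 4, 5, 4, 2, 3, 6, 5, 4, 3, 4, 5, 4, 5, 4, 5, 4, 2, 3],
  [6, 3, 4, 5, 4, 5, 4, 5, 4, 2, 3, 4, 6, 5, 4, 3, 4, 5, 4, 5, 4, 5, 4, 2, 3, 6, 3, 4, 5, 4, 5, 4, 5, 4, 2, 3],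
  [2, 3, 4, 5, 4, 5, 4, 5, 4, 2, 3, 6, 5, 4, 3, 4, 5, 4, 5, 4, 5, 4, 2, 3, 6, 3, 4, 5, 4, 5, 4, 5, 4, 2, 3, 4],
  [2, 6, 3, 4, 5, 4, 5, 4, 5, 4, 2, 3, 6, 5, 4, 3, 4, 5, 4, 5, 4, 5, 4, 2, 3, 6],
  [4, 3, 4, 5, 4, 5, 4, 5, 4, 2, 3, 6, 5, 4, 5, 4, 6, 5],
  [2, 4, 3, 4, 5, 4, 5, 4, 5, 4, 2, 3, 4, 6, 3, 4, 5, 4, 5, 4, 5, 4, 2, 3, 4, 6, 5, 4],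
  [6, 3, 4, 5, 4, 5, 4, 5, 4, 2, 3, 6, 5, 4, 3, 4, 5, 4, 5, 4, 5, 4, 2, 3, 4, 6, 3, 4, 5, 4, 5, 4, 5, 4, 2, 3]]
def ows2c5 : List (List Nat) := [[6, 3, 4, 5, 4, 5, 4, 5, 4, 2, 3, 6, 5, 4, 3, 4, 5, 4, 5, 4, 5, 4, 2, 3, 4, 6],
  [2, 4, 6, 3, 4, 5, 4, 5, 4, 5, 4, 2, 3],
  [3, 4, 5, 4, 5, 4, 5, 4, 2, 3, 6, 5, 4],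
  [3, 4, 5, 4, 5, 4, 5, 4, 2, 3, 6, 5, 4, 3, 4, 5, 4, 5, 4, 5, 4, 2, 3],
  [4, 3, 4, 5, 4, 5, 4, 5, 4, 2, 3, 6, 5, 4, 5, 4],
  [5, 4, 5, 4, 6, 3, 4, 5, 4, 5, 4, 5, 4, 2, 3, 4],
  [2, 4, 5, 4, 6, 3, 4, 5, 4, 5, 4, 5, 4, 2, 3, 4],
  [4, 5, 4, 3, 4, 5, 4, 5, 4, 5, 4, 2, 3, 6, 5, 4, 3, 4, 5, 4, 5, 4, 5, 4, 2, 3],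
  [4, 5, 4, 6, 5, 4, 3, 4, 5, 4, 5, 4, 5, 4, 2, 3],
  [5, 4, 6, 3, 4, 5, 4, 5, 4, 5, 4, 2, 3, 6],
  [6, 5, 4, 3, 4, 5, 4, 5, 4, 5, 4, 2, 3, 4, 6, 5],
  [4, 5, 6, 5, 4, 5, 4, 6, 3, 4, 5, 4, 5, 4, 5, 4, 2, 3],
  [4, 5, 6, 5, 4, 5, 4, 6],
  [6, 5, 4, 3, 4, 5, 4, 5, 4, 5, 4, 2, 3, 6, 5, 4, 5, 6],
  [2, 4, 5, 4, 6, 3, 4, 5, 4, 5, 4, 5, 4, 2, 3, 4, 6, 3, 4, 5, 4, 5, 4, 5, 4, 2, 3, 6],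
  [2, 6, 5, 4, 3, 4, 5, 4, 5, 4, 5, 4, 2, 3, 6, 5, 4, 5],
  [4, 5, 4, 6, 5, 4, 3, 4, 5, 4, 5, 4, 5, 4, 2, 3, 6, 5],
  [2, 4, 6, 3, 4, 5, 4, 5, 4, 5, 4, 2, 3, 4],
  [5, 4, 6, 3, 4, 5, 4, 5, 4, 5, 4, 2, 3, 4],
  [2, 6, 5, 4],
  [2, 6, 3, 4, 5, 4, 5, 4, 5, 4, 2, 3],
  [6, 5, 4, 5],
  [6, 5, 4, 3, 4, 5, 4, 5, 4, 5, 4, 2, 3, 4],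
  [2, 5, 6, 5, 4, 5],
  [2, 6, 5, 4, 3, 4, 5, 4, 5, 4, 5, 4, 2, 3],
  [6, 5, 4, 3, 4, 5, 4, 5, 4, 5, 4, 2, 3, 6, 3, 4, 5, 4, 5, 4, 5, 4, 2, 3],
  [6, 5, 4, 3, 4, 5, 4, 5, 4, 5, 4, 2, 3, 6],
  [2, 5, 6, 5, 4, 3, 4, 5, 4, 5, 4, 5, 4, 2, 3, 6, 3, 4, 5, 4, 5, 4, 5, 4, 2, 3],
  [2, 5, 6, 5, 4, 3, 4, 5, 4, 5, 4, 5, 4, 2, 3, 6],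
  [2, 6, 5, 4, 3, 4, 5, 4, 5, 4, 5, 4, 2, 3, 6, 3, 4, 5, 4, 5, 4, 5, 4, 2, 3, 4],
  [2, 6, 5, 4, 3, 4, 5, 4, 5, 4, 5, 4, 2, 3, 6, 5],
  [5, 4, 6, 5, 4, 5],
  [5, 6, 5, 4, 3, 4, 5, 4, 5, 4, 5, 4, 2, 3],
  [2, 4, 6, 5, 4],
  [6, 5, 4],
  [6, 3, 4, 5, 4, 5, 4, 5, 4, 2, 3],
  [5, 4, 6, 5, 4],
  [5, 4, 6, 3, 4, 5, 4, 5, 4, 5, 4, 2, 3],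
  [2, 5, 6, 5, 4],
  [2, 5, 6, 3, 4, 5, 4, 5, 4, 5, 4, 2, 3],
  [5, 6, 3, 4, 5, 4, 5, 4, 5, 4, 2, 3, 4],
  [5, 6, 3, 4, 5, 4, 5, 4, 5, 4, 2, 3, 6],
  [3, 4, 5, 4, 5, 4, 5, 4, 2, 3, 6, 3, 4, 5, 4, 5, 4, 5, 4, 2, 3],
  [2, 7, 6, 3, 4, 5, 4, 5, 4, 5, 4, 2, 3],
  [6, 3, 4, 5, 4, 5, 4, 5, 4, 2, 3, 6, 5],
  [2, 3, 4, 5, 4, 5, 4, 5, 4, 2, 3, 6, 3, 4, 5, 4, 5, 4, 5, 4, 2, 3, 4],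
  [2, 6, 3, 4, 5, 4, 5, 4, 5, 4, 2, 3, 6, 3, 4, 5, 4, 5, 4, 5, 4, 2, 3],
  [5, 4, 5, 4, 6, 3, 4, 5, 4, 5, 4, 5, 4, 2, 3, 4, 6],
  [4, 3, 4, 5, 4, 5, 4, 5, 4, 2, 3, 4, 6, 3, 4, 5, 4, 5, 4, 5, 4, 2, 3, 4, 6, 3, 4, 5, 4, 5, 4, 5, 4, 2, 3],
  [2, 4, 3, 4, 5, 4, 5, 4, 5, 4, 2, 3, 4, 6, 3, 4, 5, 4, 5, 4, 5, 4, 2, 3, 4, 6, 5],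
  [4, 3, 4, 5, 4, 5, 4, 5, 4, 2, 3, 4, 6, 3, 4, 5, 4, 5, 4, 5, 4, 2, 3, 4, 6, 5, 4],
  [2, 4, 5, 4, 6, 3, 4, 5, 4, 5, 4, 5, 4, 2, 3, 4, 6],
  [4, 5, 4, 6, 3, 4, 5, 4, 5, 4, 5, 4, 2, 3, 4, 6, 5],
  [2, 4, 5, 4, 6, 3, 4, 5, 4, 5, 4, 5, 4, 2, 3, 4, 6, 3, 4, 5, 4, 5, 4, 5, 4, 2, 3],
  [4, 5, 4, 6, 3, 4, 5, 4, 5, 4, 5, 4, 2, 3, 4, 6, 3, 4, 5, 4, 5, 4, 5, 4, 2, 3, 4],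
  [2, 6, 3, 4, 5, 4, 5, 4, 5, 4, 2, 3, 6, 5, 4],
  [5, 6, 5, 4, 3, 4, 5, 4, 5, 4, 5, 4, 2, 3, 6, 3, 4, 5, 4, 5, 4, 5, 4, 2, 3, 4],
  [6, 3, 4, 5, 4, 5, 4, 5, 4, 2, 3, 4, 6, 3, 4, 5, 4, 5, 4, 5, 4, 2, 3, 6],
  [6, 3, 4, 5, 4, 5, 4, 5, 4, 2, 3, 4, 6, 3, 4, 5, 4, 5, 4, 5, 4, 2, 3, 4, 6, 5],
  [2, 6, 3, 4, 5, 4, 5, 4, 5, 4, 2, 3, 4, 6, 3, 4, 5, 4, 5, 4, 5, 4, 2, 3, 4, 6],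
  [2, 6, 3, 4, 5, 4, 5, 4, 5, 4, 2, 3, 4, 6, 3, 4, 5, 4, 5, 4, 5, 4, 2, 3, 4, 6, 3, 4, 5, 4, 5, 4, 5, 4, 2, 3],
  [4, 3, 4, 5, 4, 5, 4, 5, 4, 2, 3, 4, 6, 3, 4, 5, 4, 5, 4, 5, 4, 2, 3, 4, 6, 3, 4, 5, 4, 5, 4, 5, 4, 2, 3, 6],
  [2, 4, 3, 4, 5, 4, 5, 4, 5, 4, 2, 3, 4, 6, 3, 4, 5, 4, 5, 4, 5, 4, 2, 3, 4, 6, 3, 4, 5, 4, 5, 4, 5, 4, 2, 3],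
  [6, 3, 4, 5, 4, 5, 4, 5, 4, 2, 3, 4, 6, 5, 4, 3, 4, 5, 4, 5, 4, 5, 4, 2, 3],
  [2, 6, 3, 4, 5, 4, 5, 4, 5, 4, 2, 3, 4, 6, 3, 4, 5, 4, 5, 4, 5, 4, 2, 3, 4],
  [6, 3, 4, 5, 4, 5, 4, 5, 4, 2, 3, 6, 5, 4, 3, 4, 5, 4, 5, 4, 5, 4, 2, 3, 4],
  [2, 6, 3, 4, 5, 4, 5, 4, 5, 4, 2, 3, 6, 5, 4, 3, 4, 5, 4, 5, 4, 5, 4, 2, 3],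
  [6, 3, 4, 5, 4, 5, 4, 5, 4, 2, 3, 6, 3, 4, 5, 4, 5, 4, 5, 4, 2, 3, 4],
  [6, 3, 4, 5, 4, 5, 4, 5, 4, 2, 3, 4, 6, 5, 4, 5, 6, 3, 4, 5, 4, 5, 4, 5, 4, 2, 3],
  [6, 3, 4, 5, 4, 5, 4, 5, 4, 2, 3, 4, 6, 5, 4, 5, 6],
  [2, 4, 3, 4, 5, 4, 5, 4, 5, 4, 2, 3, 4, 6, 3, 4, 5, 4, 5, 4, 5, 4, 2, 3, 4, 6, 3, 4, 5, 4, 5, 4, 5, 4, 2, 3, 4],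
  [3, 4, 5, 4, 5, 4, 5, 4, 2, 3, 6, 3, 4, 5, 4, 5, 4, 5, 4, 2, 3, 4],
  [6, 5, 4, 3, 4, 5, 4, 5, 4, 5, 4, 2, 3, 6, 5, 4, 5],
  [4, 5, 6, 5, 4, 5, 4, 6, 5],
  [2, 6, 5, 4, 3, 4, 5, 4, 5, 4, 5, 4, 2, 3, 6, 5, 4],
  [2, 6, 5, 4, 3, 4, 5, 4, 5, 4, 5, 4, 2, 3, 6, 5, 4, 3, 4, 5, 4, 5, 4, 5, 4, 2, 3],
  [2, 6, 3, 4, 5, 4, 5, 4, 5, 4, 2, 3, 4],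
  [2, 6, 3, 4, 5, 4, 5, 4, 5, 4, 2, 3, 6],
  [6, 5, 4, 3, 4, 5, 4, 5, 4, 5, 4, 2, 3],
  [2, 5, 6, 5, 4, 3, 4, 5, 4, 5, 4, 5, 4, 2, 3],
  [6, 5, 4, 3, 4, 5, 4, 5, 4, 5, 4, 2, 3, 6, 3, 4, 5, 4, 5, 4, 5, 4, 2, 3, 4],
  [6, 5, 4, 3, 4, 5, 4, 5, 4, 5, 4, 2, 3, 6, 5],
  [2, 5, 6, 5, 4, 3, 4, 5, 4, 5, 4, 5, 4, 2, 3, 6, 3, 4, 5, 4, 5, 4, 5, 4, 2, 3, 4],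
  [2, 6, 3, 4, 5, 4, 5, 4, 5, 4, 2, 3, 4, 6, 3, 4, 5, 4, 5, 4, 5, 4, 2, 3, 6],
  [2, 6, 3, 4, 5, 4, 5, 4, 5, 4, 2, 3, 4, 6, 5],
  [6, 3, 4, 5, 4, 5, 4, 5, 4, 2, 3, 4],
  [6, 3, 4, 5, 4, 5, 4, 5, 4, 2, 3, 6],
  [2, 5, 6, 3, 4, 5, 4, 5, 4, 5, 4, 2, 3, 4],
  [2, 5, 6, 3, 4, 5, 4, 5, 4, 5, 4, 2, 3, 6],
  [5, 6, 3, 4, 5, 4, 5, 4, 5, 4, 2, 3, 4, 6],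
  [6, 3, 4, 5, 4, 5, 4, 5, 4, 2, 3, 6, 3, 4, 5, 4, 5, 4, 5, 4, 2, 3],
  [2, 6, 3, 4, 5, 4, 5, 4, 5, 4, 2, 3, 6, 5],
  [2, 6, 3, 4, 5, 4, 5, 4, 5, 4, 2, 3, 6, 3, 4, 5, 4, 5, 4, 5, 4, 2, 3, 4],
  [4, 3, 4, 5, 4, 5, 4, 5, 4, 2, 3, 4, 6, 3, 4, 5, 4, 5, 4, 5, 4, 2, 3, 4, 6, 3, 4, 5, 4, 5, 4, 5, 4, 2, 3, 4],
  [2, 4, 5, 4, 6, 3, 4, 5, 4, 5, 4, 5, 4, 2, 3, 4, 6, 3, 4, 5, 4, 5, 4, 5, 4, 2, 3, 4],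
  [2, 4, 5, 4, 6, 3, 4, 5, 4, 5, 4, 5, 4, 2, 3, 4, 6, 5],
  [4, 5, 4, 6, 3, 4, 5, 4, 5, 4, 5, 4, 2, 3, 4, 6, 5, 4],
  [6, 3, 4, 5, 4, 5, 4, 5, 4, 2, 3, 4, 6, 3, 4, 5, 4, 5, 4, 5, 4, 2, 3, 4, 6, 3, 4, 5, 4, 5, 4, 5, 4, 2, 3],
  [6, 3, 4, 5, 4, 5, 4, 5, 4, 2, 3, 4, 6, 3, 4, 5, 4, 5, 4, 5, 4, 2, 3, 4, 6],
  [6, 3, 4, 5, 4, 5, 4, 5, 4, 2, 3, 4, 6, 3, 4, 5, 4, 5, 4, 5, 4, 2, 3],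
  [6, 3, 4, 5, 4, 5, 4, 5, 4, 2, 3, 4, 6, 3, 4, 5, 4, 5, 4, 5, 4, 2, 3, 4],
  [6, 3, 4, 5, 4, 5, 4, 5, 4, 2, 3, 4, 6, 5, 4, 5],
  [2, 6, 3, 4, 5, 4, 5, 4, 5, 4, 2, 3, 4, 6, 3, 4, 5, 4, 5, 4, 5, 4, 2, 3],
  [2, 6, 3, 4, 5, 4, 5, 4, 5, 4, 2, 3, 4, 6, 5, 4],
  [6, 5, 4, 3, 4, 5, 4, 5, 4, 5, 4, 2, 3, 6, 5, 4],
  [6, 5, 4, 3, 4, 5, 4, 5, 4, 5, 4, 2, 3, 6, 5, 4, 3, 4, 5, 4, 5, 4, 5, 4, 2, 3],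
  [2, 6, 3, 4, 5, 4, 5, 4, 5, 4, 2, 3, 4, 6],
  [6, 3, 4, 5, 4, 5, 4, 5, 4, 2, 3, 4, 6, 5],
  [6, 3, 4, 5, 4, 5, 4, 5, 4, 2, 3, 4, 6],
  [2, 5, 6, 3, 4, 5, 4, 5, 4, 5, 4, 2, 3, 4, 6],
  [6, 5, 4, 3, 4, 5, 4, 5, 4, 5, 4, 2, 3, 6, 5, 4, 3, 4, 5, 4, 5, 4, 5, 4, 2, 3, 6],
  [6, 3, 4, 5, 4, 5, 4, 5, 4, 2, 3, 4, 6, 5, 4]]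
def ows2 : List (List Nat) := ows2c0 ++ ows2c1 ++ ows2c2 ++ ows2c3 ++ ows2c4 ++ ows2c5
/-- the words of the letters `a, b, b⁻¹` of the presentation of J1 -/
def kwsJ : List (List Nat) := [[2],
  [6, 4, 0, 6, 5, 0, 3, 4, 5, 1, 6, 1, 4, 3, 2, 5, 4, 3, 2, 5, 4, 3, 6, 5, 4, 3, 5, 4, 6, 5, 6, 4, 5, 4, 3, 6, 7, 6, 5, 3, 4, 5, 6, 3, 1, 4, 5, 4, 3, 1, 2, 3, 0, 3, 4, 5, 4, 0, 3, 6, 5, 4, 3, 5, 6, 7, 6, 3, 4, 5, 4, 6, 5, 6, 4, 5, 3, 4, 5, 6, 3, 4, 5, 2, 3, 4, 5, 2, 3, 4, 0, 6, 0, 5, 4, 3, 1, 5, 6, 1, 4, 6],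
  [6, 4, 0, 6, 5, 0, 3, 4, 5, 1, 6, 1, 4, 3, 2, 5, 4, 3, 2, 5, 4, 3, 6, 5, 4, 3, 5, 4, 6, 5, 6, 4, 5, 4, 3, 6, 7, 6, 5, 3, 4, 5, 6, 3, 1, 4, 5, 4, 3, 1, 3, 2, 0, 3, 4, 5, 4, 0, 3, 6, 5, 4, 3, 5, 6, 7, 6, 3, 4, 5, 4, 6, 5, 6, 4, 5, 3, 4, 5, 6, 3, 4, 5, 2, 3, 4, 5, 2, 3, 4, 0, 6, 0, 5, 4, 3, 1, 5, 6, 1, 4, 6]]
/-- the words of the letters `a, b, b⁻¹` of the presentation of M11 -/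
def kwsM : List (List Nat) := [[2],
  [7, 6, 4, 3, 1, 5, 6, 4, 5, 4, 5, 3, 1, 2, 4, 3, 5, 4, 6, 5, 4, 3, 2, 5, 4, 5, 6, 5, 4, 3, 2, 5, 4, 3, 7, 6, 3, 0, 6, 7, 5, 6, 4, 3, 1, 5, 4, 5, 6, 3, 1, 4, 5, 4, 5, 0, 3, 6, 5, 4, 5, 0, 3, 4, 6, 5, 7, 6, 1, 3, 6, 7, 3, 4, 5, 2, 3, 4, 5, 6, 5, 4, 5, 2, 3, 4, 5, 6, 4, 5, 3, 4, 2, 0, 3, 5, 4, 5, 4, 6, 5, 0, 3, 4, 6, 7],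
  [7, 6, 4, 3, 1, 5, 6, 4, 5, 4, 5, 3, 1, 2, 4, 3, 5, 4, 6, 5, 4, 3, 2, 5, 4, 5, 6, 5, 4, 3, 2, 5, 4, 3, 7, 6, 3, 0, 6, 7, 5, 6, 4, 3, 1, 5, 4, 5, 6, 3, 1, 5, 4, 5, 4, 0, 3, 6, 5, 4, 5, 0, 3, 4, 6, 5, 7, 6, 1, 3, 6, 7, 3, 4, 5, 2, 3, 4, 5, 6, 5, 4, 5, 2, 3, 4, 5, 6, 4, 5, 3, 4, 2, 0, 3, 5, 4, 5, 4, 6, 5, 0, 3, 4, 6, 7]]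

end Cfsg.Agent.Lib.Helper28.ONData
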