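import Cfsg.Agent.Lib.Helper28.ONBase
import Cfsg.Agent.Lib.Helper28.M11pMain
import Cfsg.Agent.Lib.Helper28.J1pMain

/-!
The presented O'Nan group, if of order 460815505920, has simple subgroups of orders 175560 and
7920: images of the presented groups `J1p` and `M11p`, the relators being checked on the base
`0, 110790, 74747` of the representation on 122760 points.
-/

set_option autoImplicit false

namespace Cfsg.Agent.Lib.Helper28.ONSub

open Cfsg.Spor Cfsg.Agent.Lib.Helper28.TCKernel Cfsg.Agent.Lib.Helper28.TCSound
open Cfsg.Agent.Lib.Helper28.TCPerm Cfsg.Agent.Lib.Helper28.TCPres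
open Cfsg.Agent.Lib.Helper28.CeGen Cfsg.Agent.Lib.Helper28.SubHom Cfsg.Agent.Lib.Helper28.ONBase

theorem relJ0 : relsAt (tpOf T1692LT.tp ONData.kwsJ) PresJ1p.relW 0 = true := by decide +kernel
theorem relJ1 : relsAt (tpOf T1692LT.tp ONData.kwsJ) PresJ1p.relW 110790 = true := by
  decide +kernel
theorem relJ2 : relsAt (tpOf T1692LT.tp ONData.kwsJ) PresJ1p.relW 74747 = true := by
  decide +kernel
theorem relM0 : relsAt (tpOf T1692LT.tp ONData.kwsM) PresM11p.relW 0 = true := by decide +kernel
theorem relM1 : relsAt (tpOf T1692LT.tp ONData.kwsM) PresM11p.relW 110790 = true := by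
  decide +kernel
theorem relM2 : relsAt (tpOf T1692LT.tp ONData.kwsM) PresM11p.relW 74747 = true := by
  decide +kernel

theorem main (hc : Nat.card (Grp ON.edges ON.extra) = 460815505920) :
    (∃ K : Subgroup (Grp ON.edges ON.extra), IsSimpleGroup K ∧ Nat.card K = 175560) ∧
    (∃ K : Subgroup (Grp ON.edges ON.extra), IsSimpleGroup K ∧ Nat.card K = 7920) := by
  have hfin : Finite (Grp ON.edges ON.extra) :=
    Nat.finite_of_card_ne_zero (by rw [hc]; decide)
  have hn : 0 < 122760 := by decide
  obtain ⟨φ, hφ⟩ := exists_hom PresON.ok (letterPerm T1692X.permOK)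
    (letterPerm_inv T1692X.permOK) (letterPerm_rel T1692X.permOK)
  have hφ' : ∀ y, y < 8 → ∀ a : Fin 122760,
      (((φ (ltG ON.edges ON.extra PresON.dec y))⁻¹ a : Fin 122760) : Nat) = T1692LT.tp y a := by
    intro y hy a
    rw [hφ y hy]; exact letterPerm_inv_apply T1692X.permOK y hy a
  have htr0 := transitive T1692X.permOK hn (ltG ON.edges ON.extra PresON.dec) φ hφ
  have htr : ∀ b : Fin 122760, ∃ g : Grp ON.edges ON.extra, φ g ⟨0, hn⟩ = b :=
    fun b => htr0 b.1 b.2
  have hbase := base3 φ (ltG ON.edges ON.extra PresON.dec) hφ' hn htr 110790 74747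
    (by decide) (by decide) ONData.ows1 ONData.ows2 hL1 hL2 hf1 hf2 hi1 hi2
    460815505920 hlen (by decide) (le_of_eq hc)
  have hIG : ∀ y, y < 8 → ltG ON.edges ON.extra PresON.dec (PresON.inv y) =
      (ltG ON.edges ON.extra PresON.dec y)⁻¹ := ltG_inv PresON.ok
  constructor
  · exact sub_simple PresJ1p.ok J1pMain.simple_card.1 175560 J1pMain.simple_card.2 φ
      (ltG ON.edges ON.extra PresON.dec) hφ' PresON.inv hIG _ hbase ONData.kwsJ
      (by decide +kernel) (by decide +kernel)
      (by
        intro q hq
        rcases List.mem_cons.mp hq with e | hq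
        · rw [e]; exact relJ2
        rcases List.mem_cons.mp hq with e | hq
        · rw [e]; exact relJ1
        · rw [List.mem_singleton.mp hq]; exact relJ0)
      0 (by decide) 74747 (by decide) (by decide +kernel)
  · exact sub_simple PresM11p.ok M11pMain.simple_card.1 7920 M11pMain.simple_card.2 φ
      (ltG ON.edges ON.extra PresON.dec) hφ' PresON.inv hIG _ hbase ONData.kwsM
      (by decide +kernel) (by decide +kernel)
      (by
        intro q hq
        rcases List.mem_cons.mp hq with e | hq
        · rw [e]; exact relM2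
        rcases List.mem_cons.mp hq with e | hq
        · rw [e]; exact relM1
        · rw [List.mem_singleton.mp hq]; exact relM0)
      0 (by decide) 74747 (by decide) (by decide +kernel)

end Cfsg.Agent.Lib.Helper28.ONSub
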