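import Cfsg.Prelude.Def_Sporadic
import Cfsg.Prelude.Def_Spor_ON
import Cfsg.Agent.Lib.Helper28.ONSub
import Cfsg.Agent.Lib.Helper28.CosetRep2

/-!
The O'Nan group on 122760 points with its subgroups `J1` and `M11`, given that the presented
group is simple of order 460815505920 and that `<a, ..., f>` has index 122760.
-/

set_option autoImplicit false

namespace Cfsg.Agent.Lib.Helper28.ONFin

open Cfsg.Spor Cfsg.Agent.Lib.Helper28.TCPres

theorem final (hON : Cfsg.IsON Cfsg.Spor.ON)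
    (hidx : (((Subgroup.closure ({Cfsg.Spor.ON.a, Cfsg.Spor.ON.b, Cfsg.Spor.ON.c, Cfsg.Spor.ON.d,
      Cfsg.Spor.ON.e, Cfsg.Spor.ON.f} : Set (FreeGroup Cfsg.Spor.ON.Gen))).map
      (PresentedGroup.mk (Cfsg.Spor.coxRelators Cfsg.Spor.ON.edges ∪
        {r | r ∈ Cfsg.Spor.ON.extra})))).index = 122760) :
    ∃ H : Subgroup (Equiv.Perm (Fin 122760)), Cfsg.IsON H ∧
      MulAction.IsPretransitive H (Fin 122760) ∧
      Nat.card (MulAction.stabilizer H (0 : Fin 122760)) = 3753792 ∧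
      (∃ K : Subgroup H, Cfsg.IsJ1 K) ∧ (∃ K : Subgroup H, Cfsg.IsM11 K) := by
  obtain ⟨hs, hc⟩ := hON
  obtain ⟨H, φ, htr, hst⟩ := CosetRep2.assemble2 _ 122760 (by decide) hidx hs
  obtain ⟨⟨KJ, hKJs, hKJc⟩, ⟨KM, hKMs, hKMc⟩⟩ := ONSub.main hc
  have hcH : Nat.card H = 460815505920 := by
    rw [← hc]; exact (Nat.card_congr φ.toEquiv).symm
  refine ⟨H, ⟨?_, hcH⟩, htr, ?_, ⟨KJ.map (φ : Cfsg.Spor.ON →* H), ?_, ?_⟩,
    ⟨KM.map (φ : Cfsg.Spor.ON →* H), ?_, ?_⟩⟩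
  · have := hs
    exact φ.symm.isSimpleGroup
  · rw [hst]
    have h1 := Subgroup.card_mul_index ((Subgroup.closure ({Cfsg.Spor.ON.a, Cfsg.Spor.ON.b,
      Cfsg.Spor.ON.c, Cfsg.Spor.ON.d, Cfsg.Spor.ON.e, Cfsg.Spor.ON.f} :
      Set (FreeGroup Cfsg.Spor.ON.Gen))).map
      (PresentedGroup.mk (Cfsg.Spor.coxRelators Cfsg.Spor.ON.edges ∪
        {r | r ∈ Cfsg.Spor.ON.extra})))
    rw [hidx, hc] at h1
    exact Nat.eq_of_mul_eq_mul_right (by decide : 0 < 122760)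
      (h1.trans (by norm_num : (460815505920 : ℕ) = 3753792 * 122760))
  · have := hKJs
    exact (φ.subgroupMap KJ).symm.isSimpleGroup
  · rw [← hKJc]
    exact (Nat.card_congr (φ.subgroupMap KJ).toEquiv).symm
  · have := hKMs
    exact (φ.subgroupMap KM).symm.isSimpleGroup
  · rw [← hKMc]
    exact (Nat.card_congr (φ.subgroupMap KM).toEquiv).symm

end Cfsg.Agent.Lib.Helper28.ONFin
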