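import Mathlib

set_option autoImplicit false

namespace Cfsg.Agent.Lib.Helper28.ONSData

/-- the element `g b c e d` of order 31 -/
def xW : List Nat := [0, 3, 4, 6, 5]
def xiW : List Nat := [5, 6, 4, 3, 1]
def seeds : List (List Nat) := [xW, xiW]
def drv : List (Nat × List (List Nat × List Nat)) := [(4, [([7, 4, 0, 4, 5, 1, 6, 0, 4, 5, 4, 1, 4, 7, 1, 3, 2, 1, 6, 7, 4, 1, 2, 7, 2, 4, 3, 6], [5, 6, 4, 3, 1]), ([7, 4, 0, 4, 5, 1, 6, 0, 4, 5, 4, 1, 4, 7, 1, 3, 2, 1, 6, 7, 4, 1, 2, 7, 2, 4, 3, 6, 1], [0, 3, 4, 6, 5]), ([7, 4, 0, 4, 5, 1, 6, 0, 4, 5, 4, 1, 4, 7, 1, 3, 2, 1, 6, 7, 4, 1, 2, 7, 2, 4, 3, 6], [5, 6, 4, 3, 1]), ([7, 4, 0, 4, 5, 1, 6, 0, 4, 5, 4, 1, 4, 7, 1, 3, 2, 1, 6, 7,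 4, 1, 2, 7, 2, 4, 3, 6, 1], [0, 3, 4, 6, 5])]),
  (3, [([4, 3], [4])]),
  (2, [([3, 2], [3])]),
  (7, [([], [2]), ([], [4]), ([5], [4]), ([], [4]), ([5], [4])]),
  (6, [([7, 6], [7])]),
  (5, [([6, 5], [6])]),
  (0, [([0, 0, 0, 0], [5, 4, 3]), ([0, 0, 0], [5, 4, 3]), ([0, 0], [5, 4, 3]), ([0], [5, 4, 3]), ([], [5, 4, 3])]),
  (1, [([], [0, 0, 0])])]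
def prs : List (List Nat × List Nat) := [([7, 4, 0, 4, 5, 1, 6, 0, 4, 5, 4, 1, 4, 7, 1, 3, 2, 1, 6, 7, 4, 1, 2, 7, 2, 4, 3, 6, 5, 6, 4, 3, 1, 6, 3, 4, 2, 7, 2, 0, 4, 7, 6, 0, 2, 3, 0, 7, 4, 0, 4, 5, 4, 1, 6, 0, 5, 4, 1, 4, 7, 7, 4, 0, 4, 5, 1, 6, 0, 4, 5, 4, 1, 4, 7, 1, 3, 2, 1, 6, 7, 4, 1, 2, 7, 2, 4, 3, 6, 1, 0, 3, 4, 6, 5, 0, 6, 3, 4, 2, 7, 2, 0, 4, 7, 6, 0, 2, 3, 0, 7, 4, 0, 4, 5, 4, 1, 6, 0, 5, 4, 1, 4, 7, 7, 4, 0, 4, 5, 1, 6, 0, 4, 5, 4, 1, 4, 7, 1, 3, 2, 1, 6, 7, 4, 1, 2, 7, 2, 4, 3, 6, 5, 6, 4, 3, 1, 6, 3, 4, 2, 7, 2, 0, 4, 7, 6, 0, 2, 3, 0, 7, 4, 0, 4, 5, 4, 1, 6, 0, 5, 4, 1, 4, 7, 7, 4, 0, 4, 5, 1, 6, 0, 4, 5, 4, 1, 4, 7, 1, 3, 2, 1, 6, 7, 4, 1, 2, 7, 2, 4, 3, 6, 1, 0,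 3, 4, 6, 5, 0, 6, 3, 4, 2, 7, 2, 0, 4, 7, 6, 0, 2, 3, 0, 7, 4, 0, 4, 5, 4, 1, 6, 0, 5, 4, 1, 4, 7], [4]),
  ([4, 3, 4, 3, 4], [3]),
  ([3, 2, 3, 2, 3], [2]),
  ([2, 4, 5, 4, 5, 4, 5, 4, 5], [7]),
  ([7, 6, 7, 6, 7], [6]),
  ([6, 5, 6, 5, 6], [5]),
  ([0, 0, 0, 0, 5, 4, 3, 1, 1, 1, 1, 0, 0, 0, 5, 4, 3, 1, 1, 1, 0, 0, 5, 4, 3, 1, 1, 0, 5, 4, 3, 1, 5, 4, 3], [0]),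
  ([0, 0, 0], [1]),
  ([0, 3, 4, 6, 5, 0, 3, 4, 6, 5, 0, 3, 4, 6, 5, 0, 3, 4, 6, 5, 0, 3, 4, 6, 5, 0, 3, 4, 6, 5, 0, 3, 4, 6, 5, 0, 3, 4, 6, 5, 0, 3, 4, 6, 5, 0, 3, 4, 6, 5, 0, 3, 4, 6, 5, 0, 3, 4, 6, 5, 0, 3, 4, 6, 5, 0, 3, 4, 6, 5, 0, 3, 4, 6, 5, 0, 3, 4, 6, 5, 0, 3, 4, 6, 5, 0, 3, 4, 6, 5, 0, 3, 4, 6, 5, 0, 3, 4, 6, 5, 0, 3, 4, 6, 5, 0, 3, 4, 6, 5, 0, 3, 4, 6, 5, 0, 3, 4, 6, 5, 0, 3, 4, 6, 5, 0, 3, 4, 6, 5, 0, 3, 4, 6, 5, 0, 3, 4, 6, 5, 0, 3, 4, 6, 5, 0, 3, 4, 6, 5, 0, 3, 4, 6, 5], [])]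
def x31 : List Nat := [0, 3, 4, 6, 5, 0, 3, 4, 6, 5, 0, 3, 4, 6, 5, 0, 3, 4, 6, 5, 0, 3, 4, 6, 5, 0, 3, 4, 6, 5, 0, 3, 4, 6, 5, 0, 3, 4, 6, 5, 0, 3, 4, 6, 5, 0, 3, 4, 6, 5, 0, 3, 4, 6, 5, 0, 3, 4, 6, 5, 0, 3, 4, 6, 5, 0, 3, 4, 6, 5, 0, 3, 4, 6, 5, 0, 3, 4, 6, 5, 0, 3, 4, 6, 5, 0, 3, 4, 6, 5, 0, 3, 4, 6, 5, 0, 3, 4, 6, 5, 0, 3, 4, 6, 5, 0, 3, 4, 6, 5, 0, 3, 4, 6, 5, 0, 3, 4, 6, 5, 0, 3, 4, 6, 5, 0, 3, 4, 6, 5, 0, 3, 4, 6, 5, 0, 3, 4, 6, 5, 0, 3, 4, 6, 5, 0, 3, 4, 6, 5, 0, 3, 4, 6, 5]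
def pcerts : List (List (List Nat × Nat)) := [[],
  [([0], 7), ([0], 21), ([0], 42)],
  [([0, 3, 0], 58674), ([0], 58660), ([0], 58688)],
  [([0, 4, 0], 110803), ([0], 110803), ([0], 110831)],
  [([0, 3, 5, 0], 116382), ([0, 4, 0], 116389), ([0], 116396)]]

end Cfsg.Agent.Lib.Helper28.ONSData
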