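import Mathlib
import Cfsg.Prelude.Def_SporCoxeter

/-!
Order bounds along chains of subgroups of presented groups: a subgroup of finite index with
bounded order, and the subgroup generated by some of the generators as a quotient of the
group presented by the relators that involve only those generators.
-/

set_option autoImplicit false

namespace Cfsg.Agent.Lib.Helper28.OrdChain

open Cfsg.Spor

theorem card_le_of_index {G : Type*} [Group G] (H : Subgroup G) (n m : Nat)
    (hidx : H.index = n) (hn : 0 < n) (hfin : Finite H) (hm : Nat.card H ≤ m) :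
    Finite G ∧ Nat.card G ≤ n * m := by
  have h1 := Subgroup.card_mul_index H
  rw [hidx] at h1
  have hpos : 0 < Nat.card H := Nat.card_pos
  have hG : Nat.card G ≠ 0 := by
    rw [← h1]
    exact Nat.mul_ne_zero (by omega) (by omega)
  refine ⟨Nat.finite_of_card_ne_zero hG, ?_⟩
  rw [← h1, mul_comm]
  exact Nat.mul_le_mul_left _ hm

theorem card_range_le {P G : Type*} [Group P] [Group G] [Finite P] (f : P →* G) (m : Nat)
    (hm : Nat.card P ≤ m) : Finite f.range ∧ Nat.card f.range ≤ m :=
  ⟨Finite.of_surjective f.rangeRestrict f.rangeRestrict_surjective,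
    le_trans (Nat.card_le_card_of_surjective f.rangeRestrict f.rangeRestrict_surjective) hm⟩

/-- the subgroup generated by the generators `ι x` is a quotient of the group presented by
a sub-diagram and some of the further relators. -/
theorem sub_hom {α β : Type} [DecidableEq α] [DecidableEq β]
    (edges : List (α × ℕ × α)) (extra : List (FreeGroup α))
    (edges' : List (β × ℕ × β)) (extra' : List (FreeGroup β)) (ι : β → α) (gens' : List β)
    (hall : ∀ x : β, x ∈ gens')
    (hcox : ∀ x ∈ coxNodes edges', ∀ y ∈ coxNodes edges',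
      ι x ∈ coxNodes edges ∧ ι y ∈ coxNodes edges ∧
        coxLabel edges (ι x) (ι y) = coxLabel edges' x y)
    (hextra : ∀ r ∈ extra', FreeGroup.map ι r ∈ extra) :
    ∃ F : CoxPresented β edges' extra' →* CoxPresented α edges extra,
      F.range = (Subgroup.closure {s | s ∈ gens'.map (fun x => FreeGroup.of (ι x))}).map
        (PresentedGroup.mk (coxRelators edges ∪ {r | r ∈ extra})) := by
  let R : Set (FreeGroup α) := coxRelators edges ∪ {r | r ∈ extra}
  let f : β → PresentedGroup R := fun x => PresentedGroup.of (ι x)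
  have hlift : ∀ r : FreeGroup β, FreeGroup.lift f r = PresentedGroup.mk R (FreeGroup.map ι r) := by
    intro r
    have : FreeGroup.lift f = (PresentedGroup.mk R).comp (FreeGroup.map ι) := by
      ext x
      simp [f, PresentedGroup.of]
    rw [this]; rfl
  have h : ∀ r ∈ (coxRelators edges' ∪ {r | r ∈ extra'} : Set (FreeGroup β)),
      FreeGroup.lift f r = 1 := by
    intro r hr
    rw [hlift]
    apply PresentedGroup.one_of_mem
    rcases hr with ⟨x, hx, y, hy, rfl⟩ | hr
    · obtain ⟨h1, h2, h3⟩ := hcox x hx y hy
      left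
      refine ⟨ι x, h1, ι y, h2, ?_⟩
      rw [h3, map_pow, map_mul, FreeGroup.map.of, FreeGroup.map.of]
    · right
      exact hextra r hr
  refine ⟨PresentedGroup.toGroup h, ?_⟩
  rw [MonoidHom.range_eq_map, ← PresentedGroup.closure_range_of, MonoidHom.map_closure,
    MonoidHom.map_closure]
  congr 1
  ext g
  constructor
  · rintro ⟨_, ⟨x, rfl⟩, rfl⟩
    refine ⟨FreeGroup.of (ι x), ?_, ?_⟩
    · exact List.mem_map.mpr ⟨x, hall x, rfl⟩
    · rw [PresentedGroup.toGroup.of]; rfl
  · rintro ⟨s, hs, rfl⟩
    obtain ⟨x, _, rfl⟩ := List.mem_map.mp hs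
    exact ⟨PresentedGroup.of x, ⟨x, rfl⟩, by rw [PresentedGroup.toGroup.of]; rfl⟩

end Cfsg.Agent.Lib.Helper28.OrdChain
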