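import Mathlib
import Cfsg.Agent.Lib.Helper54.S72Stmt

/-!
# S1372 piece TONLY (helper54's call): in a nilpotent group, Sylow `s`-subgroups centralize
elements of prime order `t ≠ s`
-/

set_option autoImplicit false

namespace Cfsg.Agent.Lib.Helper28.S72TONLY

universe u

open Cfsg Cfsg.Agent.Lib.Helper54

theorem main : S72Stmt.TOnly.{u} := by
  intro G _ _ S hnil t ht x hx hox s _ hst S₀
  haveI : Fact t.Prime := ⟨ht⟩
  have hnorm := ((Group.isNilpotent_of_finite_tfae (G := ↥S)).out 0 3).mp hnil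
  have hox' : orderOf (⟨x, hx⟩ : ↥S) = t := by rw [Subgroup.orderOf_mk]; exact hox
  have hP : IsPGroup t (Subgroup.zpowers (⟨x, hx⟩ : ↥S)) :=
    IsPGroup.of_card (n := 1) (by rw [Nat.card_zpowers, hox', pow_one])
  obtain ⟨T₀, hT₀⟩ := hP.exists_le_sylow
  have hdis : Disjoint (S₀ : Subgroup ↥S) (T₀ : Subgroup ↥S) :=
    IsPGroup.disjoint_of_ne s t hst _ _ S₀.2 T₀.2
  rintro y ⟨y', hy', rfl⟩
  have hc := Subgroup.commute_of_normal_of_disjoint _ _ (hnorm s inferInstance S₀)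
    (hnorm t inferInstance T₀) hdis y' ⟨x, hx⟩ hy' (hT₀ (Subgroup.mem_zpowers _))
  rw [Subgroup.mem_centralizer_iff]
  intro h hh
  rw [Set.mem_singleton_iff] at hh
  subst hh
  have := congrArg Subtype.val hc.eq
  exact this.symm

end Cfsg.Agent.Lib.Helper28.S72TONLY
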