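import Mathlib
import Cfsg.Agent.Lib.Helper45.S8Stmt

set_option autoImplicit false

namespace Cfsg.Agent.Lib.Helper28.S8ARITH

open Cfsg.Agent.Lib.Helper45.EOStmt Cfsg.Agent.Lib.Helper45.S8Stmt

theorem d_q1_q2 (q : ℕ) : q - 1 ∣ q ^ 2 - 1 := by
  simpa using Nat.sub_dvd_pow_sub_pow (x := q) (y := 1) (n := 2)

theorem d_q1_q3 (q : ℕ) : q - 1 ∣ q ^ 3 - 1 := by
  simpa using Nat.sub_dvd_pow_sub_pow (x := q) (y := 1) (n := 3)

theorem d_p1_q3 (q : ℕ) : q + 1 ∣ q ^ 3 + 1 := by
  simpa using Odd.nat_add_dvd_pow_add_pow q 1 (by decide : Odd 3)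

theorem e_q2 (q : ℕ) (hq : 1 ≤ q) : q ^ 2 - 1 = (q - 1) * (q + 1) := by
  obtain ⟨k, rfl⟩ : ∃ k, q = k + 1 := ⟨q - 1, by omega⟩
  simp only [Nat.add_sub_cancel]
  have h : (k + 1) ^ 2 = k * (k + 1 + 1) + 1 := by ring
  rw [h]; simp

theorem e_q4 (q : ℕ) (hq : 1 ≤ q) : q ^ 4 - 1 = (q ^ 2 - 1) * (q ^ 2 + 1) := by
  have h := e_q2 (q ^ 2) (Nat.one_le_pow _ _ hq)
  have h2 : (q ^ 2) ^ 2 = q ^ 4 := by rw [← pow_mul]
  rw [h2] at h; exact h

theorem d_p1_q2 (q : ℕ) (hq : 1 ≤ q) : q + 1 ∣ q ^ 2 - 1 := by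
  rw [e_q2 q hq]; exact Dvd.intro_left _ rfl

theorem cop2 (x : ℕ) (hx : Odd x) : Nat.Coprime x (2 + x) :=
  Nat.coprime_add_self_right.2 (Nat.coprime_two_right.2 hx)

theorem odd_sub (q a : ℕ) (hq : Even q) (hq1 : 1 ≤ q) (ha : 1 ≤ a) : Odd (q ^ a - 1) := by
  have h1 : Even (q ^ a) := hq.pow_of_ne_zero (by omega)
  have h2 : 1 ≤ q ^ a := Nat.one_le_pow _ _ hq1
  exact Nat.Even.sub_odd h2 h1 odd_one

theorem odd_add (q b : ℕ) (hq : Even q) (hb : 1 ≤ b) : Odd (q ^ b + 1) :=
  (hq.pow_of_ne_zero (by omega)).add_one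

theorem odd_finset_lcm (D : Finset ℕ) (f : ℕ → ℕ) (h : ∀ a ∈ D, Odd (f a)) : Odd (D.lcm f) := by
  have h1 : D.lcm f ∣ D.prod f := Finset.lcm_dvd (fun a ha => Finset.dvd_prod_of_mem f ha)
  have h2 : Odd (D.prod f) := Finset.prod_induction f Odd (fun a b ha hb => ha.mul hb) odd_one h
  exact h2.of_dvd_nat h1

theorem finish (q N c : ℕ) (DA DB : Finset ℕ) (hq : Even q) (hq1 : 1 ≤ q)
    (hA1 : ∀ a ∈ DA, 1 ≤ a) (hB1 : ∀ b ∈ DB, 1 ≤ b)
    (hA : ∀ a ∈ DA, q ^ a - 1 ∣ N) (hB : ∀ b ∈ DB, q ^ b + 1 ∣ N) (hc : 2 ^ c ∣ N) :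
    Nat.lcm (SA q DA) (SB q DB) * 2 ^ c ∣ N := by
  have hSA : Odd (SA q DA) := odd_finset_lcm DA _ (fun a ha => odd_sub q a hq hq1 (hA1 a ha))
  have hSB : Odd (SB q DB) := odd_finset_lcm DB _ (fun b hb => odd_add q b hq (hB1 b hb))
  have hl : Odd (Nat.lcm (SA q DA) (SB q DB)) := (hSA.mul hSB).of_dvd_nat (Nat.lcm_dvd_mul _ _)
  have hcop : Nat.Coprime (Nat.lcm (SA q DA) (SB q DB)) (2 ^ c) :=
    Nat.Coprime.pow_right c (Nat.coprime_two_right.2 hl)
  refine Nat.Coprime.mul_dvd_of_dvd_of_dvd hcop ?_ hc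
  exact Nat.lcm_dvd (Finset.lcm_dvd hA) (Finset.lcm_dvd hB)

theorem le_sum (D : Finset ℕ) (a : ℕ) (ha : a ∈ D) : a ≤ D.sum id :=
  Finset.single_le_sum (f := id) (fun _ _ => Nat.zero_le _) ha

theorem pair_le_sum (D : Finset ℕ) (a a' : ℕ) (ha : a ∈ D) (ha' : a' ∈ D) (hne : a ≠ a') :
    a + a' ≤ D.sum id := by
  have hsub : ({a, a'} : Finset ℕ) ⊆ D := by
    intro x hx
    rcases Finset.mem_insert.1 hx with rfl | hx
    · exact ha
    · rw [Finset.mem_singleton] at hx; rw [hx]; exact ha'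
  have h := Finset.sum_le_sum_of_subset (f := id) hsub
  rw [Finset.sum_pair hne] at h
  exact h

theorem main : Cfsg.Agent.Lib.Helper45.S8Stmt.Arith := by
  intro q f hf hqf DA DB c hA1 hB1 hsum hc3
  have hq2 : 2 ≤ q := by
    rw [hqf]
    calc 2 = 2 ^ 1 := by norm_num
      _ ≤ 2 ^ f := Nat.pow_le_pow_right (by norm_num) hf
  have hq1 : 1 ≤ q := by omega
  have hev : Even q := by
    rw [hqf]; exact (even_two).pow_of_ne_zero (by omega)
  have hAle := le_sum DA
  have hBle := le_sum DB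
  have hApair := pair_le_sum DA
  have hBpair := pair_le_sum DB
  -- basic divisibilities
  have o1 : Odd (q - 1) := by simpa using odd_sub q 1 hev hq1 le_rfl
  have o2 : Odd (q ^ 2 - 1) := odd_sub q 2 hev hq1 (by norm_num)
  have c1 : Nat.Coprime (q - 1) (q + 1) := by
    have h := cop2 (q - 1) o1
    have e : 2 + (q - 1) = q + 1 := by omega
    rwa [e] at h
  have c2 : Nat.Coprime (q ^ 2 - 1) (q ^ 2 + 1) := by
    have h := cop2 (q ^ 2 - 1) o2
    have h1 : 1 ≤ q ^ 2 := Nat.one_le_pow _ _ hq1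
    have e : 2 + (q ^ 2 - 1) = q ^ 2 + 1 := by omega
    rwa [e] at h
  by_cases h4B : 4 ∈ DB
  · -- N1
    refine ⟨q ^ 4 + 1, by simp [LL], finish q _ c DA DB hev hq1 hA1 hB1 ?_ ?_ ?_⟩
    · intro a ha
      have := hAle a ha; have := hBle 4 h4B; have := hA1 a ha
      omega
    · intro b hb
      have := hBle b hb
      by_cases hb4 : b = 4
      · subst hb4; exact dvd_rfl
      · have := hBpair b 4 hb h4B hb4; have := hB1 b hb
        omega
    · have : c = 0 := by have := hBle 4 h4B; omega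
      subst this; simp
  by_cases h3A : 3 ∈ DA
  · have hs3 := hAle 3 h3A
    have hAform : ∀ a ∈ DA, a = 1 ∨ a = 3 := by
      intro a ha
      by_cases ha3 : a = 3
      · exact Or.inr ha3
      · have := hApair a 3 ha h3A ha3; have := hA1 a ha
        omega
    have hBform : ∀ b ∈ DB, b = 1 := by
      intro b hb
      have := hBle b hb; have := hB1 b hb
      omega
    by_cases hc0 : c = 0
    · -- N3
      refine ⟨Nat.lcm (q ^ 3 - 1) (q + 1), by simp [LL], finish q _ c DA DB hev hq1 hA1 hB1 ?_ ?_ ?_⟩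
      · intro a ha
        rcases hAform a ha with rfl | rfl
        · rw [pow_one]; exact (d_q1_q3 q).trans (Nat.dvd_lcm_left _ _)
        · exact Nat.dvd_lcm_left _ _
      · intro b hb
        rw [hBform b hb, pow_one]; exact Nat.dvd_lcm_right _ _
      · subst hc0; simp
    · -- N5
      have hc1 : c = 1 := by omega
      refine ⟨Nat.lcm (q ^ 3 - 1) 2, by simp [LL], finish q _ c DA DB hev hq1 hA1 hB1 ?_ ?_ ?_⟩
      · intro a ha
        rcases hAform a ha with rfl | rfl
        · rw [pow_one]; exact (d_q1_q3 q).trans (Nat.dvd_lcm_left _ _)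
        · exact Nat.dvd_lcm_left _ _
      · intro b hb
        have := hBle b hb; have := hB1 b hb
        omega
      · subst hc1; simpa using Nat.dvd_lcm_right (q ^ 3 - 1) 2
  by_cases h3B : 3 ∈ DB
  · have hs3 := hBle 3 h3B
    have hBform : ∀ b ∈ DB, b = 1 ∨ b = 3 := by
      intro b hb
      by_cases hb3 : b = 3
      · exact Or.inr hb3
      · have := hBpair b 3 hb h3B hb3; have := hB1 b hb
        omega
    have hAform : ∀ a ∈ DA, a = 1 := by
      intro a ha
      have := hAle a ha; have := hA1 a ha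
      omega
    by_cases hc0 : c = 0
    · -- N4
      refine ⟨Nat.lcm (q - 1) (q ^ 3 + 1), by simp [LL], finish q _ c DA DB hev hq1 hA1 hB1 ?_ ?_ ?_⟩
      · intro a ha
        rw [hAform a ha, pow_one]; exact Nat.dvd_lcm_left _ _
      · intro b hb
        rcases hBform b hb with rfl | rfl
        · rw [pow_one]; exact (d_p1_q3 q).trans (Nat.dvd_lcm_right _ _)
        · exact Nat.dvd_lcm_right _ _
      · subst hc0; simp
    · -- N6
      have hc1 : c = 1 := by omega
      refine ⟨Nat.lcm 2 (q ^ 3 + 1), by simp [LL], finish q _ c DA DB hev hq1 hA1 hB1 ?_ ?_ ?_⟩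
      · intro a ha
        have := hAle a ha; have := hA1 a ha
        omega
      · intro b hb
        rcases hBform b hb with rfl | rfl
        · rw [pow_one]; exact (d_p1_q3 q).trans (Nat.dvd_lcm_right _ _)
        · exact Nat.dvd_lcm_right _ _
      · subst hc1; simpa using Nat.dvd_lcm_left 2 (q ^ 3 + 1)
  by_cases h4A : 4 ∈ DA
  · -- N2, DA = {4}
    have hs4 := hAle 4 h4A
    refine ⟨Nat.lcm (q ^ 2 - 1) (q ^ 2 + 1), by simp [LL], finish q _ c DA DB hev hq1 hA1 hB1 ?_ ?_ ?_⟩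
    · intro a ha
      by_cases ha4 : a = 4
      · subst ha4
        rw [c2.lcm_eq_mul, e_q4 q hq1]
      · have := hApair a 4 ha h4A ha4; have := hA1 a ha
        omega
    · intro b hb
      have := hBle b hb; have := hB1 b hb
      omega
    · have : c = 0 := by omega
      subst this; simp
  -- now all elements are 1 or 2
  have hAform : ∀ a ∈ DA, a = 1 ∨ a = 2 := by
    intro a ha
    have := hAle a ha; have := hA1 a ha
    have h3 : a ≠ 3 := fun h => h3A (h ▸ ha)
    have h4 : a ≠ 4 := fun h => h4A (h ▸ ha)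
    omega
  have hBform : ∀ b ∈ DB, b = 1 ∨ b = 2 := by
    intro b hb
    have := hBle b hb; have := hB1 b hb
    have h3 : b ≠ 3 := fun h => h3B (h ▸ hb)
    have h4 : b ≠ 4 := fun h => h4B (h ▸ hb)
    omega
  by_cases hc0 : c = 0
  · -- N2
    refine ⟨Nat.lcm (q ^ 2 - 1) (q ^ 2 + 1), by simp [LL], finish q _ c DA DB hev hq1 hA1 hB1 ?_ ?_ ?_⟩
    · intro a ha
      rcases hAform a ha with rfl | rfl
      · rw [pow_one]; exact (d_q1_q2 q).trans (Nat.dvd_lcm_left _ _)
      · exact Nat.dvd_lcm_left _ _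
    · intro b hb
      rcases hBform b hb with rfl | rfl
      · rw [pow_one]; exact (d_p1_q2 q hq1).trans (Nat.dvd_lcm_left _ _)
      · exact Nat.dvd_lcm_right _ _
    · subst hc0; simp
  by_cases h2B : 2 ∈ DB
  · have hs2 := hBle 2 h2B
    by_cases hc1 : c = 1
    · by_cases h1A : 1 ∈ DA
      · -- N7 : DA = {1}, DB = {2}
        have hs1 := hAle 1 h1A
        refine ⟨Nat.lcm (Nat.lcm (q - 1) 2) (q ^ 2 + 1), by simp [LL],
          finish q _ c DA DB hev hq1 hA1 hB1 ?_ ?_ ?_⟩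
        · intro a ha
          by_cases ha1 : a = 1
          · subst ha1; rw [pow_one]
            exact (Nat.dvd_lcm_left _ _).trans (Nat.dvd_lcm_left _ _)
          · have := hApair a 1 ha h1A ha1; have := hA1 a ha
            omega
        · intro b hb
          by_cases hb2 : b = 2
          · subst hb2; exact Nat.dvd_lcm_right _ _
          · have := hBpair b 2 hb h2B hb2; have := hB1 b hb
            omega
        · subst hc1
          simpa using (Nat.dvd_lcm_right (q - 1) 2).trans (Nat.dvd_lcm_left _ (q ^ 2 + 1))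
      · -- N8 : DA = ∅
        refine ⟨Nat.lcm (Nat.lcm (q + 1) 2) (q ^ 2 + 1), by simp [LL],
          finish q _ c DA DB hev hq1 hA1 hB1 ?_ ?_ ?_⟩
        · intro a ha
          rcases hAform a ha with rfl | rfl
          · exact absurd ha h1A
          · have := hAle 2 ha
            omega
        · intro b hb
          rcases hBform b hb with rfl | rfl
          · rw [pow_one]; exact (Nat.dvd_lcm_left _ _).trans (Nat.dvd_lcm_left _ _)
          · exact Nat.dvd_lcm_right _ _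
        · subst hc1
          simpa using (Nat.dvd_lcm_right (q + 1) 2).trans (Nat.dvd_lcm_left _ (q ^ 2 + 1))
    · -- c = 2: N10, DA = ∅, DB = {2}
      have hc2 : c = 2 := by omega
      refine ⟨Nat.lcm 4 (q ^ 2 + 1), by simp [LL], finish q _ c DA DB hev hq1 hA1 hB1 ?_ ?_ ?_⟩
      · intro a ha
        have := hAle a ha; have := hA1 a ha
        omega
      · intro b hb
        by_cases hb2 : b = 2
        · subst hb2; exact Nat.dvd_lcm_right _ _
        · have := hBpair b 2 hb h2B hb2; have := hB1 b hb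
          omega
      · subst hc2
        exact Nat.dvd_lcm_left 4 (q ^ 2 + 1)
  · -- 2 ∉ DB: DB ⊆ {1}
    have hBform1 : ∀ b ∈ DB, b = 1 := by
      intro b hb
      rcases hBform b hb with rfl | rfl
      · rfl
      · exact absurd hb h2B
    by_cases hc3' : c = 3
    · by_cases h1B : 1 ∈ DB
      · -- N12
        have hs1 := hBle 1 h1B
        refine ⟨Nat.lcm 8 (q + 1), by simp [LL], finish q _ c DA DB hev hq1 hA1 hB1 ?_ ?_ ?_⟩
        · intro a ha
          have := hAle a ha; have := hA1 a ha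
          omega
        · intro b hb
          rw [hBform1 b hb, pow_one]; exact Nat.dvd_lcm_right _ _
        · subst hc3'
          exact Nat.dvd_lcm_left 8 (q + 1)
      · -- N11
        refine ⟨Nat.lcm (q - 1) 8, by simp [LL], finish q _ c DA DB hev hq1 hA1 hB1 ?_ ?_ ?_⟩
        · intro a ha
          rcases hAform a ha with rfl | rfl
          · rw [pow_one]; exact Nat.dvd_lcm_left _ _
          · have := hAle 2 ha
            omega
        · intro b hb
          exact absurd (hBform1 b hb ▸ hb) h1B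
        · subst hc3'
          exact Nat.dvd_lcm_right (q - 1) 8
    · -- c ∈ {1, 2}: N9
      refine ⟨Nat.lcm (Nat.lcm (q - 1) 4) (q + 1), by simp [LL],
        finish q _ c DA DB hev hq1 hA1 hB1 ?_ ?_ ?_⟩
      · intro a ha
        have hd1 : q - 1 ∣ Nat.lcm (Nat.lcm (q - 1) 4) (q + 1) :=
          (Nat.dvd_lcm_left _ _).trans (Nat.dvd_lcm_left _ _)
        rcases hAform a ha with rfl | rfl
        · rw [pow_one]; exact hd1
        · rw [e_q2 q hq1]
          exact Nat.Coprime.mul_dvd_of_dvd_of_dvd c1 hd1 (Nat.dvd_lcm_right _ _)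
      · intro b hb
        rw [hBform1 b hb, pow_one]; exact Nat.dvd_lcm_right _ _
      · have h4 : 4 ∣ Nat.lcm (Nat.lcm (q - 1) 4) (q + 1) :=
          (Nat.dvd_lcm_right _ _).trans (Nat.dvd_lcm_left _ _)
        have hc12 : c = 1 ∨ c = 2 := by omega
        rcases hc12 with rfl | rfl
        · exact (by norm_num : (2 : ℕ) ^ 1 ∣ 4).trans h4
        · exact (by norm_num : (2 : ℕ) ^ 2 ∣ 4).trans h4

end Cfsg.Agent.Lib.Helper28.S8ARITH
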