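import Mathlib
import Cfsg.Agent.Lib.Helper45.S8Stmt
import Cfsg.Agent.Lib.Helper91.S8LINORD

set_option autoImplicit false
set_option linter.unusedSimpArgs false
set_option linter.unusedSectionVars false
set_option linter.unusedVariables false
set_option linter.unusedTactic false
set_option linter.unreachableTactic false

universe u

namespace Cfsg.Agent.Lib.Helper28.S8U3M

open Cfsg.Agent.Lib.Helper45.EOStmt Cfsg.Agent.Lib.Helper45.S8Stmt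

variable {F : Type u} [Field F]

/-- a vector from its six coordinates -/
def mk (c0 c1 c2 c3 c4 c5 : F) : (Fin 2 ⊕ Fin 2) ⊕ Fin 2 → F := Sum.elim (Sum.elim ![c0, c2] ![c1, c3]) ![c4, c5]

theorem mk_0 (c0 c1 c2 c3 c4 c5 : F) : mk c0 c1 c2 c3 c4 c5 (Sum.inl (Sum.inl 0)) = c0 := rfl
theorem mk_1 (c0 c1 c2 c3 c4 c5 : F) : mk c0 c1 c2 c3 c4 c5 (Sum.inl (Sum.inr 0)) = c1 := rfl
theorem mk_2 (c0 c1 c2 c3 c4 c5 : F) : mk c0 c1 c2 c3 c4 c5 (Sum.inl (Sum.inl 1)) = c2 := rfl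
theorem mk_3 (c0 c1 c2 c3 c4 c5 : F) : mk c0 c1 c2 c3 c4 c5 (Sum.inl (Sum.inr 1)) = c3 := rfl
theorem mk_4 (c0 c1 c2 c3 c4 c5 : F) : mk c0 c1 c2 c3 c4 c5 (Sum.inr 0) = c4 := rfl
theorem mk_5 (c0 c1 c2 c3 c4 c5 : F) : mk c0 c1 c2 c3 c4 c5 (Sum.inr 1) = c5 := rfl

theorem vec_ext (v w : (Fin 2 ⊕ Fin 2) ⊕ Fin 2 → F) (h0 : v (Sum.inl (Sum.inl 0)) = w (Sum.inl (Sum.inl 0))) (h1 : v (Sum.inl (Sum.inr 0)) = w (Sum.inl (Sum.inr 0))) (h2 : v (Sum.inl (Sum.inl 1)) = w (Sum.inl (Sum.inl 1))) (h3 : v (Sum.inl (Sum.inr 1)) = w (Sum.inl (Sum.inr 1))) (h4 : v (Sum.inr 0) = w (Sum.inr 0)) (h5 : v (Sum.inr 1) = w (Sum.inr 1)) : v = w := by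
  funext i
  rcases i with ((i | i) | i) <;> fin_cases i
  all_goals first | exact h0 | exact h1 | exact h2 | exact h3 | exact h4 | exact h5

def g1 (a b : F) (v : (Fin 2 ⊕ Fin 2) ⊕ Fin 2 → F) : (Fin 2 ⊕ Fin 2) ⊕ Fin 2 → F :=
  mk (v (Sum.inl (Sum.inl 1)) + v (Sum.inl (Sum.inl 0)) + b * v (Sum.inl (Sum.inr 1)) + a * v (Sum.inr 0) + a ^ 2 * v (Sum.inr 1))
    (v (Sum.inl (Sum.inr 0)))
    (v (Sum.inl (Sum.inl 1)) + b * v (Sum.inl (Sum.inr 1)) + a * v (Sum.inr 0) + a ^ 2 * v (Sum.inr 1))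
    (v (Sum.inl (Sum.inr 1)) + v (Sum.inl (Sum.inr 0)))
    (v (Sum.inr 0) + a * v (Sum.inr 1))
    (v (Sum.inr 1) + v (Sum.inl (Sum.inr 1)))

def g2 (a b : F) (v : (Fin 2 ⊕ Fin 2) ⊕ Fin 2 → F) : (Fin 2 ⊕ Fin 2) ⊕ Fin 2 → F :=
  mk (v (Sum.inl (Sum.inl 0)) + b * v (Sum.inl (Sum.inr 1)) + b * v (Sum.inl (Sum.inr 0)) + a * v (Sum.inr 0) + a ^ 2 * v (Sum.inl (Sum.inr 1)))
    (v (Sum.inl (Sum.inr 0)))
    (v (Sum.inl (Sum.inl 1)) + b * v (Sum.inl (Sum.inr 0)) + a ^ 2 * v (Sum.inr 1) + a ^ 2 * v (Sum.inl (Sum.inr 1)))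
    (v (Sum.inl (Sum.inr 1)))
    (v (Sum.inr 0) + a * v (Sum.inl (Sum.inr 1)))
    (v (Sum.inr 1) + v (Sum.inl (Sum.inr 0)))

def g4 (a b : F) (v : (Fin 2 ⊕ Fin 2) ⊕ Fin 2 → F) : (Fin 2 ⊕ Fin 2) ⊕ Fin 2 → F :=
  mk (v (Sum.inl (Sum.inl 0)) + a ^ 2 * v (Sum.inl (Sum.inr 1)))
    (v (Sum.inl (Sum.inr 0)))
    (v (Sum.inl (Sum.inl 1)) + a ^ 2 * v (Sum.inl (Sum.inr 0)))
    (v (Sum.inl (Sum.inr 1)))
    (v (Sum.inr 0))
    (v (Sum.inr 1))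

theorem h2 [CharP F 2] (a b : F) (v : (Fin 2 ⊕ Fin 2) ⊕ Fin 2 → F) : g1 a b (g1 a b v) = g2 a b v := by
  have h : (2 : F) = 0 := CharTwo.two_eq_zero
  apply vec_ext
  · simp only [g1, g2, g4, mk_0, mk_1, mk_2, mk_3, mk_4, mk_5]
    first | done | linear_combination (v (Sum.inl (Sum.inl 1)) + b * v (Sum.inl (Sum.inr 1)) + a * v (Sum.inr 0) + 2 * a ^ 2 * v (Sum.inr 1)) * h
  · simp only [g1, g2, g4, mk_0, mk_1, mk_2, mk_3, mk_4, mk_5]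
    first | done | linear_combination (0) * h
  · simp only [g1, g2, g4, mk_0, mk_1, mk_2, mk_3, mk_4, mk_5]
    first | done | linear_combination (b * v (Sum.inl (Sum.inr 1)) + a * v (Sum.inr 0) + a ^ 2 * v (Sum.inr 1)) * h
  · simp only [g1, g2, g4, mk_0, mk_1, mk_2, mk_3, mk_4, mk_5]
    first | done | linear_combination (v (Sum.inl (Sum.inr 0))) * h
  · simp only [g1, g2, g4, mk_0, mk_1, mk_2, mk_3, mk_4, mk_5]
    first | done | linear_combination (a * v (Sum.inr 1)) * h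
  · simp only [g1, g2, g4, mk_0, mk_1, mk_2, mk_3, mk_4, mk_5]
    first | done | linear_combination (v (Sum.inl (Sum.inr 1))) * h

theorem h4 [CharP F 2] (a b : F) (v : (Fin 2 ⊕ Fin 2) ⊕ Fin 2 → F) : g2 a b (g2 a b v) = g4 a b v := by
  have h : (2 : F) = 0 := CharTwo.two_eq_zero
  apply vec_ext
  · simp only [g1, g2, g4, mk_0, mk_1, mk_2, mk_3, mk_4, mk_5]
    first | done | linear_combination (b * v (Sum.inl (Sum.inr 1)) + b * v (Sum.inl (Sum.inr 0)) + a * v (Sum.inr 0) + a ^ 2 * v (Sum.inl (Sum.inr 1))) * h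
  · simp only [g1, g2, g4, mk_0, mk_1, mk_2, mk_3, mk_4, mk_5]
    first | done | linear_combination (0) * h
  · simp only [g1, g2, g4, mk_0, mk_1, mk_2, mk_3, mk_4, mk_5]
    first | done | linear_combination (b * v (Sum.inl (Sum.inr 0)) + a ^ 2 * v (Sum.inr 1) + a ^ 2 * v (Sum.inl (Sum.inr 1))) * h
  · simp only [g1, g2, g4, mk_0, mk_1, mk_2, mk_3, mk_4, mk_5]
    first | done | linear_combination (0) * h
  · simp only [g1, g2, g4, mk_0, mk_1, mk_2, mk_3, mk_4, mk_5]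
    first | done | linear_combination (a * v (Sum.inl (Sum.inr 1))) * h
  · simp only [g1, g2, g4, mk_0, mk_1, mk_2, mk_3, mk_4, mk_5]
    first | done | linear_combination (v (Sum.inl (Sum.inr 0))) * h

theorem h8 [CharP F 2] (a b : F) (v : (Fin 2 ⊕ Fin 2) ⊕ Fin 2 → F) : g4 a b (g4 a b v) = v := by
  have h : (2 : F) = 0 := CharTwo.two_eq_zero
  apply vec_ext
  · simp only [g1, g2, g4, mk_0, mk_1, mk_2, mk_3, mk_4, mk_5]
    first | done | linear_combination (a ^ 2 * v (Sum.inl (Sum.inr 1))) * h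
  · simp only [g1, g2, g4, mk_0, mk_1, mk_2, mk_3, mk_4, mk_5]
    first | done | linear_combination (0) * h
  · simp only [g1, g2, g4, mk_0, mk_1, mk_2, mk_3, mk_4, mk_5]
    first | done | linear_combination (a ^ 2 * v (Sum.inl (Sum.inr 0))) * h
  · simp only [g1, g2, g4, mk_0, mk_1, mk_2, mk_3, mk_4, mk_5]
    first | done | linear_combination (0) * h
  · simp only [g1, g2, g4, mk_0, mk_1, mk_2, mk_3, mk_4, mk_5]
    first | done | linear_combination (0) * h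
  · simp only [g1, g2, g4, mk_0, mk_1, mk_2, mk_3, mk_4, mk_5]
    first | done | linear_combination (0) * h

theorem hQ [CharP F 2] (a b : F) (v : (Fin 2 ⊕ Fin 2) ⊕ Fin 2 → F) : Cfsg.quadFormMinus 2 F a b (g1 a b v) = Cfsg.quadFormMinus 2 F a b v := by
  have h : (2 : F) = 0 := CharTwo.two_eq_zero
  simp only [Cfsg.quadFormMinus, Fin.sum_univ_two, g1, mk_0, mk_1, mk_2, mk_3, mk_4, mk_5]
  linear_combination (v (Sum.inl (Sum.inr 0)) * v (Sum.inl (Sum.inl 1)) + b * v (Sum.inl (Sum.inr 1)) * v (Sum.inr 1) + b * v (Sum.inl (Sum.inr 1)) ^ 2 + b * v (Sum.inl (Sum.inr 0)) * v (Sum.inl (Sum.inr 1)) + a * v (Sum.inr 0) * v (Sum.inr 1) + a * v (Sum.inl (Sum.inr 1)) * v (Sum.inr 0) + a * v (Sum.inl (Sum.inr 0)) * v (Sum.inr 0) + a ^ 2 * v (Sum.inr 1) ^ 2 + a ^ 2 * v (Sum.inl (Sum.inr 1)) * v (Sum.inr 1) + a ^ 2 * v (Sum.inl (Sum.inr 0)) * v (Sum.inr 1)) * h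

theorem g1_add (a b : F) (v w : (Fin 2 ⊕ Fin 2) ⊕ Fin 2 → F) : g1 a b (v + w) = g1 a b v + g1 a b w := by
  apply vec_ext <;> simp only [g1, Pi.add_apply, mk_0, mk_1, mk_2, mk_3, mk_4, mk_5] <;> ring

theorem g1_smul (a b : F) (c : F) (v : (Fin 2 ⊕ Fin 2) ⊕ Fin 2 → F) : g1 a b (c • v) = c • g1 a b v := by
  apply vec_ext <;> simp only [g1, Pi.smul_apply, smul_eq_mul, mk_0, mk_1, mk_2, mk_3, mk_4, mk_5] <;> ring

theorem g1_pow8 [CharP F 2] (a b : F) (v : (Fin 2 ⊕ Fin 2) ⊕ Fin 2 → F) :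
    g1 a b (g1 a b (g1 a b (g1 a b (g1 a b (g1 a b (g1 a b (g1 a b v))))))) = v := by
  rw [h2, h2, h2, h2, h4, h4, h8]

/-- the isometry as a linear equivalence -/
def X [CharP F 2] (a b : F) : ((Fin 2 ⊕ Fin 2) ⊕ Fin 2 → F) ≃ₗ[F] ((Fin 2 ⊕ Fin 2) ⊕ Fin 2 → F) where
  toFun := g1 a b 
  map_add' := g1_add a b 
  map_smul' := g1_smul a b 
  invFun := fun v => g1 a b (g1 a b (g1 a b (g1 a b (g1 a b (g1 a b (g1 a b v))))))
  left_inv := fun v => g1_pow8 a b v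
  right_inv := fun v => g1_pow8 a b v

theorem X_apply [CharP F 2] (a b : F) (v : (Fin 2 ⊕ Fin 2) ⊕ Fin 2 → F) : X a b v = g1 a b v := rfl

theorem X_pow4 [CharP F 2] (a b : F) (v : (Fin 2 ⊕ Fin 2) ⊕ Fin 2 → F) : (X a b ^ 4) v = g4 a b v := by
  have e : X a b ^ 4 = X a b * X a b * (X a b * X a b ) := by
    rw [show (4 : ℕ) = 2 + 2 from rfl, pow_add, pow_two]
  rw [e]
  simp only [LinearEquiv.mul_apply, X_apply]
  rw [h2, h2, h4]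

theorem X_pow8 [CharP F 2] (a b : F) : X a b ^ 8 = 1 := by
  have e : X a b ^ 8 = X a b ^ 4 * X a b ^ 4 := by rw [← pow_add]
  rw [e]
  ext1 v
  rw [LinearEquiv.mul_apply, X_pow4, X_pow4, h8]
  rfl

theorem main : Cfsg.Agent.Lib.Helper45.S8Stmt.U3M.{u} := by
  intro F _ _ a b ha
  have hfact : Fact (Nat.Prime 2) := ⟨Nat.prime_two⟩
  have hne : ¬ (X a b : ((Fin 2 ⊕ Fin 2) ⊕ Fin 2 → F) ≃ₗ[F] ((Fin 2 ⊕ Fin 2) ⊕ Fin 2 → F)) ^ 2 ^ 2 = 1 := by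
    intro h1
    have e := congrArg (fun Y : ((Fin 2 ⊕ Fin 2) ⊕ Fin 2 → F) ≃ₗ[F] ((Fin 2 ⊕ Fin 2) ⊕ Fin 2 → F) => Y (mk 0 0 0 1 0 0) (Sum.inl (Sum.inl 0))) h1
    have e4 : (2 : ℕ) ^ 2 = 4 := by norm_num
    simp only [e4, X_pow4, g4, mk_0, mk_1, mk_2, mk_3, mk_4, mk_5, LinearEquiv.coe_one, id_eq] at e
    have e' : a ^ 2 = 0 := by linear_combination e
    exact ha (pow_eq_zero_iff (n := 2) (by norm_num) |>.1 e')
  have h8' : (X a b : ((Fin 2 ⊕ Fin 2) ⊕ Fin 2 → F) ≃ₗ[F] ((Fin 2 ⊕ Fin 2) ⊕ Fin 2 → F)) ^ 2 ^ (2 + 1) = 1 := by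
    have e8 : (2 : ℕ) ^ (2 + 1) = 8 := by norm_num
    rw [e8]; exact X_pow8 a b 
  have hord : orderOf (X a b : ((Fin 2 ⊕ Fin 2) ⊕ Fin 2 → F) ≃ₗ[F] ((Fin 2 ⊕ Fin 2) ⊕ Fin 2 → F)) = 8 := by
    have := orderOf_eq_prime_pow hne h8'
    rw [this]; norm_num
  have key := Cfsg.Agent.Lib.Helper91.S8LINORD.main F ((Fin 2 ⊕ Fin 2) ⊕ Fin 2) (Cfsg.quadFormMinus 2 F a b) (X a b ) (fun v => hQ a b v)
  rw [hord] at key
  exact key

end Cfsg.Agent.Lib.Helper28.S8U3M
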