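import Cfsg.Agent.Lib.Helper28.TCMain
import Cfsg.Agent.Lib.Helper28.PresFi22
import Cfsg.Agent.Lib.Helper28.T1685UC0
import Cfsg.Agent.Lib.Helper28.T1685UC1
import Cfsg.Agent.Lib.Helper28.T1685LC0
import Cfsg.Agent.Lib.Helper28.T1685LC1
import Cfsg.Agent.Lib.Helper28.T1685LC2
import Cfsg.Agent.Lib.Helper28.T1685LC3
import Cfsg.Agent.Lib.Helper28.T1685LC4
import Cfsg.Agent.Lib.Helper28.T1685LC5
import Cfsg.Agent.Lib.Helper28.T1685LC6
import Cfsg.Agent.Lib.Helper28.T1685LC7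

set_option autoImplicit false

namespace Cfsg.Agent.Lib.Helper28.T1685X

open Cfsg.Spor Cfsg.Agent.Lib.Helper28.TCKernel Cfsg.Agent.Lib.Helper28.TCSound Cfsg.Agent.Lib.Helper28.TCPerm Cfsg.Agent.Lib.Helper28.TCPres Cfsg.Agent.Lib.Helper28.TCMain

/-- the subgroup generators -/
def sgSrc : List (FreeGroup Fi22.Gen) := [Fi22.b, Fi22.c, Fi22.d, Fi22.e, Fi22.f, Fi22.g, Fi22.h, Fi22.i]

theorem chunkU : ∀ k, k < 2 → allTree T1685UT.chkName 14 (k * 2 ^ 14) = true
  | 0, _ => T1685UC0.chk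
  | 1, _ => T1685UC1.chk
  | (k + 2), h => absurd h (by omega)

theorem chkU (v : Nat) : T1685UT.chkName v = true := by
  rcases Nat.lt_or_ge v (2 ^ 15) with h | h
  · exact allTree_chunks T1685UT.chkName 14 2 chunkU v h
  · exact chk_of_zero _ _ _ _ _ _ _ _ _ _ _ _ _ _ v
      (fun y => fld3_eq_zero _ _ _ _ _ _ _ _ y v 3 (by decide)
        (le_trans (by decide : 3 * 2 ^ (8 + 5) ≤ 2 ^ 15) h))
      (fld1_eq_zero _ _ _ _ _ _ _ _ v
        (le_trans (by decide : T1685UT.dtop.length * 2 ^ (7 + 5) ≤ 2 ^ 15) h))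
      (le_trans (by decide : 20013 ≤ 2 ^ 15) h)

theorem chunkL : ∀ k, k < 8 → allTree T1685LT.chkPoint 11 (k * 2 ^ 11) = true
  | 0, _ => T1685LC0.chk
  | 1, _ => T1685LC1.chk
  | 2, _ => T1685LC2.chk
  | 3, _ => T1685LC3.chk
  | 4, _ => T1685LC4.chk
  | 5, _ => T1685LC5.chk
  | 6, _ => T1685LC6.chk
  | 7, _ => T1685LC7.chk
  | (k + 8), h => absurd h (by omega)

theorem chkL (a : Nat) (ha : a < 14080) : T1685LT.chkPoint a = true :=
  allTree_chunks T1685LT.chkPoint 11 8 chunkL a (lt_of_lt_of_le ha (by decide))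

theorem permOK : PermChecks 14080 T1685LT.tp PresFi22.inv T1685LT.pa T1685LT.pl PresFi22.relW T1685LT.sgW T1685LT.tw 16
    T1685LT.roots 9 where
  point := fun a ha => chkL a ha
  invL := by decide +kernel
  wsL := by decide +kernel
  sgL := by decide +kernel
  twL := by decide +kernel
  root1 := by decide +kernel
  rootpos := by decide +kernel

/-- index and orbit structure of the subgroup -/
theorem final :
    ((Subgroup.closure {s | s ∈ sgSrc}).map (PresentedGroup.mk (coxRelators Fi22.edges ∪ {r | r ∈ Fi22.extra}))).index = 14080 ∧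
    ∃ ψ : (PresentedGroup (coxRelators Fi22.edges ∪ {r | r ∈ Fi22.extra})) ⧸ ((Subgroup.closure {s | s ∈ sgSrc}).map (PresentedGroup.mk (coxRelators Fi22.edges ∪ {r | r ∈ Fi22.extra}))) → Fin 14080,
      Function.Injective ψ ∧
      ∀ r, r < 14080 → (∀ r' ∈ (0 :: T1685LT.roots), clsOf T1685LT.roots r' = clsOf T1685LT.roots r → r' = r) →
        ∃ q, ψ '' (MulAction.orbit ((Subgroup.closure {s | s ∈ sgSrc}).map (PresentedGroup.mk (coxRelators Fi22.edges ∪ {r | r ∈ Fi22.extra}))) q) = {b : Fin 14080 | clsOf T1685LT.roots b.1 = clsOf T1685LT.roots r} :=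
  main PresFi22.ok {s | s ∈ sgSrc} sgSrc rfl T1685LT.sgW (by decide +kernel)
    20013 14080 15 3 262143 T1685UT.tgt T1685UT.sig T1685UT.crt T1685UT.hnt T1685UT.dsig T1685UT.mu T1685UT.dcrt T1685UT.dst
    T1685UT.par T1685UT.plet T1685UT.certs T1685UT.hints (by decide +kernel)
    (fun y v => fld3_le _ _ _ _ _ _ _ _ y v) (fun v => fld1_le _ _ _ _ _ _ _ _ v) chkU
    (by decide +kernel) (by decide) T1685UC0.cnt
    T1685LT.tp T1685LT.pa T1685LT.pl T1685LT.tw 16 T1685LT.roots permOK (by decide) (by decide +kernel)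

end Cfsg.Agent.Lib.Helper28.T1685X
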