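import Cfsg.Agent.Lib.Helper28.TCMain
import Cfsg.Agent.Lib.Helper28.PresFi22
import Cfsg.Agent.Lib.Helper28.T1687UC0
import Cfsg.Agent.Lib.Helper28.T1687LC0
import Cfsg.Agent.Lib.Helper28.T1687LC1

set_option autoImplicit false

namespace Cfsg.Agent.Lib.Helper28.T1687X

open Cfsg.Spor Cfsg.Agent.Lib.Helper28.TCKernel Cfsg.Agent.Lib.Helper28.TCSound Cfsg.Agent.Lib.Helper28.TCPerm Cfsg.Agent.Lib.Helper28.TCPres Cfsg.Agent.Lib.Helper28.TCMain

/-- the subgroup generators -/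
def sgSrc : List (FreeGroup Fi22.Gen) := [Fi22.a, Fi22.c, Fi22.d, Fi22.e, Fi22.f, Fi22.g, Fi22.h, Fi22.i, (Fi22.a * Fi22.b * Fi22.c * Fi22.d * Fi22.e * Fi22.h) ^ 5]

theorem chunkU : ∀ k, k < 1 → allTree T1687UT.chkName 12 (k * 2 ^ 12) = true
  | 0, _ => T1687UC0.chk
  | (k + 1), h => absurd h (by omega)

theorem chkU (v : Nat) : T1687UT.chkName v = true := by
  rcases Nat.lt_or_ge v (2 ^ 12) with h | h
  · exact allTree_chunks T1687UT.chkName 12 1 chunkU v h
  · exact chk_of_zero _ _ _ _ _ _ _ _ _ _ _ _ _ _ v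
      (fun y => fld3_eq_zero _ _ _ _ _ _ _ _ y v 1 (by decide)
        (le_trans (by decide : 1 * 2 ^ (8 + 4) ≤ 2 ^ 12) h))
      (fld1_eq_zero _ _ _ _ _ _ _ _ v
        (le_trans (by decide : T1687UT.dtop.length * 2 ^ (8 + 4) ≤ 2 ^ 12) h))
      (le_trans (by decide : 3536 ≤ 2 ^ 12) h)

theorem chunkL : ∀ k, k < 2 → allTree T1687LT.chkPoint 11 (k * 2 ^ 11) = true
  | 0, _ => T1687LC0.chk
  | 1, _ => T1687LC1.chk
  | (k + 2), h => absurd h (by omega)

theorem chkL (a : Nat) (ha : a < 3510) : T1687LT.chkPoint a = true :=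
  allTree_chunks T1687LT.chkPoint 11 2 chunkL a (lt_of_lt_of_le ha (by decide))

theorem permOK : PermChecks 3510 T1687LT.tp PresFi22.inv T1687LT.pa T1687LT.pl PresFi22.relW T1687LT.sgW T1687LT.tw 18
    T1687LT.roots 9 where
  point := fun a ha => chkL a ha
  invL := by decide +kernel
  wsL := by decide +kernel
  sgL := by decide +kernel
  twL := by decide +kernel
  root1 := by decide +kernel
  rootpos := by decide +kernel

/-- index and orbit structure of the subgroup -/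
theorem final :
    ((Subgroup.closure {s | s ∈ sgSrc}).map (PresentedGroup.mk (coxRelators Fi22.edges ∪ {r | r ∈ Fi22.extra}))).index = 3510 ∧
    ∃ ψ : (PresentedGroup (coxRelators Fi22.edges ∪ {r | r ∈ Fi22.extra})) ⧸ ((Subgroup.closure {s | s ∈ sgSrc}).map (PresentedGroup.mk (coxRelators Fi22.edges ∪ {r | r ∈ Fi22.extra}))) → Fin 3510,
      Function.Injective ψ ∧
      ∀ r, r < 3510 → (∀ r' ∈ (0 :: T1687LT.roots), clsOf T1687LT.roots r' = clsOf T1687LT.roots r → r' = r) →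
        ∃ q, ψ '' (MulAction.orbit ((Subgroup.closure {s | s ∈ sgSrc}).map (PresentedGroup.mk (coxRelators Fi22.edges ∪ {r | r ∈ Fi22.extra}))) q) = {b : Fin 3510 | clsOf T1687LT.roots b.1 = clsOf T1687LT.roots r} :=
  main PresFi22.ok {s | s ∈ sgSrc} sgSrc rfl T1687LT.sgW (by decide +kernel)
    3536 3510 12 3 32767 T1687UT.tgt T1687UT.sig T1687UT.crt T1687UT.hnt T1687UT.dsig T1687UT.mu T1687UT.dcrt T1687UT.dst
    T1687UT.par T1687UT.plet T1687UT.certs T1687UT.hints (by decide +kernel)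
    (fun y v => fld3_le _ _ _ _ _ _ _ _ y v) (fun v => fld1_le _ _ _ _ _ _ _ _ v) chkU
    (by decide +kernel) (by decide) T1687UC0.cnt
    T1687LT.tp T1687LT.pa T1687LT.pl T1687LT.tw 18 T1687LT.roots permOK (by decide) (by decide +kernel)

end Cfsg.Agent.Lib.Helper28.T1687X
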