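import Cfsg.Agent.Lib.Helper28.TCMain
import Cfsg.Agent.Lib.Helper28.PresFi23
import Cfsg.Agent.Lib.Helper28.T1689UC0
import Cfsg.Agent.Lib.Helper28.T1689UC1
import Cfsg.Agent.Lib.Helper28.T1689UC2
import Cfsg.Agent.Lib.Helper28.T1689UC3
import Cfsg.Agent.Lib.Helper28.T1689UC4
import Cfsg.Agent.Lib.Helper28.T1689UC5
import Cfsg.Agent.Lib.Helper28.T1689UC6
import Cfsg.Agent.Lib.Helper28.T1689UC7
import Cfsg.Agent.Lib.Helper28.T1689LC0
import Cfsg.Agent.Lib.Helper28.T1689LC1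
import Cfsg.Agent.Lib.Helper28.T1689LC2
import Cfsg.Agent.Lib.Helper28.T1689LC3
import Cfsg.Agent.Lib.Helper28.T1689LC4
import Cfsg.Agent.Lib.Helper28.T1689LC5
import Cfsg.Agent.Lib.Helper28.T1689LC6
import Cfsg.Agent.Lib.Helper28.T1689LC7
import Cfsg.Agent.Lib.Helper28.T1689LC8
import Cfsg.Agent.Lib.Helper28.T1689LC9
import Cfsg.Agent.Lib.Helper28.T1689LC10
import Cfsg.Agent.Lib.Helper28.T1689LC11
import Cfsg.Agent.Lib.Helper28.T1689LC12
import Cfsg.Agent.Lib.Helper28.T1689LC13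
import Cfsg.Agent.Lib.Helper28.T1689LC14
import Cfsg.Agent.Lib.Helper28.T1689LC15
import Cfsg.Agent.Lib.Helper28.T1689LC16
import Cfsg.Agent.Lib.Helper28.T1689LC17
import Cfsg.Agent.Lib.Helper28.T1689LC18
import Cfsg.Agent.Lib.Helper28.T1689LC19
import Cfsg.Agent.Lib.Helper28.T1689LC20
import Cfsg.Agent.Lib.Helper28.T1689LC21
import Cfsg.Agent.Lib.Helper28.T1689LC22
import Cfsg.Agent.Lib.Helper28.T1689LC23
import Cfsg.Agent.Lib.Helper28.T1689LC24
import Cfsg.Agent.Lib.Helper28.T1689LC25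
import Cfsg.Agent.Lib.Helper28.T1689LC26
import Cfsg.Agent.Lib.Helper28.T1689LC27
import Cfsg.Agent.Lib.Helper28.T1689LC28
import Cfsg.Agent.Lib.Helper28.T1689LC29
import Cfsg.Agent.Lib.Helper28.T1689LC30
import Cfsg.Agent.Lib.Helper28.T1689LC31

set_option autoImplicit false

namespace Cfsg.Agent.Lib.Helper28.T1689X

open Cfsg.Spor Cfsg.Agent.Lib.Helper28.TCKernel Cfsg.Agent.Lib.Helper28.TCSound Cfsg.Agent.Lib.Helper28.TCPerm Cfsg.Agent.Lib.Helper28.TCPres Cfsg.Agent.Lib.Helper28.TCMain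

/-- the subgroup generators -/
def sgSrc : List (FreeGroup Fi23.Gen) := [Fi23.a, Fi23.b, Fi23.c, Fi23.d, Fi23.e, Fi23.f, Fi23.g, Fi23.h, Fi23.i]

theorem chunkU : ∀ k, k < 8 → allTree T1689UT.chkName 13 (k * 2 ^ 13) = true
  | 0, _ => T1689UC0.chk
  | 1, _ => T1689UC1.chk
  | 2, _ => T1689UC2.chk
  | 3, _ => T1689UC3.chk
  | 4, _ => T1689UC4.chk
  | 5, _ => T1689UC5.chk
  | 6, _ => T1689UC6.chk
  | 7, _ => T1689UC7.chk
  | (k + 8), h => absurd h (by omega)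

theorem chkU (v : Nat) : T1689UT.chkName v = true := by
  rcases Nat.lt_or_ge v (2 ^ 16) with h | h
  · exact allTree_chunks T1689UT.chkName 13 8 chunkU v h
  · exact chk_of_zero _ _ _ _ _ _ _ _ _ _ _ _ _ _ v
      (fun y => fld3_eq_zero _ _ _ _ _ _ _ _ y v 8 (by decide)
        (le_trans (by decide : 8 * 2 ^ (8 + 5) ≤ 2 ^ 16) h))
      (fld1_eq_zero _ _ _ _ _ _ _ _ v
        (le_trans (by decide : T1689UT.dtop.length * 2 ^ (7 + 5) ≤ 2 ^ 16) h))
      (le_trans (by decide : 64483 ≤ 2 ^ 16) h)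

theorem chunkL : ∀ k, k < 32 → allTree T1689LT.chkPoint 10 (k * 2 ^ 10) = true
  | 0, _ => T1689LC0.chk
  | 1, _ => T1689LC1.chk
  | 2, _ => T1689LC2.chk
  | 3, _ => T1689LC3.chk
  | 4, _ => T1689LC4.chk
  | 5, _ => T1689LC5.chk
  | 6, _ => T1689LC6.chk
  | 7, _ => T1689LC7.chk
  | 8, _ => T1689LC8.chk
  | 9, _ => T1689LC9.chk
  | 10, _ => T1689LC10.chk
  | 11, _ => T1689LC11.chk
  | 12, _ => T1689LC12.chk
  | 13, _ => T1689LC13.chk
  | 14, _ => T1689LC14.chk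
  | 15, _ => T1689LC15.chk
  | 16, _ => T1689LC16.chk
  | 17, _ => T1689LC17.chk
  | 18, _ => T1689LC18.chk
  | 19, _ => T1689LC19.chk
  | 20, _ => T1689LC20.chk
  | 21, _ => T1689LC21.chk
  | 22, _ => T1689LC22.chk
  | 23, _ => T1689LC23.chk
  | 24, _ => T1689LC24.chk
  | 25, _ => T1689LC25.chk
  | 26, _ => T1689LC26.chk
  | 27, _ => T1689LC27.chk
  | 28, _ => T1689LC28.chk
  | 29, _ => T1689LC29.chk
  | 30, _ => T1689LC30.chk
  | 31, _ => T1689LC31.chk
  | (k + 32), h => absurd h (by omega)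

theorem chkL (a : Nat) (ha : a < 31671) : T1689LT.chkPoint a = true :=
  allTree_chunks T1689LT.chkPoint 10 32 chunkL a (lt_of_lt_of_le ha (by decide))

theorem permOK : PermChecks 31671 T1689LT.tp PresFi23.inv T1689LT.pa T1689LT.pl PresFi23.relW T1689LT.sgW T1689LT.tw 18
    T1689LT.roots 10 where
  point := fun a ha => chkL a ha
  invL := by decide +kernel
  wsL := by decide +kernel
  sgL := by decide +kernel
  twL := by decide +kernel
  root1 := by decide +kernel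
  rootpos := by decide +kernel

/-- index and orbit structure of the subgroup -/
theorem final :
    ((Subgroup.closure {s | s ∈ sgSrc}).map (PresentedGroup.mk (coxRelators Fi23.edges ∪ {r | r ∈ Fi23.extra}))).index = 31671 ∧
    ∃ ψ : (PresentedGroup (coxRelators Fi23.edges ∪ {r | r ∈ Fi23.extra})) ⧸ ((Subgroup.closure {s | s ∈ sgSrc}).map (PresentedGroup.mk (coxRelators Fi23.edges ∪ {r | r ∈ Fi23.extra}))) → Fin 31671,
      Function.Injective ψ ∧
      ∀ r, r < 31671 → (∀ r' ∈ (0 :: T1689LT.roots), clsOf T1689LT.roots r' = clsOf T1689LT.roots r → r' = r) →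
        ∃ q, ψ '' (MulAction.orbit ((Subgroup.closure {s | s ∈ sgSrc}).map (PresentedGroup.mk (coxRelators Fi23.edges ∪ {r | r ∈ Fi23.extra}))) q) = {b : Fin 31671 | clsOf T1689LT.roots b.1 = clsOf T1689LT.roots r} :=
  main PresFi23.ok {s | s ∈ sgSrc} sgSrc rfl T1689LT.sgW (by decide +kernel)
    64483 31671 16 4 1048575 T1689UT.tgt T1689UT.sig T1689UT.crt T1689UT.hnt T1689UT.dsig T1689UT.mu T1689UT.dcrt T1689UT.dst
    T1689UT.par T1689UT.plet T1689UT.certs T1689UT.hints (by decide +kernel)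
    (fun y v => fld3_le _ _ _ _ _ _ _ _ y v) (fun v => fld1_le _ _ _ _ _ _ _ _ v) chkU
    (by decide +kernel) (by decide) T1689UC0.cnt
    T1689LT.tp T1689LT.pa T1689LT.pl T1689LT.tw 18 T1689LT.roots permOK (by decide) (by decide +kernel)

end Cfsg.Agent.Lib.Helper28.T1689X
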