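import Cfsg.Agent.Lib.Helper28.TCKernel
import Cfsg.Agent.Lib.Helper28.T1690LD0
import Cfsg.Agent.Lib.Helper28.T1690LD1
import Cfsg.Agent.Lib.Helper28.T1690LD2
import Cfsg.Agent.Lib.Helper28.T1690LD3
import Cfsg.Agent.Lib.Helper28.T1690LD4
import Cfsg.Agent.Lib.Helper28.T1690LD5
import Cfsg.Agent.Lib.Helper28.T1690LD6

set_option autoImplicit false

namespace Cfsg.Agent.Lib.Helper28.T1690LT

open Cfsg.Agent.Lib.Helper28.TCKernel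

def p0top : List (List Nat) := [T1690LD0.p0g0, T1690LD0.p0g1, T1690LD0.p0g2, T1690LD0.p0g3, T1690LD0.p0g4, T1690LD0.p0g5, T1690LD0.p0g6, T1690LD0.p0g7, T1690LD0.p0g8, T1690LD0.p0g9, T1690LD0.p0g10, T1690LD0.p0g11, T1690LD0.p0g12, T1690LD0.p0g13, T1690LD0.p0g14, T1690LD0.p0g15, T1690LD0.p0g16, T1690LD0.p0g17, T1690LD0.p0g18]
def p1top : List (List Nat) := [T1690LD0.p1g0, T1690LD0.p1g1, T1690LD0.p1g2, T1690LD0.p1g3, T1690LD0.p1g4, T1690LD0.p1g5, T1690LD0.p1g6, T1690LD0.p1g7, T1690LD0.p1g8, T1690LD0.p1g9, T1690LD0.p1g10, T1690LD0.p1g11, T1690LD0.p1g12, T1690LD0.p1g13, T1690LD0.p1g14, T1690LD0.p1g15, T1690LD0.p1g16, T1690LD0.p1g17, T1690LD0.p1g18]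
def p2top : List (List Nat) := [T1690LD0.p2g0, T1690LD0.p2g1, T1690LD0.p2g2, T1690LD0.p2g3, T1690LD1.p2g4, T1690LD1.p2g5, T1690LD1.p2g6, T1690LD1.p2g7, T1690LD1.p2g8, T1690LD1.p2g9, T1690LD1.p2g10, T1690LD1.p2g11, T1690LD1.p2g12, T1690LD1.p2g13, T1690LD1.p2g14, T1690LD1.p2g15, T1690LD1.p2g16, T1690LD1.p2g17, T1690LD1.p2g18]
def p3top : List (List Nat) := [T1690LD1.p3g0, T1690LD1.p3g1, T1690LD1.p3g2, T1690LD1.p3g3, T1690LD1.p3g4, T1690LD1.p3g5, T1690LD1.p3g6, T1690LD1.p3g7, T1690LD1.p3g8, T1690LD1.p3g9, T1690LD1.p3g10, T1690LD1.p3g11, T1690LD1.p3g12, T1690LD1.p3g13, T1690LD1.p3g14, T1690LD1.p3g15, T1690LD1.p3g16, T1690LD1.p3g17, T1690LD1.p3g18]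
def p4top : List (List Nat) := [T1690LD1.p4g0, T1690LD1.p4g1, T1690LD1.p4g2, T1690LD1.p4g3, T1690LD1.p4g4, T1690LD1.p4g5, T1690LD1.p4g6, T1690LD1.p4g7, T1690LD2.p4g8, T1690LD2.p4g9, T1690LD2.p4g10, T1690LD2.p4g11, T1690LD2.p4g12, T1690LD2.p4g13, T1690LD2.p4g14, T1690LD2.p4g15, T1690LD2.p4g16, T1690LD2.p4g17, T1690LD2.p4g18]
def p5top : List (List Nat) := [T1690LD2.p5g0, T1690LD2.p5g1, T1690LD2.p5g2, T1690LD2.p5g3, T1690LD2.p5g4, T1690LD2.p5g5, T1690LD2.p5g6, T1690LD2.p5g7, T1690LD2.p5g8, T1690LD2.p5g9, T1690LD2.p5g10, T1690LD2.p5g11, T1690LD2.p5g12, T1690LD2.p5g13, T1690LD2.p5g14, T1690LD2.p5g15, T1690LD2.p5g16, T1690LD2.p5g17, T1690LD2.p5g18]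
def p6top : List (List Nat) := [T1690LD2.p6g0, T1690LD2.p6g1, T1690LD2.p6g2, T1690LD2.p6g3, T1690LD2.p6g4, T1690LD2.p6g5, T1690LD2.p6g6, T1690LD2.p6g7, T1690LD2.p6g8, T1690LD2.p6g9, T1690LD2.p6g10, T1690LD2.p6g11, T1690LD3.p6g12, T1690LD3.p6g13, T1690LD3.p6g14, T1690LD3.p6g15, T1690LD3.p6g16, T1690LD3.p6g17, T1690LD3.p6g18]
def p7top : List (List Nat) := [T1690LD3.p7g0, T1690LD3.p7g1, T1690LD3.p7g2, T1690LD3.p7g3, T1690LD3.p7g4, T1690LD3.p7g5, T1690LD3.p7g6, T1690LD3.p7g7, T1690LD3.p7g8, T1690LD3.p7g9, T1690LD3.p7g10, T1690LD3.p7g11, T1690LD3.p7g12, T1690LD3.p7g13, T1690LD3.p7g14, T1690LD3.p7g15, T1690LD3.p7g16, T1690LD3.p7g17, T1690LD3.p7g18]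
def p8top : List (List Nat) := [T1690LD3.p8g0, T1690LD3.p8g1, T1690LD3.p8g2, T1690LD3.p8g3, T1690LD3.p8g4, T1690LD3.p8g5, T1690LD3.p8g6, T1690LD3.p8g7, T1690LD3.p8g8, T1690LD3.p8g9, T1690LD3.p8g10, T1690LD3.p8g11, T1690LD3.p8g12, T1690LD3.p8g13, T1690LD3.p8g14, T1690LD3.p8g15, T1690LD4.p8g16, T1690LD4.p8g17, T1690LD4.p8g18]
def p9top : List (List Nat) := [T1690LD4.p9g0, T1690LD4.p9g1, T1690LD4.p9g2, T1690LD4.p9g3, T1690LD4.p9g4, T1690LD4.p9g5, T1690LD4.p9g6, T1690LD4.p9g7, T1690LD4.p9g8, T1690LD4.p9g9, T1690LD4.p9g10, T1690LD4.p9g11, T1690LD4.p9g12, T1690LD4.p9g13, T1690LD4.p9g14, T1690LD4.p9g15, T1690LD4.p9g16, T1690LD4.p9g17, T1690LD4.p9g18]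
def p10top : List (List Nat) := [T1690LD4.p10g0, T1690LD4.p10g1, T1690LD4.p10g2, T1690LD4.p10g3, T1690LD4.p10g4, T1690LD4.p10g5, T1690LD4.p10g6, T1690LD4.p10g7, T1690LD4.p10g8, T1690LD4.p10g9, T1690LD4.p10g10, T1690LD4.p10g11, T1690LD4.p10g12, T1690LD4.p10g13, T1690LD4.p10g14, T1690LD4.p10g15, T1690LD4.p10g16, T1690LD4.p10g17, T1690LD4.p10g18]
def p11top : List (List Nat) := [T1690LD4.p11g0, T1690LD5.p11g1, T1690LD5.p11g2, T1690LD5.p11g3, T1690LD5.p11g4, T1690LD5.p11g5, T1690LD5.p11g6, T1690LD5.p11g7, T1690LD5.p11g8, T1690LD5.p11g9, T1690LD5.p11g10, T1690LD5.p11g11, T1690LD5.p11g12, T1690LD5.p11g13, T1690LD5.p11g14, T1690LD5.p11g15, T1690LD5.p11g16, T1690LD5.p11g17, T1690LD5.p11g18]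
def ptops : List (List (List Nat)) := [p0top, p1top, p2top, p3top, p4top, p5top, p6top, p7top, p8top, p9top, p10top, p11top]
def ttop : List (List Nat) := [T1690LD5.tg0, T1690LD5.tg1, T1690LD5.tg2, T1690LD5.tg3, T1690LD5.tg4, T1690LD5.tg5, T1690LD5.tg6, T1690LD5.tg7, T1690LD5.tg8, T1690LD5.tg9, T1690LD5.tg10, T1690LD5.tg11, T1690LD5.tg12, T1690LD5.tg13, T1690LD5.tg14, T1690LD5.tg15, T1690LD5.tg16, T1690LD5.tg17, T1690LD6.tg18]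
def tp : Nat → Nat → Nat := fld3z ptops 9 5 31 511 19 524287
def pa : Nat → Nat := fld1 ttop 9 5 31 511 25 0 524287
def pl : Nat → Nat := fld1 ttop 9 5 31 511 25 19 63
def relW : List (List Nat) := [[0, 1, 0, 1, 0, 1],
  [0, 2, 0, 2],
  [0, 3, 0, 3],
  [0, 4, 0, 4],
  [0, 5, 0, 5],
  [0, 6, 0, 6],
  [0, 7, 0, 7],
  [0, 8, 0, 8],
  [0, 9, 0, 9],
  [0, 10, 0, 10],
  [0, 11, 0, 11],
  [1, 2, 1, 2, 1, 2],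
  [1, 3, 1, 3],
  [1, 4, 1, 4],
  [1, 5, 1, 5],
  [1, 6, 1, 6],
  [1, 7, 1, 7],
  [1, 8, 1, 8],
  [1, 9, 1, 9],
  [1, 10, 1, 10],
  [1, 11, 1, 11],
  [2, 3, 2, 3, 2, 3],
  [2, 4, 2, 4],
  [2, 5, 2, 5],
  [2, 6, 2, 6],
  [2, 7, 2, 7],
  [2, 8, 2, 8],
  [2, 9, 2, 9],
  [2, 10, 2, 10],
  [2, 11, 2, 11],
  [3, 4, 3, 4, 3, 4],
  [3, 5, 3, 5],
  [3, 6, 3, 6],
  [3, 7, 3, 7],
  [3, 8, 3, 8],
  [3, 9, 3, 9],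
  [3, 10, 3, 10],
  [3, 11, 3, 11],
  [4, 5, 4, 5, 4, 5],
  [4, 6, 4, 6],
  [4, 7, 4, 7],
  [4, 8, 4, 8],
  [4, 9, 4, 9],
  [4, 10, 4, 10],
  [4, 11, 4, 11],
  [5, 6, 5, 6, 5, 6],
  [5, 7, 5, 7],
  [5, 8, 5, 8],
  [5, 9, 5, 9],
  [5, 10, 5, 10, 5, 10],
  [5, 11, 5, 11],
  [6, 7, 6, 7, 6, 7],
  [6, 8, 6, 8],
  [6, 9, 6, 9],
  [6, 10, 6, 10],
  [6, 11, 6, 11],
  [7, 8, 7, 8, 7, 8],
  [7, 9, 7, 9],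
  [7, 10, 7, 10],
  [7, 11, 7, 11],
  [8, 9, 8, 9, 8, 9],
  [8, 10, 8, 10],
  [8, 11, 8, 11],
  [9, 10, 9, 10],
  [9, 11, 9, 11],
  [10, 11, 10, 11, 10, 11],
  [0, 10, 7, 6, 5, 4, 3, 2, 10, 7, 6, 5, 4, 3, 2, 10, 7, 6, 5, 4, 3, 2, 10, 7, 6, 5, 4, 3, 2, 10, 7, 6, 5, 4, 3, 2, 10, 7, 6, 5, 4, 3, 2, 10, 7, 6, 5, 4, 3, 2, 10, 7, 6, 5, 4, 3, 2, 10, 7, 6, 5, 4, 3, 2],
  [5, 4, 3, 2, 1, 0, 5, 6, 7, 8, 9, 5, 10, 11, 5, 4, 3, 2, 1, 0, 5, 6, 7, 8, 9, 5, 10, 11, 5, 4, 3, 2, 1, 0, 5, 6, 7, 8, 9, 5, 10, 11, 5, 4, 3, 2, 1, 0, 5, 6, 7, 8, 9, 5, 10, 11, 5, 4, 3, 2, 1, 0, 5, 6, 7, 8, 9, 5, 10, 11, 5, 4, 3, 2, 1, 0, 5, 6, 7, 8, 9, 5, 10, 11, 5, 4, 3, 2, 1, 0, 5, 6, 7, 8, 9, 5, 10, 11, 5, 4, 3, 2, 1, 0, 5, 6, 7, 8, 9, 5, 10, 11, 5, 4, 3, 2, 1, 0, 5, 6, 7, 8, 9, 5, 10, 11, 5, 4, 3, 2, 1, 0, 5, 6, 7, 8,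 9, 5, 10, 11, 5, 4, 3, 2, 1, 0, 5, 6, 7, 8, 9, 5, 10, 11, 5, 4, 3, 2, 1, 0, 5, 6, 7, 8, 9, 5, 10, 11, 5, 4, 3, 2, 1, 0, 5, 6, 7, 8, 9, 5, 10, 11, 5, 4, 3, 2, 1, 0, 5, 6, 7, 8, 9, 5, 10, 11, 5, 4, 3, 2, 1, 0, 5, 6, 7, 8, 9, 5, 10, 11, 5, 4, 3, 2, 1, 0, 5, 6, 7, 8, 9, 5, 10, 11, 5, 4, 3, 2, 1, 0, 5, 6, 7, 8, 9, 5, 10, 11]]
def sgW : List (List Nat) := [[2],
  [3],
  [4],
  [5],
  [6],
  [7],
  [8],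
  [10],
  [11],
  [9],
  [0]]
def tw : List (List Nat) := [[2],
  [3],
  [4],
  [5],
  [6],
  [7],
  [8],
  [10],
  [11],
  [9],
  [0],
  [2],
  [3],
  [4],
  [5],
  [6],
  [7],
  [8],
  [10],
  [11],
  [9],
  [0],
  [0],
  [1],
  [2],
  [3],
  [4],
  [5],
  [6],
  [7],
  [8],
  [9],
  [10],
  [11]]
def invL : List Nat := [0, 1, 2, 3, 4, 5, 6, 7, 8, 9, 10, 11]
def inv : Nat → Nat := nthD 0 invL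
def roots : List Nat := [1, 275265]
def nK : Nat := 22
def nL : Nat := 12
def nn : Nat := 306936
def nD : Nat := 19
/-- the per-point check -/
def chkPoint (a : Nat) : Bool :=
  pointOK tp inv pa pl relW sgW tw 22 roots 12 306936 a

end Cfsg.Agent.Lib.Helper28.T1690LT
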