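import Cfsg.Agent.Lib.Helper28.TCKernel
import Cfsg.Agent.Lib.Helper28.T1690UD0
import Cfsg.Agent.Lib.Helper28.T1690UD1
import Cfsg.Agent.Lib.Helper28.T1690UD2
import Cfsg.Agent.Lib.Helper28.T1690UD3
import Cfsg.Agent.Lib.Helper28.T1690UD4
import Cfsg.Agent.Lib.Helper28.T1690UD5
import Cfsg.Agent.Lib.Helper28.T1690UD6
import Cfsg.Agent.Lib.Helper28.T1690UD7
import Cfsg.Agent.Lib.Helper28.T1690UD8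
import Cfsg.Agent.Lib.Helper28.T1690UD9
import Cfsg.Agent.Lib.Helper28.T1690UD10
import Cfsg.Agent.Lib.Helper28.T1690UD11
import Cfsg.Agent.Lib.Helper28.T1690UD12
import Cfsg.Agent.Lib.Helper28.T1690UD13
import Cfsg.Agent.Lib.Helper28.T1690UD14
import Cfsg.Agent.Lib.Helper28.T1690UD15
import Cfsg.Agent.Lib.Helper28.T1690UD16
import Cfsg.Agent.Lib.Helper28.T1690UD17
import Cfsg.Agent.Lib.Helper28.T1690UD18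
import Cfsg.Agent.Lib.Helper28.T1690UD19
import Cfsg.Agent.Lib.Helper28.T1690UD20
import Cfsg.Agent.Lib.Helper28.T1690UD21
import Cfsg.Agent.Lib.Helper28.T1690UD22
import Cfsg.Agent.Lib.Helper28.T1690UD23
import Cfsg.Agent.Lib.Helper28.T1690UD24
import Cfsg.Agent.Lib.Helper28.T1690UD25
import Cfsg.Agent.Lib.Helper28.T1690UD26
import Cfsg.Agent.Lib.Helper28.T1690UD27
import Cfsg.Agent.Lib.Helper28.T1690UD28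
import Cfsg.Agent.Lib.Helper28.T1690UD29
import Cfsg.Agent.Lib.Helper28.T1690UD30

set_option autoImplicit false

namespace Cfsg.Agent.Lib.Helper28.T1690UT

open Cfsg.Agent.Lib.Helper28.TCKernel

def e0top : List (List Nat) := [T1690UD0.e0g0, T1690UD0.e0g1, T1690UD0.e0g2, T1690UD0.e0g3, T1690UD0.e0g4, T1690UD0.e0g5, T1690UD0.e0g6, T1690UD0.e0g7, T1690UD0.e0g8, T1690UD0.e0g9, T1690UD0.e0g10, T1690UD0.e0g11, T1690UD0.e0g12, T1690UD0.e0g13, T1690UD0.e0g14, T1690UD0.e0g15, T1690UD0.e0g16, T1690UD0.e0g17, T1690UD0.e0g18, T1690UD0.e0g19, T1690UD0.e0g20, T1690UD0.e0g21, T1690UD0.e0g22, T1690UD0.e0g23, T1690UD0.e0g24, T1690UD0.e0g25, T1690UD0.e0g26, T1690UD0.e0g27, T1690UD0.e0g28, T1690UD0.e0g29, T1690UD0.e0g30, T1690UD0.e0g31, T1690UD0.e0g32,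 T1690UD0.e0g33, T1690UD0.e0g34, T1690UD0.e0g35, T1690UD0.e0g36, T1690UD0.e0g37, T1690UD0.e0g38, T1690UD0.e0g39, T1690UD0.e0g40, T1690UD0.e0g41, T1690UD0.e0g42, T1690UD1.e0g43, T1690UD1.e0g44, T1690UD1.e0g45, T1690UD1.e0g46, T1690UD1.e0g47, T1690UD1.e0g48, T1690UD1.e0g49, T1690UD1.e0g50, T1690UD1.e0g51, T1690UD1.e0g52, T1690UD1.e0g53, T1690UD1.e0g54, T1690UD1.e0g55, T1690UD1.e0g56, T1690UD1.e0g57, T1690UD1.e0g58, T1690UD1.e0g59, T1690UD1.e0g60, T1690UD1.e0g61, T1690UD1.e0g62, T1690UD1.e0g63, T1690UD1.e0g64, T1690UD1.e0g65, T1690UD1.e0g66, T1690UD1.e0g67, T1690UD1.e0g68, T1690UD1.e0g69, T1690UD1.e0g70, T1690UD1.e0g71, T1690UD1.e0g72, T1690UD1.e0g73, T1690UD1.e0g74, T1690UD1.e0g75, T1690UD1.e0g76, T1690UD1.e0g77, T1690UD1.e0g78, T1690UD1.e0g79,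 T1690UD1.e0g80, T1690UD1.e0g81, T1690UD1.e0g82, T1690UD1.e0g83, T1690UD1.e0g84, T1690UD2.e0g85, T1690UD2.e0g86, T1690UD2.e0g87, T1690UD2.e0g88, T1690UD2.e0g89, T1690UD2.e0g90, T1690UD2.e0g91, T1690UD2.e0g92, T1690UD2.e0g93, T1690UD2.e0g94, T1690UD2.e0g95, T1690UD2.e0g96]
def e1top : List (List Nat) := [T1690UD2.e1g0, T1690UD2.e1g1, T1690UD2.e1g2, T1690UD2.e1g3, T1690UD2.e1g4, T1690UD2.e1g5, T1690UD2.e1g6, T1690UD2.e1g7, T1690UD2.e1g8, T1690UD2.e1g9, T1690UD2.e1g10, T1690UD2.e1g11, T1690UD2.e1g12, T1690UD2.e1g13, T1690UD2.e1g14, T1690UD2.e1g15, T1690UD2.e1g16, T1690UD2.e1g17, T1690UD2.e1g18, T1690UD2.e1g19, T1690UD2.e1g20, T1690UD2.e1g21, T1690UD2.e1g22, T1690UD2.e1g23, T1690UD2.e1g24, T1690UD2.e1g25, T1690UD2.e1g26, T1690UD2.e1g27,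 T1690UD2.e1g28, T1690UD2.e1g29, T1690UD2.e1g30, T1690UD3.e1g31, T1690UD3.e1g32, T1690UD3.e1g33, T1690UD3.e1g34, T1690UD3.e1g35, T1690UD3.e1g36, T1690UD3.e1g37, T1690UD3.e1g38, T1690UD3.e1g39, T1690UD3.e1g40, T1690UD3.e1g41, T1690UD3.e1g42, T1690UD3.e1g43, T1690UD3.e1g44, T1690UD3.e1g45, T1690UD3.e1g46, T1690UD3.e1g47, T1690UD3.e1g48, T1690UD3.e1g49, T1690UD3.e1g50, T1690UD3.e1g51, T1690UD3.e1g52, T1690UD3.e1g53, T1690UD3.e1g54, T1690UD3.e1g55, T1690UD3.e1g56, T1690UD3.e1g57, T1690UD3.e1g58, T1690UD3.e1g59, T1690UD3.e1g60, T1690UD3.e1g61, T1690UD3.e1g62, T1690UD3.e1g63, T1690UD3.e1g64, T1690UD3.e1g65, T1690UD3.e1g66, T1690UD3.e1g67, T1690UD3.e1g68, T1690UD3.e1g69, T1690UD3.e1g70, T1690UD3.e1g71, T1690UD3.e1g72, T1690UD3.e1g73, T1690UD4.e1g74,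 T1690UD4.e1g75, T1690UD4.e1g76, T1690UD4.e1g77, T1690UD4.e1g78, T1690UD4.e1g79, T1690UD4.e1g80, T1690UD4.e1g81, T1690UD4.e1g82, T1690UD4.e1g83, T1690UD4.e1g84, T1690UD4.e1g85, T1690UD4.e1g86, T1690UD4.e1g87, T1690UD4.e1g88, T1690UD4.e1g89, T1690UD4.e1g90, T1690UD4.e1g91, T1690UD4.e1g92, T1690UD4.e1g93, T1690UD4.e1g94, T1690UD4.e1g95, T1690UD4.e1g96]
def e2top : List (List Nat) := [T1690UD4.e2g0, T1690UD4.e2g1, T1690UD4.e2g2, T1690UD4.e2g3, T1690UD4.e2g4, T1690UD4.e2g5, T1690UD4.e2g6, T1690UD4.e2g7, T1690UD4.e2g8, T1690UD4.e2g9, T1690UD4.e2g10, T1690UD4.e2g11, T1690UD4.e2g12, T1690UD4.e2g13, T1690UD4.e2g14, T1690UD4.e2g15, T1690UD4.e2g16, T1690UD4.e2g17, T1690UD4.e2g18, T1690UD4.e2g19, T1690UD5.e2g20, T1690UD5.e2g21, T1690UD5.e2g22,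 T1690UD5.e2g23, T1690UD5.e2g24, T1690UD5.e2g25, T1690UD5.e2g26, T1690UD5.e2g27, T1690UD5.e2g28, T1690UD5.e2g29, T1690UD5.e2g30, T1690UD5.e2g31, T1690UD5.e2g32, T1690UD5.e2g33, T1690UD5.e2g34, T1690UD5.e2g35, T1690UD5.e2g36, T1690UD5.e2g37, T1690UD5.e2g38, T1690UD5.e2g39, T1690UD5.e2g40, T1690UD5.e2g41, T1690UD5.e2g42, T1690UD5.e2g43, T1690UD5.e2g44, T1690UD5.e2g45, T1690UD5.e2g46, T1690UD5.e2g47, T1690UD5.e2g48, T1690UD5.e2g49, T1690UD5.e2g50, T1690UD5.e2g51, T1690UD5.e2g52, T1690UD5.e2g53, T1690UD5.e2g54, T1690UD5.e2g55, T1690UD5.e2g56, T1690UD5.e2g57, T1690UD5.e2g58, T1690UD5.e2g59, T1690UD5.e2g60, T1690UD5.e2g61, T1690UD5.e2g62, T1690UD6.e2g63, T1690UD6.e2g64, T1690UD6.e2g65, T1690UD6.e2g66, T1690UD6.e2g67, T1690UD6.e2g68, T1690UD6.e2g69,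 T1690UD6.e2g70, T1690UD6.e2g71, T1690UD6.e2g72, T1690UD6.e2g73, T1690UD6.e2g74, T1690UD6.e2g75, T1690UD6.e2g76, T1690UD6.e2g77, T1690UD6.e2g78, T1690UD6.e2g79, T1690UD6.e2g80, T1690UD6.e2g81, T1690UD6.e2g82, T1690UD6.e2g83, T1690UD6.e2g84, T1690UD6.e2g85, T1690UD6.e2g86, T1690UD6.e2g87, T1690UD6.e2g88, T1690UD6.e2g89, T1690UD6.e2g90, T1690UD6.e2g91, T1690UD6.e2g92, T1690UD6.e2g93, T1690UD6.e2g94, T1690UD6.e2g95, T1690UD6.e2g96]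
def e3top : List (List Nat) := [T1690UD6.e3g0, T1690UD6.e3g1, T1690UD6.e3g2, T1690UD6.e3g3, T1690UD6.e3g4, T1690UD6.e3g5, T1690UD6.e3g6, T1690UD6.e3g7, T1690UD6.e3g8, T1690UD7.e3g9, T1690UD7.e3g10, T1690UD7.e3g11, T1690UD7.e3g12, T1690UD7.e3g13, T1690UD7.e3g14, T1690UD7.e3g15, T1690UD7.e3g16, T1690UD7.e3g17, T1690UD7.e3g18, T1690UD7.e3g19, T1690UD7.e3g20, T1690UD7.e3g21, T1690UD7.e3g22, T1690UD7.e3g23, T1690UD7.e3g24, T1690UD7.e3g25, T1690UD7.e3g26, T1690UD7.e3g27, T1690UD7.e3g28, T1690UD7.e3g29, T1690UD7.e3g30, T1690UD7.e3g31, T1690UD7.e3g32, T1690UD7.e3g33, T1690UD7.e3g34, T1690UD7.e3g35, T1690UD7.e3g36, T1690UD7.e3g37, T1690UD7.e3g38, T1690UD7.e3g39, T1690UD7.e3g40, T1690UD7.e3g41, T1690UD7.e3g42, T1690UD7.e3g43, T1690UD7.e3g44,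 T1690UD7.e3g45, T1690UD7.e3g46, T1690UD7.e3g47, T1690UD7.e3g48, T1690UD7.e3g49, T1690UD7.e3g50, T1690UD7.e3g51, T1690UD8.e3g52, T1690UD8.e3g53, T1690UD8.e3g54, T1690UD8.e3g55, T1690UD8.e3g56, T1690UD8.e3g57, T1690UD8.e3g58, T1690UD8.e3g59, T1690UD8.e3g60, T1690UD8.e3g61, T1690UD8.e3g62, T1690UD8.e3g63, T1690UD8.e3g64, T1690UD8.e3g65, T1690UD8.e3g66, T1690UD8.e3g67, T1690UD8.e3g68, T1690UD8.e3g69, T1690UD8.e3g70, T1690UD8.e3g71, T1690UD8.e3g72, T1690UD8.e3g73, T1690UD8.e3g74, T1690UD8.e3g75, T1690UD8.e3g76, T1690UD8.e3g77, T1690UD8.e3g78, T1690UD8.e3g79, T1690UD8.e3g80, T1690UD8.e3g81, T1690UD8.e3g82, T1690UD8.e3g83, T1690UD8.e3g84, T1690UD8.e3g85, T1690UD8.e3g86, T1690UD8.e3g87, T1690UD8.e3g88, T1690UD8.e3g89, T1690UD8.e3g90, T1690UD8.e3g91,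 T1690UD8.e3g92, T1690UD8.e3g93, T1690UD9.e3g94, T1690UD9.e3g95, T1690UD9.e3g96]
def e4top : List (List Nat) := [T1690UD9.e4g0, T1690UD9.e4g1, T1690UD9.e4g2, T1690UD9.e4g3, T1690UD9.e4g4, T1690UD9.e4g5, T1690UD9.e4g6, T1690UD9.e4g7, T1690UD9.e4g8, T1690UD9.e4g9, T1690UD9.e4g10, T1690UD9.e4g11, T1690UD9.e4g12, T1690UD9.e4g13, T1690UD9.e4g14, T1690UD9.e4g15, T1690UD9.e4g16, T1690UD9.e4g17, T1690UD9.e4g18, T1690UD9.e4g19, T1690UD9.e4g20, T1690UD9.e4g21, T1690UD9.e4g22, T1690UD9.e4g23, T1690UD9.e4g24, T1690UD9.e4g25, T1690UD9.e4g26, T1690UD9.e4g27, T1690UD9.e4g28, T1690UD9.e4g29, T1690UD9.e4g30, T1690UD9.e4g31, T1690UD9.e4g32, T1690UD9.e4g33, T1690UD9.e4g34, T1690UD9.e4g35, T1690UD9.e4g36, T1690UD9.e4g37, T1690UD9.e4g38, T1690UD9.e4g39,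 T1690UD10.e4g40, T1690UD10.e4g41, T1690UD10.e4g42, T1690UD10.e4g43, T1690UD10.e4g44, T1690UD10.e4g45, T1690UD10.e4g46, T1690UD10.e4g47, T1690UD10.e4g48, T1690UD10.e4g49, T1690UD10.e4g50, T1690UD10.e4g51, T1690UD10.e4g52, T1690UD10.e4g53, T1690UD10.e4g54, T1690UD10.e4g55, T1690UD10.e4g56, T1690UD10.e4g57, T1690UD10.e4g58, T1690UD10.e4g59, T1690UD10.e4g60, T1690UD10.e4g61, T1690UD10.e4g62, T1690UD10.e4g63, T1690UD10.e4g64, T1690UD10.e4g65, T1690UD10.e4g66, T1690UD10.e4g67, T1690UD10.e4g68, T1690UD10.e4g69, T1690UD10.e4g70, T1690UD10.e4g71, T1690UD10.e4g72, T1690UD10.e4g73, T1690UD10.e4g74, T1690UD10.e4g75, T1690UD10.e4g76, T1690UD10.e4g77, T1690UD10.e4g78, T1690UD10.e4g79, T1690UD10.e4g80, T1690UD10.e4g81, T1690UD11.e4g82, T1690UD11.e4g83,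 T1690UD11.e4g84, T1690UD11.e4g85, T1690UD11.e4g86, T1690UD11.e4g87, T1690UD11.e4g88, T1690UD11.e4g89, T1690UD11.e4g90, T1690UD11.e4g91, T1690UD11.e4g92, T1690UD11.e4g93, T1690UD11.e4g94, T1690UD11.e4g95, T1690UD11.e4g96]
def e5top : List (List Nat) := [T1690UD11.e5g0, T1690UD11.e5g1, T1690UD11.e5g2, T1690UD11.e5g3, T1690UD11.e5g4, T1690UD11.e5g5, T1690UD11.e5g6, T1690UD11.e5g7, T1690UD11.e5g8, T1690UD11.e5g9, T1690UD11.e5g10, T1690UD11.e5g11, T1690UD11.e5g12, T1690UD11.e5g13, T1690UD11.e5g14, T1690UD11.e5g15, T1690UD11.e5g16, T1690UD11.e5g17, T1690UD11.e5g18, T1690UD11.e5g19, T1690UD11.e5g20, T1690UD11.e5g21, T1690UD11.e5g22, T1690UD11.e5g23, T1690UD11.e5g24, T1690UD11.e5g25, T1690UD11.e5g26, T1690UD11.e5g27, T1690UD12.e5g28, T1690UD12.e5g29,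 T1690UD12.e5g30, T1690UD12.e5g31, T1690UD12.e5g32, T1690UD12.e5g33, T1690UD12.e5g34, T1690UD12.e5g35, T1690UD12.e5g36, T1690UD12.e5g37, T1690UD12.e5g38, T1690UD12.e5g39, T1690UD12.e5g40, T1690UD12.e5g41, T1690UD12.e5g42, T1690UD12.e5g43, T1690UD12.e5g44, T1690UD12.e5g45, T1690UD12.e5g46, T1690UD12.e5g47, T1690UD12.e5g48, T1690UD12.e5g49, T1690UD12.e5g50, T1690UD12.e5g51, T1690UD12.e5g52, T1690UD12.e5g53, T1690UD12.e5g54, T1690UD12.e5g55, T1690UD12.e5g56, T1690UD12.e5g57, T1690UD12.e5g58, T1690UD12.e5g59, T1690UD12.e5g60, T1690UD12.e5g61, T1690UD12.e5g62, T1690UD12.e5g63, T1690UD12.e5g64, T1690UD12.e5g65, T1690UD12.e5g66, T1690UD12.e5g67, T1690UD12.e5g68, T1690UD12.e5g69, T1690UD12.e5g70, T1690UD13.e5g71, T1690UD13.e5g72, T1690UD13.e5g73,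 T1690UD13.e5g74, T1690UD13.e5g75, T1690UD13.e5g76, T1690UD13.e5g77, T1690UD13.e5g78, T1690UD13.e5g79, T1690UD13.e5g80, T1690UD13.e5g81, T1690UD13.e5g82, T1690UD13.e5g83, T1690UD13.e5g84, T1690UD13.e5g85, T1690UD13.e5g86, T1690UD13.e5g87, T1690UD13.e5g88, T1690UD13.e5g89, T1690UD13.e5g90, T1690UD13.e5g91, T1690UD13.e5g92, T1690UD13.e5g93, T1690UD13.e5g94, T1690UD13.e5g95, T1690UD13.e5g96]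
def e6top : List (List Nat) := [T1690UD13.e6g0, T1690UD13.e6g1, T1690UD13.e6g2, T1690UD13.e6g3, T1690UD13.e6g4, T1690UD13.e6g5, T1690UD13.e6g6, T1690UD13.e6g7, T1690UD13.e6g8, T1690UD13.e6g9, T1690UD13.e6g10, T1690UD13.e6g11, T1690UD13.e6g12, T1690UD13.e6g13, T1690UD13.e6g14, T1690UD13.e6g15, T1690UD13.e6g16, T1690UD14.e6g17, T1690UD14.e6g18, T1690UD14.e6g19, T1690UD14.e6g20, T1690UD14.e6g21, T1690UD14.e6g22, T1690UD14.e6g23, T1690UD14.e6g24, T1690UD14.e6g25, T1690UD14.e6g26, T1690UD14.e6g27, T1690UD14.e6g28, T1690UD14.e6g29, T1690UD14.e6g30, T1690UD14.e6g31, T1690UD14.e6g32, T1690UD14.e6g33, T1690UD14.e6g34, T1690UD14.e6g35, T1690UD14.e6g36, T1690UD14.e6g37, T1690UD14.e6g38, T1690UD14.e6g39, T1690UD14.e6g40, T1690UD14.e6g41, T1690UD14.e6g42,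 T1690UD14.e6g43, T1690UD14.e6g44, T1690UD14.e6g45, T1690UD14.e6g46, T1690UD14.e6g47, T1690UD14.e6g48, T1690UD14.e6g49, T1690UD14.e6g50, T1690UD14.e6g51, T1690UD14.e6g52, T1690UD14.e6g53, T1690UD14.e6g54, T1690UD14.e6g55, T1690UD14.e6g56, T1690UD14.e6g57, T1690UD14.e6g58, T1690UD15.e6g59, T1690UD15.e6g60, T1690UD15.e6g61, T1690UD15.e6g62, T1690UD15.e6g63, T1690UD15.e6g64, T1690UD15.e6g65, T1690UD15.e6g66, T1690UD15.e6g67, T1690UD15.e6g68, T1690UD15.e6g69, T1690UD15.e6g70, T1690UD15.e6g71, T1690UD15.e6g72, T1690UD15.e6g73, T1690UD15.e6g74, T1690UD15.e6g75, T1690UD15.e6g76, T1690UD15.e6g77, T1690UD15.e6g78, T1690UD15.e6g79, T1690UD15.e6g80, T1690UD15.e6g81, T1690UD15.e6g82, T1690UD15.e6g83, T1690UD15.e6g84, T1690UD15.e6g85, T1690UD15.e6g86,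 T1690UD15.e6g87, T1690UD15.e6g88, T1690UD15.e6g89, T1690UD15.e6g90, T1690UD15.e6g91, T1690UD15.e6g92, T1690UD15.e6g93, T1690UD15.e6g94, T1690UD15.e6g95, T1690UD15.e6g96]
def e7top : List (List Nat) := [T1690UD15.e7g0, T1690UD15.e7g1, T1690UD15.e7g2, T1690UD15.e7g3, T1690UD15.e7g4, T1690UD16.e7g5, T1690UD16.e7g6, T1690UD16.e7g7, T1690UD16.e7g8, T1690UD16.e7g9, T1690UD16.e7g10, T1690UD16.e7g11, T1690UD16.e7g12, T1690UD16.e7g13, T1690UD16.e7g14, T1690UD16.e7g15, T1690UD16.e7g16, T1690UD16.e7g17, T1690UD16.e7g18, T1690UD16.e7g19, T1690UD16.e7g20, T1690UD16.e7g21, T1690UD16.e7g22, T1690UD16.e7g23, T1690UD16.e7g24, T1690UD16.e7g25, T1690UD16.e7g26, T1690UD16.e7g27, T1690UD16.e7g28, T1690UD16.e7g29, T1690UD16.e7g30, T1690UD16.e7g31, T1690UD16.e7g32,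 T1690UD16.e7g33, T1690UD16.e7g34, T1690UD16.e7g35, T1690UD16.e7g36, T1690UD16.e7g37, T1690UD16.e7g38, T1690UD16.e7g39, T1690UD16.e7g40, T1690UD16.e7g41, T1690UD16.e7g42, T1690UD16.e7g43, T1690UD16.e7g44, T1690UD16.e7g45, T1690UD16.e7g46, T1690UD16.e7g47, T1690UD17.e7g48, T1690UD17.e7g49, T1690UD17.e7g50, T1690UD17.e7g51, T1690UD17.e7g52, T1690UD17.e7g53, T1690UD17.e7g54, T1690UD17.e7g55, T1690UD17.e7g56, T1690UD17.e7g57, T1690UD17.e7g58, T1690UD17.e7g59, T1690UD17.e7g60, T1690UD17.e7g61, T1690UD17.e7g62, T1690UD17.e7g63, T1690UD17.e7g64, T1690UD17.e7g65, T1690UD17.e7g66, T1690UD17.e7g67, T1690UD17.e7g68, T1690UD17.e7g69, T1690UD17.e7g70, T1690UD17.e7g71, T1690UD17.e7g72, T1690UD17.e7g73, T1690UD17.e7g74, T1690UD17.e7g75, T1690UD17.e7g76,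 T1690UD17.e7g77, T1690UD17.e7g78, T1690UD17.e7g79, T1690UD17.e7g80, T1690UD17.e7g81, T1690UD17.e7g82, T1690UD17.e7g83, T1690UD17.e7g84, T1690UD17.e7g85, T1690UD17.e7g86, T1690UD17.e7g87, T1690UD17.e7g88, T1690UD17.e7g89, T1690UD18.e7g90, T1690UD18.e7g91, T1690UD18.e7g92, T1690UD18.e7g93, T1690UD18.e7g94, T1690UD18.e7g95, T1690UD18.e7g96]
def e8top : List (List Nat) := [T1690UD18.e8g0, T1690UD18.e8g1, T1690UD18.e8g2, T1690UD18.e8g3, T1690UD18.e8g4, T1690UD18.e8g5, T1690UD18.e8g6, T1690UD18.e8g7, T1690UD18.e8g8, T1690UD18.e8g9, T1690UD18.e8g10, T1690UD18.e8g11, T1690UD18.e8g12, T1690UD18.e8g13, T1690UD18.e8g14, T1690UD18.e8g15, T1690UD18.e8g16, T1690UD18.e8g17, T1690UD18.e8g18, T1690UD18.e8g19, T1690UD18.e8g20, T1690UD18.e8g21, T1690UD18.e8g22,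 T1690UD18.e8g23, T1690UD18.e8g24, T1690UD18.e8g25, T1690UD18.e8g26, T1690UD18.e8g27, T1690UD18.e8g28, T1690UD18.e8g29, T1690UD18.e8g30, T1690UD18.e8g31, T1690UD18.e8g32, T1690UD18.e8g33, T1690UD18.e8g34, T1690UD18.e8g35, T1690UD19.e8g36, T1690UD19.e8g37, T1690UD19.e8g38, T1690UD19.e8g39, T1690UD19.e8g40, T1690UD19.e8g41, T1690UD19.e8g42, T1690UD19.e8g43, T1690UD19.e8g44, T1690UD19.e8g45, T1690UD19.e8g46, T1690UD19.e8g47, T1690UD19.e8g48, T1690UD19.e8g49, T1690UD19.e8g50, T1690UD19.e8g51, T1690UD19.e8g52, T1690UD19.e8g53, T1690UD19.e8g54, T1690UD19.e8g55, T1690UD19.e8g56, T1690UD19.e8g57, T1690UD19.e8g58, T1690UD19.e8g59, T1690UD19.e8g60, T1690UD19.e8g61, T1690UD19.e8g62, T1690UD19.e8g63, T1690UD19.e8g64, T1690UD19.e8g65, T1690UD19.e8g66,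 T1690UD19.e8g67, T1690UD19.e8g68, T1690UD19.e8g69, T1690UD19.e8g70, T1690UD19.e8g71, T1690UD19.e8g72, T1690UD19.e8g73, T1690UD19.e8g74, T1690UD19.e8g75, T1690UD19.e8g76, T1690UD19.e8g77, T1690UD20.e8g78, T1690UD20.e8g79, T1690UD20.e8g80, T1690UD20.e8g81, T1690UD20.e8g82, T1690UD20.e8g83, T1690UD20.e8g84, T1690UD20.e8g85, T1690UD20.e8g86, T1690UD20.e8g87, T1690UD20.e8g88, T1690UD20.e8g89, T1690UD20.e8g90, T1690UD20.e8g91, T1690UD20.e8g92, T1690UD20.e8g93, T1690UD20.e8g94, T1690UD20.e8g95, T1690UD20.e8g96]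
def e9top : List (List Nat) := [T1690UD20.e9g0, T1690UD20.e9g1, T1690UD20.e9g2, T1690UD20.e9g3, T1690UD20.e9g4, T1690UD20.e9g5, T1690UD20.e9g6, T1690UD20.e9g7, T1690UD20.e9g8, T1690UD20.e9g9, T1690UD20.e9g10, T1690UD20.e9g11, T1690UD20.e9g12, T1690UD20.e9g13, T1690UD20.e9g14, T1690UD20.e9g15, T1690UD20.e9g16, T1690UD20.e9g17, T1690UD20.e9g18, T1690UD20.e9g19, T1690UD20.e9g20, T1690UD20.e9g21, T1690UD20.e9g22, T1690UD20.e9g23, T1690UD21.e9g24, T1690UD21.e9g25, T1690UD21.e9g26, T1690UD21.e9g27, T1690UD21.e9g28, T1690UD21.e9g29, T1690UD21.e9g30, T1690UD21.e9g31, T1690UD21.e9g32, T1690UD21.e9g33, T1690UD21.e9g34, T1690UD21.e9g35, T1690UD21.e9g36, T1690UD21.e9g37, T1690UD21.e9g38, T1690UD21.e9g39, T1690UD21.e9g40, T1690UD21.e9g41, T1690UD21.e9g42,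 T1690UD21.e9g43, T1690UD21.e9g44, T1690UD21.e9g45, T1690UD21.e9g46, T1690UD21.e9g47, T1690UD21.e9g48, T1690UD21.e9g49, T1690UD21.e9g50, T1690UD21.e9g51, T1690UD21.e9g52, T1690UD21.e9g53, T1690UD21.e9g54, T1690UD21.e9g55, T1690UD21.e9g56, T1690UD21.e9g57, T1690UD21.e9g58, T1690UD21.e9g59, T1690UD21.e9g60, T1690UD21.e9g61, T1690UD21.e9g62, T1690UD21.e9g63, T1690UD21.e9g64, T1690UD21.e9g65, T1690UD21.e9g66, T1690UD22.e9g67, T1690UD22.e9g68, T1690UD22.e9g69, T1690UD22.e9g70, T1690UD22.e9g71, T1690UD22.e9g72, T1690UD22.e9g73, T1690UD22.e9g74, T1690UD22.e9g75, T1690UD22.e9g76, T1690UD22.e9g77, T1690UD22.e9g78, T1690UD22.e9g79, T1690UD22.e9g80, T1690UD22.e9g81, T1690UD22.e9g82, T1690UD22.e9g83, T1690UD22.e9g84, T1690UD22.e9g85, T1690UD22.e9g86,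 T1690UD22.e9g87, T1690UD22.e9g88, T1690UD22.e9g89, T1690UD22.e9g90, T1690UD22.e9g91, T1690UD22.e9g92, T1690UD22.e9g93, T1690UD22.e9g94, T1690UD22.e9g95, T1690UD22.e9g96]
def e10top : List (List Nat) := [T1690UD22.e10g0, T1690UD22.e10g1, T1690UD22.e10g2, T1690UD22.e10g3, T1690UD22.e10g4, T1690UD22.e10g5, T1690UD22.e10g6, T1690UD22.e10g7, T1690UD22.e10g8, T1690UD22.e10g9, T1690UD22.e10g10, T1690UD22.e10g11, T1690UD22.e10g12, T1690UD23.e10g13, T1690UD23.e10g14, T1690UD23.e10g15, T1690UD23.e10g16, T1690UD23.e10g17, T1690UD23.e10g18, T1690UD23.e10g19, T1690UD23.e10g20, T1690UD23.e10g21, T1690UD23.e10g22, T1690UD23.e10g23, T1690UD23.e10g24, T1690UD23.e10g25, T1690UD23.e10g26, T1690UD23.e10g27, T1690UD23.e10g28, T1690UD23.e10g29, T1690UD23.e10g30,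 T1690UD23.e10g31, T1690UD23.e10g32, T1690UD23.e10g33, T1690UD23.e10g34, T1690UD23.e10g35, T1690UD23.e10g36, T1690UD23.e10g37, T1690UD23.e10g38, T1690UD23.e10g39, T1690UD23.e10g40, T1690UD23.e10g41, T1690UD23.e10g42, T1690UD23.e10g43, T1690UD23.e10g44, T1690UD23.e10g45, T1690UD23.e10g46, T1690UD23.e10g47, T1690UD23.e10g48, T1690UD23.e10g49, T1690UD23.e10g50, T1690UD23.e10g51, T1690UD23.e10g52, T1690UD23.e10g53, T1690UD23.e10g54, T1690UD24.e10g55, T1690UD24.e10g56, T1690UD24.e10g57, T1690UD24.e10g58, T1690UD24.e10g59, T1690UD24.e10g60, T1690UD24.e10g61, T1690UD24.e10g62, T1690UD24.e10g63, T1690UD24.e10g64, T1690UD24.e10g65, T1690UD24.e10g66, T1690UD24.e10g67, T1690UD24.e10g68, T1690UD24.e10g69, T1690UD24.e10g70, T1690UD24.e10g71, T1690UD24.e10g72,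 T1690UD24.e10g73, T1690UD24.e10g74, T1690UD24.e10g75, T1690UD24.e10g76, T1690UD24.e10g77, T1690UD24.e10g78, T1690UD24.e10g79, T1690UD24.e10g80, T1690UD24.e10g81, T1690UD24.e10g82, T1690UD24.e10g83, T1690UD24.e10g84, T1690UD24.e10g85, T1690UD24.e10g86, T1690UD24.e10g87, T1690UD24.e10g88, T1690UD24.e10g89, T1690UD24.e10g90, T1690UD24.e10g91, T1690UD24.e10g92, T1690UD24.e10g93, T1690UD24.e10g94, T1690UD24.e10g95, T1690UD24.e10g96]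
def e11top : List (List Nat) := [T1690UD24.e11g0, T1690UD25.e11g1, T1690UD25.e11g2, T1690UD25.e11g3, T1690UD25.e11g4, T1690UD25.e11g5, T1690UD25.e11g6, T1690UD25.e11g7, T1690UD25.e11g8, T1690UD25.e11g9, T1690UD25.e11g10, T1690UD25.e11g11, T1690UD25.e11g12, T1690UD25.e11g13, T1690UD25.e11g14, T1690UD25.e11g15, T1690UD25.e11g16, T1690UD25.e11g17, T1690UD25.e11g18, T1690UD25.e11g19, T1690UD25.e11g20, T1690UD25.e11g21, T1690UD25.e11g22, T1690UD25.e11g23, T1690UD25.e11g24, T1690UD25.e11g25, T1690UD25.e11g26, T1690UD25.e11g27, T1690UD25.e11g28, T1690UD25.e11g29, T1690UD25.e11g30, T1690UD25.e11g31, T1690UD25.e11g32, T1690UD25.e11g33, T1690UD25.e11g34, T1690UD25.e11g35, T1690UD25.e11g36, T1690UD25.e11g37, T1690UD25.e11g38, T1690UD25.e11g39,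 T1690UD25.e11g40, T1690UD25.e11g41, T1690UD25.e11g42, T1690UD26.e11g43, T1690UD26.e11g44, T1690UD26.e11g45, T1690UD26.e11g46, T1690UD26.e11g47, T1690UD26.e11g48, T1690UD26.e11g49, T1690UD26.e11g50, T1690UD26.e11g51, T1690UD26.e11g52, T1690UD26.e11g53, T1690UD26.e11g54, T1690UD26.e11g55, T1690UD26.e11g56, T1690UD26.e11g57, T1690UD26.e11g58, T1690UD26.e11g59, T1690UD26.e11g60, T1690UD26.e11g61, T1690UD26.e11g62, T1690UD26.e11g63, T1690UD26.e11g64, T1690UD26.e11g65, T1690UD26.e11g66, T1690UD26.e11g67, T1690UD26.e11g68, T1690UD26.e11g69, T1690UD26.e11g70, T1690UD26.e11g71, T1690UD26.e11g72, T1690UD26.e11g73, T1690UD26.e11g74, T1690UD26.e11g75, T1690UD26.e11g76, T1690UD26.e11g77, T1690UD26.e11g78, T1690UD26.e11g79, T1690UD26.e11g80, T1690UD26.e11g81,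 T1690UD26.e11g82, T1690UD26.e11g83, T1690UD26.e11g84, T1690UD27.e11g85, T1690UD27.e11g86, T1690UD27.e11g87, T1690UD27.e11g88, T1690UD27.e11g89, T1690UD27.e11g90, T1690UD27.e11g91, T1690UD27.e11g92, T1690UD27.e11g93, T1690UD27.e11g94, T1690UD27.e11g95, T1690UD27.e11g96]
def etops : List (List (List Nat)) := [e0top, e1top, e2top, e3top, e4top, e5top, e6top, e7top, e8top, e9top, e10top, e11top]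
def dtop : List (List Nat) := [T1690UD27.dg0, T1690UD27.dg1, T1690UD27.dg2, T1690UD27.dg3, T1690UD27.dg4, T1690UD27.dg5, T1690UD27.dg6, T1690UD27.dg7, T1690UD27.dg8, T1690UD27.dg9, T1690UD27.dg10, T1690UD27.dg11, T1690UD27.dg12, T1690UD27.dg13, T1690UD27.dg14, T1690UD27.dg15, T1690UD27.dg16, T1690UD27.dg17, T1690UD27.dg18, T1690UD27.dg19, T1690UD27.dg20, T1690UD27.dg21, T1690UD27.dg22, T1690UD27.dg23, T1690UD27.dg24, T1690UD28.dg25, T1690UD28.dg26, T1690UD28.dg27, T1690UD28.dg28, T1690UD28.dg29, T1690UD28.dg30, T1690UD28.dg31, T1690UD28.dg32, T1690UD28.dg33, T1690UD28.dg34, T1690UD28.dg35, T1690UD28.dg36, T1690UD28.dg37, T1690UD28.dg38, T1690UD28.dg39, T1690UD28.dg40, T1690UD28.dg41, T1690UD28.dg42, T1690UD28.dg43, T1690UD28.dg44,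 T1690UD28.dg45, T1690UD28.dg46, T1690UD28.dg47, T1690UD28.dg48, T1690UD28.dg49, T1690UD28.dg50, T1690UD28.dg51, T1690UD28.dg52, T1690UD28.dg53, T1690UD28.dg54, T1690UD28.dg55, T1690UD28.dg56, T1690UD28.dg57, T1690UD28.dg58, T1690UD29.dg59, T1690UD29.dg60, T1690UD29.dg61, T1690UD29.dg62, T1690UD29.dg63, T1690UD29.dg64, T1690UD29.dg65, T1690UD29.dg66, T1690UD29.dg67, T1690UD29.dg68, T1690UD29.dg69, T1690UD29.dg70, T1690UD29.dg71, T1690UD29.dg72, T1690UD29.dg73, T1690UD29.dg74, T1690UD29.dg75, T1690UD29.dg76, T1690UD29.dg77, T1690UD29.dg78, T1690UD29.dg79, T1690UD29.dg80, T1690UD29.dg81, T1690UD29.dg82, T1690UD29.dg83, T1690UD29.dg84, T1690UD29.dg85, T1690UD29.dg86, T1690UD29.dg87, T1690UD29.dg88, T1690UD29.dg89, T1690UD29.dg90, T1690UD29.dg91,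 T1690UD29.dg92, T1690UD30.dg93, T1690UD30.dg94, T1690UD30.dg95, T1690UD30.dg96]
def tgt : Nat → Nat → Nat := fld3z etops 7 5 31 127 74 524287
def hnt : Nat → Nat → Nat := fld3 etops 7 5 31 127 74 19 8388607
def crt : Nat → Nat → Nat := fld3 etops 7 5 31 127 74 42 511
def sig : Nat → Nat → Nat := fld3 etops 7 5 31 127 74 51 8388607
def par : Nat → Nat := fld1 dtop 7 5 31 127 93 0 524287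
def plet : Nat → Nat := fld1 dtop 7 5 31 127 93 19 15
def mu : Nat → Nat := fld1 dtop 7 5 31 127 93 23 524287
def dst : Nat → Nat := fld1 dtop 7 5 31 127 93 42 524287
def dcrt : Nat → Nat := fld1 dtop 7 5 31 127 93 61 511
def dsig : Nat → Nat := fld1 dtop 7 5 31 127 93 70 8388607
def nGE : Nat := 97
def certs0 : List Cert := [Cert.mk 1 2 [] [],
  Cert.mk 1 3 [] [],
  Cert.mk 1 4 [] [],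
  Cert.mk 1 5 [] [],
  Cert.mk 1 6 [] [],
  Cert.mk 1 7 [] [],
  Cert.mk 1 8 [] [],
  Cert.mk 1 10 [] [],
  Cert.mk 0 0 [] [10, 7, 6, 5, 4, 3, 2, 10, 7, 6, 5, 4, 3, 2, 10, 7, 6, 5, 4, 3, 2, 10, 7, 6, 5, 4, 3, 2, 10, 7, 6, 5, 4, 3, 2, 10, 7, 6, 5, 4, 3, 2, 10, 7, 6, 5, 4, 3, 2, 10, 7, 6, 5, 4, 3, 2, 10, 7, 6, 5, 4, 3, 2],
  Cert.mk 1 11 [] [],
  Cert.mk 1 9 [] [],
  Cert.mk 0 1 [] [1],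
  Cert.mk 0 3 [] [1, 3, 1],
  Cert.mk 0 4 [] [1, 4, 1],
  Cert.mk 0 5 [] [1, 5, 1],
  Cert.mk 0 6 [] [1, 6, 1]]
def certs1 : List Cert := [Cert.mk 0 7 [] [1, 7, 1],
  Cert.mk 0 8 [] [1, 8, 1],
  Cert.mk 0 9 [] [1, 9, 1],
  Cert.mk 0 10 [] [1, 10, 1],
  Cert.mk 0 11 [] [1, 11, 1],
  Cert.mk 0 0 [] [0],
  Cert.mk 0 1 [] [0, 1, 0, 1, 0],
  Cert.mk 0 3 [] [0, 3, 0],
  Cert.mk 0 4 [] [0, 4, 0],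
  Cert.mk 0 5 [] [0, 5, 0],
  Cert.mk 0 6 [] [0, 6, 0],
  Cert.mk 0 7 [] [0, 7, 0],
  Cert.mk 0 8 [] [0, 8, 0],
  Cert.mk 0 9 [] [0, 9, 0],
  Cert.mk 0 10 [] [0, 10, 0],
  Cert.mk 0 11 [] [0, 11, 0]]
def certs2 : List Cert := [Cert.mk 0 2 [] [2],
  Cert.mk 0 1 [] [2, 1, 2, 1, 2],
  Cert.mk 0 4 [] [2, 4, 2],
  Cert.mk 0 5 [] [2, 5, 2],
  Cert.mk 0 6 [] [2, 6, 2],
  Cert.mk 0 7 [] [2, 7, 2],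
  Cert.mk 0 8 [] [2, 8, 2],
  Cert.mk 0 9 [] [2, 9, 2],
  Cert.mk 0 10 [] [2, 10, 2],
  Cert.mk 0 11 [] [2, 11, 2],
  Cert.mk 0 0 [] [2, 0, 2],
  Cert.mk 0 3 [] [3],
  Cert.mk 0 1 [] [3, 1, 3],
  Cert.mk 0 2 [] [3, 2, 3, 2, 3],
  Cert.mk 0 5 [] [3, 5, 3],
  Cert.mk 0 6 [] [3, 6, 3]]
def certs3 : List Cert := [Cert.mk 0 7 [] [3, 7, 3],
  Cert.mk 0 8 [] [3, 8, 3],
  Cert.mk 0 9 [] [3, 9, 3],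
  Cert.mk 0 10 [] [3, 10, 3],
  Cert.mk 0 11 [] [3, 11, 3],
  Cert.mk 0 0 [] [1, 0, 1, 0, 1],
  Cert.mk 0 2 [] [1, 2, 1, 2, 1],
  Cert.mk 0 0 [] [3, 0, 3],
  Cert.mk 0 4 [] [4],
  Cert.mk 0 1 [] [4, 1, 4],
  Cert.mk 0 2 [] [4, 2, 4],
  Cert.mk 0 3 [] [4, 3, 4, 3, 4],
  Cert.mk 0 6 [] [4, 6, 4],
  Cert.mk 0 7 [] [4, 7, 4],
  Cert.mk 0 8 [] [4, 8, 4],
  Cert.mk 0 9 [] [4, 9, 4]]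
def certs4 : List Cert := [Cert.mk 0 10 [] [4, 10, 4],
  Cert.mk 0 11 [] [4, 11, 4],
  Cert.mk 0 0 [] [4, 0, 4],
  Cert.mk 0 5 [] [5],
  Cert.mk 0 1 [] [5, 1, 5],
  Cert.mk 0 2 [] [5, 2, 5],
  Cert.mk 0 3 [] [5, 3, 5],
  Cert.mk 0 4 [] [5, 4, 5, 4, 5],
  Cert.mk 0 7 [] [5, 7, 5],
  Cert.mk 0 8 [] [5, 8, 5],
  Cert.mk 0 9 [] [5, 9, 5],
  Cert.mk 0 11 [] [5, 11, 5],
  Cert.mk 0 3 [] [2, 3, 2, 3, 2],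
  Cert.mk 0 0 [] [5, 0, 5],
  Cert.mk 0 6 [] [6],
  Cert.mk 0 1 [] [6, 1, 6]]
def certs5 : List Cert := [Cert.mk 0 2 [] [6, 2, 6],
  Cert.mk 0 3 [] [6, 3, 6],
  Cert.mk 0 4 [] [6, 4, 6],
  Cert.mk 0 5 [] [6, 5, 6, 5, 6],
  Cert.mk 0 8 [] [6, 8, 6],
  Cert.mk 0 9 [] [6, 9, 6],
  Cert.mk 0 11 [] [6, 11, 6],
  Cert.mk 0 10 [] [10],
  Cert.mk 0 1 [] [10, 1, 10],
  Cert.mk 0 2 [] [10, 2, 10],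
  Cert.mk 0 3 [] [10, 3, 10],
  Cert.mk 0 4 [] [10, 4, 10],
  Cert.mk 0 5 [] [10, 5, 10, 5, 10],
  Cert.mk 0 7 [] [10, 7, 10],
  Cert.mk 0 8 [] [10, 8, 10],
  Cert.mk 0 9 [] [10, 9, 10]]
def certs6 : List Cert := [Cert.mk 0 0 [] [6, 0, 6],
  Cert.mk 0 0 [] [10, 0, 10],
  Cert.mk 0 7 [] [7],
  Cert.mk 0 1 [] [7, 1, 7],
  Cert.mk 0 2 [] [7, 2, 7],
  Cert.mk 0 3 [] [7, 3, 7],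
  Cert.mk 0 4 [] [7, 4, 7],
  Cert.mk 0 5 [] [7, 5, 7],
  Cert.mk 0 6 [] [7, 6, 7, 6, 7],
  Cert.mk 0 9 [] [7, 9, 7],
  Cert.mk 0 11 [] [7, 11, 7],
  Cert.mk 0 6 [] [10, 6, 10],
  Cert.mk 0 11 [] [11],
  Cert.mk 0 1 [] [11, 1, 11],
  Cert.mk 0 2 [] [11, 2, 11],
  Cert.mk 0 3 [] [11, 3, 11]]
def certs7 : List Cert := [Cert.mk 0 4 [] [11, 4, 11],
  Cert.mk 0 5 [] [11, 5, 11],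
  Cert.mk 0 7 [] [11, 7, 11],
  Cert.mk 0 8 [] [11, 8, 11],
  Cert.mk 0 9 [] [11, 9, 11],
  Cert.mk 0 10 [] [11, 10, 11, 10, 11],
  Cert.mk 0 4 [] [3, 4, 3, 4, 3],
  Cert.mk 0 0 [] [7, 0, 7],
  Cert.mk 0 0 [] [11, 0, 11],
  Cert.mk 0 8 [] [8],
  Cert.mk 0 1 [] [8, 1, 8],
  Cert.mk 0 2 [] [8, 2, 8],
  Cert.mk 0 3 [] [8, 3, 8],
  Cert.mk 0 4 [] [8, 4, 8],
  Cert.mk 0 5 [] [8, 5, 8],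
  Cert.mk 0 6 [] [8, 6, 8]]
def certs8 : List Cert := [Cert.mk 0 7 [] [8, 7, 8, 7, 8],
  Cert.mk 0 11 [] [8, 11, 8],
  Cert.mk 0 6 [] [5, 6, 5, 6, 5],
  Cert.mk 0 10 [] [5, 10, 5, 10, 5],
  Cert.mk 0 6 [] [11, 6, 11],
  Cert.mk 0 0 [] [8, 0, 8],
  Cert.mk 0 9 [] [9],
  Cert.mk 0 1 [] [9, 1, 9],
  Cert.mk 0 2 [] [9, 2, 9],
  Cert.mk 0 3 [] [9, 3, 9],
  Cert.mk 0 4 [] [9, 4, 9],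
  Cert.mk 0 5 [] [9, 5, 9],
  Cert.mk 0 6 [] [9, 6, 9],
  Cert.mk 0 7 [] [9, 7, 9],
  Cert.mk 0 8 [] [9, 8, 9, 8, 9],
  Cert.mk 0 11 [] [9, 11, 9]]
def certs9 : List Cert := [Cert.mk 0 5 [] [4, 5, 4, 5, 4],
  Cert.mk 0 0 [] [9, 0, 9],
  Cert.mk 0 7 [] [6, 7, 6, 7, 6],
  Cert.mk 0 10 [] [6, 10, 6],
  Cert.mk 0 11 [] [10, 11, 10, 11, 10],
  Cert.mk 0 8 [] [7, 8, 7, 8, 7],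
  Cert.mk 0 10 [] [7, 10, 7],
  Cert.mk 0 2 [] [0, 2, 0],
  Cert.mk 0 9 [] [8, 9, 8, 9, 8],
  Cert.mk 0 10 [] [8, 10, 8],
  Cert.mk 0 4 [] [3, 2, 10, 7, 6, 5, 4, 3, 2, 10, 7, 6, 5, 4, 3, 2, 10, 7, 6, 5, 4, 3, 2, 10, 7, 6, 5, 4, 3, 2, 10, 7, 6, 5, 4, 3, 2, 10, 7, 6, 5, 4, 3, 2, 10, 7, 6, 5, 4, 3, 2, 10, 7, 6, 5, 4, 3, 2, 0, 10, 7, 6, 5],
  Cert.mk 2 0 [] [5, 1, 5, 1],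
  Cert.mk 2 0 [] [6, 6],
  Cert.mk 2 0 [] [0, 0],
  Cert.mk 2 0 [] [2, 2],
  Cert.mk 2 0 [] [7, 7]]
def certs10 : List Cert := [Cert.mk 2 0 [] [8, 8],
  Cert.mk 2 0 [] [11, 11],
  Cert.mk 2 0 [] [1, 1],
  Cert.mk 2 0 [] [3, 3],
  Cert.mk 2 0 [] [4, 4],
  Cert.mk 2 0 [] [10, 10],
  Cert.mk 2 0 [] [5, 5],
  Cert.mk 2 0 [] [1, 0, 1, 0, 1, 0],
  Cert.mk 0 10 [] [9, 10, 9],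
  Cert.mk 0 3 [] [2, 10, 7, 6, 5, 4, 3, 2, 10, 7, 6, 5, 4, 3, 2, 10, 7, 6, 5, 4, 3, 2, 10, 7, 6, 5, 4, 3, 2, 10, 7, 6, 5, 4, 3, 2, 10, 7, 6, 5, 4, 3, 2, 10, 7, 6, 5, 4, 3, 2, 10, 7, 6, 5, 4, 3, 2, 0, 10, 7, 6, 5, 4],
  Cert.mk 2 0 [] [10, 2, 3, 4, 5, 6, 7, 10, 2, 3, 4, 5, 6, 7, 10, 2, 3, 4, 5, 6, 7, 10, 2, 3, 4, 5, 6, 7, 10, 2, 3, 4, 5, 6, 7, 10, 2, 3, 4, 5, 6, 7, 10, 2, 3, 4, 5, 6, 7, 10, 0, 2, 3, 4, 5, 6, 7, 10, 2, 3, 4, 5, 6, 7],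
  Cert.mk 2 0 [] [9, 9],
  Cert.mk 2 0 [] [10, 3, 10, 3],
  Cert.mk 2 0 [] [4, 0, 4, 0],
  Cert.mk 2 0 [] [4, 3, 4, 3, 4, 3],
  Cert.mk 2 0 [] [5, 2, 5, 2]]
def certs11 : List Cert := [Cert.mk 2 0 [] [3, 6, 3, 6],
  Cert.mk 2 0 [] [3, 10, 3, 10],
  Cert.mk 2 0 [] [4, 6, 4, 6],
  Cert.mk 0 10 [] [2, 3, 4, 5, 6, 7, 10, 2, 3, 4, 5, 6, 7, 10, 2, 3, 4, 5, 6, 7, 10, 2, 3, 4, 5, 6, 7, 10, 2, 3, 4, 5, 6, 7, 10, 2, 3, 4, 5, 6, 7, 10, 2, 3, 4, 5, 6, 7, 10, 2, 3, 4, 5, 6, 7, 10, 0, 2, 3, 4, 5, 6, 7],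
  Cert.mk 2 0 [] [2, 8, 2, 8],
  Cert.mk 0 6 [] [5, 4, 3, 2, 10, 7, 6, 5, 4, 3, 2, 10, 7, 6, 5, 4, 3, 2, 10, 7, 6, 5, 4, 3, 2, 10, 7, 6, 5, 4, 3, 2, 10, 7, 6, 5, 4, 3, 2, 10, 7, 6, 5, 4, 3, 2, 10, 7, 6, 5, 4, 3, 2, 0, 10, 7, 6, 5, 4, 3, 2, 10, 7],
  Cert.mk 0 4 [] [5, 6, 7, 10, 2, 3, 4, 5, 6, 7, 10, 2, 3, 4, 5, 6, 7, 10, 2, 3, 4, 5, 6, 7, 10, 2, 3, 4, 5, 6, 7, 10, 2, 3, 4, 5, 6, 7, 10, 2, 3, 4, 5, 6, 7, 10, 2, 3, 4, 5, 6, 7, 10, 2, 3, 4, 5, 6, 7, 10, 0, 2, 3],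
  Cert.mk 2 0 [] [1, 11, 1, 11],
  Cert.mk 2 0 [] [1, 10, 1, 10],
  Cert.mk 2 0 [] [1, 5, 1, 5],
  Cert.mk 2 0 [] [1, 6, 1, 6],
  Cert.mk 2 0 [] [1, 4, 1, 4],
  Cert.mk 2 0 [] [1, 3, 1, 3],
  Cert.mk 2 0 [] [3, 1, 3, 1],
  Cert.mk 2 0 [] [3, 0, 3, 0],
  Cert.mk 2 0 [] [10, 2, 10, 2]]
def certs12 : List Cert := [Cert.mk 0 10 [] [0, 2, 3, 4, 5, 6, 7, 10, 2, 3, 4, 5, 6, 7, 10, 2, 3, 4, 5, 6, 7, 10, 2, 3, 4, 5, 6, 7, 10, 2, 3, 4, 5, 6, 7, 10, 2, 3, 4, 5, 6, 7, 10, 2, 3, 4, 5, 6, 7, 10, 2, 3, 4, 5, 6, 7, 10, 2, 3, 4, 5, 6, 7],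
  Cert.mk 0 3 [] [2, 10, 7, 6, 5, 4, 3, 2, 10, 7, 6, 5, 4, 3, 2, 10, 7, 6, 5, 4, 3, 2, 10, 7, 6, 5, 4, 3, 2, 10, 7, 6, 5, 4, 3, 2, 10, 7, 6, 5, 4, 3, 2, 0, 10, 7, 6, 5, 4, 3, 2, 10, 7, 6, 5, 4, 3, 2, 10, 7, 6, 5, 4],
  Cert.mk 0 7 [] [10, 2, 3, 4, 5, 6, 7, 10, 2, 3, 4, 5, 6, 7, 10, 2, 3, 4, 5, 6, 7, 10, 2, 3, 4, 5, 6, 7, 10, 2, 3, 4, 5, 6, 7, 10, 2, 3, 4, 5, 6, 7, 10, 2, 3, 4, 5, 6, 7, 10, 2, 3, 4, 5, 6, 7, 10, 0, 2, 3, 4, 5, 6],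
  Cert.mk 0 7 [] [6, 5, 4, 3, 2, 10, 7, 6, 5, 4, 3, 2, 10, 7, 6, 5, 4, 3, 2, 10, 7, 6, 5, 4, 3, 2, 10, 7, 6, 5, 4, 3, 2, 10, 7, 6, 5, 4, 3, 2, 10, 7, 6, 5, 4, 3, 2, 10, 7, 6, 5, 4, 3, 2, 10, 7, 6, 5, 4, 3, 2, 0, 10],
  Cert.mk 0 3 [] [2, 10, 7, 6, 5, 4, 3, 2, 10, 7, 6, 5, 4, 3, 2, 10, 7, 6, 5, 4, 3, 2, 10, 7, 6, 5, 4, 3, 2, 10, 7, 6, 5, 4, 3, 2, 0, 10, 7, 6, 5, 4, 3, 2, 10, 7, 6, 5, 4, 3, 2, 10, 7, 6, 5, 4, 3, 2, 10, 7, 6, 5, 4],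
  Cert.mk 0 5 [] [4, 3, 2, 10, 7, 6, 5, 4, 3, 2, 10, 7, 6, 5, 4, 3, 2, 10, 7, 6, 5, 4, 3, 2, 10, 7, 6, 5, 4, 3, 2, 10, 7, 6, 5, 4, 3, 2, 10, 7, 6, 5, 4, 3, 2, 10, 7, 6, 5, 4, 3, 2, 0, 10, 7, 6, 5, 4, 3, 2, 10, 7, 6],
  Cert.mk 0 7 [] [10, 2, 3, 4, 5, 6, 7, 10, 2, 3, 4, 5, 6, 7, 10, 2, 3, 4, 5, 6, 7, 10, 2, 3, 4, 5, 6, 7, 10, 2, 3, 4, 5, 6, 7, 10, 2, 3, 4, 5, 6, 7, 10, 2, 3, 4, 5, 6, 7, 10, 0, 2, 3, 4, 5, 6, 7, 10, 2, 3, 4, 5, 6],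
  Cert.mk 0 5 [] [4, 3, 2, 10, 7, 6, 5, 4, 3, 2, 10, 7, 6, 5, 4, 3, 2, 10, 7, 6, 5, 4, 3, 2, 10, 7, 6, 5, 4, 3, 2, 10, 7, 6, 5, 4, 3, 2, 10, 7, 6, 5, 4, 3, 2, 10, 7, 6, 5, 4, 3, 2, 10, 7, 6, 5, 4, 3, 2, 0, 10, 7, 6],
  Cert.mk 0 10 [] [7, 6, 5, 4, 3, 2, 10, 7, 6, 5, 4, 3, 2, 10, 7, 6, 5, 4, 3, 2, 10, 7, 6, 5, 4, 3, 2, 10, 7, 6, 5, 4, 3, 2, 10, 7, 6, 5, 4, 3, 2, 10, 7, 6, 5, 4, 3, 2, 10, 7, 6, 5, 4, 3, 2, 10, 7, 6, 5, 4, 3, 2, 0],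
  Cert.mk 0 10 [] [7, 6, 5, 4, 3, 2, 10, 7, 6, 5, 4, 3, 2, 0, 10, 7, 6, 5, 4, 3, 2, 10, 7, 6, 5, 4, 3, 2, 10, 7, 6, 5, 4, 3, 2, 10, 7, 6, 5, 4, 3, 2, 10, 7, 6, 5, 4, 3, 2, 10, 7, 6, 5, 4, 3, 2, 10, 7, 6, 5, 4, 3, 2],
  Cert.mk 0 6 [] [7, 10, 2, 3, 4, 5, 6, 7, 10, 2, 3, 4, 5, 6, 7, 10, 2, 3, 4, 5, 6, 7, 10, 2, 3, 4, 5, 6, 7, 10, 2, 3, 4, 5, 6, 7, 10, 2, 3, 4, 5, 6, 7, 10, 2, 3, 4, 5, 6, 7, 10, 2, 3, 4, 5, 6, 7, 10, 0, 2, 3, 4, 5],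
  Cert.mk 0 0 [] [2, 3, 4, 5, 6, 7, 10, 2, 3, 4, 5, 6, 7, 10, 2, 3, 4, 5, 6, 7, 10, 2, 3, 4, 5, 6, 7, 10, 2, 3, 4, 5, 6, 7, 10, 2, 3, 4, 5, 6, 7, 10, 2, 3, 4, 5, 6, 7, 10, 2, 3, 4, 5, 6, 7, 10, 2, 3, 4, 5, 6, 7, 10],
  Cert.mk 0 10 [] [7, 6, 5, 4, 3, 2, 10, 7, 6, 5, 4, 3, 2, 10, 7, 6, 5, 4, 3, 2, 10, 7, 6, 5, 4, 3, 2, 10, 7, 6, 5, 4, 3, 2, 10, 7, 6, 5, 4, 3, 2, 10, 7, 6, 5, 4, 3, 2, 10, 7, 6, 5, 4, 3, 2, 0, 10, 7, 6, 5, 4, 3, 2],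
  Cert.mk 2 0 [] [5, 6, 7, 10, 2, 3, 4, 5, 6, 7, 10, 0, 2, 3, 4, 5, 6, 7, 10, 2, 3, 4, 5, 6, 7, 10, 2, 3, 4, 5, 6, 7, 10, 2, 3, 4, 5, 6, 7, 10, 2, 3, 4, 5, 6, 7, 10, 2, 3, 4, 5, 6, 7, 10, 2, 3, 4, 5, 6, 7, 10, 2, 3, 4],
  Cert.mk 2 0 [] [5, 3, 5, 3],
  Cert.mk 2 0 [] [1, 2, 1, 2, 1, 2]]
def certs13 : List Cert := [Cert.mk 2 0 [] [6, 4, 6, 4],
  Cert.mk 2 0 [] [6, 8, 6, 8],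
  Cert.mk 2 0 [] [8, 1, 8, 1],
  Cert.mk 2 0 [] [8, 2, 8, 2],
  Cert.mk 2 0 [] [11, 7, 11, 7],
  Cert.mk 2 0 [] [7, 2, 7, 2],
  Cert.mk 2 0 [] [7, 8, 7, 8, 7, 8],
  Cert.mk 2 0 [] [0, 9, 0, 9],
  Cert.mk 2 0 [] [7, 0, 7, 0],
  Cert.mk 2 0 [] [7, 1, 7, 1],
  Cert.mk 2 0 [] [4, 8, 4, 8],
  Cert.mk 2 0 [] [0, 4, 0, 4],
  Cert.mk 2 0 [] [8, 6, 8, 6],
  Cert.mk 2 0 [] [1, 8, 1, 8],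
  Cert.mk 2 0 [] [6, 0, 6, 0],
  Cert.mk 2 0 [] [2, 1, 2, 1, 2, 1]]
def certs14 : List Cert := [Cert.mk 2 0 [] [2, 6, 2, 6],
  Cert.mk 2 0 [] [7, 3, 7, 3],
  Cert.mk 2 0 [] [7, 6, 7, 6, 7, 6],
  Cert.mk 2 0 [] [8, 3, 8, 3],
  Cert.mk 2 0 [] [8, 5, 8, 5],
  Cert.mk 2 0 [] [5, 6, 5, 6, 5, 6],
  Cert.mk 2 0 [] [6, 7, 6, 7, 6, 7],
  Cert.mk 2 0 [] [6, 10, 6, 10],
  Cert.mk 2 0 [] [8, 7, 8, 7, 8, 7],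
  Cert.mk 2 0 [] [10, 6, 10, 6],
  Cert.mk 2 0 [] [8, 10, 8, 10],
  Cert.mk 2 0 [] [5, 8, 5, 8],
  Cert.mk 2 0 [] [4, 5, 4, 5, 4, 5],
  Cert.mk 2 0 [] [6, 2, 6, 2],
  Cert.mk 2 0 [] [4, 7, 4, 7],
  Cert.mk 2 0 [] [0, 5, 0, 5]]
def certs15 : List Cert := [Cert.mk 2 0 [] [5, 4, 3, 2, 10, 7, 6, 5, 4, 3, 2, 10, 7, 6, 5, 4, 3, 2, 10, 7, 6, 5, 4, 3, 2, 10, 7, 6, 5, 4, 3, 2, 10, 7, 6, 5, 4, 3, 2, 10, 7, 6, 5, 4, 3, 2, 10, 7, 6, 5, 4, 3, 2, 10, 7, 6, 5, 4, 3, 2, 0, 10, 7, 6],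
  Cert.mk 2 0 [] [10, 1, 10, 1],
  Cert.mk 2 0 [] [6, 1, 6, 1],
  Cert.mk 2 0 [] [3, 8, 3, 8],
  Cert.mk 2 0 [] [11, 1, 11, 1],
  Cert.mk 0 5 [] [6, 7, 10, 0, 2, 3, 4, 5, 6, 7, 10, 2, 3, 4, 5, 6, 7, 10, 2, 3, 4, 5, 6, 7, 10, 2, 3, 4, 5, 6, 7, 10, 2, 3, 4, 5, 6, 7, 10, 2, 3, 4, 5, 6, 7, 10, 2, 3, 4, 5, 6, 7, 10, 2, 3, 4, 5, 6, 7, 10, 2, 3, 4],
  Cert.mk 2 0 [] [2, 11, 2, 11],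
  Cert.mk 2 0 [] [7, 4, 7, 4],
  Cert.mk 2 0 [] [11, 2, 11, 2],
  Cert.mk 2 0 [] [10, 4, 10, 4],
  Cert.mk 2 0 [] [10, 7, 10, 7],
  Cert.mk 2 0 [] [5, 4, 5, 4, 5, 4],
  Cert.mk 2 0 [] [3, 4, 3, 4, 3, 4],
  Cert.mk 2 0 [] [7, 9, 7, 9],
  Cert.mk 2 0 [] [8, 4, 8, 4],
  Cert.mk 2 0 [] [6, 5, 6, 5, 6, 5]]
def certs16 : List Cert := [Cert.mk 2 0 [] [4, 1, 4, 1],
  Cert.mk 2 0 [] [5, 0, 5, 0],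
  Cert.mk 2 0 [] [2, 7, 2, 7],
  Cert.mk 0 6 [] [7, 10, 2, 3, 4, 5, 6, 7, 10, 2, 3, 4, 5, 6, 7, 10, 2, 3, 4, 5, 6, 7, 10, 2, 3, 4, 5, 6, 7, 10, 0, 2, 3, 4, 5, 6, 7, 10, 2, 3, 4, 5, 6, 7, 10, 2, 3, 4, 5, 6, 7, 10, 2, 3, 4, 5, 6, 7, 10, 2, 3, 4, 5],
  Cert.mk 0 7 [] [6, 5, 4, 3, 2, 10, 7, 6, 5, 4, 3, 2, 10, 7, 6, 5, 4, 3, 2, 10, 7, 6, 5, 4, 3, 2, 10, 7, 6, 5, 4, 3, 2, 10, 7, 6, 5, 4, 3, 2, 10, 7, 6, 5, 4, 3, 2, 10, 7, 6, 5, 4, 3, 2, 0, 10, 7, 6, 5, 4, 3, 2, 10],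
  Cert.mk 0 2 [] [3, 4, 5, 6, 7, 10, 2, 3, 4, 5, 6, 7, 10, 2, 3, 4, 5, 6, 7, 10, 2, 3, 4, 5, 6, 7, 10, 2, 3, 4, 5, 6, 7, 10, 2, 3, 4, 5, 6, 7, 10, 2, 3, 4, 5, 6, 7, 10, 2, 3, 4, 5, 6, 7, 10, 2, 3, 4, 5, 6, 7, 10, 0],
  Cert.mk 0 4 [] [5, 6, 7, 10, 2, 3, 4, 5, 6, 7, 10, 2, 3, 4, 5, 6, 7, 10, 2, 3, 4, 5, 6, 7, 10, 2, 3, 4, 5, 6, 7, 10, 2, 3, 4, 5, 6, 7, 10, 2, 3, 4, 5, 6, 7, 10, 2, 3, 4, 5, 6, 7, 10, 0, 2, 3, 4, 5, 6, 7, 10, 2, 3],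
  Cert.mk 2 0 [] [3, 7, 3, 7],
  Cert.mk 2 0 [] [3, 2, 3, 2, 3, 2],
  Cert.mk 0 6 [] [7, 10, 2, 3, 4, 5, 6, 7, 10, 0, 2, 3, 4, 5, 6, 7, 10, 2, 3, 4, 5, 6, 7, 10, 2, 3, 4, 5, 6, 7, 10, 2, 3, 4, 5, 6, 7, 10, 2, 3, 4, 5, 6, 7, 10, 2, 3, 4, 5, 6, 7, 10, 2, 3, 4, 5, 6, 7, 10, 2, 3, 4, 5],
  Cert.mk 0 3 [] [2, 10, 7, 6, 5, 4, 3, 2, 10, 7, 6, 5, 4, 3, 2, 0, 10, 7, 6, 5, 4, 3, 2, 10, 7, 6, 5, 4, 3, 2, 10, 7, 6, 5, 4, 3, 2, 10, 7, 6, 5, 4, 3, 2, 10, 7, 6, 5, 4, 3, 2, 10, 7, 6, 5, 4, 3, 2, 10, 7, 6, 5, 4],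
  Cert.mk 0 7 [] [10, 2, 3, 4, 5, 6, 7, 10, 2, 3, 4, 5, 6, 7, 10, 2, 3, 4, 5, 6, 7, 10, 2, 3, 4, 5, 6, 7, 10, 2, 3, 4, 5, 6, 7, 10, 2, 3, 4, 5, 6, 7, 10, 0, 2, 3, 4, 5, 6, 7, 10, 2, 3, 4, 5, 6, 7, 10, 2, 3, 4, 5, 6],
  Cert.mk 0 7 [] [10, 0, 2, 3, 4, 5, 6, 7, 10, 2, 3, 4, 5, 6, 7, 10, 2, 3, 4, 5, 6, 7, 10, 2, 3, 4, 5, 6, 7, 10, 2, 3, 4, 5, 6, 7, 10, 2, 3, 4, 5, 6, 7, 10, 2, 3, 4, 5, 6, 7, 10, 2, 3, 4, 5, 6, 7, 10, 2, 3, 4, 5, 6],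
  Cert.mk 2 0 [] [9, 11, 9, 11],
  Cert.mk 2 0 [] [7, 11, 7, 11],
  Cert.mk 0 2 [] [10, 7, 6, 5, 4, 3, 2, 10, 7, 6, 5, 4, 3, 2, 10, 7, 6, 5, 4, 3, 2, 10, 7, 6, 5, 4, 3, 2, 10, 7, 6, 5, 4, 3, 2, 10, 7, 6, 5, 4, 3, 2, 10, 7, 6, 5, 4, 3, 2, 10, 7, 6, 5, 4, 3, 2, 0, 10, 7, 6, 5, 4, 3]]
def certs17 : List Cert := [Cert.mk 0 6 [] [7, 10, 0, 2, 3, 4, 5, 6, 7, 10, 2, 3, 4, 5, 6, 7, 10, 2, 3, 4, 5, 6, 7, 10, 2, 3, 4, 5, 6, 7, 10, 2, 3, 4, 5, 6, 7, 10, 2, 3, 4, 5, 6, 7, 10, 2, 3, 4, 5, 6, 7, 10, 2, 3, 4, 5, 6, 7, 10, 2, 3, 4, 5],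
  Cert.mk 0 2 [] [0, 10, 7, 6, 5, 4, 3, 2, 10, 7, 6, 5, 4, 3, 2, 10, 7, 6, 5, 4, 3, 2, 10, 7, 6, 5, 4, 3, 2, 10, 7, 6, 5, 4, 3, 2, 10, 7, 6, 5, 4, 3, 2, 10, 7, 6, 5, 4, 3, 2, 10, 7, 6, 5, 4, 3, 2, 10, 7, 6, 5, 4, 3],
  Cert.mk 0 3 [] [2, 0, 10, 7, 6, 5, 4, 3, 2, 10, 7, 6, 5, 4, 3, 2, 10, 7, 6, 5, 4, 3, 2, 10, 7, 6, 5, 4, 3, 2, 10, 7, 6, 5, 4, 3, 2, 10, 7, 6, 5, 4, 3, 2, 10, 7, 6, 5, 4, 3, 2, 10, 7, 6, 5, 4, 3, 2, 10, 7, 6, 5, 4],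
  Cert.mk 0 6 [] [7, 10, 2, 3, 4, 5, 6, 7, 10, 2, 3, 4, 5, 6, 7, 10, 2, 3, 4, 5, 6, 7, 10, 2, 3, 4, 5, 6, 7, 10, 2, 3, 4, 5, 6, 7, 10, 2, 3, 4, 5, 6, 7, 10, 0, 2, 3, 4, 5, 6, 7, 10, 2, 3, 4, 5, 6, 7, 10, 2, 3, 4, 5],
  Cert.mk 0 2 [] [10, 7, 6, 5, 4, 3, 2, 10, 7, 6, 5, 4, 3, 2, 0, 10, 7, 6, 5, 4, 3, 2, 10, 7, 6, 5, 4, 3, 2, 10, 7, 6, 5, 4, 3, 2, 10, 7, 6, 5, 4, 3, 2, 10, 7, 6, 5, 4, 3, 2, 10, 7, 6, 5, 4, 3, 2, 10, 7, 6, 5, 4, 3],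
  Cert.mk 0 6 [] [5, 4, 3, 2, 10, 7, 6, 5, 4, 3, 2, 10, 7, 6, 5, 4, 3, 2, 10, 7, 6, 5, 4, 3, 2, 10, 7, 6, 5, 4, 3, 2, 10, 7, 6, 5, 4, 3, 2, 10, 7, 6, 5, 4, 3, 2, 10, 7, 6, 5, 4, 3, 2, 10, 7, 6, 5, 4, 3, 2, 0, 10, 7],
  Cert.mk 0 4 [] [3, 2, 1, 0, 5, 6, 7, 8, 9, 5, 10, 11, 5, 4, 3, 2, 1, 0, 5, 6, 7, 8, 9, 5, 10, 11, 5, 4, 3, 2, 1, 0, 5, 6, 7, 8, 9, 5, 10, 11, 5, 4, 3, 2, 1, 0, 5, 6, 7, 8, 9, 5, 10, 11, 5, 4, 3, 2, 1, 0, 5, 6, 7, 8, 9, 5, 10, 11, 5, 4, 3, 2, 1, 0, 5, 6, 7, 8, 9, 5, 10, 11, 5, 4, 3, 2, 1, 0, 5, 6, 7, 8, 9, 5, 10, 11, 5, 4, 3, 2, 1, 0, 5, 6, 7, 8, 9, 5, 10, 11, 5, 4, 3, 2, 1, 0, 5, 6, 7, 8, 9, 5, 10, 11, 5, 4, 3, 2, 1, 0, 5, 6, 7, 8, 9, 5, 10, 11, 5, 4, 3, 2, 1, 0, 5, 6, 7, 8, 9, 5, 10, 11, 5, 4, 3, 2, 1, 0, 5, 6, 7,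 8, 9, 5, 10, 11, 5, 4, 3, 2, 1, 0, 5, 6, 7, 8, 9, 5, 10, 11, 5, 4, 3, 2, 1, 0, 5, 6, 7, 8, 9, 5, 10, 11, 5, 4, 3, 2, 1, 0, 5, 6, 7, 8, 9, 5, 10, 11, 5, 4, 3, 2, 1, 0, 5, 6, 7, 8, 9, 5, 10, 11, 5, 4, 3, 2, 1, 0, 5, 6, 7, 8, 9, 5, 10, 11, 5],
  Cert.mk 2 0 [] [8, 11, 8, 11],
  Cert.mk 2 0 [] [11, 8, 11, 8],
  Cert.mk 2 0 [] [11, 9, 11, 9],
  Cert.mk 2 0 [] [3, 5, 3, 5],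
  Cert.mk 2 0 [] [0, 2, 0, 2],
  Cert.mk 0 2 [] [10, 7, 6, 5, 4, 3, 2, 10, 7, 6, 5, 4, 3, 2, 10, 7, 6, 5, 4, 3, 2, 10, 7, 6, 5, 4, 3, 2, 10, 7, 6, 5, 4, 3, 2, 10, 7, 6, 5, 4, 3, 2, 0, 10, 7, 6, 5, 4, 3, 2, 10, 7, 6, 5, 4, 3, 2, 10, 7, 6, 5, 4, 3],
  Cert.mk 0 2 [] [1, 0, 5, 6, 7, 8, 9, 5, 10, 11, 5, 4, 3, 2, 1, 0, 5, 6, 7, 8, 9, 5, 10, 11, 5, 4, 3, 2, 1, 0, 5, 6, 7, 8, 9, 5, 10, 11, 5, 4, 3, 2, 1, 0, 5, 6, 7, 8, 9, 5, 10, 11, 5, 4, 3, 2, 1, 0, 5, 6, 7, 8, 9, 5, 10, 11, 5, 4, 3, 2, 1, 0, 5, 6, 7, 8, 9, 5, 10, 11, 5, 4, 3, 2, 1, 0, 5, 6, 7, 8, 9, 5, 10, 11, 5, 4, 3, 2, 1, 0, 5, 6, 7, 8, 9, 5, 10, 11, 5, 4, 3, 2, 1, 0, 5, 6, 7, 8, 9, 5, 10, 11, 5, 4, 3, 2, 1, 0, 5, 6, 7, 8, 9, 5, 10, 11, 5, 4, 3, 2, 1, 0, 5, 6, 7, 8, 9, 5, 10, 11, 5,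 4, 3, 2, 1, 0, 5, 6, 7, 8, 9, 5, 10, 11, 5, 4, 3, 2, 1, 0, 5, 6, 7, 8, 9, 5, 10, 11, 5, 4, 3, 2, 1, 0, 5, 6, 7, 8, 9, 5, 10, 11, 5, 4, 3, 2, 1, 0, 5, 6, 7, 8, 9, 5, 10, 11, 5, 4, 3, 2, 1, 0, 5, 6, 7, 8, 9, 5, 10, 11, 5, 4, 3, 2, 1, 0, 5, 6, 7, 8, 9, 5, 10, 11, 5, 4, 3],
  Cert.mk 0 7 [] [10, 2, 3, 4, 5, 6, 7, 10, 0, 2, 3, 4, 5, 6, 7, 10, 2, 3, 4, 5, 6, 7, 10, 2, 3, 4, 5, 6, 7, 10, 2, 3, 4, 5, 6, 7, 10, 2, 3, 4, 5, 6, 7, 10, 2, 3, 4, 5, 6, 7, 10, 2, 3, 4, 5, 6, 7, 10, 2, 3, 4, 5, 6],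
  Cert.mk 0 7 [] [10, 2, 3, 4, 5, 6, 7, 10, 2, 3, 4, 5, 6, 7, 10, 2, 3, 4, 5, 6, 7, 10, 2, 3, 4, 5, 6, 7, 10, 0, 2, 3, 4, 5, 6, 7, 10, 2, 3, 4, 5, 6, 7, 10, 2, 3, 4, 5, 6, 7, 10, 2, 3, 4, 5, 6, 7, 10, 2, 3, 4, 5, 6]]
def certs18 : List Cert := [Cert.mk 0 5 [] [0, 1, 2, 3, 4, 5, 11, 10, 5, 9, 8, 7, 6, 5, 0, 1, 2, 3, 4, 5, 11, 10, 5, 9, 8, 7, 6, 5, 0, 1, 2, 3, 4, 5, 11, 10, 5, 9, 8, 7, 6, 5, 0, 1, 2, 3, 4, 5, 11, 10, 5, 9, 8, 7, 6, 5, 0, 1, 2, 3, 4, 5, 11, 10, 5, 9, 8, 7, 6, 5, 0, 1, 2, 3, 4, 5, 11, 10, 5, 9, 8, 7, 6, 5, 0, 1, 2, 3, 4, 5, 11, 10, 5, 9, 8, 7, 6, 5, 0, 1, 2, 3, 4, 5, 11, 10, 5, 9, 8, 7, 6, 5, 0, 1, 2, 3, 4, 5, 11, 10, 5, 9, 8, 7, 6, 5, 0, 1, 2, 3, 4, 5, 11, 10, 5, 9, 8, 7, 6, 5, 0, 1, 2, 3, 4, 5, 11, 10, 5, 9, 8, 7, 6,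 5, 0, 1, 2, 3, 4, 5, 11, 10, 5, 9, 8, 7, 6, 5, 0, 1, 2, 3, 4, 5, 11, 10, 5, 9, 8, 7, 6, 5, 0, 1, 2, 3, 4, 5, 11, 10, 5, 9, 8, 7, 6, 5, 0, 1, 2, 3, 4, 5, 11, 10, 5, 9, 8, 7, 6, 5, 0, 1, 2, 3, 4, 5, 11, 10, 5, 9, 8, 7, 6, 5, 0, 1, 2, 3, 4, 5, 11, 10, 5, 9, 8, 7, 6],
  Cert.mk 0 8 [] [9, 5, 10, 11, 5, 4, 3, 2, 1, 0, 5, 6, 7, 8, 9, 5, 10, 11, 5, 4, 3, 2, 1, 0, 5, 6, 7, 8, 9, 5, 10, 11, 5, 4, 3, 2, 1, 0, 5, 6, 7, 8, 9, 5, 10, 11, 5, 4, 3, 2, 1, 0, 5, 6, 7, 8, 9, 5, 10, 11, 5, 4, 3, 2, 1, 0, 5, 6, 7, 8, 9, 5, 10, 11, 5, 4, 3, 2, 1, 0, 5, 6, 7, 8, 9, 5, 10, 11, 5, 4, 3, 2, 1, 0, 5, 6, 7, 8, 9, 5, 10, 11, 5, 4, 3, 2, 1, 0, 5, 6, 7, 8, 9, 5, 10, 11, 5, 4, 3, 2, 1, 0, 5, 6, 7, 8, 9, 5, 10, 11, 5, 4, 3, 2, 1, 0, 5, 6, 7, 8, 9, 5, 10, 11, 5,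 4, 3, 2, 1, 0, 5, 6, 7, 8, 9, 5, 10, 11, 5, 4, 3, 2, 1, 0, 5, 6, 7, 8, 9, 5, 10, 11, 5, 4, 3, 2, 1, 0, 5, 6, 7, 8, 9, 5, 10, 11, 5, 4, 3, 2, 1, 0, 5, 6, 7, 8, 9, 5, 10, 11, 5, 4, 3, 2, 1, 0, 5, 6, 7, 8, 9, 5, 10, 11, 5, 4, 3, 2, 1, 0, 5, 6, 7, 8, 9, 5, 10, 11, 5, 4, 3, 2, 1, 0, 5, 6, 7],
  Cert.mk 0 11 [] [5, 4, 3, 2, 1, 0, 5, 6, 7, 8, 9, 5, 10, 11, 5, 4, 3, 2, 1, 0, 5, 6, 7, 8, 9, 5, 10, 11, 5, 4, 3, 2, 1, 0, 5, 6, 7, 8, 9, 5, 10, 11, 5, 4, 3, 2, 1, 0, 5, 6, 7, 8, 9, 5, 10, 11, 5, 4, 3, 2, 1, 0, 5, 6, 7, 8, 9, 5, 10, 11, 5, 4, 3, 2, 1, 0, 5, 6, 7, 8, 9, 5, 10, 11, 5, 4, 3, 2, 1, 0, 5, 6, 7, 8, 9, 5, 10, 11, 5, 4, 3, 2, 1, 0, 5, 6, 7, 8, 9, 5, 10, 11, 5, 4, 3, 2, 1, 0, 5, 6, 7, 8, 9, 5, 10, 11, 5, 4, 3, 2, 1, 0, 5, 6, 7, 8, 9, 5,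 10, 11, 5, 4, 3, 2, 1, 0, 5, 6, 7, 8, 9, 5, 10, 11, 5, 4, 3, 2, 1, 0, 5, 6, 7, 8, 9, 5, 10, 11, 5, 4, 3, 2, 1, 0, 5, 6, 7, 8, 9, 5, 10, 11, 5, 4, 3, 2, 1, 0, 5, 6, 7, 8, 9, 5, 10, 11, 5, 4, 3, 2, 1, 0, 5, 6, 7, 8, 9, 5, 10, 11, 5, 4, 3, 2, 1, 0, 5, 6, 7, 8, 9, 5, 10, 11, 5, 4, 3, 2, 1, 0, 5, 6, 7, 8, 9, 5, 10],
  Cert.mk 0 3 [] [2, 10, 7, 6, 5, 4, 3, 2, 10, 7, 6, 5, 4, 3, 2, 10, 7, 6, 5, 4, 3, 2, 10, 7, 6, 5, 4, 3, 2, 10, 7, 6, 5, 4, 3, 2, 10, 7, 6, 5, 4, 3, 2, 10, 7, 6, 5, 4, 3, 2, 0, 10, 7, 6, 5, 4, 3, 2, 10, 7, 6, 5, 4],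
  Cert.mk 0 5 [] [4, 3, 2, 10, 7, 6, 5, 4, 3, 2, 10, 7, 6, 5, 4, 3, 2, 10, 7, 6, 5, 4, 3, 2, 10, 7, 6, 5, 4, 3, 2, 0, 10, 7, 6, 5, 4, 3, 2, 10, 7, 6, 5, 4, 3, 2, 10, 7, 6, 5, 4, 3, 2, 10, 7, 6, 5, 4, 3, 2, 10, 7, 6],
  Cert.mk 0 2 [] [10, 7, 6, 5, 4, 3, 2, 10, 7, 6, 5, 4, 3, 2, 10, 7, 6, 5, 4, 3, 2, 10, 7, 6, 5, 4, 3, 2, 10, 7, 6, 5, 4, 3, 2, 0, 10, 7, 6, 5, 4, 3, 2, 10, 7, 6, 5, 4, 3, 2, 10, 7, 6, 5, 4, 3, 2, 10, 7, 6, 5, 4, 3],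
  Cert.mk 0 1 [] [0, 5, 6, 7, 8, 9, 5, 10, 11, 5, 4, 3, 2, 1, 0, 5, 6, 7, 8, 9, 5, 10, 11, 5, 4, 3, 2, 1, 0, 5, 6, 7, 8, 9, 5, 10, 11, 5, 4, 3, 2, 1, 0, 5, 6, 7, 8, 9, 5, 10, 11, 5, 4, 3, 2, 1, 0, 5, 6, 7, 8, 9, 5, 10, 11, 5, 4, 3, 2, 1, 0, 5, 6, 7, 8, 9, 5, 10, 11, 5, 4, 3, 2, 1, 0, 5, 6, 7, 8, 9, 5, 10, 11, 5, 4, 3, 2, 1, 0, 5, 6, 7, 8, 9, 5, 10, 11, 5, 4, 3, 2, 1, 0, 5, 6, 7, 8, 9, 5, 10, 11, 5, 4, 3, 2, 1, 0, 5, 6, 7, 8, 9, 5, 10, 11, 5, 4, 3, 2, 1, 0, 5, 6, 7, 8, 9, 5, 10, 11, 5, 4, 3, 2, 1, 0, 5, 6, 7, 8, 9, 5, 10, 11, 5, 4, 3, 2, 1, 0, 5, 6, 7, 8, 9, 5, 10, 11, 5, 4, 3, 2, 1, 0, 5, 6, 7, 8, 9, 5, 10, 11, 5, 4, 3, 2, 1, 0, 5, 6, 7, 8, 9, 5, 10, 11, 5, 4, 3, 2, 1, 0, 5, 6, 7, 8, 9, 5, 10, 11, 5, 4, 3, 2, 1, 0, 5, 6, 7, 8, 9,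 5, 10, 11, 5, 4, 3, 2],
  Cert.mk 0 6 [] [5, 4, 3, 2, 10, 7, 6, 5, 4, 3, 2, 10, 7, 6, 5, 4, 3, 2, 0, 10, 7, 6, 5, 4, 3, 2, 10, 7, 6, 5, 4, 3, 2, 10, 7, 6, 5, 4, 3, 2, 10, 7, 6, 5, 4, 3, 2, 10, 7, 6, 5, 4, 3, 2, 10, 7, 6, 5, 4, 3, 2, 10, 7],
  Cert.mk 0 5 [] [9, 8, 7, 6, 5, 0, 1, 2, 3, 4, 5, 11, 10, 5, 9, 8, 7, 6, 5, 0, 1, 2, 3, 4, 5, 11, 10, 5, 9, 8, 7, 6, 5, 0, 1, 2, 3, 4, 5, 11, 10, 5, 9, 8, 7, 6, 5, 0, 1, 2, 3, 4, 5, 11, 10, 5, 9, 8, 7, 6, 5, 0, 1, 2, 3, 4, 5, 11, 10, 5, 9, 8, 7, 6, 5, 0, 1, 2, 3, 4, 5, 11, 10, 5, 9, 8, 7, 6, 5, 0, 1, 2, 3, 4, 5, 11, 10, 5, 9, 8, 7, 6, 5, 0, 1, 2, 3, 4, 5, 11, 10, 5, 9, 8, 7, 6, 5, 0, 1, 2, 3, 4, 5, 11, 10, 5, 9, 8, 7, 6, 5, 0, 1, 2, 3, 4, 5, 11, 10, 5, 9, 8, 7, 6, 5, 0, 1, 2, 3, 4, 5, 11, 10,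 5, 9, 8, 7, 6, 5, 0, 1, 2, 3, 4, 5, 11, 10, 5, 9, 8, 7, 6, 5, 0, 1, 2, 3, 4, 5, 11, 10, 5, 9, 8, 7, 6, 5, 0, 1, 2, 3, 4, 5, 11, 10, 5, 9, 8, 7, 6, 5, 0, 1, 2, 3, 4, 5, 11, 10, 5, 9, 8, 7, 6, 5, 0, 1, 2, 3, 4, 5, 11, 10, 5, 9, 8, 7, 6, 5, 0, 1, 2, 3, 4, 5, 11, 10],
  Cert.mk 0 7 [] [8, 9, 5, 10, 11, 5, 4, 3, 2, 1, 0, 5, 6, 7, 8, 9, 5, 10, 11, 5, 4, 3, 2, 1, 0, 5, 6, 7, 8, 9, 5, 10, 11, 5, 4, 3, 2, 1, 0, 5, 6, 7, 8, 9, 5, 10, 11, 5, 4, 3, 2, 1, 0, 5, 6, 7, 8, 9, 5, 10, 11, 5, 4, 3, 2, 1, 0, 5, 6, 7, 8, 9, 5, 10, 11, 5, 4, 3, 2, 1, 0, 5, 6, 7, 8, 9, 5, 10, 11, 5, 4, 3, 2, 1, 0, 5, 6, 7, 8, 9, 5, 10, 11, 5, 4, 3, 2, 1, 0, 5, 6, 7, 8, 9, 5, 10, 11, 5, 4, 3, 2, 1, 0, 5, 6, 7, 8, 9, 5, 10, 11, 5, 4, 3, 2, 1, 0, 5, 6, 7, 8, 9, 5, 10, 11,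 5, 4, 3, 2, 1, 0, 5, 6, 7, 8, 9, 5, 10, 11, 5, 4, 3, 2, 1, 0, 5, 6, 7, 8, 9, 5, 10, 11, 5, 4, 3, 2, 1, 0, 5, 6, 7, 8, 9, 5, 10, 11, 5, 4, 3, 2, 1, 0, 5, 6, 7, 8, 9, 5, 10, 11, 5, 4, 3, 2, 1, 0, 5, 6, 7, 8, 9, 5, 10, 11, 5, 4, 3, 2, 1, 0, 5, 6, 7, 8, 9, 5, 10, 11, 5, 4, 3, 2, 1, 0, 5, 6],
  Cert.mk 0 10 [] [11, 5, 4, 3, 2, 1, 0, 5, 6, 7, 8, 9, 5, 10, 11, 5, 4, 3, 2, 1, 0, 5, 6, 7, 8, 9, 5, 10, 11, 5, 4, 3, 2, 1, 0, 5, 6, 7, 8, 9, 5, 10, 11, 5, 4, 3, 2, 1, 0, 5, 6, 7, 8, 9, 5, 10, 11, 5, 4, 3, 2, 1, 0, 5, 6, 7, 8, 9, 5, 10, 11, 5, 4, 3, 2, 1, 0, 5, 6, 7, 8, 9, 5, 10, 11, 5, 4, 3, 2, 1, 0, 5, 6, 7, 8, 9, 5, 10, 11, 5, 4, 3, 2, 1, 0, 5, 6, 7, 8, 9, 5, 10, 11, 5, 4, 3, 2, 1, 0, 5, 6, 7, 8, 9, 5, 10, 11, 5, 4, 3, 2, 1, 0, 5, 6, 7, 8, 9,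 5, 10, 11, 5, 4, 3, 2, 1, 0, 5, 6, 7, 8, 9, 5, 10, 11, 5, 4, 3, 2, 1, 0, 5, 6, 7, 8, 9, 5, 10, 11, 5, 4, 3, 2, 1, 0, 5, 6, 7, 8, 9, 5, 10, 11, 5, 4, 3, 2, 1, 0, 5, 6, 7, 8, 9, 5, 10, 11, 5, 4, 3, 2, 1, 0, 5, 6, 7, 8, 9, 5, 10, 11, 5, 4, 3, 2, 1, 0, 5, 6, 7, 8, 9, 5, 10, 11, 5, 4, 3, 2, 1, 0, 5, 6, 7, 8, 9, 5],
  Cert.mk 0 9 [] [5, 10, 11, 5, 4, 3, 2, 1, 0, 5, 6, 7, 8, 9, 5, 10, 11, 5, 4, 3, 2, 1, 0, 5, 6, 7, 8, 9, 5, 10, 11, 5, 4, 3, 2, 1, 0, 5, 6, 7, 8, 9, 5, 10, 11, 5, 4, 3, 2, 1, 0, 5, 6, 7, 8, 9, 5, 10, 11, 5, 4, 3, 2, 1, 0, 5, 6, 7, 8, 9, 5, 10, 11, 5, 4, 3, 2, 1, 0, 5, 6, 7, 8, 9, 5, 10, 11, 5, 4, 3, 2, 1, 0, 5, 6, 7, 8, 9, 5, 10, 11, 5, 4, 3, 2, 1, 0, 5, 6, 7, 8, 9, 5, 10, 11, 5, 4, 3, 2, 1, 0, 5, 6, 7, 8, 9, 5, 10, 11, 5,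 4, 3, 2, 1, 0, 5, 6, 7, 8, 9, 5, 10, 11, 5, 4, 3, 2, 1, 0, 5, 6, 7, 8, 9, 5, 10, 11, 5, 4, 3, 2, 1, 0, 5, 6, 7, 8, 9, 5, 10, 11, 5, 4, 3, 2, 1, 0, 5, 6, 7, 8, 9, 5, 10, 11, 5, 4, 3, 2, 1, 0, 5, 6, 7, 8, 9, 5, 10, 11, 5, 4, 3, 2, 1, 0, 5, 6, 7, 8, 9, 5, 10, 11, 5, 4, 3, 2, 1, 0, 5, 6, 7, 8, 9, 5, 10, 11, 5, 4, 3, 2, 1, 0, 5, 6, 7, 8],
  Cert.mk 0 7 [] [10, 2, 3, 4, 5, 6, 7, 10, 2, 3, 4, 5, 6, 7, 10, 0, 2, 3, 4, 5, 6, 7, 10, 2, 3, 4, 5, 6, 7, 10, 2, 3, 4, 5, 6, 7, 10, 2, 3, 4, 5, 6, 7, 10, 2, 3, 4, 5, 6, 7, 10, 2, 3, 4, 5, 6, 7, 10, 2, 3, 4, 5, 6],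
  Cert.mk 0 4 [] [3, 2, 0, 10, 7, 6, 5, 4, 3, 2, 10, 7, 6, 5, 4, 3, 2, 10, 7, 6, 5, 4, 3, 2, 10, 7, 6, 5, 4, 3, 2, 10, 7, 6, 5, 4, 3, 2, 10, 7, 6, 5, 4, 3, 2, 10, 7, 6, 5, 4, 3, 2, 10, 7, 6, 5, 4, 3, 2, 10, 7, 6, 5],
  Cert.mk 0 6 [] [5, 4, 3, 2, 0, 10, 7, 6, 5, 4, 3, 2, 10, 7, 6, 5, 4, 3, 2, 10, 7, 6, 5, 4, 3, 2, 10, 7, 6, 5, 4, 3, 2, 10, 7, 6, 5, 4, 3, 2, 10, 7, 6, 5, 4, 3, 2, 10, 7, 6, 5, 4, 3, 2, 10, 7, 6, 5, 4, 3, 2, 10, 7],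
  Cert.mk 0 5 [] [11, 10, 5, 9, 8, 7, 6, 5, 0, 1, 2, 3, 4, 5, 11, 10, 5, 9, 8, 7, 6, 5, 0, 1, 2, 3, 4, 5, 11, 10, 5, 9, 8, 7, 6, 5, 0, 1, 2, 3, 4, 5, 11, 10, 5, 9, 8, 7, 6, 5, 0, 1, 2, 3, 4, 5, 11, 10, 5, 9, 8, 7, 6, 5, 0, 1, 2, 3, 4, 5, 11, 10, 5, 9, 8, 7, 6, 5, 0, 1, 2, 3, 4, 5, 11, 10, 5, 9, 8, 7, 6, 5, 0, 1, 2, 3, 4, 5, 11, 10, 5, 9, 8, 7, 6, 5, 0, 1, 2, 3, 4, 5, 11, 10, 5, 9, 8, 7, 6, 5, 0, 1, 2, 3, 4, 5, 11, 10, 5, 9, 8, 7, 6, 5, 0, 1, 2, 3, 4, 5, 11, 10, 5, 9, 8, 7, 6, 5, 0, 1, 2, 3, 4, 5, 11, 10, 5, 9, 8, 7, 6, 5, 0, 1, 2, 3, 4, 5, 11, 10, 5, 9, 8, 7, 6, 5, 0, 1, 2, 3, 4, 5, 11, 10, 5, 9, 8, 7, 6, 5, 0, 1, 2, 3, 4, 5, 11, 10, 5, 9, 8, 7, 6, 5, 0, 1, 2, 3, 4, 5, 11, 10, 5, 9, 8, 7, 6, 5, 0, 1, 2, 3, 4, 5, 11, 10, 5, 9, 8, 7,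 6, 5, 0, 1, 2, 3, 4]]
def certs19 : List Cert := [Cert.mk 0 5 [] [4, 3, 2, 1, 0, 5, 6, 7, 8, 9, 5, 10, 11, 5, 4, 3, 2, 1, 0, 5, 6, 7, 8, 9, 5, 10, 11, 5, 4, 3, 2, 1, 0, 5, 6, 7, 8, 9, 5, 10, 11, 5, 4, 3, 2, 1, 0, 5, 6, 7, 8, 9, 5, 10, 11, 5, 4, 3, 2, 1, 0, 5, 6, 7, 8, 9, 5, 10, 11, 5, 4, 3, 2, 1, 0, 5, 6, 7, 8, 9, 5, 10, 11, 5, 4, 3, 2, 1, 0, 5, 6, 7, 8, 9, 5, 10, 11, 5, 4, 3, 2, 1, 0, 5, 6, 7, 8, 9, 5, 10, 11, 5, 4, 3, 2, 1, 0, 5, 6, 7, 8, 9, 5, 10, 11, 5, 4, 3, 2, 1, 0, 5, 6, 7, 8, 9, 5, 10, 11, 5, 4, 3, 2, 1, 0, 5, 6, 7, 8, 9, 5, 10, 11, 5, 4, 3, 2, 1, 0, 5, 6, 7, 8, 9, 5, 10, 11, 5, 4, 3, 2, 1, 0, 5, 6, 7, 8, 9, 5, 10, 11, 5, 4, 3, 2, 1, 0, 5, 6, 7, 8, 9, 5, 10, 11, 5, 4, 3, 2, 1, 0, 5, 6, 7, 8, 9, 5, 10, 11, 5, 4, 3, 2, 1, 0,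 5, 6, 7, 8, 9, 5, 10, 11, 5, 4, 3, 2, 1, 0, 5, 6, 7, 8, 9, 5, 10, 11],
  Cert.mk 0 6 [] [5, 0, 1, 2, 3, 4, 5, 11, 10, 5, 9, 8, 7, 6, 5, 0, 1, 2, 3, 4, 5, 11, 10, 5, 9, 8, 7, 6, 5, 0, 1, 2, 3, 4, 5, 11, 10, 5, 9, 8, 7, 6, 5, 0, 1, 2, 3, 4, 5, 11, 10, 5, 9, 8, 7, 6, 5, 0, 1, 2, 3, 4, 5, 11, 10, 5, 9, 8, 7, 6, 5, 0, 1, 2, 3, 4, 5, 11, 10, 5, 9, 8, 7, 6, 5, 0, 1, 2, 3, 4, 5, 11, 10, 5, 9, 8, 7, 6, 5, 0, 1, 2, 3, 4, 5, 11, 10, 5, 9, 8, 7, 6, 5, 0, 1, 2, 3, 4, 5, 11, 10, 5, 9, 8, 7, 6, 5, 0, 1, 2, 3, 4, 5, 11, 10, 5, 9, 8, 7, 6, 5, 0, 1, 2, 3, 4, 5, 11, 10, 5, 9, 8, 7, 6, 5, 0, 1, 2, 3, 4, 5, 11, 10, 5, 9, 8, 7, 6, 5, 0, 1, 2, 3, 4, 5, 11, 10, 5, 9, 8, 7, 6, 5, 0, 1, 2, 3, 4, 5, 11, 10, 5, 9, 8, 7, 6, 5, 0, 1, 2, 3, 4, 5, 11, 10, 5, 9,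 8, 7, 6, 5, 0, 1, 2, 3, 4, 5, 11, 10, 5, 9, 8, 7, 6, 5, 0, 1, 2, 3, 4, 5, 11, 10, 5, 9, 8, 7],
  Cert.mk 0 0 [] [5, 6, 7, 8, 9, 5, 10, 11, 5, 4, 3, 2, 1, 0, 5, 6, 7, 8, 9, 5, 10, 11, 5, 4, 3, 2, 1, 0, 5, 6, 7, 8, 9, 5, 10, 11, 5, 4, 3, 2, 1, 0, 5, 6, 7, 8, 9, 5, 10, 11, 5, 4, 3, 2, 1, 0, 5, 6, 7, 8, 9, 5, 10, 11, 5, 4, 3, 2, 1, 0, 5, 6, 7, 8, 9, 5, 10, 11, 5, 4, 3, 2, 1, 0, 5, 6, 7, 8, 9, 5, 10, 11, 5, 4, 3, 2, 1, 0, 5, 6, 7, 8, 9, 5, 10, 11, 5, 4, 3, 2, 1, 0, 5, 6, 7, 8, 9, 5, 10, 11, 5, 4, 3, 2, 1, 0, 5, 6, 7, 8, 9, 5, 10, 11, 5, 4, 3, 2, 1, 0, 5, 6, 7, 8, 9, 5, 10, 11, 5, 4, 3, 2, 1, 0, 5, 6, 7, 8, 9, 5, 10, 11, 5, 4, 3, 2, 1, 0, 5, 6, 7, 8, 9, 5, 10, 11, 5, 4, 3, 2, 1, 0, 5, 6, 7, 8, 9, 5, 10, 11, 5, 4, 3, 2, 1, 0, 5, 6, 7, 8,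 9, 5, 10, 11, 5, 4, 3, 2, 1, 0, 5, 6, 7, 8, 9, 5, 10, 11, 5, 4, 3, 2, 1, 0, 5, 6, 7, 8, 9, 5, 10, 11, 5, 4, 3, 2, 1],
  Cert.mk 0 4 [] [3, 2, 10, 7, 6, 5, 4, 3, 2, 10, 7, 6, 5, 4, 3, 2, 10, 7, 6, 5, 4, 3, 2, 10, 7, 6, 5, 4, 3, 2, 10, 7, 6, 5, 4, 3, 2, 10, 7, 6, 5, 4, 3, 2, 10, 7, 6, 5, 4, 3, 2, 0, 10, 7, 6, 5, 4, 3, 2, 10, 7, 6, 5]]
def certs : List Cert := certs0 ++ certs1 ++ certs2 ++ certs3 ++ certs4 ++ certs5 ++ certs6 ++ certs7 ++ certs8 ++ certs9 ++ certs10 ++ certs11 ++ certs12 ++ certs13 ++ certs14 ++ certs15 ++ certs16 ++ certs17 ++ certs18 ++ certs19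
def hints : List (Nat × Nat) := [(0, 0), (1, 0), (2, 0), (3, 0), (4, 0), (5, 0), (6, 0), (7, 0), (66, 0), (8, 0), (9, 0), (137, 0), (12, 1), (13, 1), (14, 1), (15, 1), (16, 1), (17, 1), (18, 1), (19, 1), (20, 1), (136, 0), (0, 1), (2, 1), (3, 1), (4, 1), (5, 1), (6, 1), (7, 1), (8, 1), (9, 1), (10, 1), (138, 0), (11, 0), (22, 1), (23, 1), (24, 1), (25, 1), (26, 1), (27, 1), (28, 1), (29, 1), (1, 0), (139, 0), (12, 0), (21, 0), (31, 1), (32, 1), (33, 1), (34, 1), (35, 1), (36, 1), (37, 1), (0, 0), (11, 1), (2, 0), (140, 0), (13, 0), (22, 0), (30, 0), (39, 1), (40, 1), (41, 1), (42, 1), (43, 1), (44, 1), (3, 0), (141, 0), (14, 0), (23, 0), (31, 0), (38, 0), (46, 1), (47, 1), (48, 1), (50, 1), (21, 1), (4, 0), (142, 0), (15, 0), (24,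 0), (32, 0), (39, 0), (45, 0), (52, 1), (53, 1), (55, 1), (146, 0), (19, 0), (28, 0), (36, 0), (43, 0), (49, 0), (58, 0), (61, 0), (63, 0), (5, 0), (9, 0), (143, 0), (16, 0), (25, 0), (33, 0), (40, 0), (46, 0), (51, 0), (57, 1), (59, 1), (54, 0), (147, 0), (20, 0), (29, 0), (37, 0), (44, 0), (50, 0), (59, 0), (62, 0), (64, 0), (65, 0), (30, 1), (6, 0), (10, 0), (144, 0), (17, 0), (26, 0), (34, 0), (41, 0), (47, 0), (52, 0), (56, 0), (62, 1), (45, 1), (49, 1), (55, 0), (7, 0), (145, 0), (18, 0), (27, 0), (35, 0), (42, 0), (48, 0), (53, 0), (57, 0), (60, 0), (64, 1), (38, 1), (8, 0), (51, 1), (54, 1), (65, 1), (56, 1), (58, 1), (1, 1), (60, 1), (61, 1), (66, 5), (14, 1), (142, 0), (136, 0), (138, 0), (143, 0), (144, 0), (147, 0), (137,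 0), (139, 0), (140, 0), (146, 0), (141, 0), (0, 1), (63, 1), (66, 6), (134, 13), (145, 0), (36, 1), (3, 1), (30, 1), (23, 1), (32, 0), (36, 0), (39, 0), (134, 6), (26, 0), (66, 10), (134, 2), (20, 0), (19, 0), (14, 0), (15, 0), (13, 0), (12, 0), (12, 1), (2, 1), (28, 1), (134, 62), (66, 20), (134, 5), (66, 2), (66, 27), (66, 11), (134, 12), (66, 4), (66, 1), (66, 50), (134, 4), (134, 63), (66, 8), (134, 52), (31, 1), (11, 0), (39, 1), (52, 0), (17, 1), (26, 1), (59, 1), (25, 1), (56, 0), (8, 0), (6, 1), (16, 1), (41, 0), (3, 0), (52, 1), (17, 0), (5, 1), (11, 1), (24, 0), (33, 1), (51, 1), (34, 1), (47, 1), (45, 0), (51, 0), (54, 0), (56, 1), (54, 1), (61, 0), (47, 0), (38, 0), (24, 1), (40, 0), (4, 0), (66, 4), (19, 1), (15, 1),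 (34, 0), (20, 1), (134, 59), (29, 0), (40, 1), (29, 1), (43, 1), (58, 1), (38, 1), (30, 0), (57, 0), (41, 1), (45, 1), (13, 1), (4, 1), (25, 0), (134, 32), (66, 9), (134, 0), (134, 9), (33, 0), (21, 1), (134, 53), (66, 48), (134, 19), (134, 61), (64, 0), (59, 0), (66, 7), (134, 60), (66, 63), (66, 62), (134, 18), (66, 49), (66, 3), (67, 1), (62, 0), (62, 1), (64, 1), (31, 0), (1, 0), (66, 21), (67, 3), (134, 54), (134, 33), (135, 7), (67, 9), (67, 13), (66, 13), (66, 32), (66, 28), (67, 4), (66, 45), (135, 2), (67, 8), (67, 12), (67, 10), (134, 47), (66, 61), (66, 59), (135, 13), (67, 0), (135, 6), (67, 5), (66, 12)]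
def relW : List (List Nat) := [[0, 1, 0, 1, 0, 1],
  [0, 2, 0, 2],
  [0, 3, 0, 3],
  [0, 4, 0, 4],
  [0, 5, 0, 5],
  [0, 6, 0, 6],
  [0, 7, 0, 7],
  [0, 8, 0, 8],
  [0, 9, 0, 9],
  [0, 10, 0, 10],
  [0, 11, 0, 11],
  [1, 2, 1, 2, 1, 2],
  [1, 3, 1, 3],
  [1, 4, 1, 4],
  [1, 5, 1, 5],
  [1, 6, 1, 6],
  [1, 7, 1, 7],
  [1, 8, 1, 8],
  [1, 9, 1, 9],
  [1, 10, 1, 10],
  [1, 11, 1, 11],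
  [2, 3, 2, 3, 2, 3],
  [2, 4, 2, 4],
  [2, 5, 2, 5],
  [2, 6, 2, 6],
  [2, 7, 2, 7],
  [2, 8, 2, 8],
  [2, 9, 2, 9],
  [2, 10, 2, 10],
  [2, 11, 2, 11],
  [3, 4, 3, 4, 3, 4],
  [3, 5, 3, 5],
  [3, 6, 3, 6],
  [3, 7, 3, 7],
  [3, 8, 3, 8],
  [3, 9, 3, 9],
  [3, 10, 3, 10],
  [3, 11, 3, 11],
  [4, 5, 4, 5, 4, 5],
  [4, 6, 4, 6],
  [4, 7, 4, 7],
  [4, 8, 4, 8],
  [4, 9, 4, 9],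
  [4, 10, 4, 10],
  [4, 11, 4, 11],
  [5, 6, 5, 6, 5, 6],
  [5, 7, 5, 7],
  [5, 8, 5, 8],
  [5, 9, 5, 9],
  [5, 10, 5, 10, 5, 10],
  [5, 11, 5, 11],
  [6, 7, 6, 7, 6, 7],
  [6, 8, 6, 8],
  [6, 9, 6, 9],
  [6, 10, 6, 10],
  [6, 11, 6, 11],
  [7, 8, 7, 8, 7, 8],
  [7, 9, 7, 9],
  [7, 10, 7, 10],
  [7, 11, 7, 11],
  [8, 9, 8, 9, 8, 9],
  [8, 10, 8, 10],
  [8, 11, 8, 11],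
  [9, 10, 9, 10],
  [9, 11, 9, 11],
  [10, 11, 10, 11, 10, 11],
  [0, 10, 7, 6, 5, 4, 3, 2, 10, 7, 6, 5, 4, 3, 2, 10, 7, 6, 5, 4, 3, 2, 10, 7, 6, 5, 4, 3, 2, 10, 7, 6, 5, 4, 3, 2, 10, 7, 6, 5, 4, 3, 2, 10, 7, 6, 5, 4, 3, 2, 10, 7, 6, 5, 4, 3, 2, 10, 7, 6, 5, 4, 3, 2],
  [5, 4, 3, 2, 1, 0, 5, 6, 7, 8, 9, 5, 10, 11, 5, 4, 3, 2, 1, 0, 5, 6, 7, 8, 9, 5, 10, 11, 5, 4, 3, 2, 1, 0, 5, 6, 7, 8, 9, 5, 10, 11, 5, 4, 3, 2, 1, 0, 5, 6, 7, 8, 9, 5, 10, 11, 5, 4, 3, 2, 1, 0, 5, 6, 7, 8, 9, 5, 10, 11, 5, 4, 3, 2, 1, 0, 5, 6, 7, 8, 9, 5, 10, 11, 5, 4, 3, 2, 1, 0, 5, 6, 7, 8, 9, 5, 10, 11, 5, 4, 3, 2, 1, 0, 5, 6, 7, 8, 9, 5, 10, 11, 5, 4, 3, 2, 1, 0, 5, 6, 7, 8, 9, 5, 10, 11, 5, 4, 3, 2, 1, 0, 5, 6, 7, 8, 9, 5, 10, 11, 5, 4, 3, 2, 1, 0, 5, 6, 7, 8,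 9, 5, 10, 11, 5, 4, 3, 2, 1, 0, 5, 6, 7, 8, 9, 5, 10, 11, 5, 4, 3, 2, 1, 0, 5, 6, 7, 8, 9, 5, 10, 11, 5, 4, 3, 2, 1, 0, 5, 6, 7, 8, 9, 5, 10, 11, 5, 4, 3, 2, 1, 0, 5, 6, 7, 8, 9, 5, 10, 11, 5, 4, 3, 2, 1, 0, 5, 6, 7, 8, 9, 5, 10, 11, 5, 4, 3, 2, 1, 0, 5, 6, 7, 8, 9, 5, 10, 11]]
def sgW : List (List Nat) := [[2],
  [3],
  [4],
  [5],
  [6],
  [7],
  [8],
  [10],
  [11],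
  [9],
  [0]]
def invL : List Nat := [0, 1, 2, 3, 4, 5, 6, 7, 8, 9, 10, 11]
def nL : Nat := 12
def nN : Nat := 394454
def nF : Nat := 3
def nAlive : Nat := 306936
def nD : Nat := 19
def nB : Nat := 8388607
/-- the per-name check -/
def chkName (v : Nat) : Bool :=
  andK (nameOK tgt sig crt hnt dsig mu dcrt dst par plet certs 3 12 v) (finOK tgt sig hnt dsig mu 3 12 394454 v)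

end Cfsg.Agent.Lib.Helper28.T1690UT
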