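import Cfsg.Agent.Lib.Helper28.TCMain
import Cfsg.Agent.Lib.Helper28.PresFi24
import Cfsg.Agent.Lib.Helper28.T1690UC0
import Cfsg.Agent.Lib.Helper28.T1690UC1
import Cfsg.Agent.Lib.Helper28.T1690UC2
import Cfsg.Agent.Lib.Helper28.T1690UC3
import Cfsg.Agent.Lib.Helper28.T1690UC4
import Cfsg.Agent.Lib.Helper28.T1690UC5
import Cfsg.Agent.Lib.Helper28.T1690UC6
import Cfsg.Agent.Lib.Helper28.T1690UC7
import Cfsg.Agent.Lib.Helper28.T1690UC8
import Cfsg.Agent.Lib.Helper28.T1690UC9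
import Cfsg.Agent.Lib.Helper28.T1690UC10
import Cfsg.Agent.Lib.Helper28.T1690UC11
import Cfsg.Agent.Lib.Helper28.T1690UC12
import Cfsg.Agent.Lib.Helper28.T1690UC13
import Cfsg.Agent.Lib.Helper28.T1690UC14
import Cfsg.Agent.Lib.Helper28.T1690UC15
import Cfsg.Agent.Lib.Helper28.T1690UC16
import Cfsg.Agent.Lib.Helper28.T1690UC17
import Cfsg.Agent.Lib.Helper28.T1690UC18
import Cfsg.Agent.Lib.Helper28.T1690UC19
import Cfsg.Agent.Lib.Helper28.T1690UC20
import Cfsg.Agent.Lib.Helper28.T1690UC21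
import Cfsg.Agent.Lib.Helper28.T1690UC22
import Cfsg.Agent.Lib.Helper28.T1690UC23
import Cfsg.Agent.Lib.Helper28.T1690UC24
import Cfsg.Agent.Lib.Helper28.T1690UC25
import Cfsg.Agent.Lib.Helper28.T1690UC26
import Cfsg.Agent.Lib.Helper28.T1690UC27
import Cfsg.Agent.Lib.Helper28.T1690UC28
import Cfsg.Agent.Lib.Helper28.T1690UC29
import Cfsg.Agent.Lib.Helper28.T1690UC30
import Cfsg.Agent.Lib.Helper28.T1690UC31
import Cfsg.Agent.Lib.Helper28.T1690UC32
import Cfsg.Agent.Lib.Helper28.T1690UC33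
import Cfsg.Agent.Lib.Helper28.T1690UC34
import Cfsg.Agent.Lib.Helper28.T1690UC35
import Cfsg.Agent.Lib.Helper28.T1690UC36
import Cfsg.Agent.Lib.Helper28.T1690UC37
import Cfsg.Agent.Lib.Helper28.T1690UC38
import Cfsg.Agent.Lib.Helper28.T1690UC39
import Cfsg.Agent.Lib.Helper28.T1690UC40
import Cfsg.Agent.Lib.Helper28.T1690UC41
import Cfsg.Agent.Lib.Helper28.T1690UC42
import Cfsg.Agent.Lib.Helper28.T1690UC43
import Cfsg.Agent.Lib.Helper28.T1690UC44
import Cfsg.Agent.Lib.Helper28.T1690UC45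
import Cfsg.Agent.Lib.Helper28.T1690UC46
import Cfsg.Agent.Lib.Helper28.T1690UC47
import Cfsg.Agent.Lib.Helper28.T1690UC48
import Cfsg.Agent.Lib.Helper28.T1690UC49
import Cfsg.Agent.Lib.Helper28.T1690UC50
import Cfsg.Agent.Lib.Helper28.T1690UC51
import Cfsg.Agent.Lib.Helper28.T1690UC52
import Cfsg.Agent.Lib.Helper28.T1690UC53
import Cfsg.Agent.Lib.Helper28.T1690UC54
import Cfsg.Agent.Lib.Helper28.T1690UC55
import Cfsg.Agent.Lib.Helper28.T1690UC56
import Cfsg.Agent.Lib.Helper28.T1690UC57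
import Cfsg.Agent.Lib.Helper28.T1690UC58
import Cfsg.Agent.Lib.Helper28.T1690UC59
import Cfsg.Agent.Lib.Helper28.T1690UC60
import Cfsg.Agent.Lib.Helper28.T1690UC61
import Cfsg.Agent.Lib.Helper28.T1690UC62
import Cfsg.Agent.Lib.Helper28.T1690UC63
import Cfsg.Agent.Lib.Helper28.T1690LC0
import Cfsg.Agent.Lib.Helper28.T1690LC1
import Cfsg.Agent.Lib.Helper28.T1690LC2
import Cfsg.Agent.Lib.Helper28.T1690LC3
import Cfsg.Agent.Lib.Helper28.T1690LC4
import Cfsg.Agent.Lib.Helper28.T1690LC5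
import Cfsg.Agent.Lib.Helper28.T1690LC6
import Cfsg.Agent.Lib.Helper28.T1690LC7
import Cfsg.Agent.Lib.Helper28.T1690LC8
import Cfsg.Agent.Lib.Helper28.T1690LC9
import Cfsg.Agent.Lib.Helper28.T1690LC10
import Cfsg.Agent.Lib.Helper28.T1690LC11
import Cfsg.Agent.Lib.Helper28.T1690LC12
import Cfsg.Agent.Lib.Helper28.T1690LC13
import Cfsg.Agent.Lib.Helper28.T1690LC14
import Cfsg.Agent.Lib.Helper28.T1690LC15
import Cfsg.Agent.Lib.Helper28.T1690LC16
import Cfsg.Agent.Lib.Helper28.T1690LC17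
import Cfsg.Agent.Lib.Helper28.T1690LC18
import Cfsg.Agent.Lib.Helper28.T1690LC19
import Cfsg.Agent.Lib.Helper28.T1690LC20
import Cfsg.Agent.Lib.Helper28.T1690LC21
import Cfsg.Agent.Lib.Helper28.T1690LC22
import Cfsg.Agent.Lib.Helper28.T1690LC23
import Cfsg.Agent.Lib.Helper28.T1690LC24
import Cfsg.Agent.Lib.Helper28.T1690LC25
import Cfsg.Agent.Lib.Helper28.T1690LC26
import Cfsg.Agent.Lib.Helper28.T1690LC27
import Cfsg.Agent.Lib.Helper28.T1690LC28
import Cfsg.Agent.Lib.Helper28.T1690LC29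
import Cfsg.Agent.Lib.Helper28.T1690LC30
import Cfsg.Agent.Lib.Helper28.T1690LC31
import Cfsg.Agent.Lib.Helper28.T1690LC32
import Cfsg.Agent.Lib.Helper28.T1690LC33
import Cfsg.Agent.Lib.Helper28.T1690LC34
import Cfsg.Agent.Lib.Helper28.T1690LC35
import Cfsg.Agent.Lib.Helper28.T1690LC36
import Cfsg.Agent.Lib.Helper28.T1690LC37
import Cfsg.Agent.Lib.Helper28.T1690LC38
import Cfsg.Agent.Lib.Helper28.T1690LC39
import Cfsg.Agent.Lib.Helper28.T1690LC40
import Cfsg.Agent.Lib.Helper28.T1690LC41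
import Cfsg.Agent.Lib.Helper28.T1690LC42
import Cfsg.Agent.Lib.Helper28.T1690LC43
import Cfsg.Agent.Lib.Helper28.T1690LC44
import Cfsg.Agent.Lib.Helper28.T1690LC45
import Cfsg.Agent.Lib.Helper28.T1690LC46
import Cfsg.Agent.Lib.Helper28.T1690LC47
import Cfsg.Agent.Lib.Helper28.T1690LC48
import Cfsg.Agent.Lib.Helper28.T1690LC49
import Cfsg.Agent.Lib.Helper28.T1690LC50
import Cfsg.Agent.Lib.Helper28.T1690LC51
import Cfsg.Agent.Lib.Helper28.T1690LC52
import Cfsg.Agent.Lib.Helper28.T1690LC53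
import Cfsg.Agent.Lib.Helper28.T1690LC54
import Cfsg.Agent.Lib.Helper28.T1690LC55
import Cfsg.Agent.Lib.Helper28.T1690LC56
import Cfsg.Agent.Lib.Helper28.T1690LC57
import Cfsg.Agent.Lib.Helper28.T1690LC58
import Cfsg.Agent.Lib.Helper28.T1690LC59
import Cfsg.Agent.Lib.Helper28.T1690LC60
import Cfsg.Agent.Lib.Helper28.T1690LC61
import Cfsg.Agent.Lib.Helper28.T1690LC62
import Cfsg.Agent.Lib.Helper28.T1690LC63

set_option autoImplicit false

namespace Cfsg.Agent.Lib.Helper28.T1690X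

open Cfsg.Spor Cfsg.Agent.Lib.Helper28.TCKernel Cfsg.Agent.Lib.Helper28.TCSound Cfsg.Agent.Lib.Helper28.TCPerm Cfsg.Agent.Lib.Helper28.TCPres Cfsg.Agent.Lib.Helper28.TCMain

/-- the subgroup generators -/
def sgSrc : List (FreeGroup Fi24.Gen) := [Fi24.a, Fi24.b, Fi24.c, Fi24.d, Fi24.e, Fi24.f, Fi24.g, Fi24.h, Fi24.i, Fi24.j, Fi24.l]

theorem chunkU : ∀ k, k < 64 → allTree T1690UT.chkName 13 (k * 2 ^ 13) = true
  | 0, _ => T1690UC0.chk
  | 1, _ => T1690UC1.chk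
  | 2, _ => T1690UC2.chk
  | 3, _ => T1690UC3.chk
  | 4, _ => T1690UC4.chk
  | 5, _ => T1690UC5.chk
  | 6, _ => T1690UC6.chk
  | 7, _ => T1690UC7.chk
  | 8, _ => T1690UC8.chk
  | 9, _ => T1690UC9.chk
  | 10, _ => T1690UC10.chk
  | 11, _ => T1690UC11.chk
  | 12, _ => T1690UC12.chk
  | 13, _ => T1690UC13.chk
  | 14, _ => T1690UC14.chk
  | 15, _ => T1690UC15.chk
  | 16, _ => T1690UC16.chk
  | 17, _ => T1690UC17.chk
  | 18, _ => T1690UC18.chk
  | 19, _ => T1690UC19.chk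
  | 20, _ => T1690UC20.chk
  | 21, _ => T1690UC21.chk
  | 22, _ => T1690UC22.chk
  | 23, _ => T1690UC23.chk
  | 24, _ => T1690UC24.chk
  | 25, _ => T1690UC25.chk
  | 26, _ => T1690UC26.chk
  | 27, _ => T1690UC27.chk
  | 28, _ => T1690UC28.chk
  | 29, _ => T1690UC29.chk
  | 30, _ => T1690UC30.chk
  | 31, _ => T1690UC31.chk
  | 32, _ => T1690UC32.chk
  | 33, _ => T1690UC33.chk
  | 34, _ => T1690UC34.chk
  | 35, _ => T1690UC35.chk
  | 36, _ => T1690UC36.chk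
  | 37, _ => T1690UC37.chk
  | 38, _ => T1690UC38.chk
  | 39, _ => T1690UC39.chk
  | 40, _ => T1690UC40.chk
  | 41, _ => T1690UC41.chk
  | 42, _ => T1690UC42.chk
  | 43, _ => T1690UC43.chk
  | 44, _ => T1690UC44.chk
  | 45, _ => T1690UC45.chk
  | 46, _ => T1690UC46.chk
  | 47, _ => T1690UC47.chk
  | 48, _ => T1690UC48.chk
  | 49, _ => T1690UC49.chk
  | 50, _ => T1690UC50.chk
  | 51, _ => T1690UC51.chk
  | 52, _ => T1690UC52.chk
  | 53, _ => T1690UC53.chk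
  | 54, _ => T1690UC54.chk
  | 55, _ => T1690UC55.chk
  | 56, _ => T1690UC56.chk
  | 57, _ => T1690UC57.chk
  | 58, _ => T1690UC58.chk
  | 59, _ => T1690UC59.chk
  | 60, _ => T1690UC60.chk
  | 61, _ => T1690UC61.chk
  | 62, _ => T1690UC62.chk
  | 63, _ => T1690UC63.chk
  | (k + 64), h => absurd h (by omega)

theorem chkU (v : Nat) : T1690UT.chkName v = true := by
  rcases Nat.lt_or_ge v (2 ^ 19) with h | h
  · exact allTree_chunks T1690UT.chkName 13 64 chunkU v h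
  · exact chk_of_zero _ _ _ _ _ _ _ _ _ _ _ _ _ _ v
      (fun y => fld3_eq_zero _ _ _ _ _ _ _ _ y v 97 (by decide)
        (le_trans (by decide : 97 * 2 ^ (7 + 5) ≤ 2 ^ 19) h))
      (fld1_eq_zero _ _ _ _ _ _ _ _ v
        (le_trans (by decide : T1690UT.dtop.length * 2 ^ (7 + 5) ≤ 2 ^ 19) h))
      (le_trans (by decide : 394454 ≤ 2 ^ 19) h)

theorem chunkL : ∀ k, k < 64 → allTree T1690LT.chkPoint 13 (k * 2 ^ 13) = true
  | 0, _ => T1690LC0.chk
  | 1, _ => T1690LC1.chk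
  | 2, _ => T1690LC2.chk
  | 3, _ => T1690LC3.chk
  | 4, _ => T1690LC4.chk
  | 5, _ => T1690LC5.chk
  | 6, _ => T1690LC6.chk
  | 7, _ => T1690LC7.chk
  | 8, _ => T1690LC8.chk
  | 9, _ => T1690LC9.chk
  | 10, _ => T1690LC10.chk
  | 11, _ => T1690LC11.chk
  | 12, _ => T1690LC12.chk
  | 13, _ => T1690LC13.chk
  | 14, _ => T1690LC14.chk
  | 15, _ => T1690LC15.chk
  | 16, _ => T1690LC16.chk
  | 17, _ => T1690LC17.chk
  | 18, _ => T1690LC18.chk
  | 19, _ => T1690LC19.chk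
  | 20, _ => T1690LC20.chk
  | 21, _ => T1690LC21.chk
  | 22, _ => T1690LC22.chk
  | 23, _ => T1690LC23.chk
  | 24, _ => T1690LC24.chk
  | 25, _ => T1690LC25.chk
  | 26, _ => T1690LC26.chk
  | 27, _ => T1690LC27.chk
  | 28, _ => T1690LC28.chk
  | 29, _ => T1690LC29.chk
  | 30, _ => T1690LC30.chk
  | 31, _ => T1690LC31.chk
  | 32, _ => T1690LC32.chk
  | 33, _ => T1690LC33.chk
  | 34, _ => T1690LC34.chk
  | 35, _ => T1690LC35.chk
  | 36, _ => T1690LC36.chk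
  | 37, _ => T1690LC37.chk
  | 38, _ => T1690LC38.chk
  | 39, _ => T1690LC39.chk
  | 40, _ => T1690LC40.chk
  | 41, _ => T1690LC41.chk
  | 42, _ => T1690LC42.chk
  | 43, _ => T1690LC43.chk
  | 44, _ => T1690LC44.chk
  | 45, _ => T1690LC45.chk
  | 46, _ => T1690LC46.chk
  | 47, _ => T1690LC47.chk
  | 48, _ => T1690LC48.chk
  | 49, _ => T1690LC49.chk
  | 50, _ => T1690LC50.chk
  | 51, _ => T1690LC51.chk
  | 52, _ => T1690LC52.chk
  | 53, _ => T1690LC53.chk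
  | 54, _ => T1690LC54.chk
  | 55, _ => T1690LC55.chk
  | 56, _ => T1690LC56.chk
  | 57, _ => T1690LC57.chk
  | 58, _ => T1690LC58.chk
  | 59, _ => T1690LC59.chk
  | 60, _ => T1690LC60.chk
  | 61, _ => T1690LC61.chk
  | 62, _ => T1690LC62.chk
  | 63, _ => T1690LC63.chk
  | (k + 64), h => absurd h (by omega)

theorem chkL (a : Nat) (ha : a < 306936) : T1690LT.chkPoint a = true :=
  allTree_chunks T1690LT.chkPoint 13 64 chunkL a (lt_of_lt_of_le ha (by decide))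

theorem permOK : PermChecks 306936 T1690LT.tp PresFi24.inv T1690LT.pa T1690LT.pl PresFi24.relW T1690LT.sgW T1690LT.tw 22
    T1690LT.roots 12 where
  point := fun a ha => chkL a ha
  invL := by decide +kernel
  wsL := by decide +kernel
  sgL := by decide +kernel
  twL := by decide +kernel
  root1 := by decide +kernel
  rootpos := by decide +kernel

/-- index and orbit structure of the subgroup -/
theorem final :
    ((Subgroup.closure {s | s ∈ sgSrc}).map (PresentedGroup.mk (coxRelators Fi24.edges ∪ {r | r ∈ Fi24.extra}))).index = 306936 ∧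
    ∃ ψ : (PresentedGroup (coxRelators Fi24.edges ∪ {r | r ∈ Fi24.extra})) ⧸ ((Subgroup.closure {s | s ∈ sgSrc}).map (PresentedGroup.mk (coxRelators Fi24.edges ∪ {r | r ∈ Fi24.extra}))) → Fin 306936,
      Function.Injective ψ ∧
      ∀ r, r < 306936 → (∀ r' ∈ (0 :: T1690LT.roots), clsOf T1690LT.roots r' = clsOf T1690LT.roots r → r' = r) →
        ∃ q, ψ '' (MulAction.orbit ((Subgroup.closure {s | s ∈ sgSrc}).map (PresentedGroup.mk (coxRelators Fi24.edges ∪ {r | r ∈ Fi24.extra}))) q) = {b : Fin 306936 | clsOf T1690LT.roots b.1 = clsOf T1690LT.roots r} :=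
  main PresFi24.ok {s | s ∈ sgSrc} sgSrc rfl T1690LT.sgW (by decide +kernel)
    394454 306936 19 3 8388607 T1690UT.tgt T1690UT.sig T1690UT.crt T1690UT.hnt T1690UT.dsig T1690UT.mu T1690UT.dcrt T1690UT.dst
    T1690UT.par T1690UT.plet T1690UT.certs T1690UT.hints (by decide +kernel)
    (fun y v => fld3_le _ _ _ _ _ _ _ _ y v) (fun v => fld1_le _ _ _ _ _ _ _ _ v) chkU
    (by decide +kernel) (by decide) T1690UC0.cnt
    T1690LT.tp T1690LT.pa T1690LT.pl T1690LT.tw 22 T1690LT.roots permOK (by decide) (by decide +kernel)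

end Cfsg.Agent.Lib.Helper28.T1690X
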