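import Cfsg.Agent.Lib.Helper28.TCKernel
import Cfsg.Agent.Lib.Helper28.T1692LD0
import Cfsg.Agent.Lib.Helper28.T1692LD1

set_option autoImplicit false

namespace Cfsg.Agent.Lib.Helper28.T1692LT

open Cfsg.Agent.Lib.Helper28.TCKernel

def p0top : List (List Nat) := [T1692LD0.p0g0, T1692LD0.p0g1, T1692LD0.p0g2, T1692LD0.p0g3, T1692LD0.p0g4, T1692LD0.p0g5, T1692LD0.p0g6, T1692LD0.p0g7]
def p1top : List (List Nat) := [T1692LD0.p1g0, T1692LD0.p1g1, T1692LD0.p1g2, T1692LD0.p1g3, T1692LD0.p1g4, T1692LD0.p1g5, T1692LD0.p1g6, T1692LD0.p1g7]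
def p2top : List (List Nat) := [T1692LD0.p2g0, T1692LD0.p2g1, T1692LD0.p2g2, T1692LD0.p2g3, T1692LD0.p2g4, T1692LD0.p2g5, T1692LD0.p2g6, T1692LD0.p2g7]
def p3top : List (List Nat) := [T1692LD0.p3g0, T1692LD0.p3g1, T1692LD0.p3g2, T1692LD0.p3g3, T1692LD0.p3g4, T1692LD0.p3g5, T1692LD0.p3g6, T1692LD0.p3g7]
def p4top : List (List Nat) := [T1692LD0.p4g0, T1692LD0.p4g1, T1692LD0.p4g2, T1692LD0.p4g3, T1692LD0.p4g4, T1692LD0.p4g5, T1692LD0.p4g6, T1692LD0.p4g7]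
def p5top : List (List Nat) := [T1692LD0.p5g0, T1692LD0.p5g1, T1692LD0.p5g2, T1692LD0.p5g3, T1692LD0.p5g4, T1692LD0.p5g5, T1692LD0.p5g6, T1692LD0.p5g7]
def p6top : List (List Nat) := [T1692LD0.p6g0, T1692LD1.p6g1, T1692LD1.p6g2, T1692LD1.p6g3, T1692LD1.p6g4, T1692LD1.p6g5, T1692LD1.p6g6, T1692LD1.p6g7]
def p7top : List (List Nat) := [T1692LD1.p7g0, T1692LD1.p7g1, T1692LD1.p7g2, T1692LD1.p7g3, T1692LD1.p7g4, T1692LD1.p7g5, T1692LD1.p7g6, T1692LD1.p7g7]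
def ptops : List (List (List Nat)) := [p0top, p1top, p2top, p3top, p4top, p5top, p6top, p7top]
def ttop : List (List Nat) := [T1692LD1.tg0, T1692LD1.tg1, T1692LD1.tg2, T1692LD1.tg3, T1692LD1.tg4, T1692LD1.tg5, T1692LD1.tg6, T1692LD1.tg7]
def tp : Nat → Nat → Nat := fld3z ptops 9 5 31 511 17 131071
def pa : Nat → Nat := fld1 ttop 9 5 31 511 22 0 131071
def pl : Nat → Nat := fld1 ttop 9 5 31 511 22 17 31
def relW : List (List Nat) := [[2, 3, 2, 3, 2, 3],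
  [2, 4, 2, 4],
  [2, 5, 2, 5],
  [2, 6, 2, 6],
  [2, 7, 2, 7],
  [3, 4, 3, 4, 3, 4],
  [3, 5, 3, 5],
  [3, 6, 3, 6],
  [3, 7, 3, 7],
  [4, 5, 4, 5, 4, 5, 4, 5, 4, 5, 4, 5, 4, 5, 4, 5],
  [4, 6, 4, 6],
  [4, 7, 4, 7],
  [5, 6, 5, 6, 5, 6],
  [5, 7, 5, 7],
  [6, 7, 6, 7, 6, 7],
  [2, 7, 1, 1],
  [2, 7, 5, 4, 5, 4, 5, 4, 5, 4],
  [4, 1, 5, 1, 5, 4, 5, 0, 5, 0],
  [5, 1, 4, 1, 4, 5, 4, 0, 4, 0],
  [3, 4, 5, 0, 3, 4, 5, 0, 3, 4, 5, 0, 3, 4, 5, 0, 3, 4, 5, 0],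
  [0, 3, 4, 0, 4, 3, 0, 3, 4, 0, 4],
  [0, 6, 5, 0, 5, 6, 0, 6, 5, 0, 5]]
def sgW : List (List Nat) := [[2],
  [3],
  [4],
  [5],
  [6],
  [7]]
def tw : List (List Nat) := [[2],
  [3],
  [4],
  [5],
  [6],
  [7],
  [2],
  [3],
  [4],
  [5],
  [6],
  [7],
  [0],
  [1],
  [2],
  [3],
  [4],
  [5],
  [6],
  [7]]
def invL : List Nat := [1, 0, 2, 3, 4, 5, 6, 7]
def inv : Nat → Nat := nthD 0 invL
def roots : List Nat := [1, 58654, 110790, 116376]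
def nK : Nat := 12
def nL : Nat := 8
def nn : Nat := 122760
def nD : Nat := 17
/-- the per-point check -/
def chkPoint (a : Nat) : Bool :=
  pointOK tp inv pa pl relW sgW tw 12 roots 8 122760 a

end Cfsg.Agent.Lib.Helper28.T1692LT
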