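import Cfsg.Agent.Lib.Helper28.TCKernel
import Cfsg.Agent.Lib.Helper28.T1692UD0
import Cfsg.Agent.Lib.Helper28.T1692UD1
import Cfsg.Agent.Lib.Helper28.T1692UD2
import Cfsg.Agent.Lib.Helper28.T1692UD3
import Cfsg.Agent.Lib.Helper28.T1692UD4
import Cfsg.Agent.Lib.Helper28.T1692UD5
import Cfsg.Agent.Lib.Helper28.T1692UD6
import Cfsg.Agent.Lib.Helper28.T1692UD7
import Cfsg.Agent.Lib.Helper28.T1692UD8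
import Cfsg.Agent.Lib.Helper28.T1692UD9
import Cfsg.Agent.Lib.Helper28.T1692UD10
import Cfsg.Agent.Lib.Helper28.T1692UD11

set_option autoImplicit false

namespace Cfsg.Agent.Lib.Helper28.T1692UT

open Cfsg.Agent.Lib.Helper28.TCKernel

def e0top : List (List Nat) := [T1692UD0.e0g0, T1692UD0.e0g1, T1692UD0.e0g2, T1692UD0.e0g3, T1692UD0.e0g4, T1692UD0.e0g5, T1692UD0.e0g6, T1692UD0.e0g7, T1692UD0.e0g8, T1692UD0.e0g9, T1692UD0.e0g10, T1692UD0.e0g11, T1692UD0.e0g12, T1692UD0.e0g13, T1692UD0.e0g14, T1692UD0.e0g15, T1692UD0.e0g16, T1692UD0.e0g17, T1692UD0.e0g18, T1692UD0.e0g19, T1692UD0.e0g20, T1692UD0.e0g21, T1692UD0.e0g22, T1692UD0.e0g23, T1692UD0.e0g24, T1692UD0.e0g25, T1692UD0.e0g26, T1692UD0.e0g27, T1692UD0.e0g28, T1692UD0.e0g29, T1692UD0.e0g30,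 T1692UD0.e0g31, T1692UD0.e0g32, T1692UD0.e0g33, T1692UD0.e0g34, T1692UD0.e0g35, T1692UD0.e0g36, T1692UD0.e0g37, T1692UD0.e0g38, T1692UD0.e0g39, T1692UD0.e0g40, T1692UD0.e0g41, T1692UD0.e0g42, T1692UD0.e0g43, T1692UD0.e0g44, T1692UD0.e0g45, T1692UD1.e0g46, T1692UD1.e0g47, T1692UD1.e0g48, T1692UD1.e0g49, T1692UD1.e0g50, T1692UD1.e0g51, T1692UD1.e0g52, T1692UD1.e0g53, T1692UD1.e0g54, T1692UD1.e0g55]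
def e1top : List (List Nat) := [T1692UD1.e1g0, T1692UD1.e1g1, T1692UD1.e1g2, T1692UD1.e1g3, T1692UD1.e1g4, T1692UD1.e1g5, T1692UD1.e1g6, T1692UD1.e1g7, T1692UD1.e1g8, T1692UD1.e1g9, T1692UD1.e1g10, T1692UD1.e1g11, T1692UD1.e1g12, T1692UD1.e1g13, T1692UD1.e1g14, T1692UD1.e1g15, T1692UD1.e1g16, T1692UD1.e1g17, T1692UD1.e1g18, T1692UD1.e1g19, T1692UD1.e1g20, T1692UD1.e1g21, T1692UD1.e1g22, T1692UD1.e1g23, T1692UD1.e1g24, T1692UD1.e1g25, T1692UD1.e1g26, T1692UD1.e1g27, T1692UD1.e1g28, T1692UD1.e1g29, T1692UD1.e1g30, T1692UD1.e1g31, T1692UD1.e1g32, T1692UD1.e1g33, T1692UD1.e1g34, T1692UD1.e1g35, T1692UD2.e1g36, T1692UD2.e1g37, T1692UD2.e1g38, T1692UD2.e1g39, T1692UD2.e1g40, T1692UD2.e1g41, T1692UD2.e1g42, T1692UD2.e1g43, T1692UD2.e1g44, T1692UD2.e1g45,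 T1692UD2.e1g46, T1692UD2.e1g47, T1692UD2.e1g48, T1692UD2.e1g49, T1692UD2.e1g50, T1692UD2.e1g51, T1692UD2.e1g52, T1692UD2.e1g53, T1692UD2.e1g54, T1692UD2.e1g55]
def e2top : List (List Nat) := [T1692UD2.e2g0, T1692UD2.e2g1, T1692UD2.e2g2, T1692UD2.e2g3, T1692UD2.e2g4, T1692UD2.e2g5, T1692UD2.e2g6, T1692UD2.e2g7, T1692UD2.e2g8, T1692UD2.e2g9, T1692UD2.e2g10, T1692UD2.e2g11, T1692UD2.e2g12, T1692UD2.e2g13, T1692UD2.e2g14, T1692UD2.e2g15, T1692UD2.e2g16, T1692UD2.e2g17, T1692UD2.e2g18, T1692UD2.e2g19, T1692UD2.e2g20, T1692UD2.e2g21, T1692UD2.e2g22, T1692UD2.e2g23, T1692UD2.e2g24, T1692UD2.e2g25, T1692UD3.e2g26, T1692UD3.e2g27, T1692UD3.e2g28, T1692UD3.e2g29, T1692UD3.e2g30, T1692UD3.e2g31, T1692UD3.e2g32, T1692UD3.e2g33, T1692UD3.e2g34, T1692UD3.e2g35,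 T1692UD3.e2g36, T1692UD3.e2g37, T1692UD3.e2g38, T1692UD3.e2g39, T1692UD3.e2g40, T1692UD3.e2g41, T1692UD3.e2g42, T1692UD3.e2g43, T1692UD3.e2g44, T1692UD3.e2g45, T1692UD3.e2g46, T1692UD3.e2g47, T1692UD3.e2g48, T1692UD3.e2g49, T1692UD3.e2g50, T1692UD3.e2g51, T1692UD3.e2g52, T1692UD3.e2g53, T1692UD3.e2g54, T1692UD3.e2g55]
def e3top : List (List Nat) := [T1692UD3.e3g0, T1692UD3.e3g1, T1692UD3.e3g2, T1692UD3.e3g3, T1692UD3.e3g4, T1692UD3.e3g5, T1692UD3.e3g6, T1692UD3.e3g7, T1692UD3.e3g8, T1692UD3.e3g9, T1692UD3.e3g10, T1692UD3.e3g11, T1692UD3.e3g12, T1692UD3.e3g13, T1692UD3.e3g14, T1692UD3.e3g15, T1692UD4.e3g16, T1692UD4.e3g17, T1692UD4.e3g18, T1692UD4.e3g19, T1692UD4.e3g20, T1692UD4.e3g21, T1692UD4.e3g22, T1692UD4.e3g23, T1692UD4.e3g24, T1692UD4.e3g25,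 T1692UD4.e3g26, T1692UD4.e3g27, T1692UD4.e3g28, T1692UD4.e3g29, T1692UD4.e3g30, T1692UD4.e3g31, T1692UD4.e3g32, T1692UD4.e3g33, T1692UD4.e3g34, T1692UD4.e3g35, T1692UD4.e3g36, T1692UD4.e3g37, T1692UD4.e3g38, T1692UD4.e3g39, T1692UD4.e3g40, T1692UD4.e3g41, T1692UD4.e3g42, T1692UD4.e3g43, T1692UD4.e3g44, T1692UD4.e3g45, T1692UD4.e3g46, T1692UD4.e3g47, T1692UD4.e3g48, T1692UD4.e3g49, T1692UD4.e3g50, T1692UD4.e3g51, T1692UD4.e3g52, T1692UD4.e3g53, T1692UD4.e3g54, T1692UD4.e3g55]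
def e4top : List (List Nat) := [T1692UD4.e4g0, T1692UD4.e4g1, T1692UD4.e4g2, T1692UD4.e4g3, T1692UD4.e4g4, T1692UD4.e4g5, T1692UD5.e4g6, T1692UD5.e4g7, T1692UD5.e4g8, T1692UD5.e4g9, T1692UD5.e4g10, T1692UD5.e4g11, T1692UD5.e4g12, T1692UD5.e4g13, T1692UD5.e4g14, T1692UD5.e4g15, T1692UD5.e4g16, T1692UD5.e4g17, T1692UD5.e4g18, T1692UD5.e4g19, T1692UD5.e4g20, T1692UD5.e4g21, T1692UD5.e4g22, T1692UD5.e4g23, T1692UD5.e4g24, T1692UD5.e4g25, T1692UD5.e4g26, T1692UD5.e4g27, T1692UD5.e4g28, T1692UD5.e4g29, T1692UD5.e4g30, T1692UD5.e4g31, T1692UD5.e4g32, T1692UD5.e4g33, T1692UD5.e4g34, T1692UD5.e4g35, T1692UD5.e4g36, T1692UD5.e4g37, T1692UD5.e4g38, T1692UD5.e4g39, T1692UD5.e4g40, T1692UD5.e4g41, T1692UD5.e4g42, T1692UD5.e4g43, T1692UD5.e4g44, T1692UD5.e4g45,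 T1692UD5.e4g46, T1692UD5.e4g47, T1692UD5.e4g48, T1692UD5.e4g49, T1692UD5.e4g50, T1692UD5.e4g51, T1692UD6.e4g52, T1692UD6.e4g53, T1692UD6.e4g54, T1692UD6.e4g55]
def e5top : List (List Nat) := [T1692UD6.e5g0, T1692UD6.e5g1, T1692UD6.e5g2, T1692UD6.e5g3, T1692UD6.e5g4, T1692UD6.e5g5, T1692UD6.e5g6, T1692UD6.e5g7, T1692UD6.e5g8, T1692UD6.e5g9, T1692UD6.e5g10, T1692UD6.e5g11, T1692UD6.e5g12, T1692UD6.e5g13, T1692UD6.e5g14, T1692UD6.e5g15, T1692UD6.e5g16, T1692UD6.e5g17, T1692UD6.e5g18, T1692UD6.e5g19, T1692UD6.e5g20, T1692UD6.e5g21, T1692UD6.e5g22, T1692UD6.e5g23, T1692UD6.e5g24, T1692UD6.e5g25, T1692UD6.e5g26, T1692UD6.e5g27, T1692UD6.e5g28, T1692UD6.e5g29, T1692UD6.e5g30, T1692UD6.e5g31, T1692UD6.e5g32, T1692UD6.e5g33, T1692UD6.e5g34, T1692UD6.e5g35,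 T1692UD6.e5g36, T1692UD6.e5g37, T1692UD6.e5g38, T1692UD6.e5g39, T1692UD6.e5g40, T1692UD6.e5g41, T1692UD7.e5g42, T1692UD7.e5g43, T1692UD7.e5g44, T1692UD7.e5g45, T1692UD7.e5g46, T1692UD7.e5g47, T1692UD7.e5g48, T1692UD7.e5g49, T1692UD7.e5g50, T1692UD7.e5g51, T1692UD7.e5g52, T1692UD7.e5g53, T1692UD7.e5g54, T1692UD7.e5g55]
def e6top : List (List Nat) := [T1692UD7.e6g0, T1692UD7.e6g1, T1692UD7.e6g2, T1692UD7.e6g3, T1692UD7.e6g4, T1692UD7.e6g5, T1692UD7.e6g6, T1692UD7.e6g7, T1692UD7.e6g8, T1692UD7.e6g9, T1692UD7.e6g10, T1692UD7.e6g11, T1692UD7.e6g12, T1692UD7.e6g13, T1692UD7.e6g14, T1692UD7.e6g15, T1692UD7.e6g16, T1692UD7.e6g17, T1692UD7.e6g18, T1692UD7.e6g19, T1692UD7.e6g20, T1692UD7.e6g21, T1692UD7.e6g22, T1692UD7.e6g23, T1692UD7.e6g24, T1692UD7.e6g25,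 T1692UD7.e6g26, T1692UD7.e6g27, T1692UD7.e6g28, T1692UD7.e6g29, T1692UD7.e6g30, T1692UD7.e6g31, T1692UD8.e6g32, T1692UD8.e6g33, T1692UD8.e6g34, T1692UD8.e6g35, T1692UD8.e6g36, T1692UD8.e6g37, T1692UD8.e6g38, T1692UD8.e6g39, T1692UD8.e6g40, T1692UD8.e6g41, T1692UD8.e6g42, T1692UD8.e6g43, T1692UD8.e6g44, T1692UD8.e6g45, T1692UD8.e6g46, T1692UD8.e6g47, T1692UD8.e6g48, T1692UD8.e6g49, T1692UD8.e6g50, T1692UD8.e6g51, T1692UD8.e6g52, T1692UD8.e6g53, T1692UD8.e6g54, T1692UD8.e6g55]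
def e7top : List (List Nat) := [T1692UD8.e7g0, T1692UD8.e7g1, T1692UD8.e7g2, T1692UD8.e7g3, T1692UD8.e7g4, T1692UD8.e7g5, T1692UD8.e7g6, T1692UD8.e7g7, T1692UD8.e7g8, T1692UD8.e7g9, T1692UD8.e7g10, T1692UD8.e7g11, T1692UD8.e7g12, T1692UD8.e7g13, T1692UD8.e7g14, T1692UD8.e7g15, T1692UD8.e7g16, T1692UD8.e7g17, T1692UD8.e7g18, T1692UD8.e7g19, T1692UD8.e7g20, T1692UD8.e7g21, T1692UD9.e7g22, T1692UD9.e7g23, T1692UD9.e7g24, T1692UD9.e7g25, T1692UD9.e7g26, T1692UD9.e7g27, T1692UD9.e7g28, T1692UD9.e7g29, T1692UD9.e7g30, T1692UD9.e7g31, T1692UD9.e7g32, T1692UD9.e7g33, T1692UD9.e7g34, T1692UD9.e7g35, T1692UD9.e7g36, T1692UD9.e7g37, T1692UD9.e7g38, T1692UD9.e7g39, T1692UD9.e7g40, T1692UD9.e7g41, T1692UD9.e7g42, T1692UD9.e7g43, T1692UD9.e7g44, T1692UD9.e7g45,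 T1692UD9.e7g46, T1692UD9.e7g47, T1692UD9.e7g48, T1692UD9.e7g49, T1692UD9.e7g50, T1692UD9.e7g51, T1692UD9.e7g52, T1692UD9.e7g53, T1692UD9.e7g54, T1692UD9.e7g55]
def etops : List (List (List Nat)) := [e0top, e1top, e2top, e3top, e4top, e5top, e6top, e7top]
def dtop : List (List Nat) := [T1692UD9.dg0, T1692UD9.dg1, T1692UD9.dg2, T1692UD9.dg3, T1692UD9.dg4, T1692UD9.dg5, T1692UD9.dg6, T1692UD9.dg7, T1692UD9.dg8, T1692UD10.dg9, T1692UD10.dg10, T1692UD10.dg11, T1692UD10.dg12, T1692UD10.dg13, T1692UD10.dg14, T1692UD10.dg15, T1692UD10.dg16, T1692UD10.dg17, T1692UD10.dg18, T1692UD10.dg19, T1692UD10.dg20, T1692UD10.dg21, T1692UD10.dg22, T1692UD10.dg23, T1692UD10.dg24, T1692UD10.dg25, T1692UD10.dg26, T1692UD10.dg27, T1692UD10.dg28, T1692UD10.dg29,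 T1692UD10.dg30, T1692UD10.dg31, T1692UD10.dg32, T1692UD10.dg33, T1692UD10.dg34, T1692UD10.dg35, T1692UD10.dg36, T1692UD10.dg37, T1692UD10.dg38, T1692UD10.dg39, T1692UD10.dg40, T1692UD10.dg41, T1692UD10.dg42, T1692UD10.dg43, T1692UD10.dg44, T1692UD11.dg45, T1692UD11.dg46, T1692UD11.dg47, T1692UD11.dg48, T1692UD11.dg49, T1692UD11.dg50, T1692UD11.dg51, T1692UD11.dg52, T1692UD11.dg53, T1692UD11.dg54, T1692UD11.dg55]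
def tgt : Nat → Nat → Nat := fld3z etops 7 5 31 127 69 262143
def hnt : Nat → Nat → Nat := fld3 etops 7 5 31 127 69 18 2097151
def crt : Nat → Nat → Nat := fld3 etops 7 5 31 127 69 39 511
def sig : Nat → Nat → Nat := fld3 etops 7 5 31 127 69 48 2097151
def par : Nat → Nat := fld1 dtop 7 5 31 127 88 0 262143
def plet : Nat → Nat := fld1 dtop 7 5 31 127 88 18 15
def mu : Nat → Nat := fld1 dtop 7 5 31 127 88 22 262143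
def dst : Nat → Nat := fld1 dtop 7 5 31 127 88 40 262143
def dcrt : Nat → Nat := fld1 dtop 7 5 31 127 88 58 511
def dsig : Nat → Nat := fld1 dtop 7 5 31 127 88 67 2097151
def nGE : Nat := 56
def certs0 : List Cert := [Cert.mk 1 2 [] [],
  Cert.mk 1 3 [] [],
  Cert.mk 1 4 [] [],
  Cert.mk 1 5 [] [],
  Cert.mk 0 7 [] [5, 4, 5, 4, 5, 4, 5, 4, 2],
  Cert.mk 1 6 [] [],
  Cert.mk 0 1 [] [0],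
  Cert.mk 0 0 [] [7, 2, 0],
  Cert.mk 0 2 [] [2],
  Cert.mk 0 7 [] [1, 1, 2],
  Cert.mk 0 7 [] [7],
  Cert.mk 0 3 [] [3],
  Cert.mk 0 4 [] [4],
  Cert.mk 0 5 [] [5],
  Cert.mk 0 6 [] [6],
  Cert.mk 0 7 [] [3, 7, 3]]
def certs1 : List Cert := [Cert.mk 0 2 [] [4, 2, 4],
  Cert.mk 0 7 [] [4, 7, 4],
  Cert.mk 0 2 [] [5, 2, 5],
  Cert.mk 0 7 [] [5, 7, 5],
  Cert.mk 0 2 [] [6, 2, 6],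
  Cert.mk 0 0 [] [1],
  Cert.mk 0 3 [] [5, 3, 5],
  Cert.mk 0 3 [] [6, 3, 6],
  Cert.mk 0 5 [] [1, 4, 1, 4, 5, 4, 0, 4, 0],
  Cert.mk 0 4 [] [5, 0, 5, 0, 4, 1, 5, 1, 5],
  Cert.mk 0 4 [] [6, 4, 6],
  Cert.mk 0 4 [] [1, 5, 1, 5, 4, 5, 0, 5, 0],
  Cert.mk 0 1 [] [2, 7, 1],
  Cert.mk 0 3 [] [2, 3, 2, 3, 2],
  Cert.mk 0 7 [] [2, 7, 2],
  Cert.mk 0 1 [] [1, 2, 7]]
def certs2 : List Cert := [Cert.mk 0 0 [] [0, 7, 2],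
  Cert.mk 0 4 [] [7, 4, 7],
  Cert.mk 0 2 [] [7, 2, 7],
  Cert.mk 0 6 [] [7, 6, 7, 6, 7],
  Cert.mk 0 4 [] [3, 4, 3, 4, 3],
  Cert.mk 0 3 [] [7, 3, 7],
  Cert.mk 0 5 [] [2, 5, 2],
  Cert.mk 0 5 [] [3, 5, 3],
  Cert.mk 0 4 [] [0, 4, 3, 0, 3, 4, 0, 4, 0, 3],
  Cert.mk 2 0 [] [1, 4, 1, 4, 5, 4, 0, 4, 0, 5],
  Cert.mk 0 5 [] [4, 0, 4, 0, 5, 1, 4, 1, 4],
  Cert.mk 0 3 [] [4, 0, 4, 0, 3, 4, 0, 4, 3, 0],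
  Cert.mk 0 4 [] [1, 4, 3, 1, 3, 4, 1, 4, 3, 1],
  Cert.mk 0 3 [] [0, 3, 4, 0, 4, 0, 3, 4, 0, 4],
  Cert.mk 0 4 [] [2, 4, 2],
  Cert.mk 0 6 [] [5, 0, 5, 0, 6, 5, 0, 5, 6, 0]]
def certs3 : List Cert := [Cert.mk 0 6 [] [5, 6, 5, 6, 5],
  Cert.mk 0 5 [] [0, 6, 5, 0, 5, 6, 0, 6, 5, 0],
  Cert.mk 0 6 [] [5, 1, 5, 6, 1, 5, 1, 5, 6, 1],
  Cert.mk 0 5 [] [6, 1, 5, 1, 5, 6, 1, 6, 5, 1],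
  Cert.mk 2 0 [] [1, 5, 1, 5, 4, 5, 0, 5, 0, 4],
  Cert.mk 0 5 [] [7, 5, 7],
  Cert.mk 0 1 [] [4, 3, 1, 3, 4, 1, 4, 3, 1, 4],
  Cert.mk 0 1 [] [5, 6, 1, 6, 5, 1, 5, 6, 1, 5],
  Cert.mk 2 0 [] [2, 5, 2, 5],
  Cert.mk 2 0 [] [7, 5, 7, 5],
  Cert.mk 0 0 [] [4, 3, 0, 3, 4, 0, 4, 0, 3, 4],
  Cert.mk 0 4 [] [0, 4, 0, 3, 4, 0, 4, 3, 0, 3],
  Cert.mk 2 0 [] [4, 1, 4, 3, 1, 3, 4, 1, 4, 3, 1],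
  Cert.mk 2 0 [] [1, 0],
  Cert.mk 2 0 [] [2, 2],
  Cert.mk 2 0 [] [3, 3]]
def certs4 : List Cert := [Cert.mk 2 0 [] [4, 4],
  Cert.mk 2 0 [] [6, 6],
  Cert.mk 2 0 [] [7, 7],
  Cert.mk 0 3 [] [4, 3, 4, 3, 4],
  Cert.mk 2 0 [] [4, 3, 0, 3, 4, 0, 4, 0, 3, 4, 0],
  Cert.mk 2 0 [] [0, 1],
  Cert.mk 2 0 [] [5, 5],
  Cert.mk 2 0 [] [3, 2, 3, 2, 3, 2],
  Cert.mk 0 6 [] [2, 6, 2],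
  Cert.mk 0 1 [] [3, 4, 1, 4, 3, 1, 4, 1, 4, 3],
  Cert.mk 0 2 [] [3, 2, 3, 2, 3],
  Cert.mk 0 1 [] [4, 5, 4, 0, 4, 0, 5, 1, 4],
  Cert.mk 0 0 [] [5, 0, 4, 1, 5, 1, 5, 4, 5],
  Cert.mk 0 2 [] [7, 1, 1],
  Cert.mk 2 0 [] [2, 3, 2, 3, 2, 3],
  Cert.mk 2 0 [] [6, 2, 6, 2]]
def certs5 : List Cert := [Cert.mk 0 4 [] [0, 5, 1, 4, 1, 4, 5, 4, 0],
  Cert.mk 0 3 [] [4, 1, 4, 3, 1, 4, 1, 4, 3, 1],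
  Cert.mk 2 0 [] [1, 3, 4, 1, 4, 3, 1, 4, 1, 4, 3],
  Cert.mk 2 0 [] [0, 3, 4, 0, 4, 0, 3, 4, 0, 4, 3],
  Cert.mk 0 4 [] [1, 4, 5, 4, 0, 4, 0, 5, 1],
  Cert.mk 0 1 [] [5, 4, 5, 0, 5, 0, 4, 1, 5],
  Cert.mk 0 5 [] [0, 4, 1, 5, 1, 5, 4, 5, 0],
  Cert.mk 0 6 [] [0, 6, 5, 0, 5, 0, 6, 5, 0, 5],
  Cert.mk 2 0 [] [6, 5, 0, 5, 0, 6, 5, 0, 5, 6, 0],
  Cert.mk 2 0 [] [7, 3, 7, 3],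
  Cert.mk 2 0 [] [5, 2, 5, 2],
  Cert.mk 2 0 [] [1, 2, 7, 1],
  Cert.mk 2 0 [] [5, 1, 5, 4, 5, 0, 5, 0, 4, 1],
  Cert.mk 2 0 [] [6, 1, 6, 5, 1, 5, 6, 1, 5, 1, 5],
  Cert.mk 2 0 [] [6, 3, 6, 3],
  Cert.mk 0 5 [] [6, 1, 6, 5, 1, 5, 6, 1, 5, 1]]
def certs6 : List Cert := [Cert.mk 0 6 [] [4, 6, 4],
  Cert.mk 2 0 [] [0, 6, 5, 0, 5, 6, 0, 6, 5, 0, 5],
  Cert.mk 2 0 [] [2, 4, 2, 4],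
  Cert.mk 2 0 [] [2, 6, 2, 6],
  Cert.mk 2 0 [] [6, 7, 6, 7, 6, 7],
  Cert.mk 2 0 [] [3, 6, 3, 6],
  Cert.mk 0 5 [] [6, 5, 6, 5, 6],
  Cert.mk 0 7 [] [6, 7, 6, 7, 6],
  Cert.mk 0 0 [] [4, 0, 5, 1, 4, 1, 4, 5, 4],
  Cert.mk 0 4 [] [5, 4, 0, 4, 0, 5, 1, 4, 1],
  Cert.mk 2 0 [] [1, 4, 5, 4, 0, 4, 0, 5, 1, 4],
  Cert.mk 0 4 [] [0, 4, 0, 5, 1, 4, 1, 4, 5],
  Cert.mk 0 1 [] [6, 5, 1, 5, 6, 1, 5, 1, 5, 6],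
  Cert.mk 0 5 [] [4, 5, 0, 5, 0, 4, 1, 5, 1],
  Cert.mk 0 3 [] [4, 0, 4, 3, 0, 3, 4, 0, 4, 0],
  Cert.mk 0 5 [] [4, 5, 4, 5, 4, 2, 7, 5, 4]]
def certs7 : List Cert := [Cert.mk 0 4 [] [1, 4, 3, 1, 4, 1, 4, 3, 1, 3],
  Cert.mk 0 4 [] [3, 0, 3, 4, 0, 4, 0, 3, 4, 0],
  Cert.mk 2 0 [] [4, 1, 4, 3, 1, 4, 1, 4, 3, 1, 3],
  Cert.mk 0 4 [] [5, 4, 5, 4, 5, 4, 2, 7, 5],
  Cert.mk 2 0 [] [4, 2, 4, 2],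
  Cert.mk 0 7 [] [2, 0, 0],
  Cert.mk 0 0 [] [3, 4, 0, 4, 0, 3, 4, 0, 4, 3],
  Cert.mk 2 0 [] [5, 3, 5, 3],
  Cert.mk 0 5 [] [0, 5, 0, 4, 1, 5, 1, 5, 4],
  Cert.mk 2 0 [] [5, 7, 5, 7],
  Cert.mk 0 5 [] [0, 5, 6, 0, 6, 5, 0, 5, 0, 6],
  Cert.mk 0 5 [] [4, 5, 4, 5, 4, 5, 4, 5, 4, 5, 4, 5, 4, 5, 4],
  Cert.mk 0 5 [] [1, 5, 6, 1, 5, 1, 5, 6, 1, 6],
  Cert.mk 0 1 [] [4, 3, 1, 4, 1, 4, 3, 1, 3, 4],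
  Cert.mk 0 1 [] [5, 6, 1, 5, 1, 5, 6, 1, 6, 5],
  Cert.mk 2 0 [] [5, 6, 1, 6, 5, 1, 5, 6, 1, 5, 1]]
def certs8 : List Cert := [Cert.mk 2 0 [] [3, 5, 3, 5],
  Cert.mk 2 0 [] [0, 5, 0, 4, 1, 5, 1, 5, 4, 5],
  Cert.mk 0 5 [] [4, 2, 7, 5, 4, 5, 4, 5, 4],
  Cert.mk 2 0 [] [4, 5, 4, 5, 4, 5, 4, 2, 7, 5],
  Cert.mk 2 0 [] [3, 7, 3, 7],
  Cert.mk 0 6 [] [3, 6, 3],
  Cert.mk 2 0 [] [0, 4, 1, 5, 1, 5, 4, 5, 0, 5],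
  Cert.mk 2 0 [] [4, 1, 5, 1, 5, 4, 5, 0, 5, 0],
  Cert.mk 2 0 [] [3, 4, 0, 4, 0, 3, 4, 0, 4, 3, 0],
  Cert.mk 0 4 [] [3, 1, 4, 1, 4, 3, 1, 3, 4, 1],
  Cert.mk 2 0 [] [5, 1, 4, 1, 4, 5, 4, 0, 4, 0],
  Cert.mk 2 0 [] [5, 6, 1, 5, 1, 5, 6, 1, 6, 5, 1],
  Cert.mk 2 0 [] [6, 5, 1, 5, 6, 1, 5, 1, 5, 6, 1],
  Cert.mk 2 0 [] [6, 4, 6, 4],
  Cert.mk 2 0 [] [4, 3, 1, 4, 1, 4, 3, 1, 3, 4, 1],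
  Cert.mk 2 0 [] [0, 0, 7, 2]]
def certs9 : List Cert := [Cert.mk 2 0 [] [5, 0, 4, 1, 5, 1, 5, 4, 5, 0],
  Cert.mk 0 0 [] [5, 0, 6, 5, 0, 5, 6, 0, 6, 5],
  Cert.mk 2 0 [] [3, 4, 0, 4, 3, 0, 3, 4, 0, 4, 0],
  Cert.mk 0 0 [] [5, 6, 0, 6, 5, 0, 5, 0, 6, 5],
  Cert.mk 0 2 [] [0, 0, 7],
  Cert.mk 0 5 [] [1, 5, 6, 1, 6, 5, 1, 5, 6, 1],
  Cert.mk 0 6 [] [5, 0, 5, 6, 0, 6, 5, 0, 5, 0],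
  Cert.mk 0 4 [] [2, 7, 5, 4, 5, 4, 5, 4, 5],
  Cert.mk 0 5 [] [6, 0, 6, 5, 0, 5, 0, 6, 5, 0],
  Cert.mk 2 0 [] [5, 0, 5, 6, 0, 6, 5, 0, 5, 0, 6],
  Cert.mk 0 5 [] [1, 5, 4, 5, 0, 5, 0, 4, 1],
  Cert.mk 2 0 [] [1, 5, 6, 1, 5, 1, 5, 6, 1, 6, 5],
  Cert.mk 2 0 [] [5, 1, 5, 6, 1, 5, 1, 5, 6, 1, 6],
  Cert.mk 0 0 [] [4, 0, 3, 4, 0, 4, 3, 0, 3, 4],
  Cert.mk 0 0 [] [6, 5, 0, 5, 0, 6, 5, 0, 5, 6],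
  Cert.mk 0 4 [] [3, 1, 5, 4, 3, 1, 5, 4, 3, 1, 5, 4, 3, 1, 5, 4, 3, 1, 5]]
def certs10 : List Cert := [Cert.mk 0 1 [] [5, 1, 5, 4, 5, 0, 5, 0, 4],
  Cert.mk 0 0 [] [5, 1, 4, 1, 4, 5, 4, 0, 4],
  Cert.mk 0 4 [] [0, 3, 4, 0, 4, 3, 0, 3, 4, 0],
  Cert.mk 0 5 [] [7, 2, 4, 5, 4, 5, 4, 5, 4],
  Cert.mk 0 0 [] [3, 4, 5, 0, 3, 4, 5, 0, 3, 4, 5, 0, 3, 4, 5, 0, 3, 4, 5],
  Cert.mk 0 5 [] [4, 3, 1, 5, 4, 3, 1, 5, 4, 3, 1, 5, 4, 3, 1, 5, 4, 3, 1],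
  Cert.mk 0 1 [] [4, 1, 4, 3, 1, 3, 4, 1, 4, 3],
  Cert.mk 0 3 [] [4, 5, 0, 3, 4, 5, 0, 3, 4, 5, 0, 3, 4, 5, 0, 3, 4, 5, 0],
  Cert.mk 0 4 [] [5, 4, 5, 4, 2, 7, 5, 4, 5],
  Cert.mk 0 0 [] [6, 5, 0, 5, 6, 0, 6, 5, 0, 5],
  Cert.mk 0 2 [] [4, 5, 4, 5, 4, 5, 4, 5, 7],
  Cert.mk 0 1 [] [5, 1, 5, 6, 1, 6, 5, 1, 5, 6],
  Cert.mk 0 4 [] [5, 4, 5, 4, 5, 4, 5, 4, 5, 4, 5, 4, 5, 4, 5],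
  Cert.mk 0 4 [] [3, 1, 3, 4, 1, 4, 3, 1, 4, 1],
  Cert.mk 2 0 [] [0, 6, 5, 0, 5, 0, 6, 5, 0, 5, 6],
  Cert.mk 2 0 [] [4, 0, 3, 4, 0, 4, 3, 0, 3, 4, 0]]
def certs11 : List Cert := [Cert.mk 2 0 [] [2, 7, 1, 1],
  Cert.mk 0 3 [] [1, 3, 4, 1, 4, 3, 1, 4, 1, 4],
  Cert.mk 0 5 [] [0, 5, 0, 6, 5, 0, 5, 6, 0, 6],
  Cert.mk 0 3 [] [1, 5, 4, 3, 1, 5, 4, 3, 1, 5, 4, 3, 1, 5, 4, 3, 1, 5, 4],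
  Cert.mk 0 5 [] [4, 5, 4, 5, 4, 5, 7, 2, 4],
  Cert.mk 0 2 [] [7, 5, 4, 5, 4, 5, 4, 5, 4],
  Cert.mk 2 0 [] [7, 2, 0, 0],
  Cert.mk 2 0 [] [5, 1, 5, 6, 1, 6, 5, 1, 5, 6, 1],
  Cert.mk 2 0 [] [1, 5, 6, 1, 6, 5, 1, 5, 6, 1, 5],
  Cert.mk 2 0 [] [1, 5, 1, 5, 6, 1, 6, 5, 1, 5, 6],
  Cert.mk 0 0 [] [3, 4, 0, 4, 3, 0, 3, 4, 0, 4],
  Cert.mk 2 0 [] [0, 7, 2, 0],
  Cert.mk 0 4 [] [5, 0, 3, 4, 5, 0, 3, 4, 5, 0, 3, 4, 5, 0, 3, 4, 5, 0, 3],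
  Cert.mk 0 1 [] [5, 4, 3, 1, 5, 4, 3, 1, 5, 4, 3, 1, 5, 4, 3, 1, 5, 4, 3],
  Cert.mk 2 0 [] [5, 0, 5, 0, 6, 5, 0, 5, 6, 0, 6],
  Cert.mk 2 0 [] [0, 4, 0, 5, 1, 4, 1, 4, 5, 4]]
def certs12 : List Cert := [Cert.mk 0 0 [] [4, 1, 5, 1, 5, 4, 5, 0, 5],
  Cert.mk 2 0 [] [4, 5, 4, 0, 4, 0, 5, 1, 4, 1],
  Cert.mk 2 0 [] [4, 5, 0, 5, 0, 4, 1, 5, 1, 5],
  Cert.mk 2 0 [] [5, 0, 5, 0, 4, 1, 5, 1, 5, 4],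
  Cert.mk 2 0 [] [4, 7, 4, 7],
  Cert.mk 2 0 [] [0, 4, 3, 0, 3, 4, 0, 4, 0, 3, 4],
  Cert.mk 2 0 [] [0, 5, 1, 4, 1, 4, 5, 4, 0, 4],
  Cert.mk 2 0 [] [4, 0, 5, 1, 4, 1, 4, 5, 4, 0],
  Cert.mk 0 7 [] [2, 4, 5, 4, 5, 4, 5, 4, 5],
  Cert.mk 2 0 [] [4, 3, 1, 3, 4, 1, 4, 3, 1, 4, 1],
  Cert.mk 2 0 [] [7, 4, 7, 4],
  Cert.mk 2 0 [] [7, 2, 7, 2],
  Cert.mk 2 0 [] [3, 4, 1, 4, 3, 1, 4, 1, 4, 3, 1],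
  Cert.mk 0 1 [] [4, 1, 4, 5, 4, 0, 4, 0, 5],
  Cert.mk 2 0 [] [5, 0, 6, 5, 0, 5, 6, 0, 6, 5, 0],
  Cert.mk 0 6 [] [1, 6, 5, 1, 5, 6, 1, 5, 1, 5]]
def certs13 : List Cert := [Cert.mk 2 0 [] [1, 1, 2, 7],
  Cert.mk 2 0 [] [5, 4, 0, 4, 0, 5, 1, 4, 1, 4],
  Cert.mk 2 0 [] [1, 4, 1, 4, 3, 1, 3, 4, 1, 4, 3],
  Cert.mk 0 3 [] [1, 4, 1, 4, 3, 1, 3, 4, 1, 4],
  Cert.mk 2 0 [] [0, 3, 4, 0, 4, 3, 0, 3, 4, 0, 4],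
  Cert.mk 2 0 [] [4, 0, 4, 0, 3, 4, 0, 4, 3, 0, 3],
  Cert.mk 2 0 [] [1, 4, 3, 1, 3, 4, 1, 4, 3, 1, 4],
  Cert.mk 2 0 [] [6, 5, 0, 5, 6, 0, 6, 5, 0, 5, 0],
  Cert.mk 2 0 [] [1, 4, 3, 1, 4, 1, 4, 3, 1, 3, 4],
  Cert.mk 2 0 [] [0, 5, 0, 6, 5, 0, 5, 6, 0, 6, 5],
  Cert.mk 0 5 [] [4, 5, 4, 2, 7, 5, 4, 5, 4],
  Cert.mk 2 0 [] [3, 0, 3, 4, 0, 4, 0, 3, 4, 0, 4],
  Cert.mk 2 0 [] [4, 0, 4, 3, 0, 3, 4, 0, 4, 0, 3],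
  Cert.mk 2 0 [] [3, 4, 3, 4, 3, 4],
  Cert.mk 0 5 [] [4, 5, 4, 5, 4, 5, 4, 2, 7],
  Cert.mk 2 0 [] [0, 4, 0, 3, 4, 0, 4, 3, 0, 3, 4]]
def certs14 : List Cert := [Cert.mk 2 0 [] [2, 0, 0, 7],
  Cert.mk 2 0 [] [1, 5, 4, 5, 0, 5, 0, 4, 1, 5],
  Cert.mk 2 0 [] [5, 4, 5, 0, 5, 0, 4, 1, 5, 1],
  Cert.mk 2 0 [] [4, 1, 4, 5, 4, 0, 4, 0, 5, 1],
  Cert.mk 2 0 [] [6, 0, 6, 5, 0, 5, 0, 6, 5, 0, 5],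
  Cert.mk 2 0 [] [4, 6, 4, 6],
  Cert.mk 2 0 [] [7, 6, 7, 6, 7, 6],
  Cert.mk 2 0 [] [5, 6, 0, 6, 5, 0, 5, 0, 6, 5, 0],
  Cert.mk 2 0 [] [7, 1, 1, 2],
  Cert.mk 2 0 [] [1, 6, 5, 1, 5, 6, 1, 5, 1, 5, 6],
  Cert.mk 2 0 [] [0, 5, 6, 0, 6, 5, 0, 5, 0, 6, 5],
  Cert.mk 2 0 [] [3, 1, 4, 1, 4, 3, 1, 3, 4, 1, 4],
  Cert.mk 2 0 [] [3, 1, 3, 4, 1, 4, 3, 1, 4, 1, 4],
  Cert.mk 2 0 [] [4, 3, 4, 3, 4, 3],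
  Cert.mk 0 5 [] [0, 3, 4, 5, 0, 3, 4, 5, 0, 3, 4, 5, 0, 3, 4, 5, 0, 3, 4],
  Cert.mk 2 0 [] [2, 7, 2, 7]]
def certs15 : List Cert := [Cert.mk 0 4 [] [5, 4, 5, 4, 5, 4, 5, 7, 2],
  Cert.mk 2 0 [] [3, 4, 5, 0, 3, 4, 5, 0, 3, 4, 5, 0, 3, 4, 5, 0, 3, 4, 5, 0],
  Cert.mk 2 0 [] [6, 5, 6, 5, 6, 5],
  Cert.mk 0 4 [] [5, 4, 2, 7, 5, 4, 5, 4, 5],
  Cert.mk 2 0 [] [5, 4, 3, 1, 5, 4, 3, 1, 5, 4, 3, 1, 5, 4, 3, 1, 5, 4, 3, 1],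
  Cert.mk 0 6 [] [1, 5, 1, 5, 6, 1, 6, 5, 1, 5],
  Cert.mk 2 0 [] [0, 3, 4, 5, 0, 3, 4, 5, 0, 3, 4, 5, 0, 3, 4, 5, 0, 3, 4, 5],
  Cert.mk 2 0 [] [4, 5, 4, 5, 4, 5, 4, 5, 7, 2],
  Cert.mk 2 0 [] [6, 1, 5, 1, 5, 6, 1, 6, 5, 1, 5],
  Cert.mk 2 0 [] [5, 6, 5, 6, 5, 6],
  Cert.mk 2 0 [] [4, 0, 4, 0, 5, 1, 4, 1, 4, 5],
  Cert.mk 2 0 [] [1, 5, 4, 3, 1, 5, 4, 3, 1, 5, 4, 3, 1, 5, 4, 3, 1, 5, 4, 3],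
  Cert.mk 0 4 [] [5, 7, 2, 4, 5, 4, 5, 4, 5],
  Cert.mk 0 4 [] [5, 4, 5, 7, 2, 4, 5, 4, 5],
  Cert.mk 0 5 [] [4, 5, 7, 2, 4, 5, 4, 5, 4],
  Cert.mk 2 0 [] [4, 3, 1, 5, 4, 3, 1, 5, 4, 3, 1, 5, 4, 3, 1, 5, 4, 3, 1, 5]]
def certs16 : List Cert := [Cert.mk 2 0 [] [5, 0, 3, 4, 5, 0, 3, 4, 5, 0, 3, 4, 5, 0, 3, 4, 5, 0, 3, 4],
  Cert.mk 2 0 [] [4, 5, 0, 3, 4, 5, 0, 3, 4, 5, 0, 3, 4, 5, 0, 3, 4, 5, 0, 3],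
  Cert.mk 2 0 [] [7, 2, 4, 5, 4, 5, 4, 5, 4, 5],
  Cert.mk 2 0 [] [5, 4, 2, 7, 5, 4, 5, 4, 5, 4],
  Cert.mk 2 0 [] [5, 4, 5, 4, 5, 4, 5, 4, 2, 7],
  Cert.mk 2 0 [] [5, 4, 5, 4, 5, 4, 5, 4, 5, 4, 5, 4, 5, 4, 5, 4],
  Cert.mk 2 0 [] [4, 5, 4, 2, 7, 5, 4, 5, 4, 5],
  Cert.mk 2 0 [] [2, 7, 5, 4, 5, 4, 5, 4, 5, 4],
  Cert.mk 2 0 [] [5, 4, 5, 4, 5, 7, 2, 4, 5, 4],
  Cert.mk 2 0 [] [4, 2, 7, 5, 4, 5, 4, 5, 4, 5],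
  Cert.mk 2 0 [] [5, 4, 5, 4, 2, 7, 5, 4, 5, 4],
  Cert.mk 2 0 [] [5, 4, 5, 4, 5, 4, 5, 7, 2, 4],
  Cert.mk 2 0 [] [5, 4, 5, 4, 5, 4, 2, 7, 5, 4],
  Cert.mk 2 0 [] [4, 5, 4, 5, 4, 5, 4, 5, 4, 5, 4, 5, 4, 5, 4, 5],
  Cert.mk 2 0 [] [4, 5, 4, 5, 4, 2, 7, 5, 4, 5],
  Cert.mk 2 0 [] [7, 5, 4, 5, 4, 5, 4, 5, 4, 2]]
def certs17 : List Cert := [Cert.mk 2 0 [] [3, 1, 5, 4, 3, 1, 5, 4, 3, 1, 5, 4, 3, 1, 5, 4, 3, 1, 5, 4],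
  Cert.mk 2 0 [] [2, 4, 5, 4, 5, 4, 5, 4, 5, 7],
  Cert.mk 2 0 [] [4, 5, 7, 2, 4, 5, 4, 5, 4, 5],
  Cert.mk 2 0 [] [4, 5, 4, 5, 7, 2, 4, 5, 4, 5],
  Cert.mk 0 4 [] [5, 4, 5, 4, 5, 7, 2, 4, 5],
  Cert.mk 2 0 [] [5, 7, 2, 4, 5, 4, 5, 4, 5, 4],
  Cert.mk 0 5 [] [4, 5, 4, 5, 7, 2, 4, 5, 4],
  Cert.mk 2 0 [] [4, 5, 4, 5, 4, 5, 7, 2, 4, 5]]
def certs : List Cert := certs0 ++ certs1 ++ certs2 ++ certs3 ++ certs4 ++ certs5 ++ certs6 ++ certs7 ++ certs8 ++ certs9 ++ certs10 ++ certs11 ++ certs12 ++ certs13 ++ certs14 ++ certs15 ++ certs16 ++ certs17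
def hints : List (Nat × Nat) := [(0, 0), (1, 0), (2, 0), (3, 0), (16, 1), (4, 0), (44, 1), (37, 1), (46, 0), (15, 1), (51, 0), (47, 0), (48, 0), (49, 0), (50, 0), (8, 1), (1, 0), (11, 1), (2, 0), (13, 1), (3, 0), (44, 0), (6, 0), (7, 0), (18, 0), (17, 5), (10, 0), (17, 0), (15, 3), (0, 1), (4, 1), (15, 2), (37, 0), (11, 0), (4, 0), (14, 0), (5, 1), (8, 0), (2, 1), (6, 1), (20, 2), (18, 1), (18, 5), (20, 7), (42, 0), (20, 5), (1, 1), (21, 7), (12, 1), (21, 10), (43, 5), (43, 8), (17, 1), (13, 0), (42, 1), (43, 1), (2, 0), (13, 1), (20, 3), (20, 8), (42, 0), (44, 1), (46, 0), (47, 0), (48, 0), (50, 0), (51, 0), (5, 0), (20, 4), (44, 0), (49, 0), (0, 1), (3, 1), (42, 4), (0, 0), (18, 3), (17, 7), (15, 0), (0, 0), (3, 1), (18, 8), (42, 5),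 (42, 4), (20, 6), (18, 2), (17, 3), (17, 8), (21, 5), (21, 7), (8, 1), (2, 1), (15, 3), (17, 2), (43, 3), (7, 1), (43, 2), (10, 1), (21, 0), (1, 0), (3, 0), (14, 0), (7, 0), (12, 0), (14, 1), (18, 7), (18, 4), (18, 3), (18, 6), (43, 4), (17, 4), (20, 1), (16, 4), (42, 6), (20, 4), (42, 6), (16, 3), (1, 1), (37, 2), (20, 6), (6, 1), (17, 6), (13, 0), (21, 2), (9, 1), (43, 6), (42, 7), (43, 7), (43, 2), (6, 0), (17, 7), (16, 8), (16, 3), (8, 0), (7, 1), (17, 9), (17, 0), (20, 7), (42, 8), (18, 0), (43, 8), (43, 5), (10, 1), (42, 8), (37, 0), (17, 8), (21, 9), (20, 1), (21, 3), (37, 3), (43, 0), (21, 1), (16, 9), (21, 4), (21, 2), (17, 2), (43, 7), (43, 6), (20, 9), (21, 6), (41, 2), (17, 1), (18, 9), (20, 10), (38, 7), (19, 3), (41, 1), (42,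 10), (19, 0), (16, 5), (21, 0), (38, 9), (43, 10), (9, 0), (42, 2), (21, 6), (20, 10), (15, 0), (42, 3), (21, 8), (41, 3), (38, 1), (16, 0), (37, 2), (43, 0), (43, 1), (43, 10), (20, 0), (37, 1), (19, 1), (41, 0), (21, 8), (18, 7), (17, 9), (18, 4), (17, 5), (17, 6), (11, 0), (20, 3), (18, 9), (18, 8), (38, 8), (42, 2), (11, 1), (4, 1), (42, 5), (18, 1), (21, 10), (43, 3), (15, 2), (18, 5), (42, 10), (42, 9), (20, 0), (20, 8), (42, 1), (21, 1), (42, 7), (21, 9), (16, 6), (20, 5), (20, 2), (5, 0), (16, 2), (20, 9), (37, 3), (17, 3), (17, 4), (18, 2), (21, 5), (10, 0), (14, 1), (21, 4), (15, 1), (43, 4), (21, 3), (42, 9), (42, 3), (5, 1), (19, 2), (4, 0), (38, 0), (19, 0), (12, 1), (16, 7), (41, 1), (43, 9), (19, 3), (38, 0), (43, 9), (12,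 0), (18, 6), (41, 0), (38, 6), (38, 4), (38, 5), (41, 2), (19, 2), (19, 1), (38, 8), (16, 8), (16, 2), (9, 1), (16, 7), (16, 0), (38, 3), (16, 9), (16, 6), (38, 1), (16, 4), (9, 0), (16, 5), (16, 1), (41, 3), (38, 9), (38, 6), (38, 4), (38, 2), (38, 7), (38, 3), (38, 2)]
def relW : List (List Nat) := [[2, 3, 2, 3, 2, 3],
  [2, 4, 2, 4],
  [2, 5, 2, 5],
  [2, 6, 2, 6],
  [2, 7, 2, 7],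
  [3, 4, 3, 4, 3, 4],
  [3, 5, 3, 5],
  [3, 6, 3, 6],
  [3, 7, 3, 7],
  [4, 5, 4, 5, 4, 5, 4, 5, 4, 5, 4, 5, 4, 5, 4, 5],
  [4, 6, 4, 6],
  [4, 7, 4, 7],
  [5, 6, 5, 6, 5, 6],
  [5, 7, 5, 7],
  [6, 7, 6, 7, 6, 7],
  [2, 7, 1, 1],
  [2, 7, 5, 4, 5, 4, 5, 4, 5, 4],
  [4, 1, 5, 1, 5, 4, 5, 0, 5, 0],
  [5, 1, 4, 1, 4, 5, 4, 0, 4, 0],
  [3, 4, 5, 0, 3, 4, 5, 0, 3, 4, 5, 0, 3, 4, 5, 0, 3, 4, 5, 0],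
  [0, 3, 4, 0, 4, 3, 0, 3, 4, 0, 4],
  [0, 6, 5, 0, 5, 6, 0, 6, 5, 0, 5]]
def sgW : List (List Nat) := [[2],
  [3],
  [4],
  [5],
  [6],
  [7]]
def invL : List Nat := [1, 0, 2, 3, 4, 5, 6, 7]
def nL : Nat := 8
def nN : Nat := 228697
def nF : Nat := 4
def nAlive : Nat := 122760
def nD : Nat := 18
def nB : Nat := 2097151
/-- the per-name check -/
def chkName (v : Nat) : Bool :=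
  andK (nameOK tgt sig crt hnt dsig mu dcrt dst par plet certs 4 8 v) (finOK tgt sig hnt dsig mu 4 8 228697 v)

end Cfsg.Agent.Lib.Helper28.T1692UT
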