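import Cfsg.Agent.Lib.Helper28.TCMain
import Cfsg.Agent.Lib.Helper28.PresON
import Cfsg.Agent.Lib.Helper28.T1692UC0
import Cfsg.Agent.Lib.Helper28.T1692UC1
import Cfsg.Agent.Lib.Helper28.T1692UC2
import Cfsg.Agent.Lib.Helper28.T1692UC3
import Cfsg.Agent.Lib.Helper28.T1692UC4
import Cfsg.Agent.Lib.Helper28.T1692UC5
import Cfsg.Agent.Lib.Helper28.T1692UC6
import Cfsg.Agent.Lib.Helper28.T1692UC7
import Cfsg.Agent.Lib.Helper28.T1692UC8
import Cfsg.Agent.Lib.Helper28.T1692UC9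
import Cfsg.Agent.Lib.Helper28.T1692UC10
import Cfsg.Agent.Lib.Helper28.T1692UC11
import Cfsg.Agent.Lib.Helper28.T1692UC12
import Cfsg.Agent.Lib.Helper28.T1692UC13
import Cfsg.Agent.Lib.Helper28.T1692UC14
import Cfsg.Agent.Lib.Helper28.T1692UC15
import Cfsg.Agent.Lib.Helper28.T1692UC16
import Cfsg.Agent.Lib.Helper28.T1692UC17
import Cfsg.Agent.Lib.Helper28.T1692UC18
import Cfsg.Agent.Lib.Helper28.T1692UC19
import Cfsg.Agent.Lib.Helper28.T1692UC20
import Cfsg.Agent.Lib.Helper28.T1692UC21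
import Cfsg.Agent.Lib.Helper28.T1692UC22
import Cfsg.Agent.Lib.Helper28.T1692UC23
import Cfsg.Agent.Lib.Helper28.T1692UC24
import Cfsg.Agent.Lib.Helper28.T1692UC25
import Cfsg.Agent.Lib.Helper28.T1692UC26
import Cfsg.Agent.Lib.Helper28.T1692UC27
import Cfsg.Agent.Lib.Helper28.T1692UC28
import Cfsg.Agent.Lib.Helper28.T1692UC29
import Cfsg.Agent.Lib.Helper28.T1692UC30
import Cfsg.Agent.Lib.Helper28.T1692UC31
import Cfsg.Agent.Lib.Helper28.T1692LC0
import Cfsg.Agent.Lib.Helper28.T1692LC1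
import Cfsg.Agent.Lib.Helper28.T1692LC2
import Cfsg.Agent.Lib.Helper28.T1692LC3
import Cfsg.Agent.Lib.Helper28.T1692LC4
import Cfsg.Agent.Lib.Helper28.T1692LC5
import Cfsg.Agent.Lib.Helper28.T1692LC6
import Cfsg.Agent.Lib.Helper28.T1692LC7
import Cfsg.Agent.Lib.Helper28.T1692LC8
import Cfsg.Agent.Lib.Helper28.T1692LC9
import Cfsg.Agent.Lib.Helper28.T1692LC10
import Cfsg.Agent.Lib.Helper28.T1692LC11
import Cfsg.Agent.Lib.Helper28.T1692LC12
import Cfsg.Agent.Lib.Helper28.T1692LC13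
import Cfsg.Agent.Lib.Helper28.T1692LC14
import Cfsg.Agent.Lib.Helper28.T1692LC15
import Cfsg.Agent.Lib.Helper28.T1692LC16
import Cfsg.Agent.Lib.Helper28.T1692LC17
import Cfsg.Agent.Lib.Helper28.T1692LC18
import Cfsg.Agent.Lib.Helper28.T1692LC19
import Cfsg.Agent.Lib.Helper28.T1692LC20
import Cfsg.Agent.Lib.Helper28.T1692LC21
import Cfsg.Agent.Lib.Helper28.T1692LC22
import Cfsg.Agent.Lib.Helper28.T1692LC23
import Cfsg.Agent.Lib.Helper28.T1692LC24
import Cfsg.Agent.Lib.Helper28.T1692LC25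
import Cfsg.Agent.Lib.Helper28.T1692LC26
import Cfsg.Agent.Lib.Helper28.T1692LC27
import Cfsg.Agent.Lib.Helper28.T1692LC28
import Cfsg.Agent.Lib.Helper28.T1692LC29
import Cfsg.Agent.Lib.Helper28.T1692LC30
import Cfsg.Agent.Lib.Helper28.T1692LC31

set_option autoImplicit false

namespace Cfsg.Agent.Lib.Helper28.T1692X

open Cfsg.Spor Cfsg.Agent.Lib.Helper28.TCKernel Cfsg.Agent.Lib.Helper28.TCSound Cfsg.Agent.Lib.Helper28.TCPerm Cfsg.Agent.Lib.Helper28.TCPres Cfsg.Agent.Lib.Helper28.TCMain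

/-- the subgroup generators -/
def sgSrc : List (FreeGroup ON.Gen) := [ON.a, ON.b, ON.c, ON.d, ON.e, ON.f]

theorem chunkU : ∀ k, k < 32 → allTree T1692UT.chkName 13 (k * 2 ^ 13) = true
  | 0, _ => T1692UC0.chk
  | 1, _ => T1692UC1.chk
  | 2, _ => T1692UC2.chk
  | 3, _ => T1692UC3.chk
  | 4, _ => T1692UC4.chk
  | 5, _ => T1692UC5.chk
  | 6, _ => T1692UC6.chk
  | 7, _ => T1692UC7.chk
  | 8, _ => T1692UC8.chk
  | 9, _ => T1692UC9.chk
  | 10, _ => T1692UC10.chk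
  | 11, _ => T1692UC11.chk
  | 12, _ => T1692UC12.chk
  | 13, _ => T1692UC13.chk
  | 14, _ => T1692UC14.chk
  | 15, _ => T1692UC15.chk
  | 16, _ => T1692UC16.chk
  | 17, _ => T1692UC17.chk
  | 18, _ => T1692UC18.chk
  | 19, _ => T1692UC19.chk
  | 20, _ => T1692UC20.chk
  | 21, _ => T1692UC21.chk
  | 22, _ => T1692UC22.chk
  | 23, _ => T1692UC23.chk
  | 24, _ => T1692UC24.chk
  | 25, _ => T1692UC25.chk
  | 26, _ => T1692UC26.chk
  | 27, _ => T1692UC27.chk
  | 28, _ => T1692UC28.chk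
  | 29, _ => T1692UC29.chk
  | 30, _ => T1692UC30.chk
  | 31, _ => T1692UC31.chk
  | (k + 32), h => absurd h (by omega)

theorem chkU (v : Nat) : T1692UT.chkName v = true := by
  rcases Nat.lt_or_ge v (2 ^ 18) with h | h
  · exact allTree_chunks T1692UT.chkName 13 32 chunkU v h
  · exact chk_of_zero _ _ _ _ _ _ _ _ _ _ _ _ _ _ v
      (fun y => fld3_eq_zero _ _ _ _ _ _ _ _ y v 56 (by decide)
        (le_trans (by decide : 56 * 2 ^ (7 + 5) ≤ 2 ^ 18) h))
      (fld1_eq_zero _ _ _ _ _ _ _ _ v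
        (le_trans (by decide : T1692UT.dtop.length * 2 ^ (7 + 5) ≤ 2 ^ 18) h))
      (le_trans (by decide : 228697 ≤ 2 ^ 18) h)

theorem chunkL : ∀ k, k < 32 → allTree T1692LT.chkPoint 12 (k * 2 ^ 12) = true
  | 0, _ => T1692LC0.chk
  | 1, _ => T1692LC1.chk
  | 2, _ => T1692LC2.chk
  | 3, _ => T1692LC3.chk
  | 4, _ => T1692LC4.chk
  | 5, _ => T1692LC5.chk
  | 6, _ => T1692LC6.chk
  | 7, _ => T1692LC7.chk
  | 8, _ => T1692LC8.chk
  | 9, _ => T1692LC9.chk
  | 10, _ => T1692LC10.chk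
  | 11, _ => T1692LC11.chk
  | 12, _ => T1692LC12.chk
  | 13, _ => T1692LC13.chk
  | 14, _ => T1692LC14.chk
  | 15, _ => T1692LC15.chk
  | 16, _ => T1692LC16.chk
  | 17, _ => T1692LC17.chk
  | 18, _ => T1692LC18.chk
  | 19, _ => T1692LC19.chk
  | 20, _ => T1692LC20.chk
  | 21, _ => T1692LC21.chk
  | 22, _ => T1692LC22.chk
  | 23, _ => T1692LC23.chk
  | 24, _ => T1692LC24.chk
  | 25, _ => T1692LC25.chk
  | 26, _ => T1692LC26.chk
  | 27, _ => T1692LC27.chk
  | 28, _ => T1692LC28.chk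
  | 29, _ => T1692LC29.chk
  | 30, _ => T1692LC30.chk
  | 31, _ => T1692LC31.chk
  | (k + 32), h => absurd h (by omega)

theorem chkL (a : Nat) (ha : a < 122760) : T1692LT.chkPoint a = true :=
  allTree_chunks T1692LT.chkPoint 12 32 chunkL a (lt_of_lt_of_le ha (by decide))

theorem permOK : PermChecks 122760 T1692LT.tp PresON.inv T1692LT.pa T1692LT.pl PresON.relW T1692LT.sgW T1692LT.tw 12
    T1692LT.roots 8 where
  point := fun a ha => chkL a ha
  invL := by decide +kernel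
  wsL := by decide +kernel
  sgL := by decide +kernel
  twL := by decide +kernel
  root1 := by decide +kernel
  rootpos := by decide +kernel

/-- index and orbit structure of the subgroup -/
theorem final :
    ((Subgroup.closure {s | s ∈ sgSrc}).map (PresentedGroup.mk (coxRelators ON.edges ∪ {r | r ∈ ON.extra}))).index = 122760 ∧
    ∃ ψ : (PresentedGroup (coxRelators ON.edges ∪ {r | r ∈ ON.extra})) ⧸ ((Subgroup.closure {s | s ∈ sgSrc}).map (PresentedGroup.mk (coxRelators ON.edges ∪ {r | r ∈ ON.extra}))) → Fin 122760,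
      Function.Injective ψ ∧
      ∀ r, r < 122760 → (∀ r' ∈ (0 :: T1692LT.roots), clsOf T1692LT.roots r' = clsOf T1692LT.roots r → r' = r) →
        ∃ q, ψ '' (MulAction.orbit ((Subgroup.closure {s | s ∈ sgSrc}).map (PresentedGroup.mk (coxRelators ON.edges ∪ {r | r ∈ ON.extra}))) q) = {b : Fin 122760 | clsOf T1692LT.roots b.1 = clsOf T1692LT.roots r} :=
  main PresON.ok {s | s ∈ sgSrc} sgSrc rfl T1692LT.sgW (by decide +kernel)
    228697 122760 18 4 2097151 T1692UT.tgt T1692UT.sig T1692UT.crt T1692UT.hnt T1692UT.dsig T1692UT.mu T1692UT.dcrt T1692UT.dst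
    T1692UT.par T1692UT.plet T1692UT.certs T1692UT.hints (by decide +kernel)
    (fun y v => fld3_le _ _ _ _ _ _ _ _ y v) (fun v => fld1_le _ _ _ _ _ _ _ _ v) chkU
    (by decide +kernel) (by decide) T1692UC0.cnt
    T1692LT.tp T1692LT.pa T1692LT.pl T1692LT.tw 12 T1692LT.roots permOK (by decide) (by decide +kernel)

end Cfsg.Agent.Lib.Helper28.T1692X
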