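import Mathlib
import Cfsg.Agent.Lib.Helper14.TC3Stmt

set_option autoImplicit false

universe u

namespace Cfsg.Agent.Lib.Helper28.TC3CHIEFP

/-- a nontrivial normal subgroup of a finite `p`-group contains a central element of order `p` -/
theorem exists_central_order_p {Q : Type u} [Group Q] [Finite Q] {p : ℕ} [hp : Fact p.Prime]
    (hQ : IsPGroup p Q) (N : Subgroup Q) [hN : N.Normal] (hN1 : N ≠ ⊥) :
    ∃ w ∈ N, w ∈ Subgroup.center Q ∧ orderOf w = p := by
  classical
  have hNp : IsPGroup p N := hQ.to_subgroup N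
  have hnt : Nontrivial N := (Subgroup.nontrivial_iff_ne_bot N).2 hN1
  have dvd : p ∣ Nat.card N := by
    obtain ⟨n, hn0, hn⟩ := hNp.nontrivial_iff_card.mp hnt
    exact hn.symm ▸ dvd_pow_self _ (ne_of_gt hn0)
  have h1 : (1 : N) ∈ MulAction.fixedPoints (ConjAct Q) N := by
    intro g
    exact smul_one g
  obtain ⟨b, hb, hb1⟩ := (hQ.of_equiv ConjAct.toConjAct).exists_fixed_point_of_prime_dvd_card_of_fixed_point
    N dvd h1
  have hbc : (b : Q) ∈ Subgroup.center Q := by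
    rw [Subgroup.mem_center_iff]
    intro g
    have h2 := congrArg Subtype.val (hb (ConjAct.toConjAct g))
    rw [ConjAct.Subgroup.val_conj_smul, ConjAct.smul_def, ConjAct.ofConjAct_toConjAct] at h2
    calc g * (b : Q) = (g * b * g⁻¹) * g := by group
      _ = b * g := by rw [h2]
  have hCne : Nontrivial (N ⊓ Subgroup.center Q : Subgroup Q) := by
    rw [Subgroup.nontrivial_iff_ne_bot]
    intro h
    have hmem : (b : Q) ∈ (N ⊓ Subgroup.center Q : Subgroup Q) := ⟨b.2, hbc⟩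
    rw [h, Subgroup.mem_bot] at hmem
    exact hb1 (Subtype.ext hmem.symm)
  have hCp : IsPGroup p (N ⊓ Subgroup.center Q : Subgroup Q) := hQ.to_subgroup _
  have dvdC : p ∣ Nat.card (N ⊓ Subgroup.center Q : Subgroup Q) := by
    obtain ⟨n, hn0, hn⟩ := hCp.nontrivial_iff_card.mp hCne
    exact hn.symm ▸ dvd_pow_self _ (ne_of_gt hn0)
  obtain ⟨x, hx⟩ := exists_prime_orderOf_dvd_card' p dvdC
  exact ⟨x, x.2.1, x.2.2, by rw [Subgroup.orderOf_coe]; exact hx⟩

theorem main : Cfsg.Agent.Lib.Helper14.TC3Stmt.ChiefP.{u} := by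
  intro G _ _ A p hA hp hAidx H K L hAL hLK hKH hKn hLn hmin
  classical
  have : Fact p.Prime := ⟨hp⟩
  obtain ⟨k, hk⟩ := hAidx
  have hLH : L ≤ H := hLK.le.trans hKH
  have hL'n : (L.subgroupOf H).Normal := ⟨fun l hl h => by
    rw [Subgroup.mem_subgroupOf] at hl ⊢
    simpa using hLn h h.2 l hl⟩
  have hK'n : (K.subgroupOf H).Normal := ⟨fun x hx h => by
    rw [Subgroup.mem_subgroupOf] at hx ⊢
    simpa using hKn h h.2 x hx⟩
  have hcardQ : Nat.card (↥H ⧸ L.subgroupOf H) = L.relIndex H := rfl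
  have hdvd : L.relIndex H ∣ p ^ k := by
    rw [← hk]
    exact (Subgroup.relIndex_dvd_of_le_left H hAL).trans (Subgroup.relIndex_dvd_index_of_normal A H)
  obtain ⟨j, -, hj⟩ := (Nat.dvd_prime_pow hp).1 hdvd
  have hQ : IsPGroup p (↥H ⧸ L.subgroupOf H) := IsPGroup.of_card (hcardQ.trans hj)
  have hπs : Function.Surjective (QuotientGroup.mk' (L.subgroupOf H)) :=
    QuotientGroup.mk'_surjective _
  have hKbar_n : ((K.subgroupOf H).map (QuotientGroup.mk' (L.subgroupOf H))).Normal :=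
    hK'n.map _ hπs
  obtain ⟨x, hxK, hxL⟩ := SetLike.exists_of_lt hLK
  have hKbar_ne : (K.subgroupOf H).map (QuotientGroup.mk' (L.subgroupOf H)) ≠ ⊥ := by
    intro h
    have hmem : QuotientGroup.mk' (L.subgroupOf H) ⟨x, hKH hxK⟩ ∈
        (K.subgroupOf H).map (QuotientGroup.mk' (L.subgroupOf H)) :=
      Subgroup.mem_map_of_mem _ (by rw [Subgroup.mem_subgroupOf]; exact hxK)
    rw [h, Subgroup.mem_bot] at hmem
    have h2 := (QuotientGroup.eq_one_iff (⟨x, hKH hxK⟩ : H)).1 hmem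
    rw [Subgroup.mem_subgroupOf] at h2
    exact hxL h2
  obtain ⟨w, hwK, hwc, hwo⟩ := exists_central_order_p hQ
    ((K.subgroupOf H).map (QuotientGroup.mk' (L.subgroupOf H))) hKbar_ne
  have hMbar_n : (Subgroup.zpowers w).Normal := by
    constructor
    intro z hz g
    obtain ⟨i, rfl⟩ := Subgroup.mem_zpowers_iff.1 hz
    have hc : Commute g (w ^ i) := Commute.zpow_right (Subgroup.mem_center_iff.1 hwc g) i
    have e : g * w ^ i * g⁻¹ = w ^ i := by rw [hc.eq, mul_inv_cancel_right]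
    rw [e]; exact hz
  obtain ⟨M, hM_mem⟩ : ∃ M : Subgroup G, ∀ y : G, y ∈ M ↔
      ∃ hy : y ∈ H, QuotientGroup.mk' (L.subgroupOf H) ⟨y, hy⟩ ∈ Subgroup.zpowers w := by
    refine ⟨((Subgroup.zpowers w).comap (QuotientGroup.mk' (L.subgroupOf H))).map H.subtype, ?_⟩
    intro y
    constructor
    · rintro ⟨y', hy', rfl⟩
      exact ⟨y'.2, hy'⟩
    · rintro ⟨hy, h⟩
      exact ⟨⟨y, hy⟩, h, rfl⟩
  have hLM : L ≤ M := by
    intro l hl
    rw [hM_mem]
    refine ⟨hLH hl, ?_⟩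
    have e : QuotientGroup.mk' (L.subgroupOf H) ⟨l, hLH hl⟩ = 1 :=
      (QuotientGroup.eq_one_iff _).2 (by rw [Subgroup.mem_subgroupOf]; exact hl)
    rw [e]; exact one_mem _
  have hMK : M ≤ K := by
    intro y hy
    rw [hM_mem] at hy
    obtain ⟨hyH, hy⟩ := hy
    have h1 : QuotientGroup.mk' (L.subgroupOf H) ⟨y, hyH⟩ ∈
        (K.subgroupOf H).map (QuotientGroup.mk' (L.subgroupOf H)) :=
      (Subgroup.zpowers_le.2 hwK) hy
    obtain ⟨k', hk', hk'e⟩ := h1
    have h2 : k'⁻¹ * ⟨y, hyH⟩ ∈ L.subgroupOf H := QuotientGroup.eq.1 hk'e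
    rw [Subgroup.mem_subgroupOf] at h2
    have hk'' : (k' : G) ∈ K := by
      have := hk'
      rw [SetLike.mem_coe, Subgroup.mem_subgroupOf] at this
      exact this
    have h3 : (k' : G)⁻¹ * y ∈ K := hLK.le (by simpa using h2)
    have e : y = (k' : G) * ((k' : G)⁻¹ * y) := by group
    rw [e]; exact K.mul_mem hk'' h3
  have hMinv : ∀ h ∈ H, ∀ m ∈ M, h * m * h⁻¹ ∈ M := by
    intro h hh m hm
    rw [hM_mem] at hm ⊢
    obtain ⟨hmH, hm⟩ := hm
    refine ⟨H.mul_mem (H.mul_mem hh hmH) (H.inv_mem hh), ?_⟩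
    have e : QuotientGroup.mk' (L.subgroupOf H) ⟨h * m * h⁻¹, H.mul_mem (H.mul_mem hh hmH) (H.inv_mem hh)⟩
        = QuotientGroup.mk' (L.subgroupOf H) ⟨h, hh⟩ * QuotientGroup.mk' (L.subgroupOf H) ⟨m, hmH⟩ *
          (QuotientGroup.mk' (L.subgroupOf H) ⟨h, hh⟩)⁻¹ := by
      rw [← map_inv, ← map_mul, ← map_mul]; rfl
    rw [e]
    exact hMbar_n.conj_mem _ hm _
  have hML : M ≠ L := by
    intro hML
    obtain ⟨y, hy⟩ := hπs w
    have hyM : (y : G) ∈ M := by
      rw [hM_mem]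
      refine ⟨y.2, ?_⟩
      have e : (⟨(y : G), y.2⟩ : H) = y := rfl
      rw [e, hy]; exact Subgroup.mem_zpowers w
    rw [hML] at hyM
    have e1 : QuotientGroup.mk' (L.subgroupOf H) y = 1 :=
      (QuotientGroup.eq_one_iff y).2 (by rw [Subgroup.mem_subgroupOf]; exact hyM)
    rw [hy] at e1
    rw [e1, orderOf_one] at hwo
    exact hp.one_lt.ne hwo
  have hMK' : M = K := (hmin M hLM hMK hMinv).resolve_left hML
  have hKbar : (K.subgroupOf H).map (QuotientGroup.mk' (L.subgroupOf H)) = Subgroup.zpowers w := by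
    apply le_antisymm
    · rintro _ ⟨k', hk', rfl⟩
      rw [SetLike.mem_coe, Subgroup.mem_subgroupOf, ← hMK', hM_mem] at hk'
      obtain ⟨_, h⟩ := hk'
      exact h
    · exact Subgroup.zpowers_le.2 hwK
  have hcardK : Nat.card ((K.subgroupOf H).map (QuotientGroup.mk' (L.subgroupOf H))) = p := by
    rw [hKbar, Nat.card_zpowers, hwo]
  have hidx : ((K.subgroupOf H).map (QuotientGroup.mk' (L.subgroupOf H))).index = K.relIndex H := by
    have h1 : ((K.subgroupOf H).map (QuotientGroup.mk' (L.subgroupOf H))).comap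
        (QuotientGroup.mk' (L.subgroupOf H)) = K.subgroupOf H := by
      rw [Subgroup.comap_map_eq, QuotientGroup.ker_mk', sup_eq_left]
      intro l hl
      rw [Subgroup.mem_subgroupOf] at hl ⊢
      exact hLK.le hl
    have h2 := Subgroup.index_comap_of_surjective
      ((K.subgroupOf H).map (QuotientGroup.mk' (L.subgroupOf H))) hπs
    rw [h1] at h2
    exact h2.symm
  have hlag := Subgroup.card_mul_index ((K.subgroupOf H).map (QuotientGroup.mk' (L.subgroupOf H)))
  rw [hcardK, hidx, hcardQ] at hlag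
  have hmul := Subgroup.relIndex_mul_relIndex L K H hLK.le hKH
  have hKH0 : K.relIndex H ≠ 0 := by
    intro h0
    rw [h0, mul_zero, hj] at hlag
    exact (pow_pos hp.pos j).ne hlag
  have hfin : L.relIndex K = p := by
    have e : L.relIndex K * K.relIndex H = p * K.relIndex H := by rw [hmul, hlag]
    exact Nat.eq_of_mul_eq_mul_right (Nat.pos_of_ne_zero hKH0) e
  rw [hfin]
  exact hp.not_isSquare

end Cfsg.Agent.Lib.Helper28.TC3CHIEFP
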