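import Mathlib

/-!
Kernel-friendly checker functions for coset-table certificates (Todd-Coxeter with proof
logging).  All functions are written with explicit recursors and raw `Nat` primitives so
that `decide +kernel` evaluates them quickly.
-/

set_option autoImplicit false

namespace Cfsg.Agent.Lib.Helper28.TCKernel

/-- conjunction that evaluates `b` only when `a` is `true`. -/
@[reducible] def andK (a b : Bool) : Bool := Bool.rec (motive := fun _ => Bool) false b a

theorem andK_eq (a b : Bool) : andK a b = (a && b) := by cases a <;> rfl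

theorem andK_true {a b : Bool} : andK a b = true ↔ a = true ∧ b = true := by
  cases a <;> cases b <;> simp [andK]

/-- `Bool.rec` as a conditional. -/
theorem brec_eq {α : Type} (f t : α) (b : Bool) :
    Bool.rec (motive := fun _ => α) f t b = cond b t f := by cases b <;> rfl

/-- n-th element of a list with default. -/
def nthD {α : Type} (d : α) (l : List α) : Nat → α :=
  List.rec (motive := fun _ => Nat → α) (fun _ => d)
    (fun h _ ih i => Nat.rec (motive := fun _ => α) h (fun i' _ => ih i') i) l

theorem nthD_nil {α : Type} (d : α) (i : Nat) : nthD d [] i = d := rfl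
theorem nthD_cons_zero {α : Type} (d h : α) (t : List α) : nthD d (h :: t) 0 = h := rfl
theorem nthD_cons_succ {α : Type} (d h : α) (t : List α) (i : Nat) :
    nthD d (h :: t) (i + 1) = nthD d t i := rfl

theorem nthD_of_length_le {α : Type} (d : α) (l : List α) (i : Nat) (h : l.length ≤ i) :
    nthD d l i = d := by
  induction l generalizing i with
  | nil => rfl
  | cons a t ih =>
    cases i with
    | zero => simp at h
    | succ i => rw [nthD_cons_succ]; exact ih i (by simpa using h)

theorem nthD_mem {α : Type} (d : α) (l : List α) (i : Nat) (h : i < l.length) :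
    nthD d l i ∈ l := by
  induction l generalizing i with
  | nil => simp at h
  | cons a t ih =>
    cases i with
    | zero => rw [nthD_cons_zero]; exact List.mem_cons_self
    | succ i => rw [nthD_cons_succ]; exact List.mem_cons_of_mem _ (ih i (by simpa using h))

/-- evaluate `i` to a numeral first, then apply `f` (the kernel is much faster on numerals
than on unevaluated terms). -/
@[reducible] def strictNat {α : Type} (f : Nat → α) (i : Nat) : α :=
  Nat.rec (motive := fun _ => α) (f 0) (fun k _ => f k) (Nat.succ i)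

theorem strictNat_eq {α : Type} (f : Nat → α) (i : Nat) : strictNat f i = f i := rfl

/-- chunk number `c` of a two-level table made of groups of `2^g` chunks (`mg = 2^g - 1`). -/
def chunkAt (top : List (List Nat)) (g mg : Nat) (c : Nat) : Nat :=
  nthD 0 (nthD [] top (Nat.shiftRight c g)) (Nat.land c mg)

theorem chunkAt_eq_zero (top : List (List Nat)) (g mg c : Nat) (h : top.length * 2 ^ g ≤ c) :
    chunkAt top g mg c = 0 := by
  have h1 : top.length ≤ Nat.shiftRight c g := by
    show top.length ≤ c >>> g
    rw [Nat.shiftRight_eq_div_pow]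
    exact (Nat.le_div_iff_mul_le (by positivity)).mpr h
  unfold chunkAt
  rw [nthD_of_length_le [] top _ h1, nthD_nil]

/-- chunk number `c` of the table of the letter `y`. -/
def chunkAt3 (tops : List (List (List Nat))) (y g mg : Nat) (c : Nat) : Nat :=
  nthD 0 (nthD [] (nthD [] tops y) (Nat.shiftRight c g)) (Nat.land c mg)

theorem chunkAt3_eq (tops : List (List (List Nat))) (y g mg c : Nat) :
    chunkAt3 tops y g mg c = chunkAt (nthD [] tops y) g mg c := rfl

/-- all per-letter tables have at most `G` groups. -/
def topsLe (tops : List (List (List Nat))) (G : Nat) : Prop := ∀ t ∈ tops, t.length ≤ G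

instance (tops : List (List (List Nat))) (G : Nat) : Decidable (topsLe tops G) := by
  unfold topsLe; infer_instance

theorem chunkAt3_eq_zero (tops : List (List (List Nat))) (y g mg c G : Nat)
    (hG : topsLe tops G) (h : G * 2 ^ g ≤ c) : chunkAt3 tops y g mg c = 0 := by
  rw [chunkAt3_eq]
  apply chunkAt_eq_zero
  have h1 : (nthD [] tops y).length ≤ G := by
    by_cases hy : y < tops.length
    · exact hG _ (nthD_mem [] tops y hy)
    · rw [nthD_of_length_le [] tops y (by omega)]
      exact Nat.zero_le _
  exact le_trans (Nat.mul_le_mul_right _ h1) h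

/-- field at shift `0` of the entry `(y, v)` of per-letter packed tables: chunks of `2^s`
entries of width `W`, groups of `2^g` chunks (`mg = 2^g - 1`, `ms = 2^s - 1`), mask `m`. -/
def fld3z (tops : List (List (List Nat))) (s g mg ms W m : Nat) (y v : Nat) : Nat :=
  strictNat (fun c => Nat.land (Nat.shiftRight (chunkAt3 tops y g mg c)
    (Nat.mul (Nat.land v ms) W)) m) (Nat.shiftRight v s)

/-- field at shift `sh` of the entry `(y, v)` of per-letter packed tables. -/
def fld3 (tops : List (List (List Nat))) (s g mg ms W sh m : Nat) (y v : Nat) : Nat :=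
  strictNat (fun c => Nat.land (Nat.shiftRight (chunkAt3 tops y g mg c)
    (Nat.add (Nat.mul (Nat.land v ms) W) sh)) m) (Nat.shiftRight v s)

/-- field at shift `sh` of the entry `v` of a packed table. -/
def fld1 (top : List (List Nat)) (s g mg ms W sh m : Nat) (v : Nat) : Nat :=
  strictNat (fun c => Nat.land (Nat.shiftRight (chunkAt top g mg c)
    (Nat.add (Nat.mul (Nat.land v ms) W) sh)) m) (Nat.shiftRight v s)

theorem fld3z_le (tops : List (List (List Nat))) (s g mg ms W m y v : Nat) :
    fld3z tops s g mg ms W m y v ≤ m := by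
  unfold fld3z; rw [strictNat_eq]; exact Nat.and_le_right

theorem fld3_le (tops : List (List (List Nat))) (s g mg ms W sh m y v : Nat) :
    fld3 tops s g mg ms W sh m y v ≤ m := by
  unfold fld3; rw [strictNat_eq]; exact Nat.and_le_right

theorem fld1_le (top : List (List Nat)) (s g mg ms W sh m v : Nat) :
    fld1 top s g mg ms W sh m v ≤ m := by
  unfold fld1; rw [strictNat_eq]; exact Nat.and_le_right

theorem shiftRight_ge (G s g v : Nat) (h : G * 2 ^ (s + g) ≤ v) : G * 2 ^ g ≤ Nat.shiftRight v s := by
  show G * 2 ^ g ≤ v >>> s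
  rw [Nat.shiftRight_eq_div_pow]
  apply (Nat.le_div_iff_mul_le (by positivity)).mpr
  calc G * 2 ^ g * 2 ^ s = G * 2 ^ (s + g) := by rw [mul_assoc, ← pow_add, add_comm]
    _ ≤ v := h

theorem fld3z_eq_zero (tops : List (List (List Nat))) (s g mg ms W m y v G : Nat)
    (hG : topsLe tops G) (h : G * 2 ^ (s + g) ≤ v) : fld3z tops s g mg ms W m y v = 0 := by
  unfold fld3z
  rw [strictNat_eq, chunkAt3_eq_zero tops y g mg _ G hG (shiftRight_ge G s g v h)]
  show (0 >>> _) &&& m = 0
  simp

theorem fld3_eq_zero (tops : List (List (List Nat))) (s g mg ms W sh m y v G : Nat)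
    (hG : topsLe tops G) (h : G * 2 ^ (s + g) ≤ v) : fld3 tops s g mg ms W sh m y v = 0 := by
  unfold fld3
  rw [strictNat_eq, chunkAt3_eq_zero tops y g mg _ G hG (shiftRight_ge G s g v h)]
  show (0 >>> _) &&& m = 0
  simp

theorem fld1_eq_zero (top : List (List Nat)) (s g mg ms W sh m v : Nat)
    (h : top.length * 2 ^ (s + g) ≤ v) : fld1 top s g mg ms W sh m v = 0 := by
  unfold fld1
  rw [strictNat_eq, chunkAt_eq_zero top g mg _ (shiftRight_ge _ s g v h)]
  show (0 >>> _) &&& m = 0
  simp

/-- balanced conjunction over the range `[lo, lo + 2^d)`. -/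
def allTree (P : Nat → Bool) (d : Nat) : Nat → Bool :=
  Nat.rec (motive := fun _ => Nat → Bool) (fun lo => strictNat P lo)
    (fun d' ih lo => andK (ih lo) (strictNat ih (Nat.add lo (Nat.pow 2 d')))) d

theorem allTree_zero (P : Nat → Bool) (lo : Nat) : allTree P 0 lo = P lo := rfl
theorem allTree_succ (P : Nat → Bool) (d lo : Nat) :
    allTree P (d + 1) lo = (allTree P d lo && allTree P d (lo + 2 ^ d)) := by
  show andK _ _ = _
  rw [andK_eq]; rfl

theorem allTree_spec (P : Nat → Bool) (d lo : Nat) :
    allTree P d lo = true ↔ ∀ i, lo ≤ i → i < lo + 2 ^ d → P i = true := by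
  induction d generalizing lo with
  | zero =>
    rw [allTree_zero]
    constructor
    · intro h i h1 h2
      have : i = lo := by omega
      rw [this]; exact h
    · intro h; exact h lo le_rfl (by simp)
  | succ d ih =>
    rw [allTree_succ, Bool.and_eq_true, ih, ih]
    have hp : 2 ^ (d + 1) = 2 ^ d + 2 ^ d := by ring
    constructor
    · rintro ⟨h1, h2⟩ i hi1 hi2
      by_cases hc : i < lo + 2 ^ d
      · exact h1 i hi1 hc
      · exact h2 i (by omega) (by omega)
    · intro h
      exact ⟨fun i hi1 hi2 => h i hi1 (by omega), fun i hi1 hi2 => h i (by omega) (by omega)⟩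

/-- `K` chunks of size `2^d` cover `[0, K * 2^d)`. -/
theorem allTree_chunks (P : Nat → Bool) (d K : Nat)
    (h : ∀ k, k < K → allTree P d (k * 2 ^ d) = true) : ∀ i, i < K * 2 ^ d → P i = true := by
  intro i hi
  have hpos : 0 < 2 ^ d := by positivity
  have hk : i / 2 ^ d < K := (Nat.div_lt_iff_lt_mul hpos).mpr hi
  have h1 := (allTree_spec P d _).mp (h _ hk) i (Nat.div_mul_le_self i (2 ^ d))
  apply h1
  have := Nat.lt_div_mul_add hpos (a := i)
  omega

/-- conjunction over letters `y < L` (evaluated from `L-1` down to `0`). -/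
def allLt (f : Nat → Bool) (L : Nat) : Bool :=
  Nat.rec (motive := fun _ => Bool) true (fun y ih => andK (f y) ih) L

theorem allLt_spec (f : Nat → Bool) (L : Nat) : allLt f L = true ↔ ∀ y, y < L → f y = true := by
  induction L with
  | zero => simp [allLt]
  | succ n ih =>
    have : allLt f (n + 1) = (f n && allLt f n) := by
      show andK _ _ = _
      rw [andK_eq]; rfl
    rw [this, Bool.and_eq_true, ih]
    constructor
    · rintro ⟨h1, h2⟩ y hy
      by_cases hc : y = n
      · rw [hc]; exact h1
      · exact h2 y (by omega)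
    · intro h
      exact ⟨h n (by omega), fun y hy => h y (by omega)⟩

/-- balanced count over the range `[lo, lo + 2^d)`. -/
def cntTree (P : Nat → Bool) (d : Nat) : Nat → Nat :=
  Nat.rec (motive := fun _ => Nat → Nat)
    (fun lo => Bool.rec (motive := fun _ => Nat) 0 1 (strictNat P lo))
    (fun d' ih lo => Nat.add (ih lo) (strictNat ih (Nat.add lo (Nat.pow 2 d')))) d

theorem cntTree_zero (P : Nat → Bool) (lo : Nat) : cntTree P 0 lo = cond (P lo) 1 0 := by
  show Bool.rec (motive := fun _ => Nat) 0 1 (P lo) = _
  rw [brec_eq]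
theorem cntTree_succ (P : Nat → Bool) (d lo : Nat) :
    cntTree P (d + 1) lo = cntTree P d lo + cntTree P d (lo + 2 ^ d) := rfl

theorem cntTree_spec (P : Nat → Bool) (d lo : Nat) :
    cntTree P d lo = ((Finset.Ico lo (lo + 2 ^ d)).filter (fun i => P i = true)).card := by
  induction d generalizing lo with
  | zero =>
    rw [cntTree_zero]
    have : Finset.Ico lo (lo + 2 ^ 0) = {lo} := by
      ext i
      simp only [pow_zero, Finset.mem_Ico, Finset.mem_singleton]
      omega
    rw [this, Finset.filter_singleton]
    cases P lo <;> simp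
  | succ d ih =>
    rw [cntTree_succ, ih, ih]
    have hp : 2 ^ (d + 1) = 2 ^ d + 2 ^ d := by ring
    have hu : Finset.Ico lo (lo + 2 ^ (d + 1)) =
        Finset.Ico lo (lo + 2 ^ d) ∪ Finset.Ico (lo + 2 ^ d) (lo + 2 ^ d + 2 ^ d) := by
      rw [Finset.Ico_union_Ico_eq_Ico (Nat.le_add_right _ _) (Nat.le_add_right _ _)]
      congr 1
      omega
    rw [hu, Finset.filter_union, Finset.card_union_of_disjoint]
    apply Finset.disjoint_filter_filter
    exact Finset.Ico_disjoint_Ico_consecutive _ _ _

/-! ### certificates -/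

/-- A scan certificate: `kind` 0 relator with gap, 1 subgroup generator with gap,
2 full relator, 3 full subgroup generator. -/
structure Cert where
  kind : Nat
  gap : Nat
  pre : List Nat
  post : List Nat

/-- canonical name at reverse time `s` (`s1 = s + 1`): follow `mu` while the name died before. -/
def canonK (dsig mu : Nat → Nat) (s1 : Nat) (fuel : Nat) : Nat → Nat :=
  Nat.rec (motive := fun _ => Nat → Nat) (fun v => v)
    (fun _ ih v => Bool.rec (motive := fun _ => Nat) v (strictNat ih (mu v))
      (Nat.ble s1 (dsig v))) fuel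

theorem canonK_zero (dsig mu : Nat → Nat) (s1 v : Nat) : canonK dsig mu s1 0 v = v := rfl
theorem canonK_succ (dsig mu : Nat → Nat) (s1 fuel v : Nat) :
    canonK dsig mu s1 (fuel + 1) v =
      cond (Nat.ble s1 (dsig v)) (canonK dsig mu s1 fuel (mu v)) v := by
  show Bool.rec (motive := fun _ => Nat) v (canonK dsig mu s1 fuel (mu v)) (Nat.ble s1 (dsig v)) = _
  rw [brec_eq]

/-- canonical form of a target `t` with death-time hint `h` (an unverified accelerator:
when the hint says the target was alive, it is returned unchanged). -/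
def nxtK (dsig mu : Nat → Nat) (s1 F : Nat) (h t : Nat) : Nat :=
  Bool.rec (motive := fun _ => Nat) t (canonK dsig mu s1 F t) (Nat.ble s1 h)

theorem nxtK_eq (dsig mu : Nat → Nat) (s1 F h t : Nat) :
    nxtK dsig mu s1 F h t = cond (Nat.ble s1 h) (canonK dsig mu s1 F t) t := by
  show Bool.rec (motive := fun _ => Nat) t (canonK dsig mu s1 F t) (Nat.ble s1 h) = _
  rw [brec_eq]

/-- follow the word from a ready name; each step needs an entry assigned before (`sig ≥ s1`),
then canonicalises the target; the end must be `exp`. -/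
def scanGo (tgt sig hnt : Nat → Nat → Nat) (dsig mu : Nat → Nat) (F s1 exp : Nat) (w : List Nat) :
    Nat → Bool :=
  List.rec (motive := fun _ => Nat → Bool) (fun cur => Nat.beq cur exp)
    (fun y _ ih cur => andK (Nat.ble s1 (sig y cur))
      (strictNat (fun t => strictNat ih (nxtK dsig mu s1 F (hnt y cur) t)) (tgt y cur))) w

theorem scanGo_nil (tgt sig hnt : Nat → Nat → Nat) (dsig mu : Nat → Nat) (F s1 exp cur : Nat) :
    scanGo tgt sig hnt dsig mu F s1 exp [] cur = Nat.beq cur exp := rfl
theorem scanGo_cons (tgt sig hnt : Nat → Nat → Nat) (dsig mu : Nat → Nat) (F s1 exp y : Nat)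
    (w : List Nat) (cur : Nat) :
    scanGo tgt sig hnt dsig mu F s1 exp (y :: w) cur =
      (Nat.ble s1 (sig y cur) &&
        scanGo tgt sig hnt dsig mu F s1 exp w (nxtK dsig mu s1 F (hnt y cur) (tgt y cur))) := by
  show andK _ _ = _
  rw [andK_eq]; rfl

/-- scan from `start` (own entry first); the canonical end must be `exp`. -/
def scanOK (tgt sig hnt : Nat → Nat → Nat) (dsig mu : Nat → Nat) (F s1 : Nat) (w : List Nat)
    (start exp : Nat) : Bool :=
  List.rec (motive := fun _ => Bool) (Nat.beq (canonK dsig mu s1 F start) exp)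
    (fun _ _ _ => scanGo tgt sig hnt dsig mu F s1 exp w start) w

theorem scanOK_nil (tgt sig hnt : Nat → Nat → Nat) (dsig mu : Nat → Nat) (F s1 start exp : Nat) :
    scanOK tgt sig hnt dsig mu F s1 [] start exp = Nat.beq (canonK dsig mu s1 F start) exp := rfl
theorem scanOK_cons (tgt sig hnt : Nat → Nat → Nat) (dsig mu : Nat → Nat) (F s1 y : Nat)
    (w : List Nat) (start exp : Nat) :
    scanOK tgt sig hnt dsig mu F s1 (y :: w) start exp =
      scanGo tgt sig hnt dsig mu F s1 exp (y :: w) start := rfl

/-- default certificate (never valid). -/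
def cert0 : Cert := Cert.mk 9 0 [] []

/-- check of an entry `(y, v)` (target `t`, at reverse time `s1 - 1`) against the
certificate `c`. -/
def entryC (tgt sig hnt : Nat → Nat → Nat) (dsig mu : Nat → Nat) (F : Nat) (s1 y v t : Nat)
    (c : Cert) : Bool :=
  andK (Nat.beq c.gap y)
    (Nat.rec (motive := fun _ => Bool)
      (scanOK tgt sig hnt dsig mu F s1 c.post t v)
      (fun kk _ => Nat.rec (motive := fun _ => Bool)
        (andK (scanOK tgt sig hnt dsig mu F s1 c.pre 0 v)
          (scanOK tgt sig hnt dsig mu F s1 c.post t 0))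
        (fun _ _ => false) kk)
      c.kind)

theorem entryC_zero (tgt sig hnt : Nat → Nat → Nat) (dsig mu : Nat → Nat) (F s1 y v t : Nat)
    (c : Cert) (hk : c.kind = 0) :
    entryC tgt sig hnt dsig mu F s1 y v t c =
      (Nat.beq c.gap y && scanOK tgt sig hnt dsig mu F s1 c.post t v) := by
  unfold entryC
  rw [andK_eq, hk]
  rfl

theorem entryC_one (tgt sig hnt : Nat → Nat → Nat) (dsig mu : Nat → Nat) (F s1 y v t : Nat)
    (c : Cert) (hk : c.kind = 1) :
    entryC tgt sig hnt dsig mu F s1 y v t c =
      (Nat.beq c.gap y && (scanOK tgt sig hnt dsig mu F s1 c.pre 0 v &&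
        scanOK tgt sig hnt dsig mu F s1 c.post t 0)) := by
  unfold entryC
  rw [andK_eq, hk]
  show (_ && andK _ _) = _
  rw [andK_eq]

theorem entryC_ge_two (tgt sig hnt : Nat → Nat → Nat) (dsig mu : Nat → Nat) (F s1 y v t : Nat)
    (c : Cert) (k : Nat) (hk : c.kind = k + 2) :
    entryC tgt sig hnt dsig mu F s1 y v t c = false := by
  unfold entryC
  rw [andK_eq, hk]
  show (_ && false) = false
  simp

/-- check of the entry `(y, v)`. -/
def entryOK (tgt sig crt hnt : Nat → Nat → Nat) (dsig mu par plet : Nat → Nat) (certs : List Cert)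
    (F : Nat) (y v : Nat) : Bool :=
  Nat.rec (motive := fun _ => Bool) true
    (fun s _ => strictNat (fun t =>
      Nat.rec (motive := fun _ => Bool)
        (andK (Nat.beq (par t) v) (andK (Nat.beq (plet t) y) (Nat.ble (Nat.succ v) t)))
        (fun k _ => strictNat (fun s1 => entryC tgt sig hnt dsig mu F s1 y v t (nthD cert0 certs k))
          (Nat.succ (Nat.succ s)))
        (crt y v)) (tgt y v))
    (sig y v)

theorem entryOK_def (tgt sig crt hnt : Nat → Nat → Nat) (dsig mu par plet : Nat → Nat)
    (certs : List Cert) (F y v s : Nat) (hs : sig y v = s + 1) (hc : crt y v = 0) :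
    entryOK tgt sig crt hnt dsig mu par plet certs F y v =
      (Nat.beq (par (tgt y v)) v && (Nat.beq (plet (tgt y v)) y && Nat.ble (v + 1) (tgt y v))) := by
  unfold entryOK
  rw [hs]
  show Nat.rec (motive := fun _ => Bool) _ _ (crt y v) = _
  rw [hc]
  show andK _ (andK _ _) = _
  rw [andK_eq, andK_eq]

theorem entryOK_cert (tgt sig crt hnt : Nat → Nat → Nat) (dsig mu par plet : Nat → Nat)
    (certs : List Cert) (F y v s k : Nat) (hs : sig y v = s + 1) (hc : crt y v = k + 1) :
    entryOK tgt sig crt hnt dsig mu par plet certs F y v =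
      entryC tgt sig hnt dsig mu F (s + 2) y v (tgt y v) (nthD cert0 certs k) := by
  unfold entryOK
  rw [hs]
  show Nat.rec (motive := fun _ => Bool) _ _ (crt y v) = _
  rw [hc]

/-- check of a death record of `v` (at reverse time `s1 - 1`, scan start `st`, canonical start
`c0`, canonical merge target `cm`) against the certificate `c`. -/
def deathC (tgt sig hnt : Nat → Nat → Nat) (dsig mu : Nat → Nat) (F : Nat) (s1 v st c0 cm : Nat)
    (c : Cert) : Bool :=
  Nat.rec (motive := fun _ => Bool) false
    (fun k1 _ => Nat.rec (motive := fun _ => Bool) false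
      (fun k2 _ => Nat.rec (motive := fun _ => Bool)
        -- kind 2: full relator word from `st`
        (Bool.rec (motive := fun _ => Bool)
          (andK (Nat.beq c0 cm) (scanOK tgt sig hnt dsig mu F s1 c.post st v))
          (scanOK tgt sig hnt dsig mu F s1 c.post st cm)
          (Nat.beq c0 v))
        (fun k3 _ => Nat.rec (motive := fun _ => Bool)
          -- kind 3: subgroup generator split as pre ++ post
          (andK (scanOK tgt sig hnt dsig mu F s1 c.post st 0)
            (Bool.rec (motive := fun _ => Bool)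
              (andK (Nat.beq c0 cm) (scanOK tgt sig hnt dsig mu F s1 c.pre 0 v))
              (scanOK tgt sig hnt dsig mu F s1 c.pre 0 cm)
              (Nat.beq c0 v)))
          (fun _ _ => false) k3)
        k2)
      k1)
    c.kind

theorem deathC_two (tgt sig hnt : Nat → Nat → Nat) (dsig mu : Nat → Nat) (F s1 v st c0 cm : Nat)
    (c : Cert) (hk : c.kind = 2) :
    deathC tgt sig hnt dsig mu F s1 v st c0 cm c =
      cond (Nat.beq c0 v)
        (scanOK tgt sig hnt dsig mu F s1 c.post st cm)
        (Nat.beq c0 cm && scanOK tgt sig hnt dsig mu F s1 c.post st v) := by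
  unfold deathC
  rw [hk]
  show Bool.rec (motive := fun _ => Bool) (andK _ _) _ _ = _
  rw [brec_eq, andK_eq]

theorem deathC_three (tgt sig hnt : Nat → Nat → Nat) (dsig mu : Nat → Nat) (F s1 v st c0 cm : Nat)
    (c : Cert) (hk : c.kind = 3) :
    deathC tgt sig hnt dsig mu F s1 v st c0 cm c =
      (scanOK tgt sig hnt dsig mu F s1 c.post st 0 &&
        cond (Nat.beq c0 v)
          (scanOK tgt sig hnt dsig mu F s1 c.pre 0 cm)
          (Nat.beq c0 cm && scanOK tgt sig hnt dsig mu F s1 c.pre 0 v)) := by
  unfold deathC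
  rw [hk]
  show andK _ (Bool.rec (motive := fun _ => Bool) (andK _ _) _ _) = _
  rw [brec_eq, andK_eq, andK_eq]

theorem deathC_lt_two (tgt sig hnt : Nat → Nat → Nat) (dsig mu : Nat → Nat) (F s1 v st c0 cm : Nat)
    (c : Cert) (hk : c.kind < 2) :
    deathC tgt sig hnt dsig mu F s1 v st c0 cm c = false := by
  unfold deathC
  have : c.kind = 0 ∨ c.kind = 1 := by omega
  rcases this with h | h <;> rw [h] <;> rfl

theorem deathC_ge_four (tgt sig hnt : Nat → Nat → Nat) (dsig mu : Nat → Nat) (F s1 v st c0 cm : Nat)
    (c : Cert) (k : Nat) (hk : c.kind = k + 4) :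
    deathC tgt sig hnt dsig mu F s1 v st c0 cm c = false := by
  unfold deathC
  rw [hk]

/-- check of the death record of `v`. -/
def deathOK (tgt sig hnt : Nat → Nat → Nat) (dsig mu dcrt dst : Nat → Nat) (certs : List Cert)
    (F : Nat) (v : Nat) : Bool :=
  Nat.rec (motive := fun _ => Bool) true
    (fun s _ =>
      Nat.rec (motive := fun _ => Bool) false
        (fun k _ => strictNat (fun s1 => strictNat (fun st =>
          strictNat (fun c0 => strictNat (fun cm =>
            deathC tgt sig hnt dsig mu F s1 v st c0 cm (nthD cert0 certs k))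
            (canonK dsig mu s1 F (mu v))) (canonK dsig mu s1 F st)) (dst v))
          (Nat.succ (Nat.succ s)))
        (dcrt v))
    (dsig v)

theorem deathOK_succ (tgt sig hnt : Nat → Nat → Nat) (dsig mu dcrt dst : Nat → Nat)
    (certs : List Cert) (F v s k : Nat) (hs : dsig v = s + 1) (hc : dcrt v = k + 1) :
    deathOK tgt sig hnt dsig mu dcrt dst certs F v =
      deathC tgt sig hnt dsig mu F (s + 2) v (dst v) (canonK dsig mu (s + 2) F (dst v))
        (canonK dsig mu (s + 2) F (mu v)) (nthD cert0 certs k) := by
  unfold deathOK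
  rw [hs, hc]

theorem deathOK_zero (tgt sig hnt : Nat → Nat → Nat) (dsig mu dcrt dst : Nat → Nat)
    (certs : List Cert) (F v s : Nat) (hs : dsig v = s + 1) (hc : dcrt v = 0) :
    deathOK tgt sig hnt dsig mu dcrt dst certs F v = false := by
  unfold deathOK
  rw [hs, hc]
  rfl

theorem deathOK_of_zero (tgt sig hnt : Nat → Nat → Nat) (dsig mu dcrt dst : Nat → Nat)
    (certs : List Cert) (F v : Nat) (hs : dsig v = 0) :
    deathOK tgt sig hnt dsig mu dcrt dst certs F v = true := by
  unfold deathOK
  rw [hs]
  rfl

theorem entryOK_of_zero (tgt sig crt hnt : Nat → Nat → Nat) (dsig mu par plet : Nat → Nat)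
    (certs : List Cert) (F y v : Nat) (hs : sig y v = 0) :
    entryOK tgt sig crt hnt dsig mu par plet certs F y v = true := by
  unfold entryOK
  rw [hs]
  rfl

/-- all checks for the name `v`. -/
def nameOK (tgt sig crt hnt : Nat → Nat → Nat) (dsig mu dcrt dst par plet : Nat → Nat)
    (certs : List Cert) (F L : Nat) (v : Nat) : Bool :=
  andK (deathOK tgt sig hnt dsig mu dcrt dst certs F v)
    (allLt (fun y => entryOK tgt sig crt hnt dsig mu par plet certs F y v) L)

theorem nameOK_spec (tgt sig crt hnt : Nat → Nat → Nat) (dsig mu dcrt dst par plet : Nat → Nat)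
    (certs : List Cert) (F L v : Nat) :
    nameOK tgt sig crt hnt dsig mu dcrt dst par plet certs F L v = true ↔
      deathOK tgt sig hnt dsig mu dcrt dst certs F v = true ∧
      ∀ y, y < L → entryOK tgt sig crt hnt dsig mu par plet certs F y v = true := by
  unfold nameOK
  rw [andK_true, allLt_spec]

/-- closure check for the name `v`: if it is a real (`v < N`) alive name then all its entries
are assigned and lead to alive names below `N`. -/
def finOK (tgt sig hnt : Nat → Nat → Nat) (dsig mu : Nat → Nat) (F L N : Nat) (v : Nat) : Bool :=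
  Bool.rec (motive := fun _ => Bool) true
    (Nat.rec (motive := fun _ => Bool)
      (allLt (fun y =>
        andK (Nat.ble 1 (sig y v))
          (strictNat (fun t => strictNat (fun c =>
              andK (Nat.beq (dsig c) 0) (Nat.ble (Nat.succ c) N))
            (nxtK dsig mu 1 F (hnt y v) t)) (tgt y v))) L)
      (fun _ _ => true) (dsig v))
    (Nat.ble (Nat.succ v) N)

theorem finOK_spec (tgt sig hnt : Nat → Nat → Nat) (dsig mu : Nat → Nat) (F L N v : Nat)
    (h : finOK tgt sig hnt dsig mu F L N v = true) (hv : v < N) (hd : dsig v = 0) :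
    ∀ y, y < L → 1 ≤ sig y v ∧ dsig (nxtK dsig mu 1 F (hnt y v) (tgt y v)) = 0 ∧
      nxtK dsig mu 1 F (hnt y v) (tgt y v) < N := by
  unfold finOK at h
  have hb : Nat.ble (Nat.succ v) N = true := Nat.ble_eq_true_of_le hv
  rw [hb, hd] at h
  have h2 := (allLt_spec _ L).mp h
  intro y hy
  have h3 := h2 y hy
  rw [andK_true] at h3
  have h4 : andK (Nat.beq (dsig (nxtK dsig mu 1 F (hnt y v) (tgt y v))) 0)
      (Nat.ble (Nat.succ (nxtK dsig mu 1 F (hnt y v) (tgt y v))) N) = true := h3.2
  rw [andK_true] at h4
  exact ⟨Nat.le_of_ble_eq_true h3.1, Nat.eq_of_beq_eq_true h4.1, Nat.le_of_ble_eq_true h4.2⟩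

theorem finOK_of_ge (tgt sig hnt : Nat → Nat → Nat) (dsig mu : Nat → Nat) (F L N v : Nat)
    (hv : N ≤ v) : finOK tgt sig hnt dsig mu F L N v = true := by
  unfold finOK
  have : Nat.ble (Nat.succ v) N = false := by
    cases hb : Nat.ble (Nat.succ v) N
    · rfl
    · have h4 : v + 1 ≤ N := Nat.le_of_ble_eq_true hb
      omega
  rw [this]

/-- indicator of real alive names. -/
def aliveB (dsig : Nat → Nat) (N : Nat) (v : Nat) : Bool :=
  andK (Nat.ble (Nat.succ v) N) (Nat.beq (dsig v) 0)

theorem aliveB_spec (dsig : Nat → Nat) (N v : Nat) :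
    aliveB dsig N v = true ↔ v < N ∧ dsig v = 0 := by
  unfold aliveB
  rw [andK_true]
  constructor
  · rintro ⟨h1, h2⟩
    exact ⟨Nat.le_of_ble_eq_true h1, Nat.eq_of_beq_eq_true h2⟩
  · rintro ⟨h1, h2⟩
    exact ⟨Nat.ble_eq_true_of_le h1, by rw [h2]; rfl⟩

/-! ### permutation representation checks -/

/-- follow a word in the (complete) table. -/
def scanP (tp : Nat → Nat → Nat) (w : List Nat) : Nat → Nat :=
  List.rec (motive := fun _ => Nat → Nat) (fun cur => cur)
    (fun y _ ih cur => strictNat ih (tp y cur)) w

theorem scanP_nil (tp : Nat → Nat → Nat) (a : Nat) : scanP tp [] a = a := rfl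
theorem scanP_cons (tp : Nat → Nat → Nat) (y : Nat) (w : List Nat) (a : Nat) :
    scanP tp (y :: w) a = scanP tp w (tp y a) := rfl

/-- all words of the list fix `a`. -/
def relsAt (tp : Nat → Nat → Nat) (ws : List (List Nat)) (a : Nat) : Bool :=
  List.rec (motive := fun _ => Bool) true (fun w _ ih => andK (Nat.beq (scanP tp w a) a) ih) ws

theorem relsAt_spec (tp : Nat → Nat → Nat) (ws : List (List Nat)) (a : Nat) :
    relsAt tp ws a = true ↔ ∀ w ∈ ws, scanP tp w a = a := by
  induction ws with
  | nil => simp [relsAt]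
  | cons w t ih =>
    have : relsAt tp (w :: t) a = (Nat.beq (scanP tp w a) a && relsAt tp t a) := by
      show andK _ _ = _
      rw [andK_eq]; rfl
    rw [this, Bool.and_eq_true, ih]
    simp

/-- range and inverse check of the table at `a` for letters below `L`. -/
def permAt (tp : Nat → Nat → Nat) (inv : Nat → Nat) (L n : Nat) (a : Nat) : Bool :=
  allLt (fun y => strictNat (fun b => andK (Nat.ble (Nat.succ b) n)
    (strictNat (fun y' => Nat.beq (tp y' b) a) (inv y))) (tp y a)) L

theorem permAt_spec (tp : Nat → Nat → Nat) (inv : Nat → Nat) (L n a : Nat) :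
    permAt tp inv L n a = true ↔ ∀ y, y < L → tp y a < n ∧ tp (inv y) (tp y a) = a := by
  unfold permAt
  rw [allLt_spec]
  constructor
  · intro h y hy
    have h1 : andK (Nat.ble (Nat.succ (tp y a)) n) (Nat.beq (tp (inv y) (tp y a)) a) = true := h y hy
    rw [andK_true] at h1
    exact ⟨Nat.le_of_ble_eq_true h1.1, Nat.eq_of_beq_eq_true h1.2⟩
  · intro h y hy
    show andK (Nat.ble (Nat.succ (tp y a)) n) (Nat.beq (tp (inv y) (tp y a)) a) = true
    rw [andK_true]
    exact ⟨Nat.ble_eq_true_of_le (h y hy).1, by rw [(h y hy).2]; exact Nat.beq_refl a⟩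

/-- class of a point: the number of roots below or equal to it. -/
def clsOf (roots : List Nat) (a : Nat) : Nat :=
  List.rec (motive := fun _ => Nat) 0
    (fun r _ ih => Nat.add (Bool.rec (motive := fun _ => Nat) 0 1 (Nat.ble r a)) ih) roots

theorem clsOf_nil (a : Nat) : clsOf [] a = 0 := rfl
theorem clsOf_cons (r : Nat) (t : List Nat) (a : Nat) :
    clsOf (r :: t) a = (if r ≤ a then 1 else 0) + clsOf t a := by
  show Nat.add (Bool.rec (motive := fun _ => Nat) 0 1 (Nat.ble r a)) (clsOf t a) = _
  rw [brec_eq]
  by_cases h : r ≤ a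
  · rw [if_pos h, Nat.ble_eq_true_of_le h]; rfl
  · rw [if_neg h]
    have : Nat.ble r a = false := by
      cases hb : Nat.ble r a
      · rfl
      · exact absurd (Nat.le_of_ble_eq_true hb) h
    rw [this]; rfl

/-- membership test. -/
def memB (l : List Nat) (a : Nat) : Bool :=
  List.rec (motive := fun _ => Bool) false
    (fun r _ ih => Bool.rec (motive := fun _ => Bool) ih true (Nat.beq r a)) l

theorem memB_spec (l : List Nat) (a : Nat) : memB l a = true ↔ a ∈ l := by
  induction l with
  | nil => simp [memB]
  | cons r t ih =>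
    have : memB (r :: t) a = cond (Nat.beq r a) true (memB t a) := by
      show Bool.rec (motive := fun _ => Bool) (memB t a) true (Nat.beq r a) = _
      rw [brec_eq]
    rw [this, List.mem_cons]
    by_cases h : r = a
    · subst h
      simp
    · have hb : Nat.beq r a = false := by
        cases hb : Nat.beq r a
        · rfl
        · exact absurd (Nat.eq_of_beq_eq_true hb) h
      rw [hb]
      simp only [cond_false]
      rw [ih]
      constructor
      · intro h'; exact Or.inr h'
      · rintro (h' | h')
        · exact absurd h'.symm h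
        · exact h'

/-- all words of the list preserve the class of `a`. -/
def clsAt (tp : Nat → Nat → Nat) (roots : List Nat) (ws : List (List Nat)) (a : Nat) : Bool :=
  List.rec (motive := fun _ => Bool) true
    (fun w _ ih => andK (strictNat (fun b => Nat.beq (clsOf roots b) (clsOf roots a))
      (scanP tp w a)) ih) ws

theorem clsAt_spec (tp : Nat → Nat → Nat) (roots : List Nat) (ws : List (List Nat)) (a : Nat) :
    clsAt tp roots ws a = true ↔ ∀ w ∈ ws, clsOf roots (scanP tp w a) = clsOf roots a := by
  induction ws with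
  | nil => simp [clsAt]
  | cons w t ih =>
    have : clsAt tp roots (w :: t) a =
        (Nat.beq (clsOf roots (scanP tp w a)) (clsOf roots a) && clsAt tp roots t a) := by
      show andK _ _ = _
      rw [andK_eq]; rfl
    rw [this, Bool.and_eq_true, ih]
    simp

/-- tree check: `a ≠ 0` is reached from a smaller point by the word number `pl a` of `tw`;
words with number below `K` stay inside the class, the others are used at roots only. -/
def treeAt (tp : Nat → Nat → Nat) (pa pl : Nat → Nat) (tw : List (List Nat)) (K : Nat)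
    (roots : List Nat) (a : Nat) : Bool :=
  Nat.rec (motive := fun _ => Bool) true
    (fun _ _ => strictNat (fun p => strictNat (fun k => andK (Nat.ble (Nat.succ p) a)
      (andK (Nat.beq (scanP tp (nthD [] tw k) p) a)
        (Bool.rec (motive := fun _ => Bool) (memB roots a)
          (Nat.beq (clsOf roots p) (clsOf roots a)) (Nat.ble (Nat.succ k) K)))) (pl a)) (pa a)) a

theorem treeAt_spec (tp : Nat → Nat → Nat) (pa pl : Nat → Nat) (tw : List (List Nat)) (K : Nat)
    (roots : List Nat) (a : Nat) (ha : a ≠ 0)
    (h : treeAt tp pa pl tw K roots a = true) :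
    pa a < a ∧ scanP tp (nthD [] tw (pl a)) (pa a) = a ∧
      (pl a < K → clsOf roots (pa a) = clsOf roots a) ∧ (K ≤ pl a → a ∈ roots) := by
  cases a with
  | zero => exact absurd rfl ha
  | succ b =>
  have h' : andK (Nat.ble (Nat.succ (pa (b + 1))) (b + 1))
      (andK (Nat.beq (scanP tp (nthD [] tw (pl (b + 1))) (pa (b + 1))) (b + 1))
        (Bool.rec (motive := fun _ => Bool) (memB roots (b + 1))
          (Nat.beq (clsOf roots (pa (b + 1))) (clsOf roots (b + 1)))
          (Nat.ble (Nat.succ (pl (b + 1))) K))) = true := h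
  rw [andK_true, andK_true, brec_eq] at h'
  obtain ⟨h1, h2, h3⟩ := h'
  refine ⟨Nat.le_of_ble_eq_true h1, Nat.eq_of_beq_eq_true h2, ?_, ?_⟩
  · intro hlt
    rw [Nat.ble_eq_true_of_le hlt] at h3
    exact Nat.eq_of_beq_eq_true h3
  · intro hge
    have : Nat.ble (Nat.succ (pl (b + 1))) K = false := by
      cases hb : Nat.ble (Nat.succ (pl (b + 1))) K
      · rfl
      · have h4 : pl (b + 1) + 1 ≤ K := Nat.le_of_ble_eq_true hb
        omega
    rw [this] at h3
    exact (memB_spec roots _).mp h3

/-- all permutation-representation checks at the point `a` (vacuous for `a ≥ n`). -/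
def pointOK (tp : Nat → Nat → Nat) (inv pa pl : Nat → Nat) (ws sgw tw : List (List Nat)) (K : Nat)
    (roots : List Nat) (L n : Nat) (a : Nat) : Bool :=
  Bool.rec (motive := fun _ => Bool) true
    (andK (permAt tp inv L n a) (andK (treeAt tp pa pl tw K roots a)
      (andK (relsAt tp ws a) (clsAt tp roots sgw a))))
    (Nat.ble (Nat.succ a) n)

theorem pointOK_spec (tp : Nat → Nat → Nat) (inv pa pl : Nat → Nat) (ws sgw tw : List (List Nat))
    (K : Nat) (roots : List Nat) (L n a : Nat)
    (h : pointOK tp inv pa pl ws sgw tw K roots L n a = true) (ha : a < n) :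
    permAt tp inv L n a = true ∧ treeAt tp pa pl tw K roots a = true ∧
      relsAt tp ws a = true ∧ clsAt tp roots sgw a = true := by
  unfold pointOK at h
  rw [Nat.ble_eq_true_of_le ha] at h
  have h' : andK (permAt tp inv L n a) (andK (treeAt tp pa pl tw K roots a)
      (andK (relsAt tp ws a) (clsAt tp roots sgw a))) = true := h
  rw [andK_true, andK_true, andK_true] at h'
  exact h'

end Cfsg.Agent.Lib.Helper28.TCKernel
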