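import Cfsg.Agent.Lib.Helper28.TCPres

/-!
Main theorem of the coset-table certificates: index of a subgroup of a presented group
(`Cfsg.Spor.CoxPresented`) generated by the images of given words, and the orbits of the
subgroup on its cosets.
-/

set_option autoImplicit false

namespace Cfsg.Agent.Lib.Helper28.TCMain

open Cfsg.Agent.Lib.Helper28.TCKernel Cfsg.Agent.Lib.Helper28.TCSound
open Cfsg.Agent.Lib.Helper28.TCPerm Cfsg.Agent.Lib.Helper28.TCPres
open Cfsg.Spor

variable {α : Type} [DecidableEq α]
  {edges : List (α × ℕ × α)} {extra : List (FreeGroup α)} {code : α × Bool → Nat}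
  {dec : Nat → α × Bool} {inv : Nat → Nat} {L : Nat} {gens : List α} {pairs : List (α × α)}
  {relW : List (List Nat)}

theorem main (O : PresOK edges extra code dec inv L gens pairs relW)
    (S : Set (FreeGroup α)) (sgSrc : List (FreeGroup α)) (hS : S = {s | s ∈ sgSrc})
    (sgW : List (List Nat)) (hsg : sgSrc.map (toLetters code) = sgW)
    (N n d F B : Nat) (tgt sig crt hnt : Nat → Nat → Nat) (dsig mu dcrt dst par plet : Nat → Nat)
    (certs : List Cert) (hints : List (Nat × Nat))
    (hcerts : certsOK (relAll inv L relW) (sgAll inv sgW) L certs hints = true)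
    (hB : ∀ y v, sig y v ≤ B) (hB' : ∀ v, dsig v ≤ B)
    (hchk : ∀ v, andK (nameOK tgt sig crt hnt dsig mu dcrt dst par plet certs F L v)
      (finOK tgt sig hnt dsig mu F L N v) = true)
    (h0 : aliveB dsig N 0 = true) (hNd : N ≤ 2 ^ d)
    (hcnt : cntTree (aliveB dsig N) d 0 = n)
    (tp : Nat → Nat → Nat) (pa pl : Nat → Nat) (tw : List (List Nat)) (K : Nat) (roots : List Nat)
    (C : PermChecks n tp inv pa pl relW sgW tw K roots L) (hn : 0 < n)
    (hK : ∀ k, k < K → nthD [] tw k ∈ sgAll inv sgW) :
    ((Subgroup.closure S).map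
        (PresentedGroup.mk (coxRelators edges ∪ {r | r ∈ extra}))).index = n ∧
    ∃ ψ : (PresentedGroup (coxRelators edges ∪ {r | r ∈ extra})) ⧸
          ((Subgroup.closure S).map (PresentedGroup.mk (coxRelators edges ∪ {r | r ∈ extra}))) →
        Fin n,
      Function.Injective ψ ∧
      ∀ r, r < n → (∀ r' ∈ (0 :: roots), clsOf roots r' = clsOf roots r → r' = r) →
        ∃ q, ψ '' (MulAction.orbit
            ((Subgroup.closure S).map (PresentedGroup.mk (coxRelators edges ∪ {r | r ∈ extra})))
            q) = {b : Fin n | clsOf roots b.1 = clsOf roots r} := by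
  have hH := map_closure_eq O S sgSrc hS sgW hsg
  generalize (Subgroup.closure S).map
    (PresentedGroup.mk (coxRelators edges ∪ {r | r ∈ extra})) = H at hH ⊢
  have hI : ∀ y, y < L → ltG edges extra dec (inv y) = (ltG edges extra dec y)⁻¹ := ltG_inv O
  have hSm : ∀ w ∈ sgW, wp (ltG edges extra dec) w ∈ H := by
    intro w hw
    rw [hH]
    exact Subgroup.subset_closure ⟨w, hw, rfl⟩
  have hSA := sgAll_mem H (ltG edges extra dec) inv L sgW hI C.sgL hSm
  have hRA := relAll_one (ltG edges extra dec) inv L relW hI O.rel_letters (relG O)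
  have hcert := certsOK_good H (ltG edges extra dec) _ _ L hRA hSA certs hints hcerts
  have hU := index_le_of_checks H (ltG edges extra dec) L N n d F B tgt sig crt hnt dsig mu dcrt
    dst par plet certs (genG O) (fun y hy => ⟨inv y, (O.inv_ok y hy).1, hI y hy⟩) hcert hB hB'
    hchk h0 hNd hcnt
  obtain ⟨φ, hφ⟩ := exists_hom O (letterPerm C) (letterPerm_inv C) (letterPerm_rel C)
  obtain ⟨S', hS1, hS2, -⟩ := index_dvd C hn H (ltG edges extra dec) φ hφ hH
  have hdvd : n ∣ H.index := by
    have := Subgroup.index_dvd_of_le hS1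
    rwa [hS2] at this
  have hidx : H.index = n :=
    Nat.le_antisymm hU.2 (Nat.le_of_dvd (Nat.pos_of_ne_zero hU.1) hdvd)
  refine ⟨hidx, ?_⟩
  exact orbits C hn H (ltG edges extra dec) φ hφ hH (fun k hk => hSA _ (hK k hk)) hidx

/-- size of an orbit from its image under an injective map. -/
theorem ncard_orbit {X : Type*} {n : Nat} (ψ : X → Fin n) (hψ : Function.Injective ψ) (s : Set X)
    (roots : List Nat) (c lo hi : Nat) (hhi : hi ≤ n)
    (hs : ψ '' s = {b : Fin n | clsOf roots b.1 = c})
    (h : ∀ b, b < n → (clsOf roots b = c ↔ lo ≤ b ∧ b < hi)) : s.ncard = hi - lo := by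
  rw [← Set.ncard_image_of_injective s hψ, hs]
  exact ncard_cls n roots c lo hi hhi h

end Cfsg.Agent.Lib.Helper28.TCMain
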