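import Cfsg.Agent.Lib.Helper28.TCSound

/-!
Permutation-representation part of the coset-table certificates: the checked table gives a
transitive action on `n` points in which the subgroup fixes the point `0`, hence `n` divides
the index; and the orbits of the subgroup on the cosets are read off from the classes.
-/

set_option autoImplicit false

namespace Cfsg.Agent.Lib.Helper28.TCPerm

open Cfsg.Agent.Lib.Helper28.TCKernel Cfsg.Agent.Lib.Helper28.TCSound

/-- the facts established by the kernel checks of the table. -/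
structure PermChecks (n : Nat) (tp : Nat → Nat → Nat) (inv pa pl : Nat → Nat)
    (ws sgw tw : List (List Nat)) (K : Nat) (roots : List Nat) (L : Nat) : Prop where
  point : ∀ a, a < n → pointOK tp inv pa pl ws sgw tw K roots L n a = true
  invL : ∀ y, y < L → inv y < L ∧ inv (inv y) = y
  wsL : ∀ w ∈ ws, ∀ y ∈ w, y < L
  sgL : ∀ w ∈ sgw, ∀ y ∈ w, y < L
  twL : ∀ w ∈ tw, ∀ y ∈ w, y < L
  root1 : 1 ∈ roots
  rootpos : ∀ r ∈ roots, 1 ≤ r

theorem perm_apply_inv {α : Type*} (f : Equiv.Perm α) (x : α) : f (f⁻¹ x) = x :=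
  Equiv.apply_symm_apply f x

theorem perm_inv_apply {α : Type*} (f : Equiv.Perm α) (x : α) : f⁻¹ (f x) = x :=
  Equiv.symm_apply_apply f x

theorem clsOf_eq_zero (roots : List Nat) (a : Nat) (h : ∀ r ∈ roots, a < r) : clsOf roots a = 0 := by
  induction roots with
  | nil => rfl
  | cons r t ih =>
    rw [clsOf_cons, if_neg (by have := h r List.mem_cons_self; omega),
      ih (fun r' hr' => h r' (List.mem_cons_of_mem _ hr'))]

theorem clsOf_pos (roots : List Nat) (a r : Nat) (hr : r ∈ roots) (h : r ≤ a) :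
    1 ≤ clsOf roots a := by
  induction roots with
  | nil => simp at hr
  | cons r' t ih =>
    rw [clsOf_cons]
    rcases List.mem_cons.mp hr with e | e
    · subst e
      rw [if_pos h]; omega
    · have := ih e
      omega

section

variable {n : Nat} {tp : Nat → Nat → Nat} {inv pa pl : Nat → Nat} {ws sgw tw : List (List Nat)}
  {K : Nat} {roots : List Nat} {L : Nat}

theorem PermChecks.cls_zero (C : PermChecks n tp inv pa pl ws sgw tw K roots L) (b : Nat)
    (h : clsOf roots b = clsOf roots 0) : b = 0 := by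
  have h0 : clsOf roots 0 = 0 := clsOf_eq_zero roots 0 (fun r hr => C.rootpos r hr)
  by_contra hb
  have := clsOf_pos roots b 1 C.root1 (by omega)
  omega

theorem PermChecks.perm (C : PermChecks n tp inv pa pl ws sgw tw K roots L) (a : Nat) (ha : a < n)
    (y : Nat) (hy : y < L) : tp y a < n ∧ tp (inv y) (tp y a) = a :=
  (permAt_spec tp inv L n a).mp (pointOK_spec tp inv pa pl ws sgw tw K roots L n a (C.point a ha) ha).1
    y hy

theorem PermChecks.rel (C : PermChecks n tp inv pa pl ws sgw tw K roots L) (a : Nat) (ha : a < n)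
    (w : List Nat) (hw : w ∈ ws) : scanP tp w a = a :=
  (relsAt_spec tp ws a).mp
    (pointOK_spec tp inv pa pl ws sgw tw K roots L n a (C.point a ha) ha).2.2.1 w hw

theorem PermChecks.cls (C : PermChecks n tp inv pa pl ws sgw tw K roots L) (a : Nat) (ha : a < n)
    (w : List Nat) (hw : w ∈ sgw) : clsOf roots (scanP tp w a) = clsOf roots a :=
  (clsAt_spec tp roots sgw a).mp
    (pointOK_spec tp inv pa pl ws sgw tw K roots L n a (C.point a ha) ha).2.2.2 w hw

theorem PermChecks.tree (C : PermChecks n tp inv pa pl ws sgw tw K roots L) (a : Nat) (ha : a < n)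
    (h0 : a ≠ 0) : pa a < a ∧ scanP tp (nthD [] tw (pl a)) (pa a) = a ∧
      (pl a < K → clsOf roots (pa a) = clsOf roots a) ∧ (K ≤ pl a → a ∈ roots) :=
  treeAt_spec tp pa pl tw K roots a h0
    (pointOK_spec tp inv pa pl ws sgw tw K roots L n a (C.point a ha) ha).2.1

theorem PermChecks.twL' (C : PermChecks n tp inv pa pl ws sgw tw K roots L) (k : Nat) :
    ∀ y ∈ nthD [] tw k, y < L := by
  by_cases hk : k < tw.length
  · exact C.twL _ (nthD_mem [] tw k hk)
  · rw [nthD_of_length_le [] tw k (by omega)]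
    intro y hy
    simp at hy

/-- the permutation of the points attached to a letter (`a ↦ a · y⁻¹`). -/
def letterPerm (C : PermChecks n tp inv pa pl ws sgw tw K roots L) (y : Nat) :
    Equiv.Perm (Fin n) :=
  if hy : y < L then
    { toFun := fun a => ⟨tp (inv y) a, (C.perm a a.2 (inv y) (C.invL y hy).1).1⟩
      invFun := fun a => ⟨tp y a, (C.perm a a.2 y hy).1⟩
      left_inv := fun a => by
        apply Fin.ext
        show tp y (tp (inv y) a) = a
        have := (C.perm a a.2 (inv y) (C.invL y hy).1).2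
        rwa [(C.invL y hy).2] at this
      right_inv := fun a => by
        apply Fin.ext
        show tp (inv y) (tp y a) = a
        exact (C.perm a a.2 y hy).2 }
  else 1

theorem letterPerm_inv_apply (C : PermChecks n tp inv pa pl ws sgw tw K roots L) (y : Nat)
    (hy : y < L) (a : Fin n) : (((letterPerm C y)⁻¹ a : Fin n) : Nat) = tp y a := by
  unfold letterPerm
  rw [dif_pos hy]
  rfl

theorem letterPerm_apply (C : PermChecks n tp inv pa pl ws sgw tw K roots L) (y : Nat)
    (hy : y < L) (a : Fin n) : ((letterPerm C y a : Fin n) : Nat) = tp (inv y) a := by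
  unfold letterPerm
  rw [dif_pos hy]
  rfl

theorem letterPerm_inv (C : PermChecks n tp inv pa pl ws sgw tw K roots L) (y : Nat)
    (hy : y < L) : letterPerm C (inv y) = (letterPerm C y)⁻¹ := by
  ext a
  rw [letterPerm_apply C (inv y) (C.invL y hy).1, letterPerm_inv_apply C y hy, (C.invL y hy).2]

/-- the inverse of the image of a word moves points as the table says. -/
theorem scan_eq {G : Type*} [Group G] (φ : G →* Equiv.Perm (Fin n)) (lt : Nat → G)
    (hφ : ∀ y, y < L → ∀ a : Fin n, (((φ (lt y))⁻¹ a : Fin n) : Nat) = tp y a)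
    (w : List Nat) (hw : ∀ y ∈ w, y < L) (a : Fin n) :
    (((φ (wp lt w))⁻¹ a : Fin n) : Nat) = scanP tp w a := by
  induction w generalizing a with
  | nil => rw [wp_nil, map_one, inv_one, scanP_nil]; rfl
  | cons y w ih =>
    rw [wp_cons, map_mul, mul_inv_rev, Equiv.Perm.mul_apply,
      ih (fun z hz => hw z (List.mem_cons_of_mem _ hz)), hφ y (hw y List.mem_cons_self) a,
      scanP_cons]

/-- the relator words are trivial on the letter permutations. -/
theorem letterPerm_rel (C : PermChecks n tp inv pa pl ws sgw tw K roots L) (w : List Nat)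
    (hw : w ∈ ws) : wp (letterPerm C) w = 1 := by
  have h := scan_eq (MonoidHom.id (Equiv.Perm (Fin n))) (letterPerm C)
    (fun y hy a => letterPerm_inv_apply C y hy a) w (C.wsL w hw)
  have h1 : (wp (letterPerm C) w)⁻¹ = 1 := by
    ext a
    have := h a
    rw [MonoidHom.id_apply] at this
    rw [this, C.rel a a.2 w hw]
    rfl
  exact inv_eq_one.mp h1

variable {G : Type*} [Group G]

/-- every point is the image of `0`. -/
theorem transitive (C : PermChecks n tp inv pa pl ws sgw tw K roots L) (hn : 0 < n)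
    (lt : Nat → G) (φ : G →* Equiv.Perm (Fin n))
    (hφ : ∀ y, y < L → φ (lt y) = letterPerm C y) :
    ∀ b, ∀ hb : b < n, ∃ g : G, φ g ⟨0, hn⟩ = ⟨b, hb⟩ := by
  have hφ' : ∀ y, y < L → ∀ a : Fin n, (((φ (lt y))⁻¹ a : Fin n) : Nat) = tp y a := by
    intro y hy a
    rw [hφ y hy]; exact letterPerm_inv_apply C y hy a
  intro b
  induction b using Nat.strong_induction_on with
  | _ b ih =>
    intro hb
    by_cases h0 : b = 0
    · subst h0
      exact ⟨1, by rw [map_one]; rfl⟩
    · obtain ⟨h1, h2, -, -⟩ := C.tree b hb h0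
      obtain ⟨g', hg'⟩ := ih (pa b) h1 (by omega)
      refine ⟨(wp lt (nthD [] tw (pl b)))⁻¹ * g', ?_⟩
      rw [map_mul, Equiv.Perm.mul_apply, hg', map_inv]
      apply Fin.ext
      rw [scan_eq φ lt hφ' _ (C.twL' (pl b))]
      exact h2

/-- `n` divides the index of the subgroup generated by the subgroup-generator words. -/
theorem index_dvd (C : PermChecks n tp inv pa pl ws sgw tw K roots L) (hn : 0 < n)
    (H : Subgroup G) (lt : Nat → G) (φ : G →* Equiv.Perm (Fin n))
    (hφ : ∀ y, y < L → φ (lt y) = letterPerm C y)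
    (hH : H = Subgroup.closure ((wp lt) '' {w | w ∈ sgw})) :
    ∃ S : Subgroup G, H ≤ S ∧ S.index = n ∧ ∀ g, g ∈ S ↔ φ g ⟨0, hn⟩ = ⟨0, hn⟩ := by
  have hφ' : ∀ y, y < L → ∀ a : Fin n, (((φ (lt y))⁻¹ a : Fin n) : Nat) = tp y a := by
    intro y hy a
    rw [hφ y hy]; exact letterPerm_inv_apply C y hy a
  let _ : MulAction G (Fin n) := MulAction.compHom (Fin n) φ
  have hsmul : ∀ (g : G) (a : Fin n), g • a = φ g a := fun g a => rfl
  refine ⟨MulAction.stabilizer G (⟨0, hn⟩ : Fin n), ?_, ?_, ?_⟩
  · rw [hH, Subgroup.closure_le]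
    rintro s ⟨w, hw, rfl⟩
    rw [SetLike.mem_coe, MulAction.mem_stabilizer_iff, hsmul]
    have h1 := scan_eq φ lt hφ' w (C.sgL w hw) ⟨0, hn⟩
    have h2 := C.cls 0 hn w hw
    have h3 : scanP tp w 0 = 0 := C.cls_zero _ h2
    have h4 : (φ (wp lt w))⁻¹ ⟨0, hn⟩ = ⟨0, hn⟩ := by
      apply Fin.ext
      rw [h1]; exact h3
    have h5 := congrArg (φ (wp lt w)) h4
    rw [perm_apply_inv] at h5
    exact h5.symm
  · rw [MulAction.index_stabilizer]
    have : MulAction.orbit G (⟨0, hn⟩ : Fin n) = Set.univ := by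
      ext b
      simp only [Set.mem_univ, iff_true]
      obtain ⟨g, hg⟩ := transitive C hn lt φ hφ b.1 b.2
      exact ⟨g, by show g • (⟨0, hn⟩ : Fin n) = b; rw [hsmul, hg]⟩
    rw [this, Set.ncard_univ, Nat.card_fin]
  · intro g
    rw [MulAction.mem_stabilizer_iff, hsmul]

/-- the orbits of `H` on its cosets correspond to the classes of points. -/
theorem orbits (C : PermChecks n tp inv pa pl ws sgw tw K roots L) (hn : 0 < n)
    (H : Subgroup G) (lt : Nat → G) (φ : G →* Equiv.Perm (Fin n))
    (hφ : ∀ y, y < L → φ (lt y) = letterPerm C y)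
    (hH : H = Subgroup.closure ((wp lt) '' {w | w ∈ sgw}))
    (hK : ∀ k, k < K → wp lt (nthD [] tw k) ∈ H)
    (hidx : H.index = n) :
    ∃ ψ : G ⧸ H → Fin n, Function.Injective ψ ∧
      ∀ r, r < n → (∀ r' ∈ (0 :: roots), clsOf roots r' = clsOf roots r → r' = r) →
        ∃ q : G ⧸ H, ψ '' (MulAction.orbit H q) = {b : Fin n | clsOf roots b.1 = clsOf roots r} := by
  have hφ' : ∀ y, y < L → ∀ a : Fin n, (((φ (lt y))⁻¹ a : Fin n) : Nat) = tp y a := by
    intro y hy a
    rw [hφ y hy]; exact letterPerm_inv_apply C y hy a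
  obtain ⟨S, hHS, hSn, hS⟩ := index_dvd C hn H lt φ hφ hH
  -- H = S
  have hSH : S ≤ H := by
    have h1 := Subgroup.relIndex_mul_index hHS
    rw [hSn, hidx] at h1
    have h2 : H.relIndex S = 1 := by
      have : H.relIndex S * n = 1 * n := by rw [h1, one_mul]
      exact Nat.eq_of_mul_eq_mul_right hn this
    exact Subgroup.relIndex_eq_one.mp h2
  have hfix : ∀ h, h ∈ H → φ h ⟨0, hn⟩ = ⟨0, hn⟩ := fun h hh => (hS h).mp (hHS hh)
  -- class invariance
  have hinvar : ∀ h, h ∈ H → ∀ b : Fin n, clsOf roots (φ h b).1 = clsOf roots b.1 := by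
    let T : Subgroup G :=
      { carrier := {g | ∀ b : Fin n, clsOf roots (φ g b).1 = clsOf roots b.1}
        mul_mem' := by
          intro a b ha hb c
          rw [map_mul, Equiv.Perm.mul_apply, ha, hb]
        one_mem' := by
          intro c
          rw [map_one]; rfl
        inv_mem' := by
          intro a ha c
          have := ha (φ a⁻¹ c)
          rw [map_inv, perm_apply_inv] at this
          rw [map_inv]
          exact this.symm }
    have hT : H ≤ T := by
      rw [hH, Subgroup.closure_le]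
      rintro s ⟨w, hw, rfl⟩
      have hinv : (wp lt w)⁻¹ ∈ T := by
        intro b
        rw [map_inv, scan_eq φ lt hφ' w (C.sgL w hw) b]
        exact C.cls b b.2 w hw
      have := T.inv_mem hinv
      rwa [inv_inv] at this
    exact fun h hh => hT hh
  -- the map to points
  let ψ : G ⧸ H → Fin n := fun q => Quotient.liftOn' q (fun g => φ g ⟨0, hn⟩) (by
    intro a b hab
    have h1 : a⁻¹ * b ∈ H := QuotientGroup.leftRel_apply.mp hab
    have h2 := hfix _ h1
    rw [map_mul, Equiv.Perm.mul_apply, map_inv] at h2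
    have h3 := congrArg (φ a) h2
    rw [perm_apply_inv] at h3
    exact h3.symm)
  have hψ : ∀ g : G, ψ (g : G ⧸ H) = φ g ⟨0, hn⟩ := fun g => rfl
  have hψinj : Function.Injective ψ := by
    intro q1 q2
    induction q1 using QuotientGroup.induction_on with
    | H a =>
      induction q2 using QuotientGroup.induction_on with
      | H b =>
        intro h
        rw [hψ, hψ] at h
        rw [QuotientGroup.eq]
        apply hSH
        rw [hS, map_mul, Equiv.Perm.mul_apply, map_inv, ← h, perm_inv_apply]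
  have hψsmul : ∀ (h : H) (q : G ⧸ H), ψ (h • q) = φ (h : G) (ψ q) := by
    intro h q
    induction q using QuotientGroup.induction_on with
    | H a =>
      have : h • (a : G ⧸ H) = (((h : G) * a : G) : G ⧸ H) := rfl
      rw [this, hψ, hψ, map_mul, Equiv.Perm.mul_apply]
  refine ⟨ψ, hψinj, ?_⟩
  intro r hr huniq
  obtain ⟨g, hg⟩ := transitive C hn lt φ hφ r hr
  refine ⟨(g : G ⧸ H), ?_⟩
  -- reach every point of the class from the root
  have hreach : ∀ b, ∀ hb : b < n, clsOf roots b = clsOf roots r →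
      ∃ h, h ∈ H ∧ φ h ⟨r, hr⟩ = ⟨b, hb⟩ := by
    intro b
    induction b using Nat.strong_induction_on with
    | _ b ih =>
      intro hb hcls
      by_cases h0 : b = 0
      · subst h0
        have := huniq 0 List.mem_cons_self hcls
        subst this
        exact ⟨1, H.one_mem, by rw [map_one]; rfl⟩
      · obtain ⟨h1, h2, h3, h4⟩ := C.tree b hb h0
        rcases Nat.lt_or_ge (pl b) K with hk | hk
        · obtain ⟨h', hh', e⟩ := ih (pa b) h1 (by omega) ((h3 hk).trans hcls)
          refine ⟨(wp lt (nthD [] tw (pl b)))⁻¹ * h', H.mul_mem (H.inv_mem (hK _ hk)) hh', ?_⟩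
          rw [map_mul, Equiv.Perm.mul_apply, e, map_inv]
          apply Fin.ext
          rw [scan_eq φ lt hφ' _ (C.twL' (pl b))]
          exact h2
        · have := huniq b (List.mem_cons_of_mem _ (h4 hk)) hcls
          subst this
          exact ⟨1, H.one_mem, by rw [map_one]; rfl⟩
  ext b
  simp only [Set.mem_image, Set.mem_ofPred_eq]
  constructor
  · rintro ⟨q, ⟨h, rfl⟩, rfl⟩
    show clsOf roots (ψ (h • (g : G ⧸ H))).1 = clsOf roots r
    rw [hψsmul, hψ, hg, hinvar _ h.2]
  · intro hcls
    obtain ⟨h, hh, e⟩ := hreach b.1 b.2 hcls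
    refine ⟨(⟨h, hh⟩ : H) • (g : G ⧸ H), ⟨⟨h, hh⟩, rfl⟩, ?_⟩
    rw [hψsmul, hψ, hg]
    exact e

end

/-- size of a class given as an interval. -/
theorem ncard_cls (n : Nat) (roots : List Nat) (c lo hi : Nat) (hhi : hi ≤ n)
    (h : ∀ b, b < n → (clsOf roots b = c ↔ lo ≤ b ∧ b < hi)) :
    Set.ncard {b : Fin n | clsOf roots b.1 = c} = hi - lo := by
  have e : {b : Fin n | clsOf roots b.1 = c} =
      ((Finset.univ.filter (fun b : Fin n => lo ≤ b.1 ∧ b.1 < hi) : Finset (Fin n)) : Set (Fin n)) := by
    ext b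
    simp only [Set.mem_ofPred_eq, Finset.coe_filter, Finset.mem_univ, true_and]
    exact h b.1 b.2
  rw [e, Set.ncard_coe_finset]
  have : (Finset.univ.filter (fun b : Fin n => lo ≤ b.1 ∧ b.1 < hi)).card =
      (Finset.Ico lo hi).card := by
    apply Finset.card_bij (fun b _ => b.1)
    · intro b hb
      simp only [Finset.mem_filter, Finset.mem_univ, true_and] at hb
      exact Finset.mem_Ico.mpr hb
    · intro a _ b _ hab
      exact Fin.ext hab
    · intro b hb
      have hb' := Finset.mem_Ico.mp hb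
      exact ⟨⟨b, by omega⟩, by simp [hb'.1, hb'.2], rfl⟩
  rw [this, Nat.card_Ico]

end Cfsg.Agent.Lib.Helper28.TCPerm
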