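import Cfsg.Agent.Lib.Helper28.TCKernel

/-!
Soundness of the coset-enumeration certificate checker of `TCKernel`: if all checks pass then
the subgroup has index at most the number of alive names.
-/

set_option autoImplicit false

namespace Cfsg.Agent.Lib.Helper28.TCSound

open Cfsg.Agent.Lib.Helper28.TCKernel

variable {G : Type*} [Group G]

/-- product of a word of letters. -/
def wp (lt : Nat → G) (w : List Nat) : G := (w.map lt).prod

theorem wp_nil (lt : Nat → G) : wp lt [] = 1 := rfl
theorem wp_cons (lt : Nat → G) (y : Nat) (w : List Nat) : wp lt (y :: w) = lt y * wp lt w := by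
  unfold wp; rw [List.map_cons, List.prod_cons]
theorem wp_append (lt : Nat → G) (u w : List Nat) : wp lt (u ++ w) = wp lt u * wp lt w := by
  unfold wp; rw [List.map_append, List.prod_append]

/-- `a` and `b` lie in the same right coset of `H`. -/
def Rel (H : Subgroup G) (a b : G) : Prop := a * b⁻¹ ∈ H

theorem Rel.refl (H : Subgroup G) (a : G) : Rel H a a := by
  unfold Rel; rw [mul_inv_cancel]; exact H.one_mem

theorem Rel.symm {H : Subgroup G} {a b : G} (h : Rel H a b) : Rel H b a := by
  unfold Rel at *
  have := H.inv_mem h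
  rwa [mul_inv_rev, inv_inv] at this

theorem Rel.trans {H : Subgroup G} {a b c : G} (h1 : Rel H a b) (h2 : Rel H b c) : Rel H a c := by
  unfold Rel at *
  have := H.mul_mem h1 h2
  rwa [mul_assoc, inv_mul_cancel_left] at this

theorem Rel.mul_right {H : Subgroup G} {a b : G} (h : Rel H a b) (g : G) : Rel H (a * g) (b * g) := by
  unfold Rel at *
  rwa [mul_inv_rev, mul_assoc, mul_inv_cancel_left]

theorem Rel.of_eq {H : Subgroup G} {a b : G} (h : a = b) : Rel H a b := by
  rw [h]; exact Rel.refl H b

/-- representative of a name, along the definition tree. -/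
noncomputable def rep (par plet : Nat → Nat) (lt : Nat → G) : Nat → G
  | t => if par t < t then rep par plet lt (par t) * lt (plet t) else 1
termination_by t => t
decreasing_by assumption

theorem rep_eq (par plet : Nat → Nat) (lt : Nat → G) (t : Nat) (h : par t < t) :
    rep par plet lt t = rep par plet lt (par t) * lt (plet t) := by
  rw [rep, if_pos h]

theorem rep_zero (par plet : Nat → Nat) (lt : Nat → G) : rep par plet lt 0 = 1 := by
  rw [rep, if_neg (Nat.not_lt_zero _)]

/-- semantic validity of a certificate. -/
def CertGood (H : Subgroup G) (lt : Nat → G) (L : Nat) (c : Cert) : Prop :=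
  (∀ y ∈ c.pre, y < L) ∧ (∀ y ∈ c.post, y < L) ∧
  (c.kind = 0 → wp lt (c.gap :: c.post) = 1) ∧
  (c.kind = 1 → wp lt (c.pre ++ c.gap :: c.post) ∈ H) ∧
  (c.kind = 2 → wp lt c.post = 1) ∧
  (c.kind = 3 → wp lt (c.pre ++ c.post) ∈ H)

theorem certGood_cert0 (H : Subgroup G) (lt : Nat → G) (L : Nat) : CertGood H lt L cert0 := by
  refine ⟨?_, ?_, ?_, ?_, ?_, ?_⟩ <;> simp [cert0]

theorem certGood_nthD (H : Subgroup G) (lt : Nat → G) (L : Nat) (certs : List Cert)
    (hc : ∀ c ∈ certs, CertGood H lt L c) (k : Nat) : CertGood H lt L (nthD cert0 certs k) := by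
  by_cases hk : k < certs.length
  · exact hc _ (nthD_mem cert0 certs k hk)
  · rw [nthD_of_length_le cert0 certs k (by omega)]
    exact certGood_cert0 H lt L

section sound

variable (H : Subgroup G) (lt : Nat → G) (L : Nat) (tgt sig crt hnt : Nat → Nat → Nat)
  (dsig mu dcrt dst par plet : Nat → Nat) (certs : List Cert) (F : Nat)

/-- all events before reverse time `s` are valid. -/
def Valid (s : Nat) : Prop :=
  (∀ y v, y < L → s < sig y v →
    Rel H (rep par plet lt v * lt y) (rep par plet lt (tgt y v))) ∧
  (∀ v, s < dsig v → Rel H (rep par plet lt v) (rep par plet lt (mu v)))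

variable {H lt L tgt sig dsig mu par plet}

theorem canon_rel {s : Nat} (hV : Valid H lt L tgt sig dsig mu par plet s) (fuel v : Nat) :
    Rel H (rep par plet lt v) (rep par plet lt (canonK dsig mu (s + 1) fuel v)) := by
  induction fuel generalizing v with
  | zero => rw [canonK_zero]; exact Rel.refl H _
  | succ n ih =>
    rw [canonK_succ]
    cases hb : Nat.ble (s + 1) (dsig v) with
    | false => exact Rel.refl H _
    | true =>
      have h1 : s < dsig v := Nat.le_of_ble_eq_true hb
      exact (hV.2 v h1).trans (ih (mu v))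

theorem nxt_rel {s : Nat} (hV : Valid H lt L tgt sig dsig mu par plet s) (F h t : Nat) :
    Rel H (rep par plet lt t) (rep par plet lt (nxtK dsig mu (s + 1) F h t)) := by
  rw [nxtK_eq]
  cases Nat.ble (s + 1) h with
  | false => exact Rel.refl H _
  | true => exact canon_rel hV F t

theorem scanGo_rel {s : Nat} (hV : Valid H lt L tgt sig dsig mu par plet s) (hnt : Nat → Nat → Nat)
    (F exp : Nat) (w : List Nat) (hw : ∀ y ∈ w, y < L) (cur : Nat)
    (h : scanGo tgt sig hnt dsig mu F (s + 1) exp w cur = true) :
    Rel H (rep par plet lt cur * wp lt w) (rep par plet lt exp) := by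
  induction w generalizing cur with
  | nil =>
    rw [scanGo_nil] at h
    have : cur = exp := Nat.eq_of_beq_eq_true h
    rw [wp_nil, mul_one, this]
    exact Rel.refl H _
  | cons y w ih =>
    rw [scanGo_cons, Bool.and_eq_true] at h
    have hy : y < L := hw y List.mem_cons_self
    have h1 : s < sig y cur := Nat.le_of_ble_eq_true h.1
    have h2 := hV.1 y cur hy h1
    have h3 := nxt_rel hV F (hnt y cur) (tgt y cur)
    have h4 := ih (fun z hz => hw z (List.mem_cons_of_mem _ hz)) _ h.2
    rw [wp_cons, ← mul_assoc]
    exact ((h2.trans h3).mul_right _).trans h4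

theorem scanOK_rel {s : Nat} (hV : Valid H lt L tgt sig dsig mu par plet s) (hnt : Nat → Nat → Nat)
    (F : Nat) (w : List Nat) (hw : ∀ y ∈ w, y < L) (start exp : Nat)
    (h : scanOK tgt sig hnt dsig mu F (s + 1) w start exp = true) :
    Rel H (rep par plet lt start * wp lt w) (rep par plet lt exp) := by
  cases w with
  | nil =>
    rw [scanOK_nil] at h
    have : canonK dsig mu (s + 1) F start = exp := Nat.eq_of_beq_eq_true h
    rw [wp_nil, mul_one, ← this]
    exact canon_rel hV F start
  | cons y w =>
    rw [scanOK_cons] at h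
    exact scanGo_rel hV hnt F exp (y :: w) hw start h

variable {certs}

theorem entry_valid {s : Nat} (hV : Valid H lt L tgt sig dsig mu par plet (s + 1))
    (hc : ∀ c ∈ certs, CertGood H lt L c) (crt hnt : Nat → Nat → Nat) (F y v : Nat)
    (hs : sig y v = s + 1)
    (h : entryOK tgt sig crt hnt dsig mu par plet certs F y v = true) :
    Rel H (rep par plet lt v * lt y) (rep par plet lt (tgt y v)) := by
  cases hcr : crt y v with
  | zero =>
    rw [entryOK_def tgt sig crt hnt dsig mu par plet certs F y v s hs hcr, Bool.and_eq_true,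
      Bool.and_eq_true] at h
    obtain ⟨h1, h2, h3⟩ := h
    have e1 : par (tgt y v) = v := Nat.eq_of_beq_eq_true h1
    have e2 : plet (tgt y v) = y := Nat.eq_of_beq_eq_true h2
    have e3 : v + 1 ≤ tgt y v := Nat.le_of_ble_eq_true h3
    have : rep par plet lt (tgt y v) = rep par plet lt v * lt y := by
      rw [rep_eq par plet lt (tgt y v) (by omega), e1, e2]
    rw [this]
    exact Rel.refl H _
  | succ k =>
    rw [entryOK_cert tgt sig crt hnt dsig mu par plet certs F y v s k hs hcr] at h
    have hg := certGood_nthD H lt L certs hc k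
    generalize nthD cert0 certs k = c at h hg
    obtain ⟨hpre, hpost, hk0, hk1, -, -⟩ := hg
    rcases Nat.lt_or_ge c.kind 2 with hk | hk
    · have : c.kind = 0 ∨ c.kind = 1 := by omega
      rcases this with hk | hk
      · rw [entryC_zero tgt sig hnt dsig mu F (s + 2) y v (tgt y v) c hk, Bool.and_eq_true] at h
        have hgap : c.gap = y := Nat.eq_of_beq_eq_true h.1
        have h2 := scanOK_rel hV hnt F c.post hpost (tgt y v) v h.2
        have h3 := hk0 hk
        rw [wp_cons, hgap] at h3
        have h4 : wp lt c.post = (lt y)⁻¹ := eq_inv_of_mul_eq_one_right h3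
        rw [h4] at h2
        have h5 := (h2.mul_right (lt y)).symm
        rwa [inv_mul_cancel_right] at h5
      · rw [entryC_one tgt sig hnt dsig mu F (s + 2) y v (tgt y v) c hk, Bool.and_eq_true,
          Bool.and_eq_true] at h
        obtain ⟨h1, h2, h3⟩ := h
        have hgap : c.gap = y := Nat.eq_of_beq_eq_true h1
        have r1 := scanOK_rel hV hnt F c.pre hpre 0 v h2
        have r2 := scanOK_rel hV hnt F c.post hpost (tgt y v) 0 h3
        have r3 := hk1 hk
        rw [wp_append, wp_cons, hgap] at r3
        rw [rep_zero] at r1 r2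
        unfold Rel at r1 r2 ⊢
        rw [one_mul] at r1
        rw [inv_one, mul_one] at r2
        have := H.mul_mem (H.mul_mem (H.inv_mem r1) r3) (H.inv_mem r2)
        have e : (wp lt c.pre * (rep par plet lt v)⁻¹)⁻¹ * (wp lt c.pre * (lt y * wp lt c.post)) *
            (rep par plet lt (tgt y v) * wp lt c.post)⁻¹ =
            rep par plet lt v * lt y * (rep par plet lt (tgt y v))⁻¹ := by group
        rwa [e] at this
    · obtain ⟨j, hj⟩ : ∃ j, c.kind = j + 2 := ⟨c.kind - 2, by omega⟩
      rw [entryC_ge_two tgt sig hnt dsig mu F (s + 2) y v (tgt y v) c j hj] at h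
      exact absurd h (by decide)

theorem death_valid {s : Nat} (hV : Valid H lt L tgt sig dsig mu par plet (s + 1))
    (hc : ∀ c ∈ certs, CertGood H lt L c) (hnt : Nat → Nat → Nat) (dcrt dst : Nat → Nat)
    (F v : Nat) (hs : dsig v = s + 1)
    (h : deathOK tgt sig hnt dsig mu dcrt dst certs F v = true) :
    Rel H (rep par plet lt v) (rep par plet lt (mu v)) := by
  cases hcr : dcrt v with
  | zero =>
    rw [deathOK_zero tgt sig hnt dsig mu dcrt dst certs F v s hs hcr] at h
    exact absurd h (by decide)
  | succ k =>
    rw [deathOK_succ tgt sig hnt dsig mu dcrt dst certs F v s k hs hcr] at h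
    have hg := certGood_nthD H lt L certs hc k
    generalize nthD cert0 certs k = c at h hg
    obtain ⟨hpre, hpost, -, -, hk2, hk3⟩ := hg
    have c1 := canon_rel hV F (dst v)
    have c2 := canon_rel hV F (mu v)
    rcases Nat.lt_or_ge c.kind 2 with hk | hk
    · rw [deathC_lt_two tgt sig hnt dsig mu F (s + 2) v (dst v) _ _ c hk] at h
      exact absurd h (by decide)
    · rcases Nat.lt_or_ge c.kind 4 with hk' | hk'
      · have : c.kind = 2 ∨ c.kind = 3 := by omega
        rcases this with hk | hk
        · rw [deathC_two tgt sig hnt dsig mu F (s + 2) v (dst v) _ _ c hk] at h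
          have hw := hk2 hk
          cases hb : Nat.beq (canonK dsig mu (s + 2) F (dst v)) v with
          | true =>
            rw [hb] at h
            have e : canonK dsig mu (s + 2) F (dst v) = v := Nat.eq_of_beq_eq_true hb
            have r := scanOK_rel hV hnt F c.post hpost (dst v) _ h
            rw [hw, mul_one] at r
            rw [e] at c1
            exact (c1.symm.trans r).trans c2.symm
          | false =>
            rw [hb] at h
            simp only [cond_false, Bool.and_eq_true] at h
            have e : canonK dsig mu (s + 2) F (dst v) = canonK dsig mu (s + 2) F (mu v) :=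
              Nat.eq_of_beq_eq_true h.1
            have r := scanOK_rel hV hnt F c.post hpost (dst v) v h.2
            rw [hw, mul_one] at r
            rw [e] at c1
            exact (r.symm.trans c1).trans c2.symm
        · rw [deathC_three tgt sig hnt dsig mu F (s + 2) v (dst v) _ _ c hk, Bool.and_eq_true] at h
          obtain ⟨h1, h2⟩ := h
          have hw := hk3 hk
          rw [wp_append] at hw
          have r0 := scanOK_rel hV hnt F c.post hpost (dst v) 0 h1
          rw [rep_zero] at r0
          -- the name reached by `pre` from the subgroup coset is in the coset of `dst v`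
          have key : ∀ u, scanOK tgt sig hnt dsig mu F (s + 2) c.pre 0 u = true →
              Rel H (rep par plet lt (dst v)) (rep par plet lt u) := by
            intro u hu
            have r1 := scanOK_rel hV hnt F c.pre hpre 0 u hu
            rw [rep_zero] at r1
            unfold Rel at r0 r1 ⊢
            rw [one_mul] at r1
            rw [inv_one, mul_one] at r0
            have := H.mul_mem (H.mul_mem r0 (H.inv_mem hw)) r1
            have e : rep par plet lt (dst v) * wp lt c.post * (wp lt c.pre * wp lt c.post)⁻¹ *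
                (wp lt c.pre * (rep par plet lt u)⁻¹) =
                rep par plet lt (dst v) * (rep par plet lt u)⁻¹ := by group
            rwa [e] at this
          cases hb : Nat.beq (canonK dsig mu (s + 2) F (dst v)) v with
          | true =>
            rw [hb] at h2
            have e : canonK dsig mu (s + 2) F (dst v) = v := Nat.eq_of_beq_eq_true hb
            have r := key _ h2
            rw [e] at c1
            exact (c1.symm.trans r).trans c2.symm
          | false =>
            rw [hb] at h2
            simp only [cond_false, Bool.and_eq_true] at h2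
            have e : canonK dsig mu (s + 2) F (dst v) = canonK dsig mu (s + 2) F (mu v) :=
              Nat.eq_of_beq_eq_true h2.1
            have r := key v h2.2
            rw [e] at c1
            exact (r.symm.trans c1).trans c2.symm
      · obtain ⟨j, hj⟩ : ∃ j, c.kind = j + 4 := ⟨c.kind - 4, by omega⟩
        rw [deathC_ge_four tgt sig hnt dsig mu F (s + 2) v (dst v) _ _ c j hj] at h
        exact absurd h (by decide)

theorem valid_all (B : Nat) (crt hnt : Nat → Nat → Nat) (dcrt dst : Nat → Nat) (F : Nat)
    (hB : ∀ y v, sig y v ≤ B) (hB' : ∀ v, dsig v ≤ B)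
    (hc : ∀ c ∈ certs, CertGood H lt L c)
    (hname : ∀ v, nameOK tgt sig crt hnt dsig mu dcrt dst par plet certs F L v = true) :
    Valid H lt L tgt sig dsig mu par plet 0 := by
  have key : ∀ k, Valid H lt L tgt sig dsig mu par plet (B - k) := by
    intro k
    induction k with
    | zero =>
      constructor
      · intro y v _ h
        have := hB y v
        omega
      · intro v h
        have := hB' v
        omega
    | succ k ih =>
      rcases Nat.eq_zero_or_pos (B - k) with h0 | hpos
      · have : B - (k + 1) = B - k := by omega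
        rw [this]; exact ih
      · obtain ⟨s, hs⟩ : ∃ s, B - (k + 1) = s ∧ B - k = s + 1 := ⟨B - (k + 1), rfl, by omega⟩
        rw [hs.1]
        rw [hs.2] at ih
        constructor
        · intro y v hy h
          rcases Nat.lt_or_ge (s + 1) (sig y v) with h1 | h1
          · exact ih.1 y v hy h1
          · have hsig : sig y v = s + 1 := by omega
            have hn := ((nameOK_spec tgt sig crt hnt dsig mu dcrt dst par plet certs F L v).mp
              (hname v)).2 y hy
            exact entry_valid ih hc crt hnt F y v hsig hn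
        · intro v h
          rcases Nat.lt_or_ge (s + 1) (dsig v) with h1 | h1
          · exact ih.2 v h1
          · have hsig : dsig v = s + 1 := by omega
            have hn := ((nameOK_spec tgt sig crt hnt dsig mu dcrt dst par plet certs F L v).mp
              (hname v)).1
            exact death_valid ih hc hnt dcrt dst F v hsig hn
  have := key B
  rwa [Nat.sub_self] at this

end sound

section cover

variable (H : Subgroup G) (lt : Nat → G) (L N : Nat) (tgt sig hnt : Nat → Nat → Nat)
  (dsig mu par plet : Nat → Nat) (F : Nat)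

/-- every element lies in the coset of an alive name. -/
theorem cover (hV : Valid H lt L tgt sig dsig mu par plet 0)
    (hfin : ∀ v, finOK tgt sig hnt dsig mu F L N v = true)
    (h0 : aliveB dsig N 0 = true)
    (hgen : Subgroup.closure (lt '' {y | y < L}) = ⊤)
    (hinv : ∀ y, y < L → ∃ y', y' < L ∧ lt y' = (lt y)⁻¹) :
    ∀ g : G, ∃ v, v < N ∧ dsig v = 0 ∧ Rel H g (rep par plet lt v) := by
  have step : ∀ (x : G) (y : Nat), y < L →
      (∃ v, v < N ∧ dsig v = 0 ∧ Rel H x (rep par plet lt v)) →
      ∃ v, v < N ∧ dsig v = 0 ∧ Rel H (x * lt y) (rep par plet lt v) := by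
    rintro x y hy ⟨v, hv, hd, hr⟩
    obtain ⟨h1, h2, h3⟩ := finOK_spec tgt sig hnt dsig mu F L N v (hfin v) hv hd y hy
    refine ⟨_, h3, h2, ?_⟩
    have r1 := hV.1 y v hy h1
    have r2 := nxt_rel hV F (hnt y v) (tgt y v)
    exact ((hr.mul_right (lt y)).trans r1).trans r2
  intro g
  have hg : g ∈ Subgroup.closure (lt '' {y | y < L}) := by rw [hgen]; exact Subgroup.mem_top g
  have key : (∀ x, (∃ v, v < N ∧ dsig v = 0 ∧ Rel H x (rep par plet lt v)) →
        ∃ v, v < N ∧ dsig v = 0 ∧ Rel H (x * g) (rep par plet lt v)) ∧
      (∀ x, (∃ v, v < N ∧ dsig v = 0 ∧ Rel H x (rep par plet lt v)) →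
        ∃ v, v < N ∧ dsig v = 0 ∧ Rel H (x * g⁻¹) (rep par plet lt v)) := by
    refine Subgroup.closure_induction (p := fun g _ =>
      (∀ x, (∃ v, v < N ∧ dsig v = 0 ∧ Rel H x (rep par plet lt v)) →
        ∃ v, v < N ∧ dsig v = 0 ∧ Rel H (x * g) (rep par plet lt v)) ∧
      (∀ x, (∃ v, v < N ∧ dsig v = 0 ∧ Rel H x (rep par plet lt v)) →
        ∃ v, v < N ∧ dsig v = 0 ∧ Rel H (x * g⁻¹) (rep par plet lt v))) ?_ ?_ ?_ ?_ hg
    · rintro z ⟨y, hy, rfl⟩
      refine ⟨fun x hx => step x y hy hx, fun x hx => ?_⟩
      obtain ⟨y', hy', e⟩ := hinv y hy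
      rw [← e]
      exact step x y' hy' hx
    · refine ⟨fun x hx => ?_, fun x hx => ?_⟩
      · rwa [mul_one]
      · rwa [inv_one, mul_one]
    · rintro a b _ _ ⟨ha1, ha2⟩ ⟨hb1, hb2⟩
      refine ⟨fun x hx => ?_, fun x hx => ?_⟩
      · rw [← mul_assoc]; exact hb1 _ (ha1 x hx)
      · rw [mul_inv_rev, ← mul_assoc]; exact ha2 _ (hb2 x hx)
    · rintro a _ ⟨ha1, ha2⟩
      refine ⟨ha2, fun x hx => ?_⟩
      rw [inv_inv]; exact ha1 x hx
  have h1 := (aliveB_spec dsig N 0).mp h0
  have := key.1 1 ⟨0, h1.1, h1.2, by rw [rep_zero]; exact Rel.refl H 1⟩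
  rwa [one_mul] at this

/-- the index is at most the number of alive names. -/
theorem index_le_card
    (hcov : ∀ g : G, ∃ v, v < N ∧ dsig v = 0 ∧ Rel H g (rep par plet lt v)) :
    H.index ≠ 0 ∧ H.index ≤ ((Finset.range N).filter (fun v => dsig v = 0)).card := by
  let A := {v // v ∈ (Finset.range N).filter (fun v => dsig v = 0)}
  let f : A → G ⧸ H := fun v => (((rep par plet lt v.1)⁻¹ : G) : G ⧸ H)
  have hf : Function.Surjective f := by
    intro q
    induction q using QuotientGroup.induction_on with
    | H g =>
      obtain ⟨v, hv, hd, hr⟩ := hcov g⁻¹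
      refine ⟨⟨v, by simp [hv, hd]⟩, ?_⟩
      show (((rep par plet lt v)⁻¹ : G) : G ⧸ H) = (g : G ⧸ H)
      rw [QuotientGroup.eq, inv_inv]
      have := H.inv_mem hr
      unfold Rel at hr
      rwa [mul_inv_rev, inv_inv, inv_inv] at this
  have hfin : Finite (G ⧸ H) := Finite.of_surjective f hf
  have hle : Nat.card (G ⧸ H) ≤ Nat.card A := Nat.card_le_card_of_surjective f hf
  have hA : Nat.card A = ((Finset.range N).filter (fun v => dsig v = 0)).card := by
    rw [Nat.card_eq_fintype_card, Fintype.card_coe]
  rw [hA] at hle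
  have hpos : 0 < Nat.card (G ⧸ H) := Nat.card_pos
  exact ⟨by show Nat.card (G ⧸ H) ≠ 0; omega, hle⟩

theorem card_alive (d n : Nat) (hNd : N ≤ 2 ^ d) (hcnt : cntTree (aliveB dsig N) d 0 = n) :
    ((Finset.range N).filter (fun v => dsig v = 0)).card = n := by
  rw [← hcnt, cntTree_spec]
  congr 1
  ext v
  simp only [Finset.mem_filter, Finset.mem_range, Finset.mem_Ico, aliveB_spec]
  constructor
  · rintro ⟨h1, h2⟩
    exact ⟨⟨Nat.zero_le _, by omega⟩, h1, h2⟩
  · rintro ⟨_, h1, h2⟩
    exact ⟨h1, h2⟩

end cover

/-- checks of a name beyond the tables are vacuous. -/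
theorem chk_of_zero (tgt sig crt hnt : Nat → Nat → Nat) (dsig mu dcrt dst par plet : Nat → Nat)
    (certs : List Cert) (F L N v : Nat) (hs : ∀ y, sig y v = 0) (hd : dsig v = 0) (hv : N ≤ v) :
    andK (nameOK tgt sig crt hnt dsig mu dcrt dst par plet certs F L v)
      (finOK tgt sig hnt dsig mu F L N v) = true := by
  rw [andK_true, nameOK_spec]
  exact ⟨⟨deathOK_of_zero tgt sig hnt dsig mu dcrt dst certs F v hd,
    fun y _ => entryOK_of_zero tgt sig crt hnt dsig mu par plet certs F y v (hs y)⟩,
    finOK_of_ge tgt sig hnt dsig mu F L N v hv⟩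

/-- Main theorem of the enumeration part: if all checks pass, the index of `H` is positive and
at most `n`. -/
theorem index_le_of_checks (H : Subgroup G) (lt : Nat → G) (L N n d F B : Nat)
    (tgt sig crt hnt : Nat → Nat → Nat) (dsig mu dcrt dst par plet : Nat → Nat)
    (certs : List Cert)
    (hgen : Subgroup.closure (lt '' {y | y < L}) = ⊤)
    (hinv : ∀ y, y < L → ∃ y', y' < L ∧ lt y' = (lt y)⁻¹)
    (hcert : ∀ c ∈ certs, CertGood H lt L c)
    (hB : ∀ y v, sig y v ≤ B) (hB' : ∀ v, dsig v ≤ B)
    (hchk : ∀ v, andK (nameOK tgt sig crt hnt dsig mu dcrt dst par plet certs F L v)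
      (finOK tgt sig hnt dsig mu F L N v) = true)
    (h0 : aliveB dsig N 0 = true)
    (hNd : N ≤ 2 ^ d)
    (hcnt : cntTree (aliveB dsig N) d 0 = n) :
    H.index ≠ 0 ∧ H.index ≤ n := by
  have hname : ∀ v, nameOK tgt sig crt hnt dsig mu dcrt dst par plet certs F L v = true :=
    fun v => (andK_true.mp (hchk v)).1
  have hfin : ∀ v, finOK tgt sig hnt dsig mu F L N v = true :=
    fun v => (andK_true.mp (hchk v)).2
  have hV := valid_all (H := H) (lt := lt) B crt hnt dcrt dst F hB hB' hcert hname
  have hcov := cover H lt L N tgt sig hnt dsig mu par plet F hV hfin h0 hgen hinv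
  have h := index_le_card H lt N dsig par plet hcov
  rw [card_alive N dsig d n hNd hcnt] at h
  exact h

end Cfsg.Agent.Lib.Helper28.TCSound
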