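import Cfsg.Agent.Lib.Helper28.TCKernel
import Cfsg.Agent.Lib.Helper28.TCeUD0

set_option autoImplicit false

namespace Cfsg.Agent.Lib.Helper28.TCeUT

open Cfsg.Agent.Lib.Helper28.TCKernel

def e0top : List (List Nat) := [TCeUD0.e0g0, TCeUD0.e0g1]
def e1top : List (List Nat) := [TCeUD0.e1g0, TCeUD0.e1g1]
def e2top : List (List Nat) := [TCeUD0.e2g0, TCeUD0.e2g1]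
def etops : List (List (List Nat)) := [e0top, e1top, e2top]
def dtop : List (List Nat) := [TCeUD0.dg0, TCeUD0.dg1, TCeUD0.dg2, TCeUD0.dg3]
def tgt : Nat → Nat → Nat := fld3z etops 8 5 31 255 55 16383
def hnt : Nat → Nat → Nat := fld3 etops 8 5 31 255 55 14 65535
def crt : Nat → Nat → Nat := fld3 etops 8 5 31 255 55 30 511
def sig : Nat → Nat → Nat := fld3 etops 8 5 31 255 55 39 65535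
def par : Nat → Nat := fld1 dtop 7 5 31 127 71 0 16383
def plet : Nat → Nat := fld1 dtop 7 5 31 127 71 14 15
def mu : Nat → Nat := fld1 dtop 7 5 31 127 71 18 16383
def dst : Nat → Nat := fld1 dtop 7 5 31 127 71 32 16383
def dcrt : Nat → Nat := fld1 dtop 7 5 31 127 71 46 511
def dsig : Nat → Nat := fld1 dtop 7 5 31 127 71 55 65535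
def nGE : Nat := 2
def certs0 : List Cert := [Cert.mk 1 0 [] [],
  Cert.mk 0 1 [] [1],
  Cert.mk 0 2 [] [2],
  Cert.mk 0 0 [] [0],
  Cert.mk 0 1 [] [2, 1, 2, 1, 2, 1, 2],
  Cert.mk 0 0 [] [1, 0, 1, 0, 1, 0, 1, 0, 1, 0, 1],
  Cert.mk 0 0 [] [2, 0, 2, 0, 2, 0, 2, 0, 2, 0, 2],
  Cert.mk 0 1 [] [0, 1, 0, 1, 0, 1, 0, 1, 0, 1, 0],
  Cert.mk 0 0 [] [1, 0, 2, 1, 0, 2, 0, 1, 2, 0, 1, 0, 1, 0, 2, 0, 2, 0, 1, 2],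
  Cert.mk 2 0 [] [1, 0, 2, 0, 1, 2, 0, 1, 0, 2, 1, 0, 2, 0, 2, 0, 1, 0, 1, 0, 2],
  Cert.mk 2 0 [] [2, 2],
  Cert.mk 2 0 [] [0, 0],
  Cert.mk 2 0 [] [1, 1],
  Cert.mk 0 1 [] [0, 1, 0, 2, 1, 0, 2, 0, 1, 2, 0, 1, 0, 2, 1, 0, 2, 0, 2, 0],
  Cert.mk 0 2 [] [0, 1, 0, 2, 1, 0, 2, 0, 1, 2, 0, 1, 0, 1, 0, 2, 0, 2, 0, 1],
  Cert.mk 2 0 [] [0, 2, 0, 1, 2, 0, 1, 0, 2, 1, 0, 2, 0, 1, 2, 0, 1, 0, 1, 0, 2]]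
def certs1 : List Cert := [Cert.mk 0 0 [] [2, 1, 0, 2, 0, 1, 2, 0, 1, 0, 1, 0, 2, 0, 2, 0, 1, 2, 0, 1],
  Cert.mk 2 0 [] [0, 2, 1, 0, 2, 0, 1, 2, 0, 1, 0, 2, 1, 0, 2, 0, 2, 0, 1, 0, 1],
  Cert.mk 2 0 [] [1, 0, 2, 1, 0, 2, 0, 1, 2, 0, 1, 0, 2, 1, 0, 2, 0, 2, 0, 1, 0],
  Cert.mk 2 0 [] [2, 1, 2, 1, 2, 1, 2, 1],
  Cert.mk 0 0 [] [1, 2, 0, 1, 0, 2, 1, 0, 2, 0, 1, 2, 0, 1, 0, 1, 0, 2, 0, 2],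
  Cert.mk 2 0 [] [2, 0, 1, 2, 0, 1, 0, 2, 1, 0, 2, 0, 2, 0, 1, 0, 1, 0, 2, 1, 0],
  Cert.mk 2 0 [] [0, 1, 0, 1, 0, 2, 1, 0, 2, 0, 1, 2, 0, 1, 0, 2, 1, 0, 2, 0, 2],
  Cert.mk 0 1 [] [2, 0, 1, 0, 1, 0, 2, 0, 2, 0, 1, 2, 0, 1, 0, 2, 1, 0, 2, 0],
  Cert.mk 0 2 [] [0, 1, 0, 1, 0, 2, 1, 0, 2, 0, 1, 2, 0, 1, 0, 2, 1, 0, 2, 0],
  Cert.mk 0 0 [] [1, 0, 2, 1, 0, 2, 0, 1, 2, 0, 1, 0, 2, 1, 0, 2, 0, 2, 0, 1],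
  Cert.mk 2 0 [] [1, 2, 1, 2, 1, 2, 1, 2],
  Cert.mk 0 1 [] [2, 0, 1, 0, 2, 1, 0, 2, 0, 1, 2, 0, 1, 0, 1, 0, 2, 0, 2, 0],
  Cert.mk 2 0 [] [2, 0, 1, 2, 0, 1, 0, 2, 1, 0, 2, 0, 1, 2, 0, 1, 0, 1, 0, 2, 0],
  Cert.mk 0 2 [] [0, 1, 0, 1, 0, 2, 0, 2, 0, 1, 2, 0, 1, 0, 2, 1, 0, 2, 0, 1],
  Cert.mk 2 0 [] [0, 1, 0, 2, 1, 0, 2, 0, 1, 2, 0, 1, 0, 2, 1, 0, 2, 0, 2, 0, 1],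
  Cert.mk 0 0 [] [1, 0, 1, 0, 2, 1, 0, 2, 0, 1, 2, 0, 1, 0, 2, 1, 0, 2, 0, 2]]
def certs2 : List Cert := [Cert.mk 2 0 [] [0, 2, 0, 2, 0, 2, 0, 2, 0, 2, 0, 2],
  Cert.mk 0 0 [] [2, 0, 1, 2, 0, 1, 0, 2, 1, 0, 2, 0, 1, 2, 0, 1, 0, 1, 0, 2],
  Cert.mk 2 0 [] [2, 0, 2, 0, 2, 0, 2, 0, 2, 0, 2, 0],
  Cert.mk 0 2 [] [0, 2, 0, 2, 0, 2, 0, 2, 0, 2, 0],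
  Cert.mk 0 1 [] [0, 2, 0, 1, 2, 0, 1, 0, 1, 0, 2, 0, 2, 0, 1, 2, 0, 1, 0, 2],
  Cert.mk 0 2 [] [0, 1, 2, 0, 1, 0, 1, 0, 2, 0, 2, 0, 1, 2, 0, 1, 0, 2, 1, 0],
  Cert.mk 0 0 [] [2, 0, 1, 2, 0, 1, 0, 1, 0, 2, 0, 2, 0, 1, 2, 0, 1, 0, 2, 1],
  Cert.mk 0 2 [] [0, 2, 0, 1, 2, 0, 1, 0, 2, 1, 0, 2, 0, 1, 2, 0, 1, 0, 1, 0],
  Cert.mk 0 0 [] [1, 2, 0, 1, 0, 1, 0, 2, 0, 2, 0, 1, 2, 0, 1, 0, 2, 1, 0, 2],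
  Cert.mk 0 1 [] [0, 1, 0, 2, 0, 2, 0, 1, 2, 0, 1, 0, 2, 1, 0, 2, 0, 1, 2, 0],
  Cert.mk 2 0 [] [1, 0, 2, 0, 1, 2, 0, 1, 0, 1, 0, 2, 0, 2, 0, 1, 2, 0, 1, 0, 2],
  Cert.mk 0 2 [] [1, 0, 2, 0, 1, 2, 0, 1, 0, 1, 0, 2, 0, 2, 0, 1, 2, 0, 1, 0],
  Cert.mk 0 1 [] [0, 1, 2, 0, 1, 0, 2, 0, 2, 0, 1, 0, 1, 0, 1, 2, 0, 1, 0, 1, 2, 0, 1, 0, 2],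
  Cert.mk 2 0 [] [1, 0, 2, 0, 2, 0, 1, 0, 2, 1, 0, 1, 2, 0, 1, 0, 2, 1, 0, 1, 0, 2, 1, 0, 1, 0],
  Cert.mk 0 2 [] [0, 1, 0, 2, 1, 0, 1, 0, 2, 1, 0, 1, 0, 1, 0, 2, 0, 2, 0, 1, 0, 2, 1, 0, 1],
  Cert.mk 0 0 [] [1, 0, 2, 0, 2, 0, 1, 0, 2, 1, 0, 1, 2, 0, 1, 0, 2, 1, 0, 1, 0, 2, 1, 0, 1]]
def certs3 : List Cert := [Cert.mk 0 1 [] [0, 2, 0, 1, 2, 0, 2, 1, 0, 2, 0, 1, 0, 1, 0, 2, 0, 2, 0, 2, 1, 0, 2, 0, 2],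
  Cert.mk 0 0 [] [1, 2, 0, 1, 0, 2, 0, 2, 0, 1, 0, 1, 0, 1, 2, 0, 1, 0, 1, 2, 0, 1, 0, 2, 1],
  Cert.mk 0 0 [] [1, 0, 1, 0, 2, 0, 2, 0, 1, 0, 2, 1, 0, 1, 2, 0, 1, 0, 2, 1, 0, 1, 0, 2, 1],
  Cert.mk 2 0 [] [0, 1, 0, 1, 0, 1, 0, 1, 0, 1, 0, 1],
  Cert.mk 0 0 [] [2, 0, 2, 0, 1, 0, 1, 0, 1, 2, 0, 1, 0, 1, 2, 0, 1, 0, 2, 1, 0, 1, 2, 0, 1],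
  Cert.mk 0 0 [] [1, 2, 0, 1, 0, 2, 1, 0, 1, 0, 2, 1, 0, 1, 0, 1, 0, 2, 0, 2, 0, 1, 0, 2, 1],
  Cert.mk 0 0 [] [1, 0, 2, 0, 2, 0, 1, 0, 1, 0, 1, 2, 0, 1, 0, 1, 2, 0, 1, 0, 2, 1, 0, 1, 2],
  Cert.mk 2 0 [] [1, 0, 1, 0, 1, 0, 1, 0, 1, 0, 1, 0],
  Cert.mk 0 0 [] [2, 1, 0, 1, 2, 0, 1, 0, 2, 1, 0, 1, 0, 2, 1, 0, 1, 0, 1, 0, 2, 0, 2, 0, 1],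
  Cert.mk 0 0 [] [2, 1, 0, 1, 0, 1, 0, 2, 0, 2, 0, 1, 0, 2, 1, 0, 1, 2, 0, 1, 0, 2, 1, 0, 1],
  Cert.mk 0 2 [] [1, 2, 1, 2, 1, 2, 1],
  Cert.mk 0 0 [] [2, 0, 2, 1, 0, 2, 0, 1, 2, 0, 2, 1, 0, 2, 0, 1, 0, 1, 0, 2, 0, 2, 0, 2, 1],
  Cert.mk 0 1 [] [2, 0, 1, 0, 2, 0, 2, 0, 1, 0, 1, 0, 1, 2, 0, 1, 0, 1, 2, 0, 1, 0, 2, 1, 0],
  Cert.mk 2 0 [] [1, 0, 1, 0, 1, 0, 2, 0, 2, 0, 1, 0, 2, 1, 0, 1, 2, 0, 1, 0, 2, 1, 0, 1, 0, 2],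
  Cert.mk 0 1 [] [0, 2, 1, 0, 2, 0, 1, 2, 0, 1, 0, 2, 1, 0, 2, 0, 2, 0, 1, 0],
  Cert.mk 0 2 [] [0, 2, 0, 1, 0, 1, 0, 1, 2, 0, 1, 0, 1, 2, 0, 1, 0, 2, 1, 0, 1, 2, 0, 1, 0]]
def certs4 : List Cert := [Cert.mk 0 2 [] [0, 2, 0, 1, 0, 1, 0, 2, 1, 0, 2, 0, 1, 2, 0, 1, 0, 2, 1, 0],
  Cert.mk 0 2 [] [1, 0, 2, 0, 1, 2, 0, 1, 0, 2, 1, 0, 2, 0, 2, 0, 1, 0, 1, 0],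
  Cert.mk 2 0 [] [0, 1, 2, 0, 1, 0, 2, 1, 0, 2, 0, 1, 2, 0, 1, 0, 1, 0, 2, 0, 2],
  Cert.mk 0 2 [] [0, 1, 0, 1, 0, 2, 0, 1, 2, 0, 2, 1, 0, 2, 0, 1, 2, 0, 2, 0, 1, 2, 0, 2, 0],
  Cert.mk 0 1 [] [0, 2, 0, 2, 0, 2, 1, 0, 2, 0, 2, 1, 0, 2, 0, 1, 2, 0, 2, 1, 0, 2, 0, 1, 0],
  Cert.mk 0 0 [] [2, 0, 1, 2, 0, 2, 0, 2, 0, 1, 0, 1, 0, 2, 0, 1, 2, 0, 2, 1, 0, 2, 0, 1, 2],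
  Cert.mk 0 0 [] [2, 0, 1, 0, 1, 0, 2, 1, 0, 2, 0, 1, 2, 0, 1, 0, 2, 1, 0, 2],
  Cert.mk 0 0 [] [1, 2, 0, 1, 0, 2, 1, 0, 1, 2, 0, 1, 0, 2, 0, 2, 0, 1, 0, 1, 0, 1, 2, 0, 1],
  Cert.mk 0 0 [] [1, 0, 2, 0, 1, 2, 0, 2, 1, 0, 2, 0, 1, 2, 0, 2, 0, 1, 2, 0, 2, 0, 2, 0, 1],
  Cert.mk 0 1 [] [0, 2, 0, 2, 0, 1, 0, 1, 0, 1, 2, 0, 1, 0, 1, 2, 0, 1, 0, 2, 1, 0, 1, 2, 0],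
  Cert.mk 0 2 [] [0, 2, 1, 0, 2, 0, 1, 2, 0, 2, 0, 1, 2, 0, 2, 0, 2, 0, 1, 0, 1, 0, 2, 0, 1],
  Cert.mk 0 2 [] [0, 2, 0, 2, 0, 1, 0, 1, 0, 2, 0, 1, 2, 0, 2, 1, 0, 2, 0, 1, 2, 0, 2, 0, 1],
  Cert.mk 0 2 [] [0, 1, 2, 0, 2, 1, 0, 2, 0, 1, 2, 0, 2, 0, 1, 2, 0, 2, 0, 2, 0, 1, 0, 1, 0],
  Cert.mk 0 2 [] [1, 0, 2, 0, 1, 2, 0, 2, 0, 1, 2, 0, 2, 0, 2, 0, 1, 0, 1, 0, 2, 0, 1, 2, 0],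
  Cert.mk 2 0 [] [1, 0, 2, 0, 2, 1, 0, 2, 0, 1, 2, 0, 2, 1, 0, 2, 0, 1, 0, 1, 0, 2, 0, 2, 0, 2],
  Cert.mk 2 0 [] [2, 0, 2, 1, 0, 2, 0, 2, 1, 0, 2, 0, 1, 2, 0, 2, 1, 0, 2, 0, 1, 0, 1, 0, 2, 0]]
def certs5 : List Cert := [Cert.mk 0 0 [] [2, 0, 1, 2, 0, 2, 0, 1, 2, 0, 2, 0, 2, 0, 1, 0, 1, 0, 2, 0, 1, 2, 0, 2, 1],
  Cert.mk 0 1 [] [2, 0, 2, 1, 0, 2, 0, 1, 0, 1, 0, 2, 0, 2, 0, 2, 1, 0, 2, 0, 2, 1, 0, 2, 0],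
  Cert.mk 0 0 [] [2, 0, 2, 1, 0, 2, 0, 2, 1, 0, 2, 0, 1, 2, 0, 2, 1, 0, 2, 0, 1, 0, 1, 0, 2],
  Cert.mk 0 2 [] [0, 1, 0, 1, 0, 1, 2, 0, 1, 0, 1, 2, 0, 1, 0, 2, 1, 0, 1, 2, 0, 1, 0, 2, 0],
  Cert.mk 2 0 [] [2, 0, 2, 0, 2, 1, 0, 2, 0, 2, 1, 0, 2, 0, 1, 2, 0, 2, 1, 0, 2, 0, 1, 0, 1, 0],
  Cert.mk 0 1 [] [0, 1, 0, 1, 2, 0, 1, 0, 1, 2, 0, 1, 0, 2, 1, 0, 1, 2, 0, 1, 0, 2, 0, 2, 0],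
  Cert.mk 0 1 [] [0, 2, 1, 0, 2, 0, 1, 2, 0, 1, 0, 1, 0, 2, 0, 2, 0, 1, 2, 0],
  Cert.mk 0 0 [] [2, 0, 2, 0, 1, 0, 1, 0, 2, 0, 1, 2, 0, 2, 1, 0, 2, 0, 1, 2, 0, 2, 0, 1, 2],
  Cert.mk 0 0 [] [1, 0, 1, 0, 2, 0, 2, 0, 2, 1, 0, 2, 0, 2, 1, 0, 2, 0, 1, 2, 0, 2, 1, 0, 2],
  Cert.mk 0 0 [] [2, 1, 0, 2, 0, 1, 2, 0, 2, 0, 1, 2, 0, 2, 0, 2, 0, 1, 0, 1, 0, 2, 0, 1, 2],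
  Cert.mk 0 0 [] [2, 0, 2, 0, 1, 2, 0, 1, 0, 2, 1, 0, 2, 0, 1, 2, 0, 1, 0, 1],
  Cert.mk 0 1 [] [0, 1, 2, 0, 1, 0, 1, 2, 0, 1, 0, 2, 1, 0, 1, 2, 0, 1, 0, 2, 0, 2, 0, 1, 0],
  Cert.mk 0 0 [] [1, 0, 1, 0, 1, 2, 0, 1, 0, 1, 2, 0, 1, 0, 2, 1, 0, 1, 2, 0, 1, 0, 2, 0, 2],
  Cert.mk 0 1 [] [0, 1, 0, 1, 0, 2, 0, 2, 0, 1, 0, 2, 1, 0, 1, 2, 0, 1, 0, 2, 1, 0, 1, 0, 2],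
  Cert.mk 2 0 [] [0, 1, 0, 1, 0, 2, 0, 2, 0, 1, 0, 2, 1, 0, 1, 2, 0, 1, 0, 2, 1, 0, 1, 0, 2, 1],
  Cert.mk 0 2 [] [0, 1, 2, 0, 2, 0, 2, 0, 1, 0, 1, 0, 2, 0, 1, 2, 0, 2, 1, 0, 2, 0, 1, 2, 0]]
def certs6 : List Cert := [Cert.mk 0 0 [] [1, 2, 0, 2, 1, 0, 2, 0, 1, 0, 1, 0, 2, 0, 2, 0, 2, 1, 0, 2, 0, 2, 1, 0, 2],
  Cert.mk 0 1 [] [0, 2, 0, 2, 1, 0, 2, 0, 1, 2, 0, 2, 1, 0, 2, 0, 1, 0, 1, 0, 2, 0, 2, 0, 2],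
  Cert.mk 0 2 [] [0, 2, 1, 0, 2, 0, 2, 1, 0, 2, 0, 1, 2, 0, 2, 1, 0, 2, 0, 1, 0, 1, 0, 2, 0],
  Cert.mk 0 0 [] [1, 2, 0, 1, 0, 2, 1, 0, 2, 0, 2, 0, 1, 0, 1, 0, 2, 1, 0, 2],
  Cert.mk 2 0 [] [0, 2, 0, 1, 2, 0, 2, 0, 2, 0, 1, 0, 1, 0, 2, 0, 1, 2, 0, 2, 1, 0, 2, 0, 1, 2],
  Cert.mk 2 0 [] [2, 1, 0, 1, 2, 0, 1, 0, 2, 0, 2, 0, 1, 0, 1, 0, 1, 2, 0, 1, 0, 1, 2, 0, 1, 0],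
  Cert.mk 0 1 [] [0, 1, 0, 2, 1, 0, 1, 0, 1, 0, 2, 0, 2, 0, 1, 0, 2, 1, 0, 1, 2, 0, 1, 0, 2],
  Cert.mk 0 0 [] [1, 0, 2, 1, 0, 1, 0, 2, 1, 0, 1, 0, 1, 0, 2, 0, 2, 0, 1, 0, 2, 1, 0, 1, 2],
  Cert.mk 2 0 [] [0, 1, 0, 1, 2, 0, 1, 0, 1, 2, 0, 1, 0, 2, 1, 0, 1, 2, 0, 1, 0, 2, 0, 2, 0, 1],
  Cert.mk 2 0 [] [0, 1, 2, 0, 1, 0, 1, 0, 2, 0, 2, 0, 1, 2, 0, 1, 0, 2, 1, 0, 2],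
  Cert.mk 0 1 [] [0, 2, 0, 1, 2, 0, 2, 0, 1, 2, 0, 2, 0, 2, 0, 1, 0, 1, 0, 2, 0, 1, 2, 0, 2],
  Cert.mk 0 2 [] [0, 1, 0, 2, 0, 2, 0, 1, 0, 1, 0, 1, 2, 0, 1, 0, 1, 2, 0, 1, 0, 2, 1, 0, 1],
  Cert.mk 0 2 [] [1, 0, 1, 0, 1, 0, 2, 0, 2, 0, 1, 0, 2, 1, 0, 1, 2, 0, 1, 0, 2, 1, 0, 1, 0],
  Cert.mk 0 1 [] [0, 1, 0, 2, 0, 2, 0, 2, 1, 0, 2, 0, 2, 1, 0, 2, 0, 1, 2, 0, 2, 1, 0, 2, 0],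
  Cert.mk 2 0 [] [0, 1, 0, 1, 0, 2, 0, 2, 0, 1, 2, 0, 1, 0, 2, 1, 0, 2, 0, 1, 2],
  Cert.mk 0 1 [] [2, 0, 1, 0, 2, 1, 0, 1, 2, 0, 1, 0, 2, 0, 2, 0, 1, 0, 1, 0, 1, 2, 0, 1, 0]]
def certs7 : List Cert := [Cert.mk 0 1 [] [0, 2, 0, 1, 2, 0, 2, 1, 0, 2, 0, 1, 2, 0, 2, 0, 1, 2, 0, 2, 0, 2, 0, 1, 0],
  Cert.mk 0 0 [] [2, 1, 0, 2, 0, 2, 1, 0, 2, 0, 1, 2, 0, 2, 1, 0, 2, 0, 1, 0, 1, 0, 2, 0, 2],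
  Cert.mk 2 0 [] [0, 2, 0, 1, 2, 0, 1, 0, 2, 1, 0, 2, 0, 2, 0, 1, 0, 1, 0, 2, 1],
  Cert.mk 2 0 [] [2, 0, 2, 0, 1, 0, 1, 0, 2, 1, 0, 2, 0, 1, 2, 0, 1, 0, 2, 1, 0],
  Cert.mk 0 1 [] [0, 2, 0, 2, 0, 1, 2, 0, 1, 0, 2, 1, 0, 2, 0, 1, 2, 0, 1, 0],
  Cert.mk 0 2 [] [0, 2, 0, 1, 2, 0, 2, 0, 2, 0, 1, 0, 1, 0, 2, 0, 1, 2, 0, 2, 1, 0, 2, 0, 1],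
  Cert.mk 2 0 [] [0, 2, 1, 0, 1, 0, 1, 0, 2, 0, 2, 0, 1, 0, 2, 1, 0, 1, 2, 0, 1, 0, 2, 1, 0, 1],
  Cert.mk 0 0 [] [1, 2, 0, 2, 0, 2, 0, 1, 0, 1, 0, 2, 0, 1, 2, 0, 2, 1, 0, 2, 0, 1, 2, 0, 2],
  Cert.mk 0 1 [] [0, 2, 1, 0, 2, 0, 2, 0, 1, 0, 1, 0, 2, 1, 0, 2, 0, 1, 2, 0],
  Cert.mk 2 0 [] [2, 0, 2, 0, 1, 2, 0, 2, 0, 2, 0, 1, 0, 1, 0, 2, 0, 1, 2, 0, 2, 1, 0, 2, 0, 1],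
  Cert.mk 0 0 [] [1, 2, 0, 1, 0, 1, 2, 0, 1, 0, 2, 1, 0, 1, 2, 0, 1, 0, 2, 0, 2, 0, 1, 0, 1],
  Cert.mk 2 0 [] [0, 2, 0, 1, 2, 0, 1, 0, 1, 0, 2, 0, 2, 0, 1, 2, 0, 1, 0, 2, 1],
  Cert.mk 0 0 [] [2, 0, 1, 0, 1, 0, 1, 2, 0, 1, 0, 1, 2, 0, 1, 0, 2, 1, 0, 1, 2, 0, 1, 0, 2],
  Cert.mk 0 0 [] [2, 1, 0, 2, 0, 1, 2, 0, 2, 1, 0, 2, 0, 1, 0, 1, 0, 2, 0, 2, 0, 2, 1, 0, 2],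
  Cert.mk 2 0 [] [1, 2, 0, 1, 0, 2, 1, 0, 1, 2, 0, 1, 0, 2, 0, 2, 0, 1, 0, 1, 0, 1, 2, 0, 1, 0],
  Cert.mk 2 0 [] [0, 1, 0, 2, 1, 0, 2, 0, 1, 2, 0, 1, 0, 1, 0, 2, 0, 2, 0, 1, 2]]
def certs8 : List Cert := [Cert.mk 0 2 [] [1, 0, 1, 2, 0, 1, 0, 2, 0, 2, 0, 1, 0, 1, 0, 1, 2, 0, 1, 0, 1, 2, 0, 1, 0],
  Cert.mk 2 0 [] [1, 2, 0, 2, 1, 0, 2, 0, 1, 0, 1, 0, 2, 0, 2, 0, 2, 1, 0, 2, 0, 2, 1, 0, 2, 0],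
  Cert.mk 0 1 [] [0, 2, 0, 2, 0, 1, 0, 1, 0, 2, 1, 0, 2, 0, 1, 2, 0, 1, 0, 2],
  Cert.mk 0 2 [] [0, 1, 0, 2, 1, 0, 2, 0, 2, 0, 1, 0, 1, 0, 2, 1, 0, 2, 0, 1],
  Cert.mk 0 2 [] [0, 1, 2, 0, 1, 0, 2, 1, 0, 2, 0, 1, 2, 0, 1, 0, 1, 0, 2, 0],
  Cert.mk 2 0 [] [1, 0, 2, 0, 1, 2, 0, 2, 1, 0, 2, 0, 1, 0, 1, 0, 2, 0, 2, 0, 2, 1, 0, 2, 0, 2],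
  Cert.mk 0 2 [] [0, 2, 0, 2, 1, 0, 2, 0, 2, 1, 0, 2, 0, 1, 2, 0, 2, 1, 0, 2, 0, 1, 0, 1, 0],
  Cert.mk 2 0 [] [1, 0, 2, 1, 0, 2, 0, 1, 2, 0, 1, 0, 1, 0, 2, 0, 2, 0, 1, 2, 0],
  Cert.mk 2 0 [] [1, 0, 2, 0, 2, 0, 1, 0, 1, 0, 2, 1, 0, 2, 0, 1, 2, 0, 1, 0, 2],
  Cert.mk 0 2 [] [1, 0, 2, 0, 2, 1, 0, 2, 0, 1, 2, 0, 2, 1, 0, 2, 0, 1, 0, 1, 0, 2, 0, 2, 0],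
  Cert.mk 0 2 [] [1, 0, 1, 0, 2, 1, 0, 1, 0, 1, 0, 2, 0, 2, 0, 1, 0, 2, 1, 0, 1, 2, 0, 1, 0],
  Cert.mk 2 0 [] [2, 0, 1, 0, 1, 2, 0, 1, 0, 2, 1, 0, 1, 2, 0, 1, 0, 2, 0, 2, 0, 1, 0, 1, 0, 1],
  Cert.mk 0 1 [] [2, 0, 2, 1, 0, 2, 0, 1, 2, 0, 2, 0, 1, 2, 0, 2, 0, 2, 0, 1, 0, 1, 0, 2, 0],
  Cert.mk 2 0 [] [0, 2, 1, 0, 2, 0, 1, 2, 0, 2, 1, 0, 2, 0, 1, 0, 1, 0, 2, 0, 2, 0, 2, 1, 0, 2],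
  Cert.mk 2 0 [] [1, 0, 2, 1, 0, 1, 2, 0, 1, 0, 2, 0, 2, 0, 1, 0, 1, 0, 1, 2, 0, 1, 0, 1, 2, 0],
  Cert.mk 2 0 [] [0, 2, 0, 2, 0, 1, 2, 0, 1, 0, 2, 1, 0, 2, 0, 1, 2, 0, 1, 0, 1]]
def certs9 : List Cert := [Cert.mk 2 0 [] [1, 0, 1, 0, 2, 1, 0, 2, 0, 1, 2, 0, 1, 0, 2, 1, 0, 2, 0, 2, 0],
  Cert.mk 0 1 [] [2, 0, 1, 0, 2, 1, 0, 1, 0, 2, 1, 0, 1, 0, 1, 0, 2, 0, 2, 0, 1, 0, 2, 1, 0],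
  Cert.mk 0 0 [] [2, 0, 1, 0, 1, 0, 2, 0, 1, 2, 0, 2, 1, 0, 2, 0, 1, 2, 0, 2, 0, 1, 2, 0, 2],
  Cert.mk 2 0 [] [1, 2, 0, 1, 0, 2, 1, 0, 2, 0, 1, 2, 0, 1, 0, 1, 0, 2, 0, 2, 0],
  Cert.mk 2 0 [] [0, 2, 1, 0, 1, 2, 0, 1, 0, 2, 1, 0, 1, 0, 2, 1, 0, 1, 0, 1, 0, 2, 0, 2, 0, 1],
  Cert.mk 2 0 [] [2, 0, 1, 2, 0, 2, 0, 2, 0, 1, 0, 1, 0, 2, 0, 1, 2, 0, 2, 1, 0, 2, 0, 1, 2, 0],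
  Cert.mk 0 0 [] [2, 0, 2, 0, 2, 1, 0, 2, 0, 2, 1, 0, 2, 0, 1, 2, 0, 2, 1, 0, 2, 0, 1, 0, 1],
  Cert.mk 2 0 [] [1, 2, 0, 1, 0, 1, 0, 2, 0, 2, 0, 1, 2, 0, 1, 0, 2, 1, 0, 2, 0],
  Cert.mk 2 0 [] [0, 2, 0, 1, 0, 1, 0, 2, 0, 1, 2, 0, 2, 1, 0, 2, 0, 1, 2, 0, 2, 0, 1, 2, 0, 2],
  Cert.mk 0 1 [] [0, 2, 1, 0, 1, 0, 2, 1, 0, 1, 0, 1, 0, 2, 0, 2, 0, 1, 0, 2, 1, 0, 1, 2, 0],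
  Cert.mk 0 1 [] [0, 2, 0, 1, 0, 1, 0, 2, 0, 2, 0, 2, 1, 0, 2, 0, 2, 1, 0, 2, 0, 1, 2, 0, 2],
  Cert.mk 2 0 [] [2, 1, 0, 2, 0, 1, 2, 0, 2, 0, 1, 2, 0, 2, 0, 2, 0, 1, 0, 1, 0, 2, 0, 1, 2, 0],
  Cert.mk 2 0 [] [0, 2, 0, 2, 0, 1, 0, 1, 0, 2, 0, 1, 2, 0, 2, 1, 0, 2, 0, 1, 2, 0, 2, 0, 1, 2],
  Cert.mk 0 0 [] [2, 1, 0, 2, 0, 2, 0, 1, 0, 1, 0, 2, 1, 0, 2, 0, 1, 2, 0, 1],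
  Cert.mk 0 1 [] [0, 2, 0, 1, 2, 0, 1, 0, 2, 1, 0, 2, 0, 2, 0, 1, 0, 1, 0, 2],
  Cert.mk 0 2 [] [1, 0, 1, 2, 0, 1, 0, 2, 1, 0, 1, 0, 2, 1, 0, 1, 0, 1, 0, 2, 0, 2, 0, 1, 0]]
def certs10 : List Cert := [Cert.mk 2 0 [] [2, 1, 0, 2, 0, 2, 1, 0, 2, 0, 1, 2, 0, 2, 1, 0, 2, 0, 1, 0, 1, 0, 2, 0, 2, 0],
  Cert.mk 2 0 [] [1, 0, 1, 0, 2, 0, 2, 0, 1, 2, 0, 1, 0, 2, 1, 0, 2, 0, 1, 2, 0],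
  Cert.mk 0 1 [] [0, 2, 1, 0, 1, 0, 1, 0, 2, 0, 2, 0, 1, 0, 2, 1, 0, 1, 2, 0, 1, 0, 2, 1, 0],
  Cert.mk 2 0 [] [1, 2, 0, 1, 0, 1, 2, 0, 1, 0, 2, 1, 0, 1, 2, 0, 1, 0, 2, 0, 2, 0, 1, 0, 1, 0],
  Cert.mk 0 0 [] [1, 0, 1, 2, 0, 1, 0, 2, 1, 0, 1, 2, 0, 1, 0, 2, 0, 2, 0, 1, 0, 1, 0, 1, 2],
  Cert.mk 0 0 [] [1, 0, 1, 0, 2, 0, 2, 0, 1, 2, 0, 1, 0, 2, 1, 0, 2, 0, 1, 2],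
  Cert.mk 2 0 [] [2, 0, 2, 0, 1, 0, 1, 0, 2, 0, 1, 2, 0, 2, 1, 0, 2, 0, 1, 2, 0, 2, 0, 1, 2, 0],
  Cert.mk 0 1 [] [0, 2, 1, 0, 1, 2, 0, 1, 0, 2, 0, 2, 0, 1, 0, 1, 0, 1, 2, 0, 1, 0, 1, 2, 0],
  Cert.mk 0 0 [] [2, 0, 2, 0, 1, 0, 2, 1, 0, 1, 2, 0, 1, 0, 2, 1, 0, 1, 0, 2, 1, 0, 1, 0, 1],
  Cert.mk 2 0 [] [2, 0, 1, 0, 1, 0, 2, 1, 0, 2, 0, 1, 2, 0, 1, 0, 2, 1, 0, 2, 0],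
  Cert.mk 2 0 [] [0, 2, 1, 0, 2, 0, 2, 1, 0, 2, 0, 1, 2, 0, 2, 1, 0, 2, 0, 1, 0, 1, 0, 2, 0, 2],
  Cert.mk 0 0 [] [1, 2, 0, 2, 1, 0, 2, 0, 1, 2, 0, 2, 0, 1, 2, 0, 2, 0, 2, 0, 1, 0, 1, 0, 2],
  Cert.mk 2 0 [] [1, 2, 0, 1, 0, 2, 0, 2, 0, 1, 0, 1, 0, 1, 2, 0, 1, 0, 1, 2, 0, 1, 0, 2, 1, 0],
  Cert.mk 2 0 [] [1, 0, 2, 0, 1, 2, 0, 2, 1, 0, 2, 0, 1, 2, 0, 2, 0, 1, 2, 0, 2, 0, 2, 0, 1, 0],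
  Cert.mk 0 0 [] [1, 0, 2, 0, 2, 0, 1, 2, 0, 1, 0, 2, 1, 0, 2, 0, 1, 2, 0, 1],
  Cert.mk 0 1 [] [0, 2, 1, 0, 1, 2, 0, 1, 0, 2, 1, 0, 1, 0, 2, 1, 0, 1, 0, 1, 0, 2, 0, 2, 0]]
def certs11 : List Cert := [Cert.mk 2 0 [] [0, 1, 2, 0, 1, 0, 2, 1, 0, 1, 0, 2, 1, 0, 1, 0, 1, 0, 2, 0, 2, 0, 1, 0, 2, 1],
  Cert.mk 2 0 [] [2, 0, 1, 0, 2, 1, 0, 2, 0, 2, 0, 1, 0, 1, 0, 2, 1, 0, 2, 0, 1],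
  Cert.mk 2 0 [] [2, 1, 0, 2, 0, 1, 2, 0, 2, 1, 0, 2, 0, 1, 0, 1, 0, 2, 0, 2, 0, 2, 1, 0, 2, 0],
  Cert.mk 0 2 [] [0, 1, 2, 0, 2, 1, 0, 2, 0, 1, 0, 1, 0, 2, 0, 2, 0, 2, 1, 0, 2, 0, 2, 1, 0],
  Cert.mk 2 0 [] [0, 1, 0, 2, 0, 2, 0, 1, 0, 2, 1, 0, 1, 2, 0, 1, 0, 2, 1, 0, 1, 0, 2, 1, 0, 1],
  Cert.mk 2 0 [] [2, 1, 0, 2, 0, 1, 2, 0, 1, 0, 2, 1, 0, 2, 0, 2, 0, 1, 0, 1, 0],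
  Cert.mk 0 2 [] [1, 0, 2, 0, 2, 0, 1, 0, 1, 0, 2, 1, 0, 2, 0, 1, 2, 0, 1, 0],
  Cert.mk 2 0 [] [0, 1, 0, 2, 1, 0, 2, 0, 2, 0, 1, 0, 1, 0, 2, 1, 0, 2, 0, 1, 2],
  Cert.mk 0 0 [] [1, 0, 2, 0, 2, 0, 2, 1, 0, 2, 0, 2, 1, 0, 2, 0, 1, 2, 0, 2, 1, 0, 2, 0, 1],
  Cert.mk 0 1 [] [0, 1, 2, 0, 1, 0, 2, 1, 0, 1, 0, 2, 1, 0, 1, 0, 1, 0, 2, 0, 2, 0, 1, 0, 2],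
  Cert.mk 2 0 [] [2, 0, 2, 0, 1, 0, 2, 1, 0, 1, 2, 0, 1, 0, 2, 1, 0, 1, 0, 2, 1, 0, 1, 0, 1, 0],
  Cert.mk 2 0 [] [2, 1, 0, 2, 0, 1, 2, 0, 1, 0, 1, 0, 2, 0, 2, 0, 1, 2, 0, 1, 0],
  Cert.mk 2 0 [] [1, 2, 0, 2, 1, 0, 2, 0, 1, 2, 0, 2, 0, 1, 2, 0, 2, 0, 2, 0, 1, 0, 1, 0, 2, 0],
  Cert.mk 0 2 [] [0, 2, 1, 0, 2, 0, 1, 0, 1, 0, 2, 0, 2, 0, 2, 1, 0, 2, 0, 2, 1, 0, 2, 0, 1],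
  Cert.mk 0 2 [] [0, 1, 2, 0, 2, 0, 1, 2, 0, 2, 0, 2, 0, 1, 0, 1, 0, 2, 0, 1, 2, 0, 2, 1, 0],
  Cert.mk 0 2 [] [1, 0, 2, 0, 1, 2, 0, 2, 1, 0, 2, 0, 1, 0, 1, 0, 2, 0, 2, 0, 2, 1, 0, 2, 0]]
def certs12 : List Cert := [Cert.mk 0 1 [] [2, 0, 1, 0, 1, 2, 0, 1, 0, 2, 1, 0, 1, 2, 0, 1, 0, 2, 0, 2, 0, 1, 0, 1, 0],
  Cert.mk 2 0 [] [0, 1, 0, 1, 0, 1, 2, 0, 1, 0, 1, 2, 0, 1, 0, 2, 1, 0, 1, 2, 0, 1, 0, 2, 0, 2],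
  Cert.mk 0 2 [] [0, 1, 0, 1, 2, 0, 1, 0, 2, 1, 0, 1, 2, 0, 1, 0, 2, 0, 2, 0, 1, 0, 1, 0, 1],
  Cert.mk 2 0 [] [0, 2, 0, 2, 0, 1, 0, 1, 0, 1, 2, 0, 1, 0, 1, 2, 0, 1, 0, 2, 1, 0, 1, 2, 0, 1],
  Cert.mk 2 0 [] [0, 2, 0, 1, 0, 2, 1, 0, 1, 2, 0, 1, 0, 2, 1, 0, 1, 0, 2, 1, 0, 1, 0, 1, 0, 2],
  Cert.mk 2 0 [] [1, 0, 2, 1, 0, 2, 0, 2, 0, 1, 0, 1, 0, 2, 1, 0, 2, 0, 1, 2, 0],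
  Cert.mk 2 0 [] [2, 0, 2, 0, 1, 2, 0, 1, 0, 2, 1, 0, 2, 0, 1, 2, 0, 1, 0, 1, 0],
  Cert.mk 0 2 [] [0, 1, 0, 2, 1, 0, 1, 2, 0, 1, 0, 2, 1, 0, 1, 0, 2, 1, 0, 1, 0, 1, 0, 2, 0],
  Cert.mk 2 0 [] [0, 2, 1, 0, 2, 0, 2, 0, 1, 0, 1, 0, 2, 1, 0, 2, 0, 1, 2, 0, 1],
  Cert.mk 2 0 [] [1, 0, 1, 0, 2, 0, 2, 0, 1, 0, 2, 1, 0, 1, 2, 0, 1, 0, 2, 1, 0, 1, 0, 2, 1, 0],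
  Cert.mk 0 0 [] [1, 0, 2, 1, 0, 1, 2, 0, 1, 0, 2, 1, 0, 1, 0, 2, 1, 0, 1, 0, 1, 0, 2, 0, 2],
  Cert.mk 0 0 [] [2, 1, 0, 2, 0, 1, 2, 0, 1, 0, 2, 1, 0, 2, 0, 2, 0, 1, 0, 1],
  Cert.mk 2 0 [] [0, 2, 0, 1, 0, 1, 0, 1, 2, 0, 1, 0, 1, 2, 0, 1, 0, 2, 1, 0, 1, 2, 0, 1, 0, 2],
  Cert.mk 0 0 [] [2, 1, 0, 1, 0, 2, 1, 0, 1, 0, 1, 0, 2, 0, 2, 0, 1, 0, 2, 1, 0, 1, 2, 0, 1],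
  Cert.mk 0 0 [] [2, 1, 0, 1, 2, 0, 1, 0, 2, 0, 2, 0, 1, 0, 1, 0, 1, 2, 0, 1, 0, 1, 2, 0, 1],
  Cert.mk 0 0 [] [1, 0, 2, 1, 0, 2, 0, 2, 0, 1, 0, 1, 0, 2, 1, 0, 2, 0, 1, 2]]
def certs13 : List Cert := [Cert.mk 0 0 [] [2, 0, 1, 0, 1, 0, 2, 0, 2, 0, 2, 1, 0, 2, 0, 2, 1, 0, 2, 0, 1, 2, 0, 2, 1],
  Cert.mk 2 0 [] [0, 1, 2, 0, 2, 0, 2, 0, 1, 0, 1, 0, 2, 0, 1, 2, 0, 2, 1, 0, 2, 0, 1, 2, 0, 2],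
  Cert.mk 2 0 [] [0, 1, 2, 0, 2, 0, 1, 2, 0, 2, 0, 2, 0, 1, 0, 1, 0, 2, 0, 1, 2, 0, 2, 1, 0, 2],
  Cert.mk 2 0 [] [0, 2, 0, 2, 1, 0, 2, 0, 2, 1, 0, 2, 0, 1, 2, 0, 2, 1, 0, 2, 0, 1, 0, 1, 0, 2],
  Cert.mk 2 0 [] [0, 2, 0, 2, 0, 1, 0, 1, 0, 2, 1, 0, 2, 0, 1, 2, 0, 1, 0, 2, 1],
  Cert.mk 0 1 [] [0, 2, 0, 2, 0, 1, 0, 2, 1, 0, 1, 2, 0, 1, 0, 2, 1, 0, 1, 0, 2, 1, 0, 1, 0],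
  Cert.mk 2 0 [] [1, 2, 0, 1, 0, 2, 1, 0, 1, 0, 2, 1, 0, 1, 0, 1, 0, 2, 0, 2, 0, 1, 0, 2, 1, 0],
  Cert.mk 2 0 [] [0, 1, 0, 2, 1, 0, 1, 2, 0, 1, 0, 2, 1, 0, 1, 0, 2, 1, 0, 1, 0, 1, 0, 2, 0, 2],
  Cert.mk 0 0 [] [1, 0, 2, 1, 0, 1, 0, 1, 0, 2, 0, 2, 0, 1, 0, 2, 1, 0, 1, 2, 0, 1, 0, 2, 1],
  Cert.mk 2 0 [] [1, 0, 1, 2, 0, 1, 0, 1, 2, 0, 1, 0, 2, 1, 0, 1, 2, 0, 1, 0, 2, 0, 2, 0, 1, 0],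
  Cert.mk 2 0 [] [0, 1, 0, 2, 0, 2, 0, 1, 0, 1, 0, 1, 2, 0, 1, 0, 1, 2, 0, 1, 0, 2, 1, 0, 1, 2],
  Cert.mk 2 0 [] [2, 0, 1, 0, 2, 1, 0, 1, 2, 0, 1, 0, 2, 0, 2, 0, 1, 0, 1, 0, 1, 2, 0, 1, 0, 1],
  Cert.mk 2 0 [] [2, 0, 1, 0, 2, 0, 2, 0, 1, 0, 1, 0, 1, 2, 0, 1, 0, 1, 2, 0, 1, 0, 2, 1, 0, 1],
  Cert.mk 2 0 [] [2, 0, 2, 1, 0, 2, 0, 1, 2, 0, 2, 0, 1, 2, 0, 2, 0, 2, 0, 1, 0, 1, 0, 2, 0, 1],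
  Cert.mk 2 0 [] [0, 2, 1, 0, 2, 0, 1, 2, 0, 1, 0, 1, 0, 2, 0, 2, 0, 1, 2, 0, 1],
  Cert.mk 2 0 [] [2, 0, 1, 0, 1, 0, 2, 0, 2, 0, 1, 2, 0, 1, 0, 2, 1, 0, 2, 0, 1]]
def certs14 : List Cert := [Cert.mk 0 2 [] [0, 1, 0, 2, 1, 0, 1, 2, 0, 1, 0, 2, 0, 2, 0, 1, 0, 1, 0, 1, 2, 0, 1, 0, 1],
  Cert.mk 2 0 [] [0, 2, 0, 1, 0, 1, 0, 2, 1, 0, 2, 0, 1, 2, 0, 1, 0, 2, 1, 0, 2],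
  Cert.mk 2 0 [] [2, 0, 2, 1, 0, 2, 0, 1, 2, 0, 2, 1, 0, 2, 0, 1, 0, 1, 0, 2, 0, 2, 0, 2, 1, 0],
  Cert.mk 2 0 [] [0, 1, 0, 2, 1, 0, 1, 0, 2, 1, 0, 1, 0, 1, 0, 2, 0, 2, 0, 1, 0, 2, 1, 0, 1, 2],
  Cert.mk 0 0 [] [2, 0, 1, 0, 2, 1, 0, 1, 2, 0, 1, 0, 2, 1, 0, 1, 0, 2, 1, 0, 1, 0, 1, 0, 2],
  Cert.mk 2 0 [] [0, 2, 0, 1, 0, 1, 0, 2, 0, 2, 0, 2, 1, 0, 2, 0, 2, 1, 0, 2, 0, 1, 2, 0, 2, 1],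
  Cert.mk 2 0 [] [0, 1, 0, 2, 0, 1, 2, 0, 2, 1, 0, 2, 0, 1, 2, 0, 2, 0, 1, 2, 0, 2, 0, 2, 0, 1],
  Cert.mk 0 0 [] [2, 0, 1, 2, 0, 2, 1, 0, 2, 0, 1, 0, 1, 0, 2, 0, 2, 0, 2, 1, 0, 2, 0, 2, 1],
  Cert.mk 0 0 [] [1, 2, 0, 2, 0, 1, 2, 0, 2, 0, 2, 0, 1, 0, 1, 0, 2, 0, 1, 2, 0, 2, 1, 0, 2],
  Cert.mk 2 0 [] [1, 0, 1, 0, 2, 0, 2, 0, 2, 1, 0, 2, 0, 2, 1, 0, 2, 0, 1, 2, 0, 2, 1, 0, 2, 0],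
  Cert.mk 2 0 [] [1, 0, 2, 0, 1, 2, 0, 2, 0, 1, 2, 0, 2, 0, 2, 0, 1, 0, 1, 0, 2, 0, 1, 2, 0, 2],
  Cert.mk 0 0 [] [2, 0, 2, 0, 1, 0, 1, 0, 2, 1, 0, 2, 0, 1, 2, 0, 1, 0, 2, 1],
  Cert.mk 2 0 [] [1, 0, 2, 0, 2, 0, 2, 1, 0, 2, 0, 2, 1, 0, 2, 0, 1, 2, 0, 2, 1, 0, 2, 0, 1, 0],
  Cert.mk 2 0 [] [0, 2, 0, 1, 2, 0, 2, 0, 1, 2, 0, 2, 0, 2, 0, 1, 0, 1, 0, 2, 0, 1, 2, 0, 2, 1],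
  Cert.mk 2 0 [] [0, 1, 0, 2, 0, 2, 0, 2, 1, 0, 2, 0, 2, 1, 0, 2, 0, 1, 2, 0, 2, 1, 0, 2, 0, 1],
  Cert.mk 0 0 [] [2, 0, 1, 2, 0, 1, 0, 2, 1, 0, 2, 0, 2, 0, 1, 0, 1, 0, 2, 1]]
def certs15 : List Cert := [Cert.mk 2 0 [] [1, 0, 2, 0, 2, 0, 1, 0, 1, 0, 1, 2, 0, 1, 0, 1, 2, 0, 1, 0, 2, 1, 0, 1, 2, 0],
  Cert.mk 2 0 [] [0, 1, 2, 0, 1, 0, 2, 1, 0, 2, 0, 2, 0, 1, 0, 1, 0, 2, 1, 0, 2],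
  Cert.mk 2 0 [] [1, 0, 2, 1, 0, 1, 0, 2, 1, 0, 1, 0, 1, 0, 2, 0, 2, 0, 1, 0, 2, 1, 0, 1, 2, 0],
  Cert.mk 0 0 [] [1, 0, 1, 2, 0, 1, 0, 1, 2, 0, 1, 0, 2, 1, 0, 1, 2, 0, 1, 0, 2, 0, 2, 0, 1],
  Cert.mk 2 0 [] [1, 0, 1, 0, 1, 2, 0, 1, 0, 1, 2, 0, 1, 0, 2, 1, 0, 1, 2, 0, 1, 0, 2, 0, 2, 0],
  Cert.mk 2 0 [] [2, 0, 1, 0, 2, 1, 0, 1, 0, 2, 1, 0, 1, 0, 1, 0, 2, 0, 2, 0, 1, 0, 2, 1, 0, 1],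
  Cert.mk 2 0 [] [2, 0, 1, 2, 0, 1, 0, 1, 0, 2, 0, 2, 0, 1, 2, 0, 1, 0, 2, 1, 0],
  Cert.mk 0 0 [] [1, 0, 2, 1, 0, 1, 2, 0, 1, 0, 2, 0, 2, 0, 1, 0, 1, 0, 1, 2, 0, 1, 0, 1, 2],
  Cert.mk 2 0 [] [1, 0, 1, 2, 0, 1, 0, 2, 1, 0, 1, 2, 0, 1, 0, 2, 0, 2, 0, 1, 0, 1, 0, 1, 2, 0],
  Cert.mk 2 0 [] [2, 0, 1, 0, 1, 0, 1, 2, 0, 1, 0, 1, 2, 0, 1, 0, 2, 1, 0, 1, 2, 0, 1, 0, 2, 0],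
  Cert.mk 0 0 [] [2, 0, 1, 2, 0, 2, 1, 0, 2, 0, 1, 2, 0, 2, 0, 1, 2, 0, 2, 0, 2, 0, 1, 0, 1],
  Cert.mk 2 0 [] [0, 2, 1, 0, 1, 0, 2, 1, 0, 1, 0, 1, 0, 2, 0, 2, 0, 1, 0, 2, 1, 0, 1, 2, 0, 1],
  Cert.mk 2 0 [] [0, 1, 0, 1, 0, 2, 0, 2, 0, 2, 1, 0, 2, 0, 2, 1, 0, 2, 0, 1, 2, 0, 2, 1, 0, 2],
  Cert.mk 2 0 [] [1, 0, 1, 0, 2, 0, 1, 2, 0, 2, 1, 0, 2, 0, 1, 2, 0, 2, 0, 1, 2, 0, 2, 0, 2, 0],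
  Cert.mk 2 0 [] [2, 1, 0, 1, 0, 2, 1, 0, 1, 0, 1, 0, 2, 0, 2, 0, 1, 0, 2, 1, 0, 1, 2, 0, 1, 0],
  Cert.mk 2 0 [] [0, 1, 2, 0, 1, 0, 1, 2, 0, 1, 0, 2, 1, 0, 1, 2, 0, 1, 0, 2, 0, 2, 0, 1, 0, 1]]
def certs16 : List Cert := [Cert.mk 2 0 [] [0, 2, 0, 2, 1, 0, 2, 0, 1, 2, 0, 2, 1, 0, 2, 0, 1, 0, 1, 0, 2, 0, 2, 0, 2, 1],
  Cert.mk 2 0 [] [0, 1, 2, 0, 1, 0, 2, 1, 0, 1, 2, 0, 1, 0, 2, 0, 2, 0, 1, 0, 1, 0, 1, 2, 0, 1],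
  Cert.mk 0 2 [] [0, 2, 0, 1, 0, 1, 0, 2, 0, 1, 2, 0, 2, 1, 0, 2, 0, 1, 2, 0, 2, 0, 1, 2, 0],
  Cert.mk 0 1 [] [2, 0, 2, 0, 1, 2, 0, 2, 0, 2, 0, 1, 0, 1, 0, 2, 0, 1, 2, 0, 2, 1, 0, 2, 0],
  Cert.mk 0 1 [] [2, 0, 2, 0, 2, 0, 1, 0, 1, 0, 2, 0, 1, 2, 0, 2, 1, 0, 2, 0, 1, 2, 0, 2, 0],
  Cert.mk 0 2 [] [0, 1, 2, 0, 1, 0, 2, 1, 0, 2, 0, 2, 0, 1, 0, 1, 0, 2, 1, 0],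
  Cert.mk 2 0 [] [0, 2, 1, 0, 2, 0, 1, 2, 0, 2, 0, 1, 2, 0, 2, 0, 2, 0, 1, 0, 1, 0, 2, 0, 1, 2],
  Cert.mk 2 0 [] [2, 0, 1, 0, 1, 0, 2, 0, 2, 0, 2, 1, 0, 2, 0, 2, 1, 0, 2, 0, 1, 2, 0, 2, 1, 0],
  Cert.mk 2 0 [] [2, 0, 1, 2, 0, 2, 0, 1, 2, 0, 2, 0, 2, 0, 1, 0, 1, 0, 2, 0, 1, 2, 0, 2, 1, 0],
  Cert.mk 2 0 [] [1, 0, 1, 0, 2, 1, 0, 1, 0, 1, 0, 2, 0, 2, 0, 1, 0, 2, 1, 0, 1, 2, 0, 1, 0, 2],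
  Cert.mk 2 0 [] [1, 0, 1, 2, 0, 1, 0, 2, 0, 2, 0, 1, 0, 1, 0, 1, 2, 0, 1, 0, 1, 2, 0, 1, 0, 2],
  Cert.mk 2 0 [] [1, 2, 0, 2, 0, 2, 0, 1, 0, 1, 0, 2, 0, 1, 2, 0, 2, 1, 0, 2, 0, 1, 2, 0, 2, 0],
  Cert.mk 0 2 [] [0, 2, 1, 0, 2, 0, 1, 2, 0, 2, 1, 0, 2, 0, 1, 0, 1, 0, 2, 0, 2, 0, 2, 1, 0],
  Cert.mk 2 0 [] [2, 0, 1, 0, 2, 1, 0, 1, 2, 0, 1, 0, 2, 1, 0, 1, 0, 2, 1, 0, 1, 0, 1, 0, 2, 0],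
  Cert.mk 2 0 [] [0, 1, 2, 0, 1, 0, 2, 0, 2, 0, 1, 0, 1, 0, 1, 2, 0, 1, 0, 1, 2, 0, 1, 0, 2, 1],
  Cert.mk 2 0 [] [2, 0, 1, 2, 0, 2, 1, 0, 2, 0, 1, 0, 1, 0, 2, 0, 2, 0, 2, 1, 0, 2, 0, 2, 1, 0]]
def certs17 : List Cert := [Cert.mk 0 1 [] [2, 0, 1, 0, 2, 1, 0, 2, 0, 2, 0, 1, 0, 1, 0, 2, 1, 0, 2, 0],
  Cert.mk 2 0 [] [0, 1, 0, 1, 2, 0, 1, 0, 2, 1, 0, 1, 2, 0, 1, 0, 2, 0, 2, 0, 1, 0, 1, 0, 1, 2],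
  Cert.mk 2 0 [] [2, 1, 0, 1, 0, 1, 0, 2, 0, 2, 0, 1, 0, 2, 1, 0, 1, 2, 0, 1, 0, 2, 1, 0, 1, 0],
  Cert.mk 2 0 [] [2, 0, 1, 0, 2, 1, 0, 2, 0, 1, 2, 0, 1, 0, 1, 0, 2, 0, 2, 0, 1],
  Cert.mk 2 0 [] [0, 2, 1, 0, 1, 2, 0, 1, 0, 2, 0, 2, 0, 1, 0, 1, 0, 1, 2, 0, 1, 0, 1, 2, 0, 1],
  Cert.mk 0 2 [] [0, 2, 0, 1, 0, 2, 1, 0, 1, 2, 0, 1, 0, 2, 1, 0, 1, 0, 2, 1, 0, 1, 0, 1, 0],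
  Cert.mk 0 1 [] [0, 1, 2, 0, 1, 0, 2, 1, 0, 1, 2, 0, 1, 0, 2, 0, 2, 0, 1, 0, 1, 0, 1, 2, 0],
  Cert.mk 2 0 [] [0, 1, 2, 0, 2, 1, 0, 2, 0, 1, 0, 1, 0, 2, 0, 2, 0, 2, 1, 0, 2, 0, 2, 1, 0, 2],
  Cert.mk 2 0 [] [1, 0, 1, 2, 0, 1, 0, 2, 1, 0, 1, 0, 2, 1, 0, 1, 0, 1, 0, 2, 0, 2, 0, 1, 0, 2],
  Cert.mk 2 0 [] [1, 2, 0, 2, 0, 1, 2, 0, 2, 0, 2, 0, 1, 0, 1, 0, 2, 0, 1, 2, 0, 2, 1, 0, 2, 0],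
  Cert.mk 2 0 [] [0, 1, 2, 0, 2, 1, 0, 2, 0, 1, 2, 0, 2, 0, 1, 2, 0, 2, 0, 2, 0, 1, 0, 1, 0, 2],
  Cert.mk 0 1 [] [0, 1, 0, 2, 0, 2, 0, 1, 0, 2, 1, 0, 1, 2, 0, 1, 0, 2, 1, 0, 1, 0, 2, 1, 0],
  Cert.mk 0 2 [] [1, 0, 2, 0, 1, 0, 1, 0, 2, 0, 2, 0, 2, 1, 0, 2, 0, 2, 1, 0, 2, 0, 1, 2, 0],
  Cert.mk 2 0 [] [2, 1, 0, 2, 0, 2, 0, 1, 0, 1, 0, 2, 1, 0, 2, 0, 1, 2, 0, 1, 0],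
  Cert.mk 0 1 [] [0, 1, 0, 2, 0, 1, 2, 0, 2, 1, 0, 2, 0, 1, 2, 0, 2, 0, 1, 2, 0, 2, 0, 2, 0],
  Cert.mk 0 0 [] [1, 0, 1, 0, 2, 0, 1, 2, 0, 2, 1, 0, 2, 0, 1, 2, 0, 2, 0, 1, 2, 0, 2, 0, 2]]
def certs18 : List Cert := [Cert.mk 2 0 [] [0, 2, 0, 2, 0, 2, 1, 0, 2, 0, 2, 1, 0, 2, 0, 1, 2, 0, 2, 1, 0, 2, 0, 1, 0, 1],
  Cert.mk 2 0 [] [2, 0, 2, 0, 2, 0, 1, 0, 1, 0, 2, 0, 1, 2, 0, 2, 1, 0, 2, 0, 1, 2, 0, 2, 0, 1],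
  Cert.mk 2 0 [] [2, 0, 2, 1, 0, 2, 0, 1, 0, 1, 0, 2, 0, 2, 0, 2, 1, 0, 2, 0, 2, 1, 0, 2, 0, 1],
  Cert.mk 0 0 [] [2, 1, 0, 2, 0, 1, 0, 1, 0, 2, 0, 2, 0, 2, 1, 0, 2, 0, 2, 1, 0, 2, 0, 1, 2],
  Cert.mk 2 0 [] [0, 1, 0, 2, 0, 2, 0, 1, 2, 0, 1, 0, 2, 1, 0, 2, 0, 1, 2, 0, 1],
  Cert.mk 2 0 [] [0, 2, 1, 0, 2, 0, 1, 0, 1, 0, 2, 0, 2, 0, 2, 1, 0, 2, 0, 2, 1, 0, 2, 0, 1, 2],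
  Cert.mk 0 2 [] [0, 1, 0, 1, 0, 2, 0, 2, 0, 2, 1, 0, 2, 0, 2, 1, 0, 2, 0, 1, 2, 0, 2, 1, 0],
  Cert.mk 2 0 [] [2, 1, 0, 2, 0, 1, 0, 1, 0, 2, 0, 2, 0, 2, 1, 0, 2, 0, 2, 1, 0, 2, 0, 1, 2, 0],
  Cert.mk 2 0 [] [2, 0, 2, 0, 1, 0, 1, 0, 1, 2, 0, 1, 0, 1, 2, 0, 1, 0, 2, 1, 0, 1, 2, 0, 1, 0],
  Cert.mk 2 0 [] [1, 0, 2, 0, 1, 0, 1, 0, 2, 0, 2, 0, 2, 1, 0, 2, 0, 2, 1, 0, 2, 0, 1, 2, 0, 2]]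
def certs : List Cert := certs0 ++ certs1 ++ certs2 ++ certs3 ++ certs4 ++ certs5 ++ certs6 ++ certs7 ++ certs8 ++ certs9 ++ certs10 ++ certs11 ++ certs12 ++ certs13 ++ certs14 ++ certs15 ++ certs16 ++ certs17 ++ certs18
def hints : List (Nat × Nat) := [(0, 0), (13, 0), (14, 0), (12, 0), (2, 0), (0, 0), (1, 0), (0, 1), (3, 11), (9, 1), (14, 0), (12, 0), (13, 0), (9, 17), (3, 10), (3, 6), (3, 13), (9, 20), (9, 19), (2, 1), (3, 8), (9, 3), (9, 16), (3, 19), (9, 15), (9, 18), (2, 0), (3, 9), (3, 7), (3, 20), (9, 18), (9, 16), (1, 0), (3, 6), (1, 1), (1, 1), (3, 15), (3, 17), (3, 16), (3, 5), (3, 18), (3, 1), (3, 15), (3, 14), (4, 16), (10, 24), (10, 10), (10,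 23), (11, 10), (4, 17), (10, 21), (0, 0), (4, 22), (10, 8), (4, 20), (0, 1), (10, 5), (10, 18), (2, 1), (11, 6), (4, 18), (10, 20), (9, 19), (4, 23), (9, 13), (9, 0), (3, 8), (5, 25), (11, 24), (5, 17), (9, 14), (4, 9), (5, 2), (4, 21), (5, 8), (5, 21), (5, 5), (5, 10), (11, 5), (11, 2), (5, 12), (11, 14), (11, 1), (4, 25), (11, 0), (4, 1), (3, 12), (5, 22), (11, 21), (5, 9), (3, 4), (4, 3), (4, 0), (10, 20), (10, 21), (5, 18), (11, 13), (11, 5), (11, 2), (9, 4), (5, 17), (4, 15), (10, 15), (10, 11), (4, 2), (3, 18), (5, 11), (4, 19), (10, 19), (11, 22), (3, 0), (4, 10), (5, 3), (11, 3), (9, 2), (9, 13), (3, 3), (5, 16), (10, 18), (5, 19), (9, 8), (5, 16),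 (4, 4), (3, 16), (4, 24), (11, 8), (4, 10), (3, 11), (4, 15), (11, 14), (9, 11), (9, 6), (3, 7), (11, 10), (11, 0), (3, 12), (9, 11), (11, 4), (10, 14), (4, 6), (5, 7), (11, 8), (4, 13), (3, 4), (9, 17), (10, 9), (5, 24), (3, 9), (10, 5), (5, 18), (11, 25), (3, 19), (5, 24), (10, 12), (11, 18), (5, 10), (5, 22), (9, 9), (9, 1), (10, 6), (11, 4), (3, 1), (10, 17), (4, 5), (4, 7), (3, 0), (5, 23), (4, 13), (10, 25), (9, 15), (11, 3), (5, 6), (4, 18), (5, 3), (3, 2), (10, 4), (10, 8), (9, 6), (11, 9), (11, 12), (10, 23), (9, 0), (9, 10), (9, 7), (11, 23), (10, 7), (10, 0), (3, 14), (5, 7), (11, 15), (5, 13), (11, 9), (4, 5), (4, 0), (4, 6), (4, 22), (10, 1),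 (9, 8), (3, 5), (10, 2), (9, 9), (10, 22), (10, 3), (9, 20), (4, 24), (10, 13), (4, 14), (9, 7), (11, 19), (5, 19), (5, 14), (11, 1), (9, 12), (10, 24), (10, 9), (10, 3), (10, 16), (4, 3), (4, 20), (4, 11), (4, 19), (5, 8), (3, 13), (3, 20), (4, 11), (9, 14), (11, 7), (10, 11), (10, 1), (11, 19), (5, 2), (11, 11), (5, 14), (11, 22), (5, 11), (9, 12), (11, 24), (5, 12), (11, 23), (9, 2), (4, 21), (9, 4), (10, 12), (4, 2), (4, 1), (10, 10), (3, 17), (4, 12), (4, 8), (4, 25), (5, 4), (10, 13), (11, 21), (5, 1), (10, 14), (4, 4), (11, 6), (4, 9), (5, 23), (5, 15), (5, 20), (9, 3), (5, 9), (11, 20), (5, 13), (10, 15), (4, 16), (5, 20), (11, 7), (10, 2), (4, 17),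 (11, 12), (9, 5), (4, 7), (10, 19), (3, 10), (4, 14), (10, 0), (4, 8), (11, 13), (10, 7), (5, 15), (5, 6), (10, 22), (11, 17), (9, 10), (5, 1), (5, 0), (11, 25), (5, 21), (11, 15), (11, 16), (3, 2), (11, 16), (11, 20), (11, 17), (4, 23), (11, 18)]
def relW : List (List Nat) := [[0, 1, 0, 1, 0, 1, 0, 1, 0, 1, 0, 1],
  [0, 2, 0, 2, 0, 2, 0, 2, 0, 2, 0, 2],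
  [1, 2, 1, 2, 1, 2, 1, 2],
  [0, 1, 0, 1, 0, 2, 0, 2, 0, 1, 2, 0, 1, 0, 2, 1, 0, 2, 0, 1, 2],
  [0, 1, 0, 1, 0, 1, 2, 0, 1, 0, 1, 2, 0, 1, 0, 2, 1, 0, 1, 2, 0, 1, 0, 2, 0, 2],
  [0, 1, 0, 1, 0, 2, 0, 1, 2, 0, 2, 1, 0, 2, 0, 1, 2, 0, 2, 0, 1, 2, 0, 2, 0, 2]]
def sgW : List (List Nat) := [[0]]
def invL : List Nat := [0, 1, 2]
def nL : Nat := 3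
def nN : Nat := 12704
def nF : Nat := 2
def nAlive : Nat := 10752
def nD : Nat := 14
def nB : Nat := 65535
/-- the per-name check -/
def chkName (v : Nat) : Bool :=
  andK (nameOK tgt sig crt hnt dsig mu dcrt dst par plet certs 2 3 v) (finOK tgt sig hnt dsig mu 2 3 12704 v)

end Cfsg.Agent.Lib.Helper28.TCeUT
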