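import Cfsg.Agent.Lib.Helper28.TCKernel
import Cfsg.Agent.Lib.Helper28.TF22aUD0

set_option autoImplicit false

namespace Cfsg.Agent.Lib.Helper28.TF22aUT

open Cfsg.Agent.Lib.Helper28.TCKernel

def e0top : List (List Nat) := [TF22aUD0.e0g0, TF22aUD0.e0g1, TF22aUD0.e0g2]
def e1top : List (List Nat) := [TF22aUD0.e1g0, TF22aUD0.e1g1, TF22aUD0.e1g2]
def e2top : List (List Nat) := [TF22aUD0.e2g0, TF22aUD0.e2g1, TF22aUD0.e2g2]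
def e3top : List (List Nat) := [TF22aUD0.e3g0, TF22aUD0.e3g1, TF22aUD0.e3g2]
def e4top : List (List Nat) := [TF22aUD0.e4g0, TF22aUD0.e4g1, TF22aUD0.e4g2]
def e5top : List (List Nat) := [TF22aUD0.e5g0, TF22aUD0.e5g1, TF22aUD0.e5g2]
def e6top : List (List Nat) := [TF22aUD0.e6g0, TF22aUD0.e6g1, TF22aUD0.e6g2]
def e7top : List (List Nat) := [TF22aUD0.e7g0, TF22aUD0.e7g1, TF22aUD0.e7g2]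
def etops : List (List (List Nat)) := [e0top, e1top, e2top, e3top, e4top, e5top, e6top, e7top]
def dtop : List (List Nat) := [TF22aUD0.dg0, TF22aUD0.dg1, TF22aUD0.dg2, TF22aUD0.dg3, TF22aUD0.dg4]
def tgt : Nat → Nat → Nat := fld3z etops 8 5 31 255 58 32767
def hnt : Nat → Nat → Nat := fld3 etops 8 5 31 255 58 15 262143
def crt : Nat → Nat → Nat := fld3 etops 8 5 31 255 58 33 127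
def sig : Nat → Nat → Nat := fld3 etops 8 5 31 255 58 40 262143
def par : Nat → Nat := fld1 dtop 7 5 31 127 74 0 32767
def plet : Nat → Nat := fld1 dtop 7 5 31 127 74 15 15
def mu : Nat → Nat := fld1 dtop 7 5 31 127 74 19 32767
def dst : Nat → Nat := fld1 dtop 7 5 31 127 74 34 32767
def dcrt : Nat → Nat := fld1 dtop 7 5 31 127 74 49 127
def dsig : Nat → Nat := fld1 dtop 7 5 31 127 74 56 262143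
def nGE : Nat := 3
def certs0 : List Cert := [Cert.mk 1 0 [] [],
  Cert.mk 1 1 [] [],
  Cert.mk 1 2 [] [],
  Cert.mk 1 3 [] [],
  Cert.mk 1 4 [] [],
  Cert.mk 1 5 [] [],
  Cert.mk 1 6 [] [],
  Cert.mk 0 7 [] [7],
  Cert.mk 0 0 [] [7, 0, 7],
  Cert.mk 0 1 [] [7, 1, 7],
  Cert.mk 0 2 [] [7, 2, 7],
  Cert.mk 0 3 [] [7, 3, 7],
  Cert.mk 0 4 [] [7, 4, 7],
  Cert.mk 0 5 [] [7, 5, 7],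
  Cert.mk 0 6 [] [6],
  Cert.mk 0 0 [] [6, 0, 6]]
def certs1 : List Cert := [Cert.mk 0 1 [] [6, 1, 6],
  Cert.mk 0 3 [] [6, 3, 6],
  Cert.mk 0 4 [] [6, 4, 6],
  Cert.mk 0 5 [] [6, 5, 6],
  Cert.mk 0 7 [] [6, 7, 6, 7, 6],
  Cert.mk 0 2 [] [2],
  Cert.mk 0 0 [] [2, 0, 2],
  Cert.mk 0 4 [] [2, 4, 2],
  Cert.mk 0 5 [] [2, 5, 2],
  Cert.mk 0 6 [] [2, 6, 2, 6, 2],
  Cert.mk 0 7 [] [2, 7, 2],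
  Cert.mk 0 1 [] [1],
  Cert.mk 0 2 [] [1, 2, 1, 2, 1],
  Cert.mk 0 4 [] [1, 4, 1],
  Cert.mk 0 5 [] [1, 5, 1],
  Cert.mk 0 6 [] [1, 6, 1]]
def certs2 : List Cert := [Cert.mk 0 7 [] [1, 7, 1],
  Cert.mk 0 3 [] [3],
  Cert.mk 0 0 [] [3, 0, 3],
  Cert.mk 0 2 [] [3, 2, 3, 2, 3],
  Cert.mk 0 5 [] [3, 5, 3],
  Cert.mk 0 6 [] [3, 6, 3],
  Cert.mk 0 7 [] [3, 7, 3],
  Cert.mk 0 0 [] [0],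
  Cert.mk 0 1 [] [0, 1, 0, 1, 0],
  Cert.mk 0 2 [] [0, 2, 0],
  Cert.mk 0 4 [] [0, 4, 0],
  Cert.mk 0 5 [] [0, 5, 0],
  Cert.mk 0 6 [] [0, 6, 0],
  Cert.mk 0 7 [] [0, 7, 0],
  Cert.mk 0 1 [] [3, 1, 3],
  Cert.mk 0 4 [] [4]]
def certs3 : List Cert := [Cert.mk 0 0 [] [4, 0, 4],
  Cert.mk 0 2 [] [4, 2, 4],
  Cert.mk 0 3 [] [4, 3, 4, 3, 4],
  Cert.mk 0 6 [] [4, 6, 4],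
  Cert.mk 0 7 [] [4, 7, 4],
  Cert.mk 0 1 [] [2, 1, 2, 1, 2],
  Cert.mk 0 3 [] [2, 3, 2, 3, 2],
  Cert.mk 0 1 [] [4, 1, 4],
  Cert.mk 0 5 [] [5],
  Cert.mk 0 0 [] [5, 0, 5],
  Cert.mk 0 2 [] [5, 2, 5],
  Cert.mk 0 3 [] [5, 3, 5],
  Cert.mk 0 4 [] [5, 4, 5, 4, 5],
  Cert.mk 0 6 [] [5, 6, 5],
  Cert.mk 0 7 [] [5, 7, 5],
  Cert.mk 0 2 [] [6, 2, 6, 2, 6]]
def certs4 : List Cert := [Cert.mk 0 1 [] [5, 1, 5],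
  Cert.mk 0 0 [] [1, 0, 1, 0, 1],
  Cert.mk 0 3 [] [1, 3, 1],
  Cert.mk 0 4 [] [3, 4, 3, 4, 3],
  Cert.mk 0 6 [] [7, 6, 7, 6, 7],
  Cert.mk 0 5 [] [4, 5, 4, 5, 4],
  Cert.mk 0 3 [] [0, 3, 0],
  Cert.mk 0 6 [] [0, 1, 2, 3, 4, 5, 6, 0, 1, 2, 3, 4, 5, 6, 0, 1, 2, 3, 4, 5, 6, 0, 1, 2, 3, 4, 5, 6, 0, 1, 2, 3, 4, 5, 6, 0, 1, 2, 3, 4, 5, 6, 0, 1, 2, 3, 4, 5, 6, 0, 1, 2, 3, 4, 5, 6, 0, 1, 2, 3, 4, 5],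
  Cert.mk 0 2 [] [1, 0, 6, 5, 4, 3, 2, 1, 0, 6, 5, 4, 3, 2, 1, 0, 6, 5, 4, 3, 2, 1, 0, 6, 5, 4, 3, 2, 1, 0, 6, 5, 4, 3, 2, 1, 0, 6, 5, 4, 3, 2, 1, 0, 6, 5, 4, 3, 2, 1, 0, 6, 5, 4, 3, 2, 1, 0, 6, 5, 4, 3],
  Cert.mk 0 5 [] [6, 0, 1, 2, 3, 4, 5, 6, 0, 1, 2, 3, 4, 5, 6, 0, 1, 2, 3, 4, 5, 6, 0, 1, 2, 3, 4, 5, 6, 0, 1, 2, 3, 4, 5, 6, 0, 1, 2, 3, 4, 5, 6, 0, 1, 2, 3, 4, 5, 6, 0, 1, 2, 3, 4, 5, 6, 0, 1, 2, 3, 4],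
  Cert.mk 0 4 [] [3, 2, 1, 0, 6, 5, 4, 3, 2, 1, 0, 6, 5, 4, 3, 2, 1, 0, 6, 5, 4, 3, 2, 1, 0, 6, 5, 4, 3, 2, 1, 0, 6, 5, 4, 3, 2, 1, 0, 6, 5, 4, 3, 2, 1, 0, 6, 5, 4, 3, 2, 1, 0, 6, 5, 4, 3, 2, 1, 0, 6, 5],
  Cert.mk 0 4 [] [5, 6, 0, 1, 2, 3, 4, 5, 6, 0, 1, 2, 3, 4, 5, 6, 0, 1, 2, 3, 4, 5, 6, 0, 1, 2, 3, 4, 5, 6, 0, 1, 2, 3, 4, 5, 6, 0, 1, 2, 3, 4, 5, 6, 0, 1, 2, 3, 4, 5, 6, 0, 1, 2, 3, 4, 5, 6, 0, 1, 2, 3],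
  Cert.mk 0 2 [] [4, 3, 2, 0, 1, 2, 7, 6, 2, 4, 3, 2, 0, 1, 2, 7, 6, 2, 4, 3, 2, 0, 1, 2, 7, 6, 2, 4, 3, 2, 0, 1, 2, 7, 6, 2, 4, 3, 2, 0, 1, 2, 7, 6, 2, 4, 3, 2, 0, 1, 2, 7, 6, 2, 4, 3, 2, 0, 1, 2, 7, 6, 2, 4, 3, 2, 0, 1, 2, 7, 6, 2, 4, 3, 2, 0, 1, 2, 7, 6, 2, 4, 3, 2, 0, 1, 2, 7, 6],
  Cert.mk 2 0 [] [6, 2, 4, 3, 2, 0, 1, 2, 7, 6, 2, 4, 3, 2, 0, 1, 2, 7, 6, 2, 4, 3, 2, 0, 1, 2, 7, 6, 2, 4, 3, 2, 0, 1, 2, 7, 6, 2, 4, 3, 2, 0, 1, 2, 7, 6, 2, 4, 3, 2, 0, 1, 2, 7, 6, 2, 4, 3, 2, 0, 1, 2, 7, 6, 2, 4, 3, 2, 0, 1, 2, 7, 6, 2, 4, 3, 2, 0, 1, 2, 7, 6, 2, 4, 3, 2, 0, 1, 2, 7],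
  Cert.mk 2 0 [] [0, 0],
  Cert.mk 2 0 [] [1, 1]]
def certs5 : List Cert := [Cert.mk 2 0 [] [2, 2],
  Cert.mk 2 0 [] [7, 7],
  Cert.mk 2 0 [] [3, 3],
  Cert.mk 2 0 [] [5, 5],
  Cert.mk 2 0 [] [6, 6],
  Cert.mk 2 0 [] [4, 4],
  Cert.mk 2 0 [] [5, 3, 5, 3],
  Cert.mk 0 6 [] [5, 4, 3, 2, 1, 0, 6, 5, 4, 3, 2, 1, 0, 6, 5, 4, 3, 2, 1, 0, 6, 5, 4, 3, 2, 1, 0, 6, 5, 4, 3, 2, 1, 0, 6, 5, 4, 3, 2, 1, 0, 6, 5, 4, 3, 2, 1, 0, 6, 5, 4, 3, 2, 1, 0, 6, 5, 4, 3, 2, 1, 0],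
  Cert.mk 0 5 [] [4, 3, 2, 1, 0, 6, 5, 4, 3, 2, 1, 0, 6, 5, 4, 3, 2, 1, 0, 6, 5, 4, 3, 2, 1, 0, 6, 5, 4, 3, 2, 1, 0, 6, 5, 4, 3, 2, 1, 0, 6, 5, 4, 3, 2, 1, 0, 6, 5, 4, 3, 2, 1, 0, 6, 5, 4, 3, 2, 1, 0, 6],
  Cert.mk 2 0 [] [2, 3, 4, 2, 6, 7, 2, 1, 0, 2, 3, 4, 2, 6, 7, 2, 1, 0, 2, 3, 4, 2, 6, 7, 2, 1, 0, 2, 3, 4, 2, 6, 7, 2, 1, 0, 2, 3, 4, 2, 6, 7, 2, 1, 0, 2, 3, 4, 2, 6, 7, 2, 1, 0, 2, 3, 4, 2, 6, 7, 2, 1, 0, 2, 3, 4, 2, 6, 7, 2, 1, 0, 2, 3, 4, 2, 6, 7, 2, 1, 0, 2, 3, 4, 2, 6, 7, 2, 1, 0],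
  Cert.mk 2 0 [] [6, 2, 6, 2, 6, 2],
  Cert.mk 2 0 [] [0, 6, 0, 6]]
def certs : List Cert := certs0 ++ certs1 ++ certs2 ++ certs3 ++ certs4 ++ certs5
def hints : List (Nat × Nat) := [(0, 0), (1, 0), (2, 0), (3, 0), (4, 0), (5, 0), (6, 0), (67, 0), (6, 0), (12, 0), (17, 0), (21, 0), (24, 0), (26, 0), (66, 0), (5, 0), (11, 0), (20, 0), (23, 0), (25, 0), (27, 1), (62, 0), (1, 0), (14, 1), (15, 1), (16, 1), (17, 1), (61, 0), (7, 1), (9, 1), (10, 1), (11, 1), (12, 1), (63, 0), (2, 0), (13, 0), (19, 1), (20, 1), (21, 1), (60, 0), (0, 1), (1, 1), (3, 1), (4, 1), (5, 1), (6, 1), (8, 0), (64, 0), (3, 0), (14, 0), (18, 0), (23, 1), (24, 1), (7, 0), (13, 1), (9, 0), (65, 0), (4, 0), (15, 0), (19, 0), (22, 0), (25, 1), (26, 1), (16,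 0), (10, 0), (0, 0), (8, 1), (18, 1), (27, 0), (22, 1), (2, 1), (29, 6), (59, 4), (29, 5), (59, 2), (29, 4), (58, 2), (58, 1), (60, 0), (61, 0), (62, 0), (67, 0), (63, 0), (65, 0), (66, 0), (64, 0), (19, 1), (59, 0), (59, 1), (28, 3), (16, 1), (5, 0)]
def relW : List (List Nat) := [[0, 1, 0, 1, 0, 1],
  [0, 2, 0, 2],
  [0, 3, 0, 3],
  [0, 4, 0, 4],
  [0, 5, 0, 5],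
  [0, 6, 0, 6],
  [0, 7, 0, 7],
  [1, 2, 1, 2, 1, 2],
  [1, 3, 1, 3],
  [1, 4, 1, 4],
  [1, 5, 1, 5],
  [1, 6, 1, 6],
  [1, 7, 1, 7],
  [2, 3, 2, 3, 2, 3],
  [2, 4, 2, 4],
  [2, 5, 2, 5],
  [2, 6, 2, 6, 2, 6],
  [2, 7, 2, 7],
  [3, 4, 3, 4, 3, 4],
  [3, 5, 3, 5],
  [3, 6, 3, 6],
  [3, 7, 3, 7],
  [4, 5, 4, 5, 4, 5],
  [4, 6, 4, 6],
  [4, 7, 4, 7],
  [5, 6, 5, 6],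
  [5, 7, 5, 7],
  [6, 7, 6, 7, 6, 7],
  [2, 1, 0, 2, 3, 4, 2, 6, 7, 2, 1, 0, 2, 3, 4, 2, 6, 7, 2, 1, 0, 2, 3, 4, 2, 6, 7, 2, 1, 0, 2, 3, 4, 2, 6, 7, 2, 1, 0, 2, 3, 4, 2, 6, 7, 2, 1, 0, 2, 3, 4, 2, 6, 7, 2, 1, 0, 2, 3, 4, 2, 6, 7, 2, 1, 0, 2, 3, 4, 2, 6, 7, 2, 1, 0, 2, 3, 4, 2, 6, 7, 2, 1, 0, 2, 3, 4, 2, 6, 7],
  [0, 1, 2, 3, 4, 5, 6, 0, 1, 2, 3, 4, 5, 6, 0, 1, 2, 3, 4, 5, 6, 0, 1, 2, 3, 4, 5, 6, 0, 1, 2, 3, 4, 5, 6, 0, 1, 2, 3, 4, 5, 6, 0, 1, 2, 3, 4, 5, 6, 0, 1, 2, 3, 4, 5, 6, 0, 1, 2, 3, 4, 5, 6]]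
def sgW : List (List Nat) := [[0],
  [1],
  [2],
  [3],
  [4],
  [5],
  [6]]
def invL : List Nat := [0, 1, 2, 3, 4, 5, 6, 7]
def nL : Nat := 8
def nN : Nat := 17038
def nF : Nat := 4
def nAlive : Nat := 3159
def nD : Nat := 15
def nB : Nat := 262143
/-- the per-name check -/
def chkName (v : Nat) : Bool :=
  andK (nameOK tgt sig crt hnt dsig mu dcrt dst par plet certs 4 8 v) (finOK tgt sig hnt dsig mu 4 8 17038 v)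

end Cfsg.Agent.Lib.Helper28.TF22aUT
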