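import Cfsg.Agent.Lib.Helper28.TCMain
import Cfsg.Agent.Lib.Helper28.PresF22b
import Cfsg.Agent.Lib.Helper28.TF22bUC0
import Cfsg.Agent.Lib.Helper28.TF22bLC0
import Cfsg.Agent.Lib.Helper28.TF22bLC1
import Cfsg.Agent.Lib.Helper28.TF22bLC2
import Cfsg.Agent.Lib.Helper28.TF22bLC3

set_option autoImplicit false

namespace Cfsg.Agent.Lib.Helper28.TF22bX

open Cfsg.Spor Cfsg.Agent.Lib.Helper28.TCKernel Cfsg.Agent.Lib.Helper28.TCSound Cfsg.Agent.Lib.Helper28.TCPerm Cfsg.Agent.Lib.Helper28.TCPres Cfsg.Agent.Lib.Helper28.TCMain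

/-- the subgroup generators -/
def sgSrc : List (FreeGroup F22b.Gen) := [F22b.b, F22b.c, F22b.d, F22b.e]

theorem chunkU : ∀ k, k < 1 → allTree TF22bUT.chkName 14 (k * 2 ^ 14) = true
  | 0, _ => TF22bUC0.chk
  | (k + 1), h => absurd h (by omega)

theorem chkU (v : Nat) : TF22bUT.chkName v = true := by
  rcases Nat.lt_or_ge v (2 ^ 14) with h | h
  · exact allTree_chunks TF22bUT.chkName 14 1 chunkU v h
  · exact chk_of_zero _ _ _ _ _ _ _ _ _ _ _ _ _ _ v
      (fun y => fld3_eq_zero _ _ _ _ _ _ _ _ y v 2 (by decide)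
        (le_trans (by decide : 2 * 2 ^ (8 + 5) ≤ 2 ^ 14) h))
      (fld1_eq_zero _ _ _ _ _ _ _ _ v
        (le_trans (by decide : TF22bUT.dtop.length * 2 ^ (7 + 5) ≤ 2 ^ 14) h))
      (le_trans (by decide : 12096 ≤ 2 ^ 14) h)

theorem chunkL : ∀ k, k < 4 → allTree TF22bLT.chkPoint 12 (k * 2 ^ 12) = true
  | 0, _ => TF22bLC0.chk
  | 1, _ => TF22bLC1.chk
  | 2, _ => TF22bLC2.chk
  | 3, _ => TF22bLC3.chk
  | (k + 4), h => absurd h (by omega)

theorem chkL (a : Nat) (ha : a < 12096) : TF22bLT.chkPoint a = true :=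
  allTree_chunks TF22bLT.chkPoint 12 4 chunkL a (lt_of_lt_of_le ha (by decide))

theorem permOK : PermChecks 12096 TF22bLT.tp PresF22b.inv TF22bLT.pa TF22bLT.pl PresF22b.relW TF22bLT.sgW TF22bLT.tw 8
    TF22bLT.roots 7 where
  point := fun a ha => chkL a ha
  invL := by decide +kernel
  wsL := by decide +kernel
  sgL := by decide +kernel
  twL := by decide +kernel
  root1 := by decide +kernel
  rootpos := by decide +kernel

/-- index and orbit structure of the subgroup -/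
theorem final :
    ((Subgroup.closure {s | s ∈ sgSrc}).map (PresentedGroup.mk (coxRelators F22b.edges ∪ {r | r ∈ F22b.extra}))).index = 12096 ∧
    ∃ ψ : (PresentedGroup (coxRelators F22b.edges ∪ {r | r ∈ F22b.extra})) ⧸ ((Subgroup.closure {s | s ∈ sgSrc}).map (PresentedGroup.mk (coxRelators F22b.edges ∪ {r | r ∈ F22b.extra}))) → Fin 12096,
      Function.Injective ψ ∧
      ∀ r, r < 12096 → (∀ r' ∈ (0 :: TF22bLT.roots), clsOf TF22bLT.roots r' = clsOf TF22bLT.roots r → r' = r) →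
        ∃ q, ψ '' (MulAction.orbit ((Subgroup.closure {s | s ∈ sgSrc}).map (PresentedGroup.mk (coxRelators F22b.edges ∪ {r | r ∈ F22b.extra}))) q) = {b : Fin 12096 | clsOf TF22bLT.roots b.1 = clsOf TF22bLT.roots r} :=
  main PresF22b.ok {s | s ∈ sgSrc} sgSrc rfl TF22bLT.sgW (by decide +kernel)
    12096 12096 14 0 131071 TF22bUT.tgt TF22bUT.sig TF22bUT.crt TF22bUT.hnt TF22bUT.dsig TF22bUT.mu TF22bUT.dcrt TF22bUT.dst
    TF22bUT.par TF22bUT.plet TF22bUT.certs TF22bUT.hints (by decide +kernel)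
    (fun y v => fld3_le _ _ _ _ _ _ _ _ y v) (fun v => fld1_le _ _ _ _ _ _ _ _ v) chkU
    (by decide +kernel) (by decide) TF22bUC0.cnt
    TF22bLT.tp TF22bLT.pa TF22bLT.pl TF22bLT.tw 8 TF22bLT.roots permOK (by decide) (by decide +kernel)

end Cfsg.Agent.Lib.Helper28.TF22bX
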