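import Mathlib

set_option autoImplicit false

namespace Cfsg.Agent.Lib.Helper28.TF22cUD0

def e0c0 : Nat := 0x6700e031c03511700cc1c003b1b700c085c02e0d000e8adc02b12000e4d1002a397009c70003740700908800364b4008d45c0212c000d0cdc0325d6007d8dc01c3a000c5a9001b6f7006504002f4a700b5e9801752000b20d00185c700a635c0139070049900028697009a698010700009609c020797008aadc00cae4003ac9800d8e0007a44001dbc4004665c01ac47001eb5c015b170052b00016d06001b510005d740027698008c50003f3dc00bd37002b99c001e86000fad0002e700013c04000
def e0g0 : List Nat := [e0c0]

def e1c0 : Nat := 0x5800e42e003604200ec5880321a800c428803a25200b4aa002f30200a85c003819200dcf0802629200d118802326000d54200255520080c400335b900898a0028672006cf400304f200b1cc801847000b96880297e2005558002b87900523200168f80076508011680009e62401a9f20039d00024a6900362c801e7f0008618801fb62002ae080099500073024008c38003e800019a52005f308005ce9002edc0013b90004afc8010dd2000b824003cd00033960004df2001b780007ee20003bc0001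
def e1g0 : List Nat := [e1c0]

def e2c0 : Nat := 0x3c00e808c03b10c00d056803518c00dc83002f14300e03cc0392fa00acd4c02938c00a0ee80301f300d91680244c300893b002c2e300cd60c01f36000c8dcc03166a0071acc01a6ec007510c02e773005d34002d7da008610c01459000aa2b001e6d3009594c0279630041b000269ea004a8cc00d780008eab000faf3002e140020b5a004e74c019bd300225c001ba93005b18c006a4000632e8007b00005754c004d83000ef80011ca300331c000ee33000758000ad900027b0c000e400017b40002
def e2g0 : List Nat := [e2c0]

def e3c0 : Nat := 0x1e00ec2780370ee00e44f403808500e87b803124d00c0a3802c2dd00cccac0321d500d88d40353fe00950f402749b00989d403454d00855ec02a5e5007987801d42500b921402d3e500bdcb401976b006ded401653500ae06c015885004d7c002960500a24f4012755008e6d400f71500928ac00ea750031f000228050082cd400a890007e49401cbbb00270540079c0006a854018c850016a00017d150012d00014ba500476d4002c200043854001c90003748000be950003700008e20001ba80003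
def e3g0 : List Nat := [e3c0]

def dc0 : Nat := 0xe0000000350000000cc000000720000000c00000002e0000001b40000002b0000001a8000000a900000009c0000006600000009000000063000000288000000210000001800000009f0000003780000001c00000016c0000009a0000000640000005800000025c000000d60000001540000009400000034c0000001300000004800000051000000240000000cf0000001380000008d0000003300000000c00000022c000000ca00000012800000049000000220000000c700000001c00000086000000314000000450000003100000008400000020c000000c2000000108000000c1000000204000000010000003000000008000000010000000000
def dg0 : List Nat := [dc0]

end Cfsg.Agent.Lib.Helper28.TF22cUD0
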