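import Cfsg.Agent.Lib.Helper28.TCMain
import Cfsg.Agent.Lib.Helper28.PresF23a
import Cfsg.Agent.Lib.Helper28.TF23aUC0
import Cfsg.Agent.Lib.Helper28.TF23aUC1
import Cfsg.Agent.Lib.Helper28.TF23aLC0
import Cfsg.Agent.Lib.Helper28.TF23aLC1
import Cfsg.Agent.Lib.Helper28.TF23aLC2
import Cfsg.Agent.Lib.Helper28.TF23aLC3
import Cfsg.Agent.Lib.Helper28.TF23aLC4
import Cfsg.Agent.Lib.Helper28.TF23aLC5
import Cfsg.Agent.Lib.Helper28.TF23aLC6
import Cfsg.Agent.Lib.Helper28.TF23aLC7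

set_option autoImplicit false

namespace Cfsg.Agent.Lib.Helper28.TF23aX

open Cfsg.Spor Cfsg.Agent.Lib.Helper28.TCKernel Cfsg.Agent.Lib.Helper28.TCSound Cfsg.Agent.Lib.Helper28.TCPerm Cfsg.Agent.Lib.Helper28.TCPres Cfsg.Agent.Lib.Helper28.TCMain

/-- the subgroup generators -/
def sgSrc : List (FreeGroup F23a.Gen) := [F23a.b, F23a.c, F23a.d, F23a.e, F23a.f, F23a.g, F23a.h, F23a.i]

theorem chunkU : ∀ k, k < 2 → allTree TF23aUT.chkName 14 (k * 2 ^ 14) = true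
  | 0, _ => TF23aUC0.chk
  | 1, _ => TF23aUC1.chk
  | (k + 2), h => absurd h (by omega)

theorem chkU (v : Nat) : TF23aUT.chkName v = true := by
  rcases Nat.lt_or_ge v (2 ^ 15) with h | h
  · exact allTree_chunks TF23aUT.chkName 14 2 chunkU v h
  · exact chk_of_zero _ _ _ _ _ _ _ _ _ _ _ _ _ _ v
      (fun y => fld3_eq_zero _ _ _ _ _ _ _ _ y v 3 (by decide)
        (le_trans (by decide : 3 * 2 ^ (8 + 5) ≤ 2 ^ 15) h))
      (fld1_eq_zero _ _ _ _ _ _ _ _ v
        (le_trans (by decide : TF23aUT.dtop.length * 2 ^ (7 + 5) ≤ 2 ^ 15) h))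
      (le_trans (by decide : 20592 ≤ 2 ^ 15) h)

theorem chunkL : ∀ k, k < 8 → allTree TF23aLT.chkPoint 11 (k * 2 ^ 11) = true
  | 0, _ => TF23aLC0.chk
  | 1, _ => TF23aLC1.chk
  | 2, _ => TF23aLC2.chk
  | 3, _ => TF23aLC3.chk
  | 4, _ => TF23aLC4.chk
  | 5, _ => TF23aLC5.chk
  | 6, _ => TF23aLC6.chk
  | 7, _ => TF23aLC7.chk
  | (k + 8), h => absurd h (by omega)

theorem chkL (a : Nat) (ha : a < 14080) : TF23aLT.chkPoint a = true :=
  allTree_chunks TF23aLT.chkPoint 11 8 chunkL a (lt_of_lt_of_le ha (by decide))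

theorem permOK : PermChecks 14080 TF23aLT.tp PresF23a.inv TF23aLT.pa TF23aLT.pl PresF23a.relW TF23aLT.sgW TF23aLT.tw 16
    TF23aLT.roots 9 where
  point := fun a ha => chkL a ha
  invL := by decide +kernel
  wsL := by decide +kernel
  sgL := by decide +kernel
  twL := by decide +kernel
  root1 := by decide +kernel
  rootpos := by decide +kernel

/-- index and orbit structure of the subgroup -/
theorem final :
    ((Subgroup.closure {s | s ∈ sgSrc}).map (PresentedGroup.mk (coxRelators F23a.edges ∪ {r | r ∈ F23a.extra}))).index = 14080 ∧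
    ∃ ψ : (PresentedGroup (coxRelators F23a.edges ∪ {r | r ∈ F23a.extra})) ⧸ ((Subgroup.closure {s | s ∈ sgSrc}).map (PresentedGroup.mk (coxRelators F23a.edges ∪ {r | r ∈ F23a.extra}))) → Fin 14080,
      Function.Injective ψ ∧
      ∀ r, r < 14080 → (∀ r' ∈ (0 :: TF23aLT.roots), clsOf TF23aLT.roots r' = clsOf TF23aLT.roots r → r' = r) →
        ∃ q, ψ '' (MulAction.orbit ((Subgroup.closure {s | s ∈ sgSrc}).map (PresentedGroup.mk (coxRelators F23a.edges ∪ {r | r ∈ F23a.extra}))) q) = {b : Fin 14080 | clsOf TF23aLT.roots b.1 = clsOf TF23aLT.roots r} :=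
  main PresF23a.ok {s | s ∈ sgSrc} sgSrc rfl TF23aLT.sgW (by decide +kernel)
    20592 14080 15 3 262143 TF23aUT.tgt TF23aUT.sig TF23aUT.crt TF23aUT.hnt TF23aUT.dsig TF23aUT.mu TF23aUT.dcrt TF23aUT.dst
    TF23aUT.par TF23aUT.plet TF23aUT.certs TF23aUT.hints (by decide +kernel)
    (fun y v => fld3_le _ _ _ _ _ _ _ _ y v) (fun v => fld1_le _ _ _ _ _ _ _ _ v) chkU
    (by decide +kernel) (by decide) TF23aUC0.cnt
    TF23aLT.tp TF23aLT.pa TF23aLT.pl TF23aLT.tw 16 TF23aLT.roots permOK (by decide) (by decide +kernel)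

end Cfsg.Agent.Lib.Helper28.TF23aX
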