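import Cfsg.Agent.Lib.Helper28.TCMain
import Cfsg.Agent.Lib.Helper28.PresF23c
import Cfsg.Agent.Lib.Helper28.TF23cUC0
import Cfsg.Agent.Lib.Helper28.TF23cLC0
import Cfsg.Agent.Lib.Helper28.TF23cLC1
import Cfsg.Agent.Lib.Helper28.TF23cLC2
import Cfsg.Agent.Lib.Helper28.TF23cLC3

set_option autoImplicit false

namespace Cfsg.Agent.Lib.Helper28.TF23cX

open Cfsg.Spor Cfsg.Agent.Lib.Helper28.TCKernel Cfsg.Agent.Lib.Helper28.TCSound Cfsg.Agent.Lib.Helper28.TCPerm Cfsg.Agent.Lib.Helper28.TCPres Cfsg.Agent.Lib.Helper28.TCMain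

/-- the subgroup generators -/
def sgSrc : List (FreeGroup F23c.Gen) := [F23c.b, F23c.c, F23c.d, F23c.e]

theorem chunkU : ∀ k, k < 1 → allTree TF23cUT.chkName 15 (k * 2 ^ 15) = true
  | 0, _ => TF23cUC0.chk
  | (k + 1), h => absurd h (by omega)

theorem chkU (v : Nat) : TF23cUT.chkName v = true := by
  rcases Nat.lt_or_ge v (2 ^ 15) with h | h
  · exact allTree_chunks TF23cUT.chkName 15 1 chunkU v h
  · exact chk_of_zero _ _ _ _ _ _ _ _ _ _ _ _ _ _ v
      (fun y => fld3_eq_zero _ _ _ _ _ _ _ _ y v 3 (by decide)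
        (le_trans (by decide : 3 * 2 ^ (8 + 5) ≤ 2 ^ 15) h))
      (fld1_eq_zero _ _ _ _ _ _ _ _ v
        (le_trans (by decide : TF23cUT.dtop.length * 2 ^ (7 + 5) ≤ 2 ^ 15) h))
      (le_trans (by decide : 24192 ≤ 2 ^ 15) h)

theorem chunkL : ∀ k, k < 4 → allTree TF23cLT.chkPoint 13 (k * 2 ^ 13) = true
  | 0, _ => TF23cLC0.chk
  | 1, _ => TF23cLC1.chk
  | 2, _ => TF23cLC2.chk
  | 3, _ => TF23cLC3.chk
  | (k + 4), h => absurd h (by omega)

theorem chkL (a : Nat) (ha : a < 24192) : TF23cLT.chkPoint a = true :=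
  allTree_chunks TF23cLT.chkPoint 13 4 chunkL a (lt_of_lt_of_le ha (by decide))

theorem permOK : PermChecks 24192 TF23cLT.tp PresF23c.inv TF23cLT.pa TF23cLT.pl PresF23c.relW TF23cLT.sgW TF23cLT.tw 8
    TF23cLT.roots 7 where
  point := fun a ha => chkL a ha
  invL := by decide +kernel
  wsL := by decide +kernel
  sgL := by decide +kernel
  twL := by decide +kernel
  root1 := by decide +kernel
  rootpos := by decide +kernel

/-- index and orbit structure of the subgroup -/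
theorem final :
    ((Subgroup.closure {s | s ∈ sgSrc}).map (PresentedGroup.mk (coxRelators F23c.edges ∪ {r | r ∈ F23c.extra}))).index = 24192 ∧
    ∃ ψ : (PresentedGroup (coxRelators F23c.edges ∪ {r | r ∈ F23c.extra})) ⧸ ((Subgroup.closure {s | s ∈ sgSrc}).map (PresentedGroup.mk (coxRelators F23c.edges ∪ {r | r ∈ F23c.extra}))) → Fin 24192,
      Function.Injective ψ ∧
      ∀ r, r < 24192 → (∀ r' ∈ (0 :: TF23cLT.roots), clsOf TF23cLT.roots r' = clsOf TF23cLT.roots r → r' = r) →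
        ∃ q, ψ '' (MulAction.orbit ((Subgroup.closure {s | s ∈ sgSrc}).map (PresentedGroup.mk (coxRelators F23c.edges ∪ {r | r ∈ F23c.extra}))) q) = {b : Fin 24192 | clsOf TF23cLT.roots b.1 = clsOf TF23cLT.roots r} :=
  main PresF23c.ok {s | s ∈ sgSrc} sgSrc rfl TF23cLT.sgW (by decide +kernel)
    24192 24192 15 0 262143 TF23cUT.tgt TF23cUT.sig TF23cUT.crt TF23cUT.hnt TF23cUT.dsig TF23cUT.mu TF23cUT.dcrt TF23cUT.dst
    TF23cUT.par TF23cUT.plet TF23cUT.certs TF23cUT.hints (by decide +kernel)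
    (fun y v => fld3_le _ _ _ _ _ _ _ _ y v) (fun v => fld1_le _ _ _ _ _ _ _ _ v) chkU
    (by decide +kernel) (by decide) TF23cUC0.cnt
    TF23cLT.tp TF23cLT.pa TF23cLT.pl TF23cLT.tw 8 TF23cLT.roots permOK (by decide) (by decide +kernel)

end Cfsg.Agent.Lib.Helper28.TF23cX
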