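import Cfsg.Agent.Lib.Helper28.TCKernel
import Cfsg.Agent.Lib.Helper28.TF24pUD0
import Cfsg.Agent.Lib.Helper28.TF24pUD1
import Cfsg.Agent.Lib.Helper28.TF24pUD2

set_option autoImplicit false

namespace Cfsg.Agent.Lib.Helper28.TF24pUT

open Cfsg.Agent.Lib.Helper28.TCKernel

def e0top : List (List Nat) := [TF24pUD0.e0g0, TF24pUD0.e0g1, TF24pUD0.e0g2, TF24pUD0.e0g3, TF24pUD0.e0g4, TF24pUD0.e0g5]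
def e1top : List (List Nat) := [TF24pUD0.e1g0, TF24pUD0.e1g1, TF24pUD0.e1g2, TF24pUD0.e1g3, TF24pUD0.e1g4, TF24pUD0.e1g5]
def e2top : List (List Nat) := [TF24pUD0.e2g0, TF24pUD0.e2g1, TF24pUD0.e2g2, TF24pUD0.e2g3, TF24pUD0.e2g4, TF24pUD0.e2g5]
def e3top : List (List Nat) := [TF24pUD0.e3g0, TF24pUD0.e3g1, TF24pUD0.e3g2, TF24pUD0.e3g3, TF24pUD0.e3g4, TF24pUD0.e3g5]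
def e4top : List (List Nat) := [TF24pUD0.e4g0, TF24pUD0.e4g1, TF24pUD0.e4g2, TF24pUD0.e4g3, TF24pUD1.e4g4, TF24pUD1.e4g5]
def e5top : List (List Nat) := [TF24pUD1.e5g0, TF24pUD1.e5g1, TF24pUD1.e5g2, TF24pUD1.e5g3, TF24pUD1.e5g4, TF24pUD1.e5g5]
def e6top : List (List Nat) := [TF24pUD1.e6g0, TF24pUD1.e6g1, TF24pUD1.e6g2, TF24pUD1.e6g3, TF24pUD1.e6g4, TF24pUD1.e6g5]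
def e7top : List (List Nat) := [TF24pUD1.e7g0, TF24pUD1.e7g1, TF24pUD1.e7g2, TF24pUD1.e7g3, TF24pUD1.e7g4, TF24pUD1.e7g5]
def e8top : List (List Nat) := [TF24pUD1.e8g0, TF24pUD1.e8g1, TF24pUD1.e8g2, TF24pUD1.e8g3, TF24pUD1.e8g4, TF24pUD1.e8g5]
def e9top : List (List Nat) := [TF24pUD1.e9g0, TF24pUD1.e9g1, TF24pUD2.e9g2, TF24pUD2.e9g3, TF24pUD2.e9g4, TF24pUD2.e9g5]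
def etops : List (List (List Nat)) := [e0top, e1top, e2top, e3top, e4top, e5top, e6top, e7top, e8top, e9top]
def dtop : List (List Nat) := [TF24pUD2.dg0, TF24pUD2.dg1, TF24pUD2.dg2, TF24pUD2.dg3, TF24pUD2.dg4, TF24pUD2.dg5, TF24pUD2.dg6, TF24pUD2.dg7, TF24pUD2.dg8, TF24pUD2.dg9, TF24pUD2.dg10]
def tgt : Nat → Nat → Nat := fld3z etops 8 5 31 255 62 65535
def hnt : Nat → Nat → Nat := fld3 etops 8 5 31 255 62 16 524287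
def crt : Nat → Nat → Nat := fld3 etops 8 5 31 255 62 35 255
def sig : Nat → Nat → Nat := fld3 etops 8 5 31 255 62 43 524287
def par : Nat → Nat := fld1 dtop 7 5 31 127 79 0 65535
def plet : Nat → Nat := fld1 dtop 7 5 31 127 79 16 15
def mu : Nat → Nat := fld1 dtop 7 5 31 127 79 20 65535
def dst : Nat → Nat := fld1 dtop 7 5 31 127 79 36 65535
def dcrt : Nat → Nat := fld1 dtop 7 5 31 127 79 52 255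
def dsig : Nat → Nat := fld1 dtop 7 5 31 127 79 60 524287
def nGE : Nat := 6
def certs0 : List Cert := [Cert.mk 1 0 [] [],
  Cert.mk 1 1 [] [],
  Cert.mk 1 2 [] [],
  Cert.mk 1 3 [] [],
  Cert.mk 1 4 [] [],
  Cert.mk 1 5 [] [],
  Cert.mk 1 6 [] [],
  Cert.mk 1 7 [] [],
  Cert.mk 1 8 [] [],
  Cert.mk 0 9 [] [9],
  Cert.mk 0 0 [] [9, 0, 9],
  Cert.mk 0 1 [] [9, 1, 9],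
  Cert.mk 0 2 [] [9, 2, 9],
  Cert.mk 0 3 [] [9, 3, 9],
  Cert.mk 0 4 [] [9, 4, 9],
  Cert.mk 0 5 [] [9, 5, 9]]
def certs1 : List Cert := [Cert.mk 0 6 [] [9, 6, 9],
  Cert.mk 0 7 [] [9, 7, 9],
  Cert.mk 0 8 [] [8],
  Cert.mk 0 0 [] [8, 0, 8],
  Cert.mk 0 1 [] [8, 1, 8],
  Cert.mk 0 2 [] [8, 2, 8],
  Cert.mk 0 3 [] [8, 3, 8],
  Cert.mk 0 4 [] [8, 4, 8],
  Cert.mk 0 6 [] [8, 6, 8],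
  Cert.mk 0 7 [] [8, 7, 8],
  Cert.mk 0 9 [] [8, 9, 8, 9, 8],
  Cert.mk 0 5 [] [5],
  Cert.mk 0 0 [] [5, 0, 5],
  Cert.mk 0 1 [] [5, 1, 5],
  Cert.mk 0 2 [] [5, 2, 5],
  Cert.mk 0 3 [] [5, 3, 5]]
def certs2 : List Cert := [Cert.mk 0 7 [] [5, 7, 5],
  Cert.mk 0 8 [] [5, 8, 5, 8, 5],
  Cert.mk 0 9 [] [5, 9, 5],
  Cert.mk 0 4 [] [4],
  Cert.mk 0 0 [] [4, 0, 4],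
  Cert.mk 0 1 [] [4, 1, 4],
  Cert.mk 0 2 [] [4, 2, 4],
  Cert.mk 0 5 [] [4, 5, 4, 5, 4],
  Cert.mk 0 7 [] [4, 7, 4],
  Cert.mk 0 8 [] [4, 8, 4],
  Cert.mk 0 9 [] [4, 9, 4],
  Cert.mk 0 6 [] [6],
  Cert.mk 0 0 [] [6, 0, 6],
  Cert.mk 0 1 [] [6, 1, 6],
  Cert.mk 0 2 [] [6, 2, 6],
  Cert.mk 0 3 [] [6, 3, 6]]
def certs3 : List Cert := [Cert.mk 0 5 [] [6, 5, 6, 5, 6],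
  Cert.mk 0 8 [] [6, 8, 6],
  Cert.mk 0 9 [] [6, 9, 6],
  Cert.mk 0 3 [] [3],
  Cert.mk 0 0 [] [3, 0, 3],
  Cert.mk 0 1 [] [3, 1, 3],
  Cert.mk 0 4 [] [3, 4, 3, 4, 3],
  Cert.mk 0 5 [] [3, 5, 3],
  Cert.mk 0 7 [] [3, 7, 3],
  Cert.mk 0 8 [] [3, 8, 3],
  Cert.mk 0 9 [] [3, 9, 3],
  Cert.mk 0 4 [] [6, 4, 6],
  Cert.mk 0 7 [] [7],
  Cert.mk 0 0 [] [7, 0, 7],
  Cert.mk 0 1 [] [7, 1, 7],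
  Cert.mk 0 2 [] [7, 2, 7]]
def certs4 : List Cert := [Cert.mk 0 3 [] [7, 3, 7],
  Cert.mk 0 5 [] [7, 5, 7],
  Cert.mk 0 6 [] [7, 6, 7, 6, 7],
  Cert.mk 0 8 [] [7, 8, 7],
  Cert.mk 0 9 [] [7, 9, 7],
  Cert.mk 0 2 [] [2],
  Cert.mk 0 0 [] [2, 0, 2],
  Cert.mk 0 3 [] [2, 3, 2, 3, 2],
  Cert.mk 0 4 [] [2, 4, 2],
  Cert.mk 0 5 [] [2, 5, 2],
  Cert.mk 0 7 [] [2, 7, 2],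
  Cert.mk 0 8 [] [2, 8, 2],
  Cert.mk 0 9 [] [2, 9, 2],
  Cert.mk 0 4 [] [5, 4, 5, 4, 5],
  Cert.mk 0 6 [] [5, 6, 5, 6, 5],
  Cert.mk 0 4 [] [7, 4, 7]]
def certs5 : List Cert := [Cert.mk 0 1 [] [1],
  Cert.mk 0 2 [] [1, 2, 1, 2, 1],
  Cert.mk 0 3 [] [1, 3, 1],
  Cert.mk 0 4 [] [1, 4, 1],
  Cert.mk 0 5 [] [1, 5, 1],
  Cert.mk 0 7 [] [1, 7, 1],
  Cert.mk 0 8 [] [1, 8, 1],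
  Cert.mk 0 9 [] [1, 9, 1],
  Cert.mk 0 5 [] [8, 5, 8, 5, 8],
  Cert.mk 0 0 [] [0],
  Cert.mk 0 1 [] [0, 1, 0, 1, 0],
  Cert.mk 0 2 [] [0, 2, 0],
  Cert.mk 0 3 [] [0, 3, 0],
  Cert.mk 0 4 [] [0, 4, 0],
  Cert.mk 0 5 [] [0, 5, 0],
  Cert.mk 0 7 [] [0, 7, 0]]
def certs6 : List Cert := [Cert.mk 0 8 [] [0, 8, 0],
  Cert.mk 0 9 [] [0, 9, 0],
  Cert.mk 0 3 [] [4, 3, 4, 3, 4],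
  Cert.mk 0 6 [] [4, 6, 4],
  Cert.mk 0 7 [] [6, 7, 6, 7, 6],
  Cert.mk 0 8 [] [9, 8, 9, 8, 9],
  Cert.mk 0 2 [] [3, 2, 3, 2, 3],
  Cert.mk 0 6 [] [3, 6, 3],
  Cert.mk 0 1 [] [2, 1, 2, 1, 2],
  Cert.mk 0 6 [] [2, 6, 2],
  Cert.mk 0 0 [] [1, 0, 1, 0, 1],
  Cert.mk 0 6 [] [1, 6, 1],
  Cert.mk 0 6 [] [0, 6, 0],
  Cert.mk 0 3 [] [2, 8, 7, 6, 5, 4, 3, 2, 8, 7, 6, 5, 4, 3, 2, 8, 7, 6, 5, 4, 3, 2, 8, 7, 6, 5, 4, 3, 2, 8, 7, 6, 5, 4, 3, 2, 8, 7, 6, 5, 4, 3, 2, 8, 7, 6, 5, 4, 3, 2, 8, 7, 6, 5, 4, 3, 2, 0, 8, 7, 6, 5, 4],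
  Cert.mk 0 4 [] [3, 2, 8, 7, 6, 5, 4, 3, 2, 8, 7, 6, 5, 4, 3, 2, 8, 7, 6, 5, 4, 3, 2, 8, 7, 6, 5, 4, 3, 2, 8, 7, 6, 5, 4, 3, 2, 8, 7, 6, 5, 4, 3, 2, 8, 7, 6, 5, 4, 3, 2, 8, 7, 6, 5, 4, 3, 2, 0, 8, 7, 6, 5],
  Cert.mk 0 2 [] [0, 8, 7, 6, 5, 4, 3, 2, 8, 7, 6, 5, 4, 3, 2, 8, 7, 6, 5, 4, 3, 2, 8, 7, 6, 5, 4, 3, 2, 8, 7, 6, 5, 4, 3, 2, 8, 7, 6, 5, 4, 3, 2, 8, 7, 6, 5, 4, 3, 2, 8, 7, 6, 5, 4, 3, 2, 8, 7, 6, 5, 4, 3]]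
def certs7 : List Cert := [Cert.mk 2 0 [] [5, 4, 3, 2, 8, 7, 6, 5, 4, 3, 2, 8, 7, 6, 5, 4, 3, 2, 8, 7, 6, 5, 4, 3, 2, 8, 7, 6, 5, 4, 3, 2, 8, 7, 6, 5, 4, 3, 2, 8, 7, 6, 5, 4, 3, 2, 8, 7, 6, 5, 4, 3, 2, 8, 7, 6, 5, 4, 3, 2, 0, 8, 7, 6],
  Cert.mk 2 0 [] [4, 4],
  Cert.mk 2 0 [] [6, 6],
  Cert.mk 2 0 [] [8, 8],
  Cert.mk 2 0 [] [0, 0],
  Cert.mk 2 0 [] [3, 3],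
  Cert.mk 2 0 [] [5, 5],
  Cert.mk 2 0 [] [9, 9],
  Cert.mk 2 0 [] [7, 7],
  Cert.mk 2 0 [] [2, 2],
  Cert.mk 2 0 [] [1, 1],
  Cert.mk 0 6 [] [7, 8, 0, 2, 3, 4, 5, 6, 7, 8, 2, 3, 4, 5, 6, 7, 8, 2, 3, 4, 5, 6, 7, 8, 2, 3, 4, 5, 6, 7, 8, 2, 3, 4, 5, 6, 7, 8, 2, 3, 4, 5, 6, 7, 8, 2, 3, 4, 5, 6, 7, 8, 2, 3, 4, 5, 6, 7, 8, 2, 3, 4, 5],
  Cert.mk 2 0 [] [9, 3, 9, 3],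
  Cert.mk 2 0 [] [9, 4, 9, 4],
  Cert.mk 2 0 [] [4, 2, 4, 2],
  Cert.mk 2 0 [] [0, 3, 0, 3]]
def certs8 : List Cert := [Cert.mk 0 7 [] [8, 2, 3, 4, 5, 6, 7, 8, 2, 3, 4, 5, 6, 7, 8, 2, 3, 4, 5, 6, 7, 8, 2, 3, 4, 5, 6, 7, 8, 2, 3, 4, 5, 6, 7, 8, 2, 3, 4, 5, 6, 7, 8, 2, 3, 4, 5, 6, 7, 8, 2, 3, 4, 5, 6, 7, 8, 0, 2, 3, 4, 5, 6],
  Cert.mk 0 8 [] [2, 3, 4, 5, 6, 7, 8, 2, 3, 4, 5, 6, 7, 8, 2, 3, 4, 5, 6, 7, 8, 2, 3, 4, 5, 6, 7, 8, 2, 3, 4, 5, 6, 7, 8, 2, 3, 4, 5, 6, 7, 8, 2, 3, 4, 5, 6, 7, 8, 2, 3, 4, 5, 6, 7, 8, 0, 2, 3, 4, 5, 6, 7],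
  Cert.mk 0 5 [] [6, 7, 8, 2, 3, 4, 5, 6, 7, 8, 2, 3, 4, 5, 6, 7, 8, 2, 3, 4, 5, 6, 7, 8, 2, 3, 4, 5, 6, 7, 8, 2, 3, 4, 5, 6, 7, 8, 2, 3, 4, 5, 6, 7, 8, 2, 3, 4, 5, 6, 7, 8, 2, 3, 4, 5, 6, 7, 8, 0, 2, 3, 4],
  Cert.mk 0 4 [] [3, 2, 8, 7, 6, 5, 4, 3, 2, 8, 7, 6, 5, 4, 3, 2, 8, 7, 6, 5, 4, 3, 2, 8, 7, 6, 5, 4, 3, 2, 0, 8, 7, 6, 5, 4, 3, 2, 8, 7, 6, 5, 4, 3, 2, 8, 7, 6, 5, 4, 3, 2, 8, 7, 6, 5, 4, 3, 2, 8, 7, 6, 5],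
  Cert.mk 0 8 [] [7, 6, 5, 4, 3, 2, 8, 7, 6, 5, 4, 3, 2, 8, 7, 6, 5, 4, 3, 2, 8, 7, 6, 5, 4, 3, 2, 8, 7, 6, 5, 4, 3, 2, 8, 7, 6, 5, 4, 3, 2, 8, 7, 6, 5, 4, 3, 2, 8, 7, 6, 5, 4, 3, 2, 0, 8, 7, 6, 5, 4, 3, 2],
  Cert.mk 2 0 [] [6, 4, 6, 4],
  Cert.mk 2 0 [] [8, 2, 8, 2],
  Cert.mk 2 0 [] [8, 1, 8, 1],
  Cert.mk 2 0 [] [5, 6, 7, 8, 2, 3, 4, 5, 6, 7, 8, 2, 3, 4, 5, 6, 7, 8, 2, 3, 4, 5, 6, 7, 8, 2, 3, 4, 5, 6, 7, 8, 2, 3, 4, 5, 6, 7, 8, 0, 2, 3, 4, 5, 6, 7, 8, 2, 3, 4, 5, 6, 7, 8, 2, 3, 4, 5, 6, 7, 8, 2, 3, 4],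
  Cert.mk 2 0 [] [4, 5, 6, 7, 8, 2, 3, 4, 5, 6, 7, 8, 2, 3, 4, 5, 6, 7, 8, 2, 3, 4, 5, 6, 7, 8, 2, 3, 4, 5, 6, 7, 8, 2, 3, 4, 5, 6, 7, 8, 2, 3, 4, 5, 6, 7, 8, 2, 3, 4, 5, 6, 7, 8, 2, 3, 4, 5, 6, 7, 8, 0, 2, 3],
  Cert.mk 2 0 [] [8, 4, 8, 4],
  Cert.mk 2 0 [] [0, 2, 0, 2],
  Cert.mk 2 0 [] [4, 1, 4, 1],
  Cert.mk 2 0 [] [4, 8, 4, 8],
  Cert.mk 2 0 [] [2, 1, 2, 1, 2, 1],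
  Cert.mk 2 0 [] [8, 0, 8, 0]]
def certs9 : List Cert := [Cert.mk 2 0 [] [4, 3, 4, 3, 4, 3],
  Cert.mk 2 0 [] [5, 0, 5, 0],
  Cert.mk 2 0 [] [5, 2, 5, 2],
  Cert.mk 2 0 [] [5, 8, 5, 8, 5, 8],
  Cert.mk 2 0 [] [5, 1, 5, 1],
  Cert.mk 2 0 [] [5, 3, 5, 3],
  Cert.mk 2 0 [] [6, 8, 6, 8],
  Cert.mk 2 0 [] [3, 5, 3, 5],
  Cert.mk 2 0 [] [3, 8, 3, 8],
  Cert.mk 2 0 [] [2, 5, 2, 5],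
  Cert.mk 2 0 [] [3, 1, 3, 1],
  Cert.mk 2 0 [] [2, 0, 2, 0],
  Cert.mk 2 0 [] [2, 8, 2, 8],
  Cert.mk 2 0 [] [6, 1, 6, 1],
  Cert.mk 2 0 [] [0, 6, 0, 6],
  Cert.mk 0 5 [] [4, 3, 2, 8, 7, 6, 5, 4, 3, 2, 8, 7, 6, 5, 4, 3, 2, 8, 7, 6, 5, 4, 3, 2, 8, 7, 6, 5, 4, 3, 2, 8, 7, 6, 5, 4, 3, 2, 8, 7, 6, 5, 4, 3, 2, 8, 7, 6, 5, 4, 3, 2, 8, 7, 6, 5, 4, 3, 2, 0, 8, 7, 6]]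
def certs10 : List Cert := [Cert.mk 0 3 [] [2, 8, 7, 6, 5, 4, 3, 2, 0, 8, 7, 6, 5, 4, 3, 2, 8, 7, 6, 5, 4, 3, 2, 8, 7, 6, 5, 4, 3, 2, 8, 7, 6, 5, 4, 3, 2, 8, 7, 6, 5, 4, 3, 2, 8, 7, 6, 5, 4, 3, 2, 8, 7, 6, 5, 4, 3, 2, 8, 7, 6, 5, 4],
  Cert.mk 0 5 [] [4, 3, 2, 8, 7, 6, 5, 4, 3, 2, 8, 7, 6, 5, 4, 3, 2, 8, 7, 6, 5, 4, 3, 2, 8, 7, 6, 5, 4, 3, 2, 0, 8, 7, 6, 5, 4, 3, 2, 8, 7, 6, 5, 4, 3, 2, 8, 7, 6, 5, 4, 3, 2, 8, 7, 6, 5, 4, 3, 2, 8, 7, 6],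
  Cert.mk 2 0 [] [7, 8, 2, 3, 4, 5, 6, 7, 8, 2, 3, 4, 5, 6, 7, 8, 2, 3, 4, 5, 6, 7, 8, 0, 2, 3, 4, 5, 6, 7, 8, 2, 3, 4, 5, 6, 7, 8, 2, 3, 4, 5, 6, 7, 8, 2, 3, 4, 5, 6, 7, 8, 2, 3, 4, 5, 6, 7, 8, 2, 3, 4, 5, 6],
  Cert.mk 2 0 [] [3, 0, 3, 0],
  Cert.mk 2 0 [] [9, 0, 9, 0],
  Cert.mk 2 0 [] [1, 5, 1, 5],
  Cert.mk 0 6 [] [5, 4, 3, 2, 8, 7, 6, 5, 4, 3, 2, 8, 7, 6, 5, 4, 3, 2, 8, 7, 6, 5, 4, 3, 2, 8, 7, 6, 5, 4, 3, 2, 8, 7, 6, 5, 4, 3, 2, 8, 7, 6, 5, 4, 3, 2, 8, 7, 6, 5, 4, 3, 2, 8, 7, 6, 5, 4, 3, 2, 0, 8, 7],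
  Cert.mk 0 5 [] [4, 3, 2, 8, 7, 6, 5, 4, 3, 2, 8, 7, 6, 5, 4, 3, 2, 8, 7, 6, 5, 4, 3, 2, 8, 7, 6, 5, 4, 3, 2, 8, 7, 6, 5, 4, 3, 2, 8, 7, 6, 5, 4, 3, 2, 8, 7, 6, 5, 4, 3, 2, 0, 8, 7, 6, 5, 4, 3, 2, 8, 7, 6],
  Cert.mk 0 8 [] [7, 6, 5, 4, 3, 2, 8, 7, 6, 5, 4, 3, 2, 8, 7, 6, 5, 4, 3, 2, 8, 7, 6, 5, 4, 3, 2, 8, 7, 6, 5, 4, 3, 2, 8, 7, 6, 5, 4, 3, 2, 8, 7, 6, 5, 4, 3, 2, 8, 7, 6, 5, 4, 3, 2, 8, 7, 6, 5, 4, 3, 2, 0],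
  Cert.mk 0 2 [] [8, 7, 6, 5, 4, 3, 2, 8, 7, 6, 5, 4, 3, 2, 8, 7, 6, 5, 4, 3, 2, 8, 7, 6, 5, 4, 3, 2, 8, 7, 6, 5, 4, 3, 2, 8, 7, 6, 5, 4, 3, 2, 8, 7, 6, 5, 4, 3, 2, 8, 7, 6, 5, 4, 3, 2, 0, 8, 7, 6, 5, 4, 3],
  Cert.mk 0 6 [] [7, 8, 2, 3, 4, 5, 6, 7, 8, 2, 3, 4, 5, 6, 7, 8, 2, 3, 4, 5, 6, 7, 8, 2, 3, 4, 5, 6, 7, 8, 2, 3, 4, 5, 6, 7, 8, 2, 3, 4, 5, 6, 7, 8, 2, 3, 4, 5, 6, 7, 8, 2, 3, 4, 5, 6, 7, 8, 0, 2, 3, 4, 5]]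
def certs : List Cert := certs0 ++ certs1 ++ certs2 ++ certs3 ++ certs4 ++ certs5 ++ certs6 ++ certs7 ++ certs8 ++ certs9 ++ certs10
def hints : List (Nat × Nat) := [(0, 0), (1, 0), (2, 0), (3, 0), (4, 0), (5, 0), (6, 0), (7, 0), (8, 0), (101, 0), (8, 0), (16, 0), (23, 0), (29, 0), (34, 0), (38, 0), (41, 0), (43, 0), (100, 0), (7, 0), (15, 0), (22, 0), (28, 0), (33, 0), (40, 0), (42, 0), (44, 1), (97, 0), (4, 0), (12, 0), (19, 0), (25, 0), (36, 1), (37, 1), (38, 1), (96, 0), (3, 0), (11, 0), (18, 0), (30, 1), (32, 1), (33, 1), (34, 1), (98, 0), (5, 0), (13, 0), (20, 0), (26, 0), (35, 0), (40, 1), (41, 1), (95, 0), (2, 0), (10, 0), (24, 1), (25, 1), (27, 1), (28, 1), (29, 1), (31, 0), (99, 0), (6, 0), (14, 0),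 (21, 0), (27, 0), (36, 0), (39, 0), (42, 1), (43, 1), (94, 0), (1, 0), (17, 1), (18, 1), (19, 1), (21, 1), (22, 1), (23, 1), (30, 0), (35, 1), (32, 0), (93, 0), (9, 1), (10, 1), (11, 1), (12, 1), (14, 1), (15, 1), (16, 1), (37, 0), (92, 0), (0, 1), (1, 1), (2, 1), (3, 1), (4, 1), (6, 1), (7, 1), (8, 1), (24, 0), (31, 1), (39, 1), (44, 0), (17, 0), (26, 1), (9, 0), (20, 1), (0, 0), (13, 1), (5, 1), (45, 6), (45, 5), (45, 63), (45, 4), (96, 0), (98, 0), (100, 0), (92, 0), (95, 0), (97, 0), (101, 0), (99, 0), (94, 0), (93, 0), (91, 60), (29, 1), (34, 1), (18, 1), (2, 0), (91, 5), (91, 6), (91, 3), (45, 33), (45, 8), (31, 1), (22, 1), (15, 1), (91, 24), (91, 2), (33, 1), (1, 0), (11, 1), (33, 0), (9, 1), (7, 1), (24,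 1), (4, 1), (19, 1), (37, 0), (12, 1), (25, 1), (40, 0), (25, 0), (28, 0), (19, 0), (10, 1), (1, 1), (22, 0), (13, 1), (5, 0), (45, 4), (45, 55), (45, 32), (91, 40), (2, 1), (8, 1), (12, 0), (45, 3), (45, 11), (45, 1), (45, 7), (91, 4)]
def relW : List (List Nat) := [[0, 1, 0, 1, 0, 1],
  [0, 2, 0, 2],
  [0, 3, 0, 3],
  [0, 4, 0, 4],
  [0, 5, 0, 5],
  [0, 6, 0, 6],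
  [0, 7, 0, 7],
  [0, 8, 0, 8],
  [0, 9, 0, 9],
  [1, 2, 1, 2, 1, 2],
  [1, 3, 1, 3],
  [1, 4, 1, 4],
  [1, 5, 1, 5],
  [1, 6, 1, 6],
  [1, 7, 1, 7],
  [1, 8, 1, 8],
  [1, 9, 1, 9],
  [2, 3, 2, 3, 2, 3],
  [2, 4, 2, 4],
  [2, 5, 2, 5],
  [2, 6, 2, 6],
  [2, 7, 2, 7],
  [2, 8, 2, 8],
  [2, 9, 2, 9],
  [3, 4, 3, 4, 3, 4],
  [3, 5, 3, 5],
  [3, 6, 3, 6],
  [3, 7, 3, 7],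
  [3, 8, 3, 8],
  [3, 9, 3, 9],
  [4, 5, 4, 5, 4, 5],
  [4, 6, 4, 6],
  [4, 7, 4, 7],
  [4, 8, 4, 8],
  [4, 9, 4, 9],
  [5, 6, 5, 6, 5, 6],
  [5, 7, 5, 7],
  [5, 8, 5, 8, 5, 8],
  [5, 9, 5, 9],
  [6, 7, 6, 7, 6, 7],
  [6, 8, 6, 8],
  [6, 9, 6, 9],
  [7, 8, 7, 8],
  [7, 9, 7, 9],
  [8, 9, 8, 9, 8, 9],
  [0, 8, 7, 6, 5, 4, 3, 2, 8, 7, 6, 5, 4, 3, 2, 8, 7, 6, 5, 4, 3, 2, 8, 7, 6, 5, 4, 3, 2, 8, 7, 6, 5, 4, 3, 2, 8, 7, 6, 5, 4, 3, 2, 8, 7, 6, 5, 4, 3, 2, 8, 7, 6, 5, 4, 3, 2, 8, 7, 6, 5, 4, 3, 2]]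
def sgW : List (List Nat) := [[0],
  [1],
  [2],
  [3],
  [4],
  [5],
  [6],
  [7],
  [8]]
def invL : List Nat := [0, 1, 2, 3, 4, 5, 6, 7, 8, 9]
def nL : Nat := 10
def nN : Nat := 44362
def nF : Nat := 3
def nAlive : Nat := 28431
def nD : Nat := 16
def nB : Nat := 524287
/-- the per-name check -/
def chkName (v : Nat) : Bool :=
  andK (nameOK tgt sig crt hnt dsig mu dcrt dst par plet certs 3 10 v) (finOK tgt sig hnt dsig mu 3 10 44362 v)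

end Cfsg.Agent.Lib.Helper28.TF24pUT
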