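import Cfsg.Agent.Lib.Helper28.TCMain
import Cfsg.Agent.Lib.Helper28.PresF24p
import Cfsg.Agent.Lib.Helper28.TF24pUC0
import Cfsg.Agent.Lib.Helper28.TF24pUC1
import Cfsg.Agent.Lib.Helper28.TF24pUC2
import Cfsg.Agent.Lib.Helper28.TF24pUC3
import Cfsg.Agent.Lib.Helper28.TF24pUC4
import Cfsg.Agent.Lib.Helper28.TF24pUC5
import Cfsg.Agent.Lib.Helper28.TF24pUC6
import Cfsg.Agent.Lib.Helper28.TF24pUC7
import Cfsg.Agent.Lib.Helper28.TF24pLC0
import Cfsg.Agent.Lib.Helper28.TF24pLC1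
import Cfsg.Agent.Lib.Helper28.TF24pLC2
import Cfsg.Agent.Lib.Helper28.TF24pLC3
import Cfsg.Agent.Lib.Helper28.TF24pLC4
import Cfsg.Agent.Lib.Helper28.TF24pLC5
import Cfsg.Agent.Lib.Helper28.TF24pLC6
import Cfsg.Agent.Lib.Helper28.TF24pLC7
import Cfsg.Agent.Lib.Helper28.TF24pLC8
import Cfsg.Agent.Lib.Helper28.TF24pLC9
import Cfsg.Agent.Lib.Helper28.TF24pLC10
import Cfsg.Agent.Lib.Helper28.TF24pLC11
import Cfsg.Agent.Lib.Helper28.TF24pLC12
import Cfsg.Agent.Lib.Helper28.TF24pLC13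
import Cfsg.Agent.Lib.Helper28.TF24pLC14
import Cfsg.Agent.Lib.Helper28.TF24pLC15

set_option autoImplicit false

namespace Cfsg.Agent.Lib.Helper28.TF24pX

open Cfsg.Spor Cfsg.Agent.Lib.Helper28.TCKernel Cfsg.Agent.Lib.Helper28.TCSound Cfsg.Agent.Lib.Helper28.TCPerm Cfsg.Agent.Lib.Helper28.TCPres Cfsg.Agent.Lib.Helper28.TCMain

/-- the subgroup generators -/
def sgSrc : List (FreeGroup F24p.Gen) := [F24p.l, F24p.k, F24p.a, F24p.b, F24p.c, F24p.d, F24p.e, F24p.f, F24p.h]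

theorem chunkU : ∀ k, k < 8 → allTree TF24pUT.chkName 13 (k * 2 ^ 13) = true
  | 0, _ => TF24pUC0.chk
  | 1, _ => TF24pUC1.chk
  | 2, _ => TF24pUC2.chk
  | 3, _ => TF24pUC3.chk
  | 4, _ => TF24pUC4.chk
  | 5, _ => TF24pUC5.chk
  | 6, _ => TF24pUC6.chk
  | 7, _ => TF24pUC7.chk
  | (k + 8), h => absurd h (by omega)

theorem chkU (v : Nat) : TF24pUT.chkName v = true := by
  rcases Nat.lt_or_ge v (2 ^ 16) with h | h
  · exact allTree_chunks TF24pUT.chkName 13 8 chunkU v h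
  · exact chk_of_zero _ _ _ _ _ _ _ _ _ _ _ _ _ _ v
      (fun y => fld3_eq_zero _ _ _ _ _ _ _ _ y v 6 (by decide)
        (le_trans (by decide : 6 * 2 ^ (8 + 5) ≤ 2 ^ 16) h))
      (fld1_eq_zero _ _ _ _ _ _ _ _ v
        (le_trans (by decide : TF24pUT.dtop.length * 2 ^ (7 + 5) ≤ 2 ^ 16) h))
      (le_trans (by decide : 44362 ≤ 2 ^ 16) h)

theorem chunkL : ∀ k, k < 16 → allTree TF24pLT.chkPoint 11 (k * 2 ^ 11) = true
  | 0, _ => TF24pLC0.chk
  | 1, _ => TF24pLC1.chk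
  | 2, _ => TF24pLC2.chk
  | 3, _ => TF24pLC3.chk
  | 4, _ => TF24pLC4.chk
  | 5, _ => TF24pLC5.chk
  | 6, _ => TF24pLC6.chk
  | 7, _ => TF24pLC7.chk
  | 8, _ => TF24pLC8.chk
  | 9, _ => TF24pLC9.chk
  | 10, _ => TF24pLC10.chk
  | 11, _ => TF24pLC11.chk
  | 12, _ => TF24pLC12.chk
  | 13, _ => TF24pLC13.chk
  | 14, _ => TF24pLC14.chk
  | 15, _ => TF24pLC15.chk
  | (k + 16), h => absurd h (by omega)

theorem chkL (a : Nat) (ha : a < 28431) : TF24pLT.chkPoint a = true :=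
  allTree_chunks TF24pLT.chkPoint 11 16 chunkL a (lt_of_lt_of_le ha (by decide))

theorem permOK : PermChecks 28431 TF24pLT.tp PresF24p.inv TF24pLT.pa TF24pLT.pl PresF24p.relW TF24pLT.sgW TF24pLT.tw 18
    TF24pLT.roots 10 where
  point := fun a ha => chkL a ha
  invL := by decide +kernel
  wsL := by decide +kernel
  sgL := by decide +kernel
  twL := by decide +kernel
  root1 := by decide +kernel
  rootpos := by decide +kernel

/-- index and orbit structure of the subgroup -/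
theorem final :
    ((Subgroup.closure {s | s ∈ sgSrc}).map (PresentedGroup.mk (coxRelators F24p.edges ∪ {r | r ∈ F24p.extra}))).index = 28431 ∧
    ∃ ψ : (PresentedGroup (coxRelators F24p.edges ∪ {r | r ∈ F24p.extra})) ⧸ ((Subgroup.closure {s | s ∈ sgSrc}).map (PresentedGroup.mk (coxRelators F24p.edges ∪ {r | r ∈ F24p.extra}))) → Fin 28431,
      Function.Injective ψ ∧
      ∀ r, r < 28431 → (∀ r' ∈ (0 :: TF24pLT.roots), clsOf TF24pLT.roots r' = clsOf TF24pLT.roots r → r' = r) →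
        ∃ q, ψ '' (MulAction.orbit ((Subgroup.closure {s | s ∈ sgSrc}).map (PresentedGroup.mk (coxRelators F24p.edges ∪ {r | r ∈ F24p.extra}))) q) = {b : Fin 28431 | clsOf TF24pLT.roots b.1 = clsOf TF24pLT.roots r} :=
  main PresF24p.ok {s | s ∈ sgSrc} sgSrc rfl TF24pLT.sgW (by decide +kernel)
    44362 28431 16 3 524287 TF24pUT.tgt TF24pUT.sig TF24pUT.crt TF24pUT.hnt TF24pUT.dsig TF24pUT.mu TF24pUT.dcrt TF24pUT.dst
    TF24pUT.par TF24pUT.plet TF24pUT.certs TF24pUT.hints (by decide +kernel)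
    (fun y v => fld3_le _ _ _ _ _ _ _ _ y v) (fun v => fld1_le _ _ _ _ _ _ _ _ v) chkU
    (by decide +kernel) (by decide) TF24pUC0.cnt
    TF24pLT.tp TF24pLT.pa TF24pLT.pl TF24pLT.tw 18 TF24pLT.roots permOK (by decide) (by decide +kernel)

end Cfsg.Agent.Lib.Helper28.TF24pX
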