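import Cfsg.Agent.Lib.Helper28.TCKernel
import Cfsg.Agent.Lib.Helper28.TF24qUD0

set_option autoImplicit false

namespace Cfsg.Agent.Lib.Helper28.TF24qUT

open Cfsg.Agent.Lib.Helper28.TCKernel

def e0top : List (List Nat) := [TF24qUD0.e0g0, TF24qUD0.e0g1]
def e1top : List (List Nat) := [TF24qUD0.e1g0, TF24qUD0.e1g1]
def e2top : List (List Nat) := [TF24qUD0.e2g0, TF24qUD0.e2g1]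
def e3top : List (List Nat) := [TF24qUD0.e3g0, TF24qUD0.e3g1]
def e4top : List (List Nat) := [TF24qUD0.e4g0, TF24qUD0.e4g1]
def e5top : List (List Nat) := [TF24qUD0.e5g0, TF24qUD0.e5g1]
def e6top : List (List Nat) := [TF24qUD0.e6g0, TF24qUD0.e6g1]
def e7top : List (List Nat) := [TF24qUD0.e7g0, TF24qUD0.e7g1]
def e8top : List (List Nat) := [TF24qUD0.e8g0, TF24qUD0.e8g1]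
def etops : List (List (List Nat)) := [e0top, e1top, e2top, e3top, e4top, e5top, e6top, e7top, e8top]
def dtop : List (List Nat) := [TF24qUD0.dg0, TF24qUD0.dg1, TF24qUD0.dg2]
def tgt : Nat → Nat → Nat := fld3z etops 8 5 31 255 56 16383
def hnt : Nat → Nat → Nat := fld3 etops 8 5 31 255 56 14 131071
def crt : Nat → Nat → Nat := fld3 etops 8 5 31 255 56 31 255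
def sig : Nat → Nat → Nat := fld3 etops 8 5 31 255 56 39 131071
def par : Nat → Nat := fld1 dtop 7 5 31 127 71 0 16383
def plet : Nat → Nat := fld1 dtop 7 5 31 127 71 14 15
def mu : Nat → Nat := fld1 dtop 7 5 31 127 71 18 16383
def dst : Nat → Nat := fld1 dtop 7 5 31 127 71 32 16383
def dcrt : Nat → Nat := fld1 dtop 7 5 31 127 71 46 255
def dsig : Nat → Nat := fld1 dtop 7 5 31 127 71 54 131071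
def nGE : Nat := 2
def certs0 : List Cert := [Cert.mk 1 1 [] [],
  Cert.mk 1 2 [] [],
  Cert.mk 1 3 [] [],
  Cert.mk 1 4 [] [],
  Cert.mk 1 5 [] [],
  Cert.mk 1 6 [] [],
  Cert.mk 1 7 [] [],
  Cert.mk 0 0 [] [0],
  Cert.mk 0 2 [] [0, 2, 0],
  Cert.mk 0 3 [] [0, 3, 0],
  Cert.mk 0 4 [] [0, 4, 0],
  Cert.mk 0 5 [] [0, 5, 0],
  Cert.mk 0 6 [] [0, 6, 0],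
  Cert.mk 0 7 [] [0, 7, 0],
  Cert.mk 0 8 [] [8],
  Cert.mk 0 1 [] [8, 1, 8]]
def certs1 : List Cert := [Cert.mk 0 2 [] [8, 2, 8],
  Cert.mk 0 3 [] [8, 3, 8],
  Cert.mk 0 4 [] [8, 4, 8],
  Cert.mk 0 6 [] [8, 6, 8],
  Cert.mk 0 7 [] [8, 7, 8],
  Cert.mk 0 1 [] [1],
  Cert.mk 0 0 [] [1, 0, 1, 0, 1],
  Cert.mk 0 3 [] [1, 3, 1],
  Cert.mk 0 4 [] [1, 4, 1],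
  Cert.mk 0 5 [] [1, 5, 1],
  Cert.mk 0 6 [] [1, 6, 1],
  Cert.mk 0 7 [] [1, 7, 1],
  Cert.mk 0 0 [] [8, 0, 8],
  Cert.mk 0 5 [] [5],
  Cert.mk 0 1 [] [5, 1, 5],
  Cert.mk 0 2 [] [5, 2, 5]]
def certs2 : List Cert := [Cert.mk 0 3 [] [5, 3, 5],
  Cert.mk 0 7 [] [5, 7, 5],
  Cert.mk 0 8 [] [5, 8, 5, 8, 5],
  Cert.mk 0 2 [] [2],
  Cert.mk 0 0 [] [2, 0, 2],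
  Cert.mk 0 1 [] [2, 1, 2, 1, 2],
  Cert.mk 0 4 [] [2, 4, 2],
  Cert.mk 0 5 [] [2, 5, 2],
  Cert.mk 0 6 [] [2, 6, 2],
  Cert.mk 0 7 [] [2, 7, 2],
  Cert.mk 0 0 [] [5, 0, 5],
  Cert.mk 0 4 [] [4],
  Cert.mk 0 1 [] [4, 1, 4],
  Cert.mk 0 2 [] [4, 2, 4],
  Cert.mk 0 5 [] [4, 5, 4, 5, 4],
  Cert.mk 0 7 [] [4, 7, 4]]
def certs3 : List Cert := [Cert.mk 0 8 [] [4, 8, 4],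
  Cert.mk 0 6 [] [6],
  Cert.mk 0 1 [] [6, 1, 6],
  Cert.mk 0 2 [] [6, 2, 6],
  Cert.mk 0 3 [] [6, 3, 6],
  Cert.mk 0 5 [] [6, 5, 6, 5, 6],
  Cert.mk 0 8 [] [6, 8, 6],
  Cert.mk 0 3 [] [3],
  Cert.mk 0 0 [] [3, 0, 3],
  Cert.mk 0 1 [] [3, 1, 3],
  Cert.mk 0 2 [] [3, 2, 3, 2, 3],
  Cert.mk 0 5 [] [3, 5, 3],
  Cert.mk 0 6 [] [3, 6, 3],
  Cert.mk 0 7 [] [3, 7, 3],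
  Cert.mk 0 0 [] [4, 0, 4],
  Cert.mk 0 0 [] [6, 0, 6]]
def certs4 : List Cert := [Cert.mk 0 4 [] [3, 4, 3, 4, 3],
  Cert.mk 0 8 [] [3, 8, 3],
  Cert.mk 0 4 [] [6, 4, 6],
  Cert.mk 0 7 [] [7],
  Cert.mk 0 1 [] [7, 1, 7],
  Cert.mk 0 2 [] [7, 2, 7],
  Cert.mk 0 3 [] [7, 3, 7],
  Cert.mk 0 5 [] [7, 5, 7],
  Cert.mk 0 6 [] [7, 6, 7, 6, 7],
  Cert.mk 0 8 [] [7, 8, 7],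
  Cert.mk 0 3 [] [4, 3, 4, 3, 4],
  Cert.mk 0 6 [] [4, 6, 4],
  Cert.mk 0 0 [] [7, 0, 7],
  Cert.mk 0 3 [] [2, 3, 2, 3, 2],
  Cert.mk 0 8 [] [2, 8, 2],
  Cert.mk 0 4 [] [5, 4, 5, 4, 5]]
def certs5 : List Cert := [Cert.mk 0 6 [] [5, 6, 5, 6, 5],
  Cert.mk 0 4 [] [7, 4, 7],
  Cert.mk 0 2 [] [1, 2, 1, 2, 1],
  Cert.mk 0 8 [] [1, 8, 1],
  Cert.mk 0 5 [] [8, 5, 8, 5, 8],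
  Cert.mk 0 8 [] [0, 8, 0],
  Cert.mk 0 7 [] [6, 7, 6, 7, 6],
  Cert.mk 0 1 [] [0, 1, 0, 1, 0],
  Cert.mk 0 3 [] [2, 8, 7, 6, 5, 4, 3, 2, 8, 7, 6, 5, 4, 3, 2, 8, 7, 6, 5, 4, 3, 2, 8, 7, 6, 5, 4, 3, 2, 8, 7, 6, 5, 4, 3, 2, 8, 7, 6, 5, 4, 3, 2, 8, 7, 6, 5, 4, 3, 2, 8, 7, 6, 5, 4, 3, 2, 0, 8, 7, 6, 5, 4],
  Cert.mk 0 8 [] [2, 3, 4, 5, 6, 7, 8, 2, 3, 4, 5, 6, 7, 8, 2, 3, 4, 5, 6, 7, 8, 2, 3, 4, 5, 6, 7, 8, 2, 3, 4, 5, 6, 7, 8, 2, 3, 4, 5, 6, 7, 8, 2, 3, 4, 5, 6, 7, 8, 2, 3, 4, 5, 6, 7, 8, 0, 2, 3, 4, 5, 6, 7],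
  Cert.mk 0 8 [] [7, 6, 5, 4, 3, 2, 8, 7, 6, 5, 4, 3, 2, 8, 7, 6, 5, 4, 3, 2, 8, 7, 6, 5, 4, 3, 2, 8, 7, 6, 5, 4, 3, 2, 8, 7, 6, 5, 4, 3, 2, 8, 7, 6, 5, 4, 3, 2, 8, 7, 6, 5, 4, 3, 2, 8, 7, 6, 5, 4, 3, 2, 0],
  Cert.mk 0 8 [] [7, 6, 5, 4, 3, 2, 8, 7, 6, 5, 4, 3, 2, 8, 7, 6, 5, 4, 3, 2, 8, 7, 6, 5, 4, 3, 2, 8, 7, 6, 5, 4, 3, 2, 8, 7, 6, 5, 4, 3, 2, 8, 7, 6, 5, 4, 3, 2, 8, 7, 6, 5, 4, 3, 2, 0, 8, 7, 6, 5, 4, 3, 2],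
  Cert.mk 0 5 [] [4, 3, 2, 8, 7, 6, 5, 4, 3, 2, 8, 7, 6, 5, 4, 3, 2, 8, 7, 6, 5, 4, 3, 2, 8, 7, 6, 5, 4, 3, 2, 8, 7, 6, 5, 4, 3, 2, 8, 7, 6, 5, 4, 3, 2, 8, 7, 6, 5, 4, 3, 2, 8, 7, 6, 5, 4, 3, 2, 0, 8, 7, 6],
  Cert.mk 0 4 [] [3, 2, 8, 7, 6, 5, 4, 3, 2, 8, 7, 6, 5, 4, 3, 2, 8, 7, 6, 5, 4, 3, 2, 8, 7, 6, 5, 4, 3, 2, 8, 7, 6, 5, 4, 3, 2, 8, 7, 6, 5, 4, 3, 2, 8, 7, 6, 5, 4, 3, 2, 8, 7, 6, 5, 4, 3, 2, 0, 8, 7, 6, 5],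
  Cert.mk 0 2 [] [8, 7, 6, 5, 4, 3, 2, 8, 7, 6, 5, 4, 3, 2, 8, 7, 6, 5, 4, 3, 2, 8, 7, 6, 5, 4, 3, 2, 8, 7, 6, 5, 4, 3, 2, 8, 7, 6, 5, 4, 3, 2, 8, 7, 6, 5, 4, 3, 2, 8, 7, 6, 5, 4, 3, 2, 0, 8, 7, 6, 5, 4, 3],
  Cert.mk 0 6 [] [5, 4, 3, 2, 8, 7, 6, 5, 4, 3, 2, 8, 7, 6, 5, 4, 3, 2, 8, 7, 6, 5, 4, 3, 2, 8, 7, 6, 5, 4, 3, 2, 8, 7, 6, 5, 4, 3, 2, 8, 7, 6, 5, 4, 3, 2, 8, 7, 6, 5, 4, 3, 2, 8, 7, 6, 5, 4, 3, 2, 0, 8, 7]]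
def certs6 : List Cert := [Cert.mk 0 8 [] [0, 2, 3, 4, 5, 6, 7, 8, 2, 3, 4, 5, 6, 7, 8, 2, 3, 4, 5, 6, 7, 8, 2, 3, 4, 5, 6, 7, 8, 2, 3, 4, 5, 6, 7, 8, 2, 3, 4, 5, 6, 7, 8, 2, 3, 4, 5, 6, 7, 8, 2, 3, 4, 5, 6, 7, 8, 2, 3, 4, 5, 6, 7],
  Cert.mk 2 0 [] [3, 2, 8, 7, 6, 5, 4, 3, 2, 8, 7, 6, 5, 4, 3, 2, 8, 7, 6, 5, 4, 3, 2, 0, 8, 7, 6, 5, 4, 3, 2, 8, 7, 6, 5, 4, 3, 2, 8, 7, 6, 5, 4, 3, 2, 8, 7, 6, 5, 4, 3, 2, 8, 7, 6, 5, 4, 3, 2, 8, 7, 6, 5, 4],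
  Cert.mk 2 0 [] [4, 4],
  Cert.mk 2 0 [] [0, 0],
  Cert.mk 2 0 [] [3, 3],
  Cert.mk 2 0 [] [5, 5],
  Cert.mk 2 0 [] [7, 7],
  Cert.mk 2 0 [] [8, 8],
  Cert.mk 2 0 [] [2, 2],
  Cert.mk 2 0 [] [6, 6],
  Cert.mk 2 0 [] [1, 1],
  Cert.mk 2 0 [] [3, 2, 8, 7, 6, 5, 4, 3, 2, 8, 7, 6, 5, 4, 3, 2, 8, 7, 6, 5, 4, 3, 2, 8, 7, 6, 5, 4, 3, 2, 8, 7, 6, 5, 4, 3, 2, 8, 7, 6, 5, 4, 3, 2, 8, 7, 6, 5, 4, 3, 2, 8, 7, 6, 5, 4, 3, 2, 0, 8, 7, 6, 5, 4],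
  Cert.mk 2 0 [] [3, 2, 3, 2, 3, 2],
  Cert.mk 2 0 [] [2, 3, 2, 3, 2, 3],
  Cert.mk 2 0 [] [3, 1, 3, 1],
  Cert.mk 2 0 [] [4, 0, 4, 0]]
def certs7 : List Cert := [Cert.mk 2 0 [] [4, 7, 4, 7],
  Cert.mk 2 0 [] [5, 0, 5, 0],
  Cert.mk 0 4 [] [3, 2, 8, 7, 6, 5, 4, 3, 2, 0, 8, 7, 6, 5, 4, 3, 2, 8, 7, 6, 5, 4, 3, 2, 8, 7, 6, 5, 4, 3, 2, 8, 7, 6, 5, 4, 3, 2, 8, 7, 6, 5, 4, 3, 2, 8, 7, 6, 5, 4, 3, 2, 8, 7, 6, 5, 4, 3, 2, 8, 7, 6, 5],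
  Cert.mk 0 7 [] [6, 5, 4, 3, 2, 8, 7, 6, 5, 4, 3, 2, 8, 7, 6, 5, 4, 3, 2, 8, 7, 6, 5, 4, 3, 2, 8, 7, 6, 5, 4, 3, 2, 8, 7, 6, 5, 4, 3, 2, 8, 7, 6, 5, 4, 3, 2, 8, 7, 6, 5, 4, 3, 2, 8, 7, 6, 5, 4, 3, 2, 0, 8],
  Cert.mk 0 7 [] [8, 2, 3, 4, 5, 6, 7, 8, 2, 3, 4, 5, 6, 7, 8, 2, 3, 4, 5, 6, 7, 8, 2, 3, 4, 5, 6, 7, 8, 2, 3, 4, 5, 6, 7, 8, 2, 3, 4, 5, 6, 7, 8, 2, 3, 4, 5, 6, 7, 8, 2, 3, 4, 5, 6, 7, 8, 0, 2, 3, 4, 5, 6],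
  Cert.mk 2 0 [] [7, 4, 7, 4],
  Cert.mk 2 0 [] [6, 0, 6, 0],
  Cert.mk 2 0 [] [6, 2, 6, 2],
  Cert.mk 2 0 [] [4, 6, 4, 6],
  Cert.mk 2 0 [] [4, 1, 4, 1],
  Cert.mk 2 0 [] [4, 2, 4, 2],
  Cert.mk 2 0 [] [3, 0, 3, 0],
  Cert.mk 0 6 [] [5, 4, 3, 2, 8, 7, 6, 5, 4, 3, 2, 8, 7, 6, 5, 4, 3, 2, 8, 7, 6, 5, 4, 3, 2, 8, 7, 6, 5, 4, 3, 2, 0, 8, 7, 6, 5, 4, 3, 2, 8, 7, 6, 5, 4, 3, 2, 8, 7, 6, 5, 4, 3, 2, 8, 7, 6, 5, 4, 3, 2, 8, 7],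
  Cert.mk 0 7 [] [8, 2, 3, 4, 5, 6, 7, 8, 2, 3, 4, 5, 6, 7, 8, 2, 3, 4, 5, 6, 7, 8, 0, 2, 3, 4, 5, 6, 7, 8, 2, 3, 4, 5, 6, 7, 8, 2, 3, 4, 5, 6, 7, 8, 2, 3, 4, 5, 6, 7, 8, 2, 3, 4, 5, 6, 7, 8, 2, 3, 4, 5, 6],
  Cert.mk 0 6 [] [7, 8, 2, 3, 4, 5, 6, 7, 8, 2, 3, 4, 5, 6, 7, 8, 2, 3, 4, 5, 6, 7, 8, 2, 3, 4, 5, 6, 7, 8, 2, 3, 4, 5, 6, 7, 8, 2, 3, 4, 5, 6, 7, 8, 2, 3, 4, 5, 6, 7, 8, 2, 3, 4, 5, 6, 7, 8, 0, 2, 3, 4, 5],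
  Cert.mk 0 2 [] [0, 8, 7, 6, 5, 4, 3, 2, 8, 7, 6, 5, 4, 3, 2, 8, 7, 6, 5, 4, 3, 2, 8, 7, 6, 5, 4, 3, 2, 8, 7, 6, 5, 4, 3, 2, 8, 7, 6, 5, 4, 3, 2, 8, 7, 6, 5, 4, 3, 2, 8, 7, 6, 5, 4, 3, 2, 8, 7, 6, 5, 4, 3]]
def certs8 : List Cert := [Cert.mk 0 6 [] [5, 4, 3, 2, 8, 7, 6, 5, 4, 3, 2, 8, 7, 6, 5, 4, 3, 2, 8, 7, 6, 5, 4, 3, 2, 8, 7, 6, 5, 4, 3, 2, 8, 7, 6, 5, 4, 3, 2, 8, 7, 6, 5, 4, 3, 2, 8, 7, 6, 5, 4, 3, 2, 0, 8, 7, 6, 5, 4, 3, 2, 8, 7],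
  Cert.mk 0 7 [] [8, 0, 2, 3, 4, 5, 6, 7, 8, 2, 3, 4, 5, 6, 7, 8, 2, 3, 4, 5, 6, 7, 8, 2, 3, 4, 5, 6, 7, 8, 2, 3, 4, 5, 6, 7, 8, 2, 3, 4, 5, 6, 7, 8, 2, 3, 4, 5, 6, 7, 8, 2, 3, 4, 5, 6, 7, 8, 2, 3, 4, 5, 6],
  Cert.mk 0 5 [] [4, 3, 2, 0, 8, 7, 6, 5, 4, 3, 2, 8, 7, 6, 5, 4, 3, 2, 8, 7, 6, 5, 4, 3, 2, 8, 7, 6, 5, 4, 3, 2, 8, 7, 6, 5, 4, 3, 2, 8, 7, 6, 5, 4, 3, 2, 8, 7, 6, 5, 4, 3, 2, 8, 7, 6, 5, 4, 3, 2, 8, 7, 6],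
  Cert.mk 0 4 [] [3, 2, 8, 7, 6, 5, 4, 3, 2, 8, 7, 6, 5, 4, 3, 2, 8, 7, 6, 5, 4, 3, 2, 8, 7, 6, 5, 4, 3, 2, 8, 7, 6, 5, 4, 3, 2, 0, 8, 7, 6, 5, 4, 3, 2, 8, 7, 6, 5, 4, 3, 2, 8, 7, 6, 5, 4, 3, 2, 8, 7, 6, 5],
  Cert.mk 0 4 [] [3, 2, 8, 7, 6, 5, 4, 3, 2, 8, 7, 6, 5, 4, 3, 2, 8, 7, 6, 5, 4, 3, 2, 8, 7, 6, 5, 4, 3, 2, 8, 7, 6, 5, 4, 3, 2, 8, 7, 6, 5, 4, 3, 2, 8, 7, 6, 5, 4, 3, 2, 0, 8, 7, 6, 5, 4, 3, 2, 8, 7, 6, 5],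
  Cert.mk 0 5 [] [4, 3, 2, 8, 7, 6, 5, 4, 3, 2, 8, 7, 6, 5, 4, 3, 2, 8, 7, 6, 5, 4, 3, 2, 8, 7, 6, 5, 4, 3, 2, 8, 7, 6, 5, 4, 3, 2, 8, 7, 6, 5, 4, 3, 2, 8, 7, 6, 5, 4, 3, 2, 0, 8, 7, 6, 5, 4, 3, 2, 8, 7, 6],
  Cert.mk 0 7 [] [6, 5, 4, 3, 2, 0, 8, 7, 6, 5, 4, 3, 2, 8, 7, 6, 5, 4, 3, 2, 8, 7, 6, 5, 4, 3, 2, 8, 7, 6, 5, 4, 3, 2, 8, 7, 6, 5, 4, 3, 2, 8, 7, 6, 5, 4, 3, 2, 8, 7, 6, 5, 4, 3, 2, 8, 7, 6, 5, 4, 3, 2, 8],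
  Cert.mk 0 4 [] [3, 2, 8, 7, 6, 5, 4, 3, 2, 8, 7, 6, 5, 4, 3, 2, 8, 7, 6, 5, 4, 3, 2, 8, 7, 6, 5, 4, 3, 2, 8, 7, 6, 5, 4, 3, 2, 8, 7, 6, 5, 4, 3, 2, 0, 8, 7, 6, 5, 4, 3, 2, 8, 7, 6, 5, 4, 3, 2, 8, 7, 6, 5]]
def certs : List Cert := certs0 ++ certs1 ++ certs2 ++ certs3 ++ certs4 ++ certs5 ++ certs6 ++ certs7 ++ certs8
def hints : List (Nat × Nat) := [(0, 0), (1, 0), (2, 0), (3, 0), (4, 0), (5, 0), (6, 0), (74, 0), (1, 1), (2, 1), (3, 1), (4, 1), (5, 1), (6, 1), (82, 0), (14, 0), (20, 0), (25, 0), (29, 0), (34, 0), (35, 0), (75, 0), (0, 0), (9, 1), (10, 1), (11, 1), (12, 1), (13, 1), (7, 0), (79, 0), (11, 0), (17, 0), (22, 0), (31, 1), (32, 1), (76, 0), (1, 0), (8, 0), (16, 1), (17, 1), (18, 1), (19,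 1), (4, 0), (78, 0), (10, 0), (16, 0), (26, 1), (28, 1), (29, 1), (80, 0), (12, 0), (18, 0), (23, 0), (30, 0), (34, 1), (77, 0), (2, 0), (9, 0), (15, 0), (22, 1), (23, 1), (24, 1), (3, 0), (5, 0), (21, 1), (25, 1), (27, 0), (81, 0), (13, 0), (19, 0), (24, 0), (31, 0), (33, 0), (35, 1), (21, 0), (27, 1), (6, 0), (15, 1), (20, 1), (26, 0), (30, 1), (28, 0), (8, 1), (14, 1), (32, 0), (7, 1), (33, 1), (0, 1), (36, 6), (73, 6), (36, 1), (36, 8), (36, 4), (36, 5), (36, 7), (36, 3), (73, 62), (36, 41), (78, 0), (74, 0), (77, 0), (79, 0), (81, 0), (82, 0), (76, 0), (80, 0), (75, 0), (36, 6), (15, 1), (15, 0), (9, 1), (3, 1), (28, 0), (4, 1), (36, 54), (36, 2), (73, 5), (28, 1), (5, 1), (18, 1), (27, 0), (10,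 1), (16, 1), (2, 1), (36, 31), (73, 40), (73, 4), (36, 63), (36, 10), (73, 61), (36, 60), (36, 26), (36, 12), (36, 11), (36, 58), (36, 19)]
def relW : List (List Nat) := [[0, 1, 0, 1, 0, 1],
  [0, 2, 0, 2],
  [0, 3, 0, 3],
  [0, 4, 0, 4],
  [0, 5, 0, 5],
  [0, 6, 0, 6],
  [0, 7, 0, 7],
  [0, 8, 0, 8],
  [1, 2, 1, 2, 1, 2],
  [1, 3, 1, 3],
  [1, 4, 1, 4],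
  [1, 5, 1, 5],
  [1, 6, 1, 6],
  [1, 7, 1, 7],
  [1, 8, 1, 8],
  [2, 3, 2, 3, 2, 3],
  [2, 4, 2, 4],
  [2, 5, 2, 5],
  [2, 6, 2, 6],
  [2, 7, 2, 7],
  [2, 8, 2, 8],
  [3, 4, 3, 4, 3, 4],
  [3, 5, 3, 5],
  [3, 6, 3, 6],
  [3, 7, 3, 7],
  [3, 8, 3, 8],
  [4, 5, 4, 5, 4, 5],
  [4, 6, 4, 6],
  [4, 7, 4, 7],
  [4, 8, 4, 8],
  [5, 6, 5, 6, 5, 6],
  [5, 7, 5, 7],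
  [5, 8, 5, 8, 5, 8],
  [6, 7, 6, 7, 6, 7],
  [6, 8, 6, 8],
  [7, 8, 7, 8],
  [0, 8, 7, 6, 5, 4, 3, 2, 8, 7, 6, 5, 4, 3, 2, 8, 7, 6, 5, 4, 3, 2, 8, 7, 6, 5, 4, 3, 2, 8, 7, 6, 5, 4, 3, 2, 8, 7, 6, 5, 4, 3, 2, 8, 7, 6, 5, 4, 3, 2, 8, 7, 6, 5, 4, 3, 2, 8, 7, 6, 5, 4, 3, 2]]
def sgW : List (List Nat) := [[1],
  [2],
  [3],
  [4],
  [5],
  [6],
  [7]]
def invL : List Nat := [0, 1, 2, 3, 4, 5, 6, 7, 8]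
def nL : Nat := 9
def nN : Nat := 9562
def nF : Nat := 1
def nAlive : Nat := 8640
def nD : Nat := 14
def nB : Nat := 131071
/-- the per-name check -/
def chkName (v : Nat) : Bool :=
  andK (nameOK tgt sig crt hnt dsig mu dcrt dst par plet certs 1 9 v) (finOK tgt sig hnt dsig mu 1 9 9562 v)

end Cfsg.Agent.Lib.Helper28.TF24qUT
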