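import Cfsg.Agent.Lib.Helper28.TCMain
import Cfsg.Agent.Lib.Helper28.PresF24q
import Cfsg.Agent.Lib.Helper28.TF24qUC0
import Cfsg.Agent.Lib.Helper28.TF24qLC0
import Cfsg.Agent.Lib.Helper28.TF24qLC1
import Cfsg.Agent.Lib.Helper28.TF24qLC2
import Cfsg.Agent.Lib.Helper28.TF24qLC3

set_option autoImplicit false

namespace Cfsg.Agent.Lib.Helper28.TF24qX

open Cfsg.Spor Cfsg.Agent.Lib.Helper28.TCKernel Cfsg.Agent.Lib.Helper28.TCSound Cfsg.Agent.Lib.Helper28.TCPerm Cfsg.Agent.Lib.Helper28.TCPres Cfsg.Agent.Lib.Helper28.TCMain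

/-- the subgroup generators -/
def sgSrc : List (FreeGroup F24q.Gen) := [F24q.k, F24q.a, F24q.b, F24q.c, F24q.d, F24q.e, F24q.f]

theorem chunkU : ∀ k, k < 1 → allTree TF24qUT.chkName 14 (k * 2 ^ 14) = true
  | 0, _ => TF24qUC0.chk
  | (k + 1), h => absurd h (by omega)

theorem chkU (v : Nat) : TF24qUT.chkName v = true := by
  rcases Nat.lt_or_ge v (2 ^ 14) with h | h
  · exact allTree_chunks TF24qUT.chkName 14 1 chunkU v h
  · exact chk_of_zero _ _ _ _ _ _ _ _ _ _ _ _ _ _ v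
      (fun y => fld3_eq_zero _ _ _ _ _ _ _ _ y v 2 (by decide)
        (le_trans (by decide : 2 * 2 ^ (8 + 5) ≤ 2 ^ 14) h))
      (fld1_eq_zero _ _ _ _ _ _ _ _ v
        (le_trans (by decide : TF24qUT.dtop.length * 2 ^ (7 + 5) ≤ 2 ^ 14) h))
      (le_trans (by decide : 9562 ≤ 2 ^ 14) h)

theorem chunkL : ∀ k, k < 4 → allTree TF24qLT.chkPoint 12 (k * 2 ^ 12) = true
  | 0, _ => TF24qLC0.chk
  | 1, _ => TF24qLC1.chk
  | 2, _ => TF24qLC2.chk
  | 3, _ => TF24qLC3.chk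
  | (k + 4), h => absurd h (by omega)

theorem chkL (a : Nat) (ha : a < 8640) : TF24qLT.chkPoint a = true :=
  allTree_chunks TF24qLT.chkPoint 12 4 chunkL a (lt_of_lt_of_le ha (by decide))

theorem permOK : PermChecks 8640 TF24qLT.tp PresF24q.inv TF24qLT.pa TF24qLT.pl PresF24q.relW TF24qLT.sgW TF24qLT.tw 14
    TF24qLT.roots 9 where
  point := fun a ha => chkL a ha
  invL := by decide +kernel
  wsL := by decide +kernel
  sgL := by decide +kernel
  twL := by decide +kernel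
  root1 := by decide +kernel
  rootpos := by decide +kernel

/-- index and orbit structure of the subgroup -/
theorem final :
    ((Subgroup.closure {s | s ∈ sgSrc}).map (PresentedGroup.mk (coxRelators F24q.edges ∪ {r | r ∈ F24q.extra}))).index = 8640 ∧
    ∃ ψ : (PresentedGroup (coxRelators F24q.edges ∪ {r | r ∈ F24q.extra})) ⧸ ((Subgroup.closure {s | s ∈ sgSrc}).map (PresentedGroup.mk (coxRelators F24q.edges ∪ {r | r ∈ F24q.extra}))) → Fin 8640,
      Function.Injective ψ ∧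
      ∀ r, r < 8640 → (∀ r' ∈ (0 :: TF24qLT.roots), clsOf TF24qLT.roots r' = clsOf TF24qLT.roots r → r' = r) →
        ∃ q, ψ '' (MulAction.orbit ((Subgroup.closure {s | s ∈ sgSrc}).map (PresentedGroup.mk (coxRelators F24q.edges ∪ {r | r ∈ F24q.extra}))) q) = {b : Fin 8640 | clsOf TF24qLT.roots b.1 = clsOf TF24qLT.roots r} :=
  main PresF24q.ok {s | s ∈ sgSrc} sgSrc rfl TF24qLT.sgW (by decide +kernel)
    9562 8640 14 1 131071 TF24qUT.tgt TF24qUT.sig TF24qUT.crt TF24qUT.hnt TF24qUT.dsig TF24qUT.mu TF24qUT.dcrt TF24qUT.dst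
    TF24qUT.par TF24qUT.plet TF24qUT.certs TF24qUT.hints (by decide +kernel)
    (fun y v => fld3_le _ _ _ _ _ _ _ _ y v) (fun v => fld1_le _ _ _ _ _ _ _ _ v) chkU
    (by decide +kernel) (by decide) TF24qUC0.cnt
    TF24qLT.tp TF24qLT.pa TF24qLT.pl TF24qLT.tw 14 TF24qLT.roots permOK (by decide) (by decide +kernel)

end Cfsg.Agent.Lib.Helper28.TF24qX
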