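import Cfsg.Agent.Lib.Helper28.TCKernel
import Cfsg.Agent.Lib.Helper28.TF24rUD0

set_option autoImplicit false

namespace Cfsg.Agent.Lib.Helper28.TF24rUT

open Cfsg.Agent.Lib.Helper28.TCKernel

def e0top : List (List Nat) := [TF24rUD0.e0g0]
def e1top : List (List Nat) := [TF24rUD0.e1g0]
def e2top : List (List Nat) := [TF24rUD0.e2g0]
def e3top : List (List Nat) := [TF24rUD0.e3g0]
def e4top : List (List Nat) := [TF24rUD0.e4g0]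
def e5top : List (List Nat) := [TF24rUD0.e5g0]
def e6top : List (List Nat) := [TF24rUD0.e6g0]
def etops : List (List (List Nat)) := [e0top, e1top, e2top, e3top, e4top, e5top, e6top]
def dtop : List (List Nat) := [TF24rUD0.dg0]
def tgt : Nat → Nat → Nat := fld3z etops 8 1 1 255 39 511
def hnt : Nat → Nat → Nat := fld3 etops 8 1 1 255 39 9 4095
def crt : Nat → Nat → Nat := fld3 etops 8 1 1 255 39 21 63
def sig : Nat → Nat → Nat := fld3 etops 8 1 1 255 39 27 4095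
def par : Nat → Nat := fld1 dtop 8 1 1 255 49 0 511
def plet : Nat → Nat := fld1 dtop 8 1 1 255 49 9 15
def mu : Nat → Nat := fld1 dtop 8 1 1 255 49 13 511
def dst : Nat → Nat := fld1 dtop 8 1 1 255 49 22 511
def dcrt : Nat → Nat := fld1 dtop 8 1 1 255 49 31 63
def dsig : Nat → Nat := fld1 dtop 8 1 1 255 49 37 4095
def nGE : Nat := 1
def certs0 : List Cert := [Cert.mk 1 0 [] [],
  Cert.mk 1 1 [] [],
  Cert.mk 1 2 [] [],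
  Cert.mk 1 3 [] [],
  Cert.mk 0 4 [] [4],
  Cert.mk 0 0 [] [4, 0, 4],
  Cert.mk 0 1 [] [4, 1, 4],
  Cert.mk 0 2 [] [4, 2, 4],
  Cert.mk 0 5 [] [5],
  Cert.mk 0 0 [] [5, 0, 5],
  Cert.mk 0 1 [] [5, 1, 5],
  Cert.mk 0 2 [] [5, 2, 5],
  Cert.mk 0 3 [] [5, 3, 5],
  Cert.mk 0 6 [] [6],
  Cert.mk 0 0 [] [6, 0, 6],
  Cert.mk 0 1 [] [6, 1, 6]]
def certs1 : List Cert := [Cert.mk 0 2 [] [6, 2, 6],
  Cert.mk 0 3 [] [6, 3, 6],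
  Cert.mk 0 3 [] [3],
  Cert.mk 0 0 [] [3, 0, 3],
  Cert.mk 0 1 [] [3, 1, 3],
  Cert.mk 0 4 [] [3, 4, 3, 4, 3],
  Cert.mk 0 4 [] [6, 4, 6],
  Cert.mk 0 2 [] [2],
  Cert.mk 0 0 [] [2, 0, 2],
  Cert.mk 0 3 [] [2, 3, 2, 3, 2],
  Cert.mk 0 4 [] [2, 4, 2],
  Cert.mk 0 5 [] [4, 5, 4, 5, 4],
  Cert.mk 0 6 [] [5, 6, 5, 6, 5],
  Cert.mk 0 1 [] [1],
  Cert.mk 0 2 [] [1, 2, 1, 2, 1],
  Cert.mk 0 3 [] [1, 3, 1]]
def certs2 : List Cert := [Cert.mk 0 4 [] [1, 4, 1],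
  Cert.mk 0 5 [] [3, 5, 3],
  Cert.mk 0 6 [] [4, 6, 4],
  Cert.mk 0 0 [] [0],
  Cert.mk 0 1 [] [0, 1, 0, 1, 0],
  Cert.mk 0 2 [] [0, 2, 0],
  Cert.mk 0 3 [] [0, 3, 0],
  Cert.mk 0 4 [] [0, 4, 0],
  Cert.mk 0 5 [] [2, 5, 2],
  Cert.mk 0 6 [] [3, 6, 3],
  Cert.mk 0 5 [] [1, 5, 1],
  Cert.mk 0 6 [] [2, 6, 2],
  Cert.mk 0 5 [] [0, 5, 0],
  Cert.mk 0 6 [] [1, 6, 1],
  Cert.mk 0 6 [] [0, 6, 0]]
def certs : List Cert := certs0 ++ certs1 ++ certs2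
def hints : List (Nat × Nat) := [(0, 0), (1, 0), (2, 0), (3, 0), (46, 0), (3, 0), (8, 0), (12, 0), (47, 0), (4, 0), (9, 0), (13, 0), (16, 0), (48, 0), (5, 0), (10, 0), (14, 0), (17, 0), (45, 0), (2, 0), (7, 0), (15, 1), (19, 0), (44, 0), (1, 0), (11, 1), (12, 1), (18, 1), (20, 1), (43, 0), (6, 1), (7, 1), (8, 1), (16, 1), (19, 1), (42, 0), (0, 1), (1, 1), (2, 1), (3, 1), (13, 1), (17, 1), (9, 1), (14, 1), (4, 1), (10, 1), (5, 1)]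
def relW : List (List Nat) := [[0, 1, 0, 1, 0, 1],
  [0, 2, 0, 2],
  [0, 3, 0, 3],
  [0, 4, 0, 4],
  [0, 5, 0, 5],
  [0, 6, 0, 6],
  [1, 2, 1, 2, 1, 2],
  [1, 3, 1, 3],
  [1, 4, 1, 4],
  [1, 5, 1, 5],
  [1, 6, 1, 6],
  [2, 3, 2, 3, 2, 3],
  [2, 4, 2, 4],
  [2, 5, 2, 5],
  [2, 6, 2, 6],
  [3, 4, 3, 4, 3, 4],
  [3, 5, 3, 5],
  [3, 6, 3, 6],
  [4, 5, 4, 5, 4, 5],
  [4, 6, 4, 6],
  [5, 6, 5, 6, 5, 6]]
def sgW : List (List Nat) := [[0],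
  [1],
  [2],
  [3]]
def invL : List Nat := [0, 1, 2, 3, 4, 5, 6]
def nL : Nat := 7
def nN : Nat := 336
def nF : Nat := 0
def nAlive : Nat := 336
def nD : Nat := 9
def nB : Nat := 4095
/-- the per-name check -/
def chkName (v : Nat) : Bool :=
  andK (nameOK tgt sig crt hnt dsig mu dcrt dst par plet certs 0 7 v) (finOK tgt sig hnt dsig mu 0 7 336 v)

end Cfsg.Agent.Lib.Helper28.TF24rUT
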