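import Cfsg.Agent.Lib.Helper28.TCKernel
import Cfsg.Agent.Lib.Helper28.THeNUD0

set_option autoImplicit false

namespace Cfsg.Agent.Lib.Helper28.THeNUT

open Cfsg.Agent.Lib.Helper28.TCKernel

def e0top : List (List Nat) := [THeNUD0.e0g0, THeNUD0.e0g1]
def e1top : List (List Nat) := [THeNUD0.e1g0, THeNUD0.e1g1]
def e2top : List (List Nat) := [THeNUD0.e2g0, THeNUD0.e2g1]
def e3top : List (List Nat) := [THeNUD0.e3g0, THeNUD0.e3g1]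
def e4top : List (List Nat) := [THeNUD0.e4g0, THeNUD0.e4g1]
def e5top : List (List Nat) := [THeNUD0.e5g0, THeNUD0.e5g1]
def e6top : List (List Nat) := [THeNUD0.e6g0, THeNUD0.e6g1]
def etops : List (List (List Nat)) := [e0top, e1top, e2top, e3top, e4top, e5top, e6top]
def dtop : List (List Nat) := [THeNUD0.dg0, THeNUD0.dg1, THeNUD0.dg2]
def tgt : Nat → Nat → Nat := fld3z etops 8 5 31 255 54 16383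
def hnt : Nat → Nat → Nat := fld3 etops 8 5 31 255 54 14 65535
def crt : Nat → Nat → Nat := fld3 etops 8 5 31 255 54 30 255
def sig : Nat → Nat → Nat := fld3 etops 8 5 31 255 54 38 65535
def par : Nat → Nat := fld1 dtop 7 5 31 127 70 0 16383
def plet : Nat → Nat := fld1 dtop 7 5 31 127 70 14 15
def mu : Nat → Nat := fld1 dtop 7 5 31 127 70 18 16383
def dst : Nat → Nat := fld1 dtop 7 5 31 127 70 32 16383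
def dcrt : Nat → Nat := fld1 dtop 7 5 31 127 70 46 255
def dsig : Nat → Nat := fld1 dtop 7 5 31 127 70 54 65535
def nGE : Nat := 2
def certs0 : List Cert := [Cert.mk 1 2 [] [],
  Cert.mk 1 3 [] [],
  Cert.mk 0 0 [] [3, 2, 3, 2, 3, 2, 3, 2, 3, 2],
  Cert.mk 1 5 [] [],
  Cert.mk 1 6 [] [],
  Cert.mk 0 4 [] [6, 5, 6, 5],
  Cert.mk 0 1 [] [1],
  Cert.mk 0 3 [] [1, 3, 1],
  Cert.mk 0 4 [] [1, 4, 1],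
  Cert.mk 0 5 [] [1, 5, 1],
  Cert.mk 0 6 [] [1, 6, 1],
  Cert.mk 0 0 [] [0],
  Cert.mk 0 3 [] [0, 3, 0],
  Cert.mk 0 4 [] [0, 4, 0],
  Cert.mk 0 5 [] [0, 5, 0],
  Cert.mk 0 6 [] [0, 6, 0]]
def certs1 : List Cert := [Cert.mk 3 0 [1, 0] [1],
  Cert.mk 0 2 [] [2],
  Cert.mk 0 0 [] [2, 0, 2],
  Cert.mk 0 1 [] [2, 1, 2, 1, 2],
  Cert.mk 0 4 [] [2, 4, 2],
  Cert.mk 0 5 [] [2, 5, 2],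
  Cert.mk 0 6 [] [2, 6, 2],
  Cert.mk 0 3 [] [3],
  Cert.mk 0 0 [] [3, 0, 3],
  Cert.mk 0 1 [] [3, 1, 3],
  Cert.mk 0 4 [] [4],
  Cert.mk 0 0 [] [4, 0, 4],
  Cert.mk 0 1 [] [4, 1, 4],
  Cert.mk 0 3 [] [4, 3, 4, 3, 4],
  Cert.mk 0 5 [] [5],
  Cert.mk 0 0 [] [5, 0, 5]]
def certs2 : List Cert := [Cert.mk 0 1 [] [5, 1, 5],
  Cert.mk 0 5 [] [3, 5, 3, 5, 3],
  Cert.mk 0 2 [] [1, 2, 1, 2, 1],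
  Cert.mk 3 0 [1, 2, 3, 4, 5, 3, 2, 1, 3, 2, 4, 3, 2, 3, 1, 2, 3, 5, 4, 3, 2] [1],
  Cert.mk 2 0 [] [2, 2],
  Cert.mk 2 0 [] [3, 3],
  Cert.mk 2 0 [] [4, 4],
  Cert.mk 2 0 [] [5, 5],
  Cert.mk 2 0 [] [1, 1],
  Cert.mk 0 3 [] [5, 3, 5, 3, 5],
  Cert.mk 0 4 [] [5, 4, 5],
  Cert.mk 0 4 [] [3, 4, 3, 4, 3],
  Cert.mk 0 0 [] [2, 1, 0, 2, 1, 0, 4, 2, 1],
  Cert.mk 0 4 [] [2, 1, 0, 2, 1, 0, 2, 1, 0],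
  Cert.mk 0 6 [] [6],
  Cert.mk 0 0 [] [6, 0, 6]]
def certs3 : List Cert := [Cert.mk 0 1 [] [6, 1, 6],
  Cert.mk 0 3 [] [6, 3, 6, 3, 6],
  Cert.mk 0 4 [] [6, 4, 6],
  Cert.mk 0 5 [] [6, 5, 4, 6],
  Cert.mk 0 2 [] [6, 2, 6],
  Cert.mk 0 2 [] [4, 2, 4],
  Cert.mk 0 2 [] [5, 2, 5],
  Cert.mk 0 2 [] [3, 2, 3, 2, 3, 2, 3, 2, 0, 3],
  Cert.mk 0 5 [] [6, 5, 6, 5, 6, 5, 6],
  Cert.mk 0 6 [] [3, 6, 3, 6, 3],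
  Cert.mk 0 6 [] [5, 6, 5, 6, 5, 6, 5],
  Cert.mk 2 0 [] [4, 2, 1, 0, 2, 1, 0, 2, 1, 0],
  Cert.mk 0 3 [] [2, 6, 5, 3, 2, 6, 5, 3, 2, 6, 5, 3, 2, 6, 5],
  Cert.mk 0 6 [] [5, 4, 6, 5],
  Cert.mk 0 5 [] [4, 5, 4],
  Cert.mk 0 6 [] [4, 6, 4]]
def certs4 : List Cert := [Cert.mk 0 5 [] [4, 6, 5, 6],
  Cert.mk 2 0 [] [4, 0, 1, 2, 0, 1, 2, 0, 1, 2],
  Cert.mk 0 5 [] [6, 5, 6, 4],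
  Cert.mk 0 1 [] [2, 4, 0, 1, 2, 0, 1, 2, 0],
  Cert.mk 0 2 [] [6, 5, 3, 2, 6, 5, 3, 2, 6, 5, 3, 2, 6, 5, 3],
  Cert.mk 0 2 [] [0, 2, 0],
  Cert.mk 0 1 [] [0, 2, 1, 0, 4, 2, 1, 0, 2],
  Cert.mk 0 3 [] [2, 0, 3, 2, 3, 2, 3, 2, 3, 2],
  Cert.mk 2 0 [] [1, 3, 1, 3],
  Cert.mk 2 0 [] [6, 6],
  Cert.mk 2 0 [] [0, 0],
  Cert.mk 0 1 [] [2, 0, 1, 2, 4, 0, 1, 2, 0],
  Cert.mk 0 3 [] [2, 3, 2, 3, 2, 3, 2, 0, 3, 2],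
  Cert.mk 0 1 [] [2, 0, 1, 2, 0, 1, 2, 4, 0],
  Cert.mk 2 0 [] [5, 3, 5, 3, 5, 3],
  Cert.mk 0 6 [] [2, 3, 5, 6, 2, 3, 5, 6, 2, 3, 5, 6, 2, 3, 5]]
def certs5 : List Cert := [Cert.mk 0 2 [] [0, 3, 2, 3, 2, 3, 2, 3, 2, 3],
  Cert.mk 0 5 [] [6, 2, 3, 5, 6, 2, 3, 5, 6, 2, 3, 5, 6, 2, 3],
  Cert.mk 0 2 [] [3, 2, 3, 2, 3, 2, 3, 2, 3, 2, 3, 2, 3, 2, 3, 2, 3, 2, 3],
  Cert.mk 2 0 [] [2, 6, 5, 3, 2, 6, 5, 3, 2, 6, 5, 3, 2, 6, 5, 3],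
  Cert.mk 0 3 [] [5, 6, 2, 3, 5, 6, 2, 3, 5, 6, 2, 3, 5, 6, 2],
  Cert.mk 2 0 [] [6, 3, 6, 3, 6, 3],
  Cert.mk 2 0 [] [2, 6, 2, 6],
  Cert.mk 0 6 [] [4, 5, 6, 5],
  Cert.mk 0 5 [] [3, 2, 6, 5, 3, 2, 6, 5, 3, 2, 6, 5, 3, 2, 6],
  Cert.mk 2 0 [] [2, 3, 2, 3, 2, 0, 3, 2, 3, 2, 3],
  Cert.mk 2 0 [] [3, 5, 3, 5, 3, 5],
  Cert.mk 2 0 [] [6, 1, 6, 1],
  Cert.mk 2 0 [] [4, 6, 5, 6, 5],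
  Cert.mk 0 3 [] [2, 3, 2, 3, 2, 3, 2, 3, 2, 0],
  Cert.mk 0 5 [] [6, 4, 5, 6],
  Cert.mk 2 0 [] [1, 5, 1, 5]]
def certs6 : List Cert := [Cert.mk 2 0 [] [2, 5, 2, 5],
  Cert.mk 0 2 [] [3, 2, 3, 2, 3, 2, 0, 3, 2, 3],
  Cert.mk 0 6 [] [5, 3, 2, 6, 5, 3, 2, 6, 5, 3, 2, 6, 5, 3, 2],
  Cert.mk 0 0 [] [4, 2, 1, 0, 2, 1, 0, 2, 1],
  Cert.mk 0 3 [] [2, 3, 2, 3, 2, 0, 3, 2, 3, 2],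
  Cert.mk 0 0 [] [1, 2, 0, 1, 2, 0, 1, 2, 4],
  Cert.mk 0 2 [] [3, 2, 3, 2, 0, 3, 2, 3, 2, 3],
  Cert.mk 0 6 [] [5, 6, 5, 4],
  Cert.mk 0 1 [] [0, 2, 1, 0, 2, 1, 0, 4, 2],
  Cert.mk 0 4 [] [5, 6, 5, 6],
  Cert.mk 0 1 [] [0, 1, 0, 1, 0, 1, 0],
  Cert.mk 0 1 [] [0, 4, 2, 1, 0, 2, 1, 0, 2],
  Cert.mk 0 6 [] [5, 6, 4, 5],
  Cert.mk 0 0 [] [1, 0, 1, 0, 1, 0, 1],
  Cert.mk 2 0 [] [2, 3, 2, 3, 2, 3, 2, 3, 2, 0, 3],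
  Cert.mk 0 3 [] [2, 3, 2, 3, 2, 3, 2, 3, 2, 3, 2, 3, 2, 3, 2, 3, 2, 3, 2]]
def certs7 : List Cert := [Cert.mk 0 2 [] [3, 2, 0, 3, 2, 3, 2, 3, 2, 3],
  Cert.mk 2 0 [] [2, 3, 5, 6, 2, 3, 5, 6, 2, 3, 5, 6, 2, 3, 5, 6],
  Cert.mk 2 0 [] [6, 5, 6, 5, 4],
  Cert.mk 2 0 [] [3, 0, 3, 0],
  Cert.mk 2 0 [] [3, 2, 3, 2, 0, 3, 2, 3, 2, 3, 2],
  Cert.mk 0 4 [] [0, 1, 2, 0, 1, 2, 0, 1, 2],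
  Cert.mk 0 2 [] [3, 5, 6, 2, 3, 5, 6, 2, 3, 5, 6, 2, 3, 5, 6],
  Cert.mk 0 3 [] [2, 3, 2, 0, 3, 2, 3, 2, 3, 2],
  Cert.mk 0 2 [] [0, 1, 2, 0, 1, 2, 4, 0, 1],
  Cert.mk 2 0 [] [5, 6, 5, 4, 6],
  Cert.mk 0 2 [] [1, 0, 2, 1, 0, 2, 1, 0, 4],
  Cert.mk 2 0 [] [4, 3, 4, 3, 4, 3],
  Cert.mk 2 0 [] [4, 2, 4, 2],
  Cert.mk 2 0 [] [6, 4, 5, 6, 5],
  Cert.mk 2 0 [] [3, 6, 3, 6, 3, 6],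
  Cert.mk 2 0 [] [3, 2, 6, 5, 3, 2, 6, 5, 3, 2, 6, 5, 3, 2, 6, 5]]
def certs8 : List Cert := [Cert.mk 0 0 [] [1, 2, 0, 1, 2, 4, 0, 1, 2],
  Cert.mk 0 2 [] [4, 0, 1, 2, 0, 1, 2, 0, 1],
  Cert.mk 2 0 [] [4, 0, 4, 0],
  Cert.mk 2 0 [] [6, 5, 4, 6, 5],
  Cert.mk 0 2 [] [1, 0, 4, 2, 1, 0, 2, 1, 0],
  Cert.mk 2 0 [] [2, 0, 3, 2, 3, 2, 3, 2, 3, 2, 3],
  Cert.mk 2 0 [] [5, 0, 5, 0],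
  Cert.mk 2 0 [] [6, 2, 6, 2],
  Cert.mk 2 0 [] [6, 2, 3, 5, 6, 2, 3, 5, 6, 2, 3, 5, 6, 2, 3, 5],
  Cert.mk 2 0 [] [0, 2, 3, 2, 3, 2, 3, 2, 3, 2, 3],
  Cert.mk 2 0 [] [3, 1, 3, 1],
  Cert.mk 0 2 [] [3, 2, 3, 2, 3, 2, 3, 2, 3, 0],
  Cert.mk 0 3 [] [0, 2, 3, 2, 3, 2, 3, 2, 3, 2],
  Cert.mk 2 0 [] [5, 6, 2, 3, 5, 6, 2, 3, 5, 6, 2, 3, 5, 6, 2, 3]]
def certs : List Cert := certs0 ++ certs1 ++ certs2 ++ certs3 ++ certs4 ++ certs5 ++ certs6 ++ certs7 ++ certs8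
def hints : List (Nat × Nat) := [(0, 0), (1, 0), (23, 0), (2, 0), (3, 0), (21, 0), (51, 0), (7, 1), (8, 1), (9, 1), (10, 1), (50, 0), (2, 1), (3, 1), (4, 1), (5, 1), (4, 0), (52, 0), (1, 0), (6, 0), (12, 1), (13, 1), (14, 1), (53, 0), (2, 0), (7, 0), (54, 0), (3, 0), (8, 0), (15, 0), (55, 0), (4, 0), (9, 0), (16, 1), (6, 1), (5, 0), (52, 0), (53, 0), (54, 0), (55, 0), (51, 0), (16, 0), (18, 0), (15, 1), (22, 3), (22, 0), (56, 0), (5, 0), (10, 0), (17, 0), (19, 0), (21, 2), (14, 0), (12, 0), (13, 0), (23, 2), (20, 0), (17, 1), (20, 1), (22, 0), (49, 2), (21, 3), (18, 1), (19, 1), (21, 4), (47, 9), (46, 0), (47, 7), (49, 3), (1, 1), (22, 5), (23, 9), (7, 0), (56, 0), (50, 0), (47, 4), (23, 3), (47, 1), (16, 1), (24, 3), (23, 10), (24, 2), (11,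 0), (49, 3), (24, 1), (17, 1), (14, 0), (46, 3), (49, 1), (23, 6), (16, 0), (10, 1), (21, 0), (23, 1), (46, 2), (9, 0), (13, 0), (23, 4), (49, 0), (22, 9), (23, 5), (47, 0), (23, 6), (21, 1), (22, 2), (46, 4), (0, 1), (22, 8), (46, 1), (0, 0), (23, 2), (11, 1), (23, 8), (24, 0), (21, 1), (2, 1), (23, 7), (47, 9), (24, 0), (23, 7), (47, 2), (21, 2), (22, 1), (15, 1), (12, 1), (46, 3), (17, 0), (49, 2), (47, 3), (47, 8), (3, 1), (21, 3), (22, 7), (23, 10), (4, 1), (14, 1), (24, 3), (48, 10), (7, 1), (48, 0), (48, 9), (24, 2)]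
def relW : List (List Nat) := [[0, 1, 0, 1, 0, 1, 0, 1],
  [0, 2, 0, 2],
  [0, 3, 0, 3],
  [0, 4, 0, 4],
  [0, 5, 0, 5],
  [0, 6, 0, 6],
  [1, 2, 1, 2, 1, 2],
  [1, 3, 1, 3],
  [1, 4, 1, 4],
  [1, 5, 1, 5],
  [1, 6, 1, 6],
  [2, 3, 2, 3, 2, 3, 2, 3, 2, 3, 2, 3, 2, 3, 2, 3, 2, 3, 2, 3],
  [2, 4, 2, 4],
  [2, 5, 2, 5],
  [2, 6, 2, 6],
  [3, 4, 3, 4, 3, 4],
  [3, 5, 3, 5, 3, 5],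
  [3, 6, 3, 6, 3, 6],
  [4, 5, 4, 5],
  [4, 6, 4, 6],
  [5, 6, 5, 6, 5, 6, 5, 6],
  [4, 6, 5, 6, 5],
  [4, 2, 1, 0, 2, 1, 0, 2, 1, 0],
  [0, 3, 2, 3, 2, 3, 2, 3, 2, 3, 2],
  [2, 3, 5, 6, 2, 3, 5, 6, 2, 3, 5, 6, 2, 3, 5, 6]]
def sgW : List (List Nat) := [[2],
  [3],
  [5],
  [6],
  [1, 0, 1],
  [1, 2, 3, 4, 5, 3, 2, 1, 3, 2, 4, 3, 2, 3, 1, 2, 3, 5, 4, 3, 2, 1]]
def invL : List Nat := [0, 1, 2, 3, 4, 5, 6]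
def nL : Nat := 7
def nN : Nat := 8527
def nF : Nat := 3
def nAlive : Nat := 8330
def nD : Nat := 14
def nB : Nat := 65535
/-- the per-name check -/
def chkName (v : Nat) : Bool :=
  andK (nameOK tgt sig crt hnt dsig mu dcrt dst par plet certs 3 7 v) (finOK tgt sig hnt dsig mu 3 7 8527 v)

end Cfsg.Agent.Lib.Helper28.THeNUT
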