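import Cfsg.Agent.Lib.Helper28.TCKernel
import Cfsg.Agent.Lib.Helper28.THeTUD0
import Cfsg.Agent.Lib.Helper28.THeTUD1
import Cfsg.Agent.Lib.Helper28.THeTUD2
import Cfsg.Agent.Lib.Helper28.THeTUD3
import Cfsg.Agent.Lib.Helper28.THeTUD4
import Cfsg.Agent.Lib.Helper28.THeTUD5
import Cfsg.Agent.Lib.Helper28.THeTUD6
import Cfsg.Agent.Lib.Helper28.THeTUD7
import Cfsg.Agent.Lib.Helper28.THeTUD8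
import Cfsg.Agent.Lib.Helper28.THeTUD9
import Cfsg.Agent.Lib.Helper28.THeTUD10
import Cfsg.Agent.Lib.Helper28.THeTUD11

set_option autoImplicit false

namespace Cfsg.Agent.Lib.Helper28.THeTUT

open Cfsg.Agent.Lib.Helper28.TCKernel

def e0top : List (List Nat) := [THeTUD0.e0g0, THeTUD0.e0g1, THeTUD0.e0g2, THeTUD0.e0g3, THeTUD0.e0g4, THeTUD0.e0g5, THeTUD0.e0g6, THeTUD0.e0g7, THeTUD0.e0g8, THeTUD0.e0g9, THeTUD0.e0g10, THeTUD0.e0g11, THeTUD0.e0g12, THeTUD0.e0g13, THeTUD0.e0g14, THeTUD0.e0g15, THeTUD0.e0g16, THeTUD0.e0g17, THeTUD0.e0g18, THeTUD0.e0g19, THeTUD0.e0g20, THeTUD0.e0g21, THeTUD0.e0g22, THeTUD0.e0g23, THeTUD0.e0g24, THeTUD0.e0g25, THeTUD0.e0g26, THeTUD0.e0g27, THeTUD0.e0g28, THeTUD0.e0g29, THeTUD0.e0g30, THeTUD0.e0g31, THeTUD0.e0g32,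 THeTUD0.e0g33, THeTUD0.e0g34, THeTUD0.e0g35, THeTUD0.e0g36, THeTUD0.e0g37, THeTUD0.e0g38, THeTUD0.e0g39, THeTUD0.e0g40, THeTUD0.e0g41, THeTUD0.e0g42, THeTUD0.e0g43, THeTUD0.e0g44, THeTUD0.e0g45, THeTUD1.e0g46, THeTUD1.e0g47, THeTUD1.e0g48, THeTUD1.e0g49, THeTUD1.e0g50, THeTUD1.e0g51, THeTUD1.e0g52, THeTUD1.e0g53, THeTUD1.e0g54, THeTUD1.e0g55, THeTUD1.e0g56, THeTUD1.e0g57, THeTUD1.e0g58, THeTUD1.e0g59, THeTUD1.e0g60, THeTUD1.e0g61, THeTUD1.e0g62, THeTUD1.e0g63, THeTUD1.e0g64, THeTUD1.e0g65]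
def e1top : List (List Nat) := [THeTUD1.e1g0, THeTUD1.e1g1, THeTUD1.e1g2, THeTUD1.e1g3, THeTUD1.e1g4, THeTUD1.e1g5, THeTUD1.e1g6, THeTUD1.e1g7, THeTUD1.e1g8, THeTUD1.e1g9, THeTUD1.e1g10, THeTUD1.e1g11, THeTUD1.e1g12, THeTUD1.e1g13, THeTUD1.e1g14, THeTUD1.e1g15, THeTUD1.e1g16, THeTUD1.e1g17, THeTUD1.e1g18, THeTUD1.e1g19, THeTUD1.e1g20, THeTUD1.e1g21, THeTUD1.e1g22, THeTUD1.e1g23, THeTUD1.e1g24, THeTUD1.e1g25, THeTUD2.e1g26, THeTUD2.e1g27, THeTUD2.e1g28, THeTUD2.e1g29, THeTUD2.e1g30, THeTUD2.e1g31, THeTUD2.e1g32, THeTUD2.e1g33, THeTUD2.e1g34, THeTUD2.e1g35, THeTUD2.e1g36, THeTUD2.e1g37, THeTUD2.e1g38, THeTUD2.e1g39, THeTUD2.e1g40, THeTUD2.e1g41, THeTUD2.e1g42, THeTUD2.e1g43, THeTUD2.e1g44, THeTUD2.e1g45, THeTUD2.e1g46, THeTUD2.e1g47, THeTUD2.e1g48,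 THeTUD2.e1g49, THeTUD2.e1g50, THeTUD2.e1g51, THeTUD2.e1g52, THeTUD2.e1g53, THeTUD2.e1g54, THeTUD2.e1g55, THeTUD2.e1g56, THeTUD2.e1g57, THeTUD2.e1g58, THeTUD2.e1g59, THeTUD2.e1g60, THeTUD2.e1g61, THeTUD2.e1g62, THeTUD2.e1g63, THeTUD2.e1g64, THeTUD2.e1g65]
def e2top : List (List Nat) := [THeTUD2.e2g0, THeTUD2.e2g1, THeTUD2.e2g2, THeTUD2.e2g3, THeTUD2.e2g4, THeTUD2.e2g5, THeTUD3.e2g6, THeTUD3.e2g7, THeTUD3.e2g8, THeTUD3.e2g9, THeTUD3.e2g10, THeTUD3.e2g11, THeTUD3.e2g12, THeTUD3.e2g13, THeTUD3.e2g14, THeTUD3.e2g15, THeTUD3.e2g16, THeTUD3.e2g17, THeTUD3.e2g18, THeTUD3.e2g19, THeTUD3.e2g20, THeTUD3.e2g21, THeTUD3.e2g22, THeTUD3.e2g23, THeTUD3.e2g24, THeTUD3.e2g25, THeTUD3.e2g26, THeTUD3.e2g27, THeTUD3.e2g28, THeTUD3.e2g29, THeTUD3.e2g30, THeTUD3.e2g31,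 THeTUD3.e2g32, THeTUD3.e2g33, THeTUD3.e2g34, THeTUD3.e2g35, THeTUD3.e2g36, THeTUD3.e2g37, THeTUD3.e2g38, THeTUD3.e2g39, THeTUD3.e2g40, THeTUD3.e2g41, THeTUD3.e2g42, THeTUD3.e2g43, THeTUD3.e2g44, THeTUD3.e2g45, THeTUD3.e2g46, THeTUD3.e2g47, THeTUD3.e2g48, THeTUD3.e2g49, THeTUD3.e2g50, THeTUD3.e2g51, THeTUD4.e2g52, THeTUD4.e2g53, THeTUD4.e2g54, THeTUD4.e2g55, THeTUD4.e2g56, THeTUD4.e2g57, THeTUD4.e2g58, THeTUD4.e2g59, THeTUD4.e2g60, THeTUD4.e2g61, THeTUD4.e2g62, THeTUD4.e2g63, THeTUD4.e2g64, THeTUD4.e2g65]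
def e3top : List (List Nat) := [THeTUD4.e3g0, THeTUD4.e3g1, THeTUD4.e3g2, THeTUD4.e3g3, THeTUD4.e3g4, THeTUD4.e3g5, THeTUD4.e3g6, THeTUD4.e3g7, THeTUD4.e3g8, THeTUD4.e3g9, THeTUD4.e3g10, THeTUD4.e3g11, THeTUD4.e3g12, THeTUD4.e3g13, THeTUD4.e3g14, THeTUD4.e3g15, THeTUD4.e3g16, THeTUD4.e3g17, THeTUD4.e3g18, THeTUD4.e3g19, THeTUD4.e3g20, THeTUD4.e3g21, THeTUD4.e3g22, THeTUD4.e3g23, THeTUD4.e3g24, THeTUD4.e3g25, THeTUD4.e3g26, THeTUD4.e3g27, THeTUD4.e3g28, THeTUD4.e3g29, THeTUD4.e3g30, THeTUD4.e3g31, THeTUD5.e3g32, THeTUD5.e3g33, THeTUD5.e3g34, THeTUD5.e3g35, THeTUD5.e3g36, THeTUD5.e3g37, THeTUD5.e3g38, THeTUD5.e3g39, THeTUD5.e3g40, THeTUD5.e3g41, THeTUD5.e3g42, THeTUD5.e3g43, THeTUD5.e3g44, THeTUD5.e3g45, THeTUD5.e3g46, THeTUD5.e3g47, THeTUD5.e3g48,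 THeTUD5.e3g49, THeTUD5.e3g50, THeTUD5.e3g51, THeTUD5.e3g52, THeTUD5.e3g53, THeTUD5.e3g54, THeTUD5.e3g55, THeTUD5.e3g56, THeTUD5.e3g57, THeTUD5.e3g58, THeTUD5.e3g59, THeTUD5.e3g60, THeTUD5.e3g61, THeTUD5.e3g62, THeTUD5.e3g63, THeTUD5.e3g64, THeTUD5.e3g65]
def e4top : List (List Nat) := [THeTUD5.e4g0, THeTUD5.e4g1, THeTUD5.e4g2, THeTUD5.e4g3, THeTUD5.e4g4, THeTUD5.e4g5, THeTUD5.e4g6, THeTUD5.e4g7, THeTUD5.e4g8, THeTUD5.e4g9, THeTUD5.e4g10, THeTUD5.e4g11, THeTUD6.e4g12, THeTUD6.e4g13, THeTUD6.e4g14, THeTUD6.e4g15, THeTUD6.e4g16, THeTUD6.e4g17, THeTUD6.e4g18, THeTUD6.e4g19, THeTUD6.e4g20, THeTUD6.e4g21, THeTUD6.e4g22, THeTUD6.e4g23, THeTUD6.e4g24, THeTUD6.e4g25, THeTUD6.e4g26, THeTUD6.e4g27, THeTUD6.e4g28, THeTUD6.e4g29, THeTUD6.e4g30, THeTUD6.e4g31,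 THeTUD6.e4g32, THeTUD6.e4g33, THeTUD6.e4g34, THeTUD6.e4g35, THeTUD6.e4g36, THeTUD6.e4g37, THeTUD6.e4g38, THeTUD6.e4g39, THeTUD6.e4g40, THeTUD6.e4g41, THeTUD6.e4g42, THeTUD6.e4g43, THeTUD6.e4g44, THeTUD6.e4g45, THeTUD6.e4g46, THeTUD6.e4g47, THeTUD6.e4g48, THeTUD6.e4g49, THeTUD6.e4g50, THeTUD6.e4g51, THeTUD6.e4g52, THeTUD6.e4g53, THeTUD6.e4g54, THeTUD6.e4g55, THeTUD6.e4g56, THeTUD6.e4g57, THeTUD7.e4g58, THeTUD7.e4g59, THeTUD7.e4g60, THeTUD7.e4g61, THeTUD7.e4g62, THeTUD7.e4g63, THeTUD7.e4g64, THeTUD7.e4g65]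
def e5top : List (List Nat) := [THeTUD7.e5g0, THeTUD7.e5g1, THeTUD7.e5g2, THeTUD7.e5g3, THeTUD7.e5g4, THeTUD7.e5g5, THeTUD7.e5g6, THeTUD7.e5g7, THeTUD7.e5g8, THeTUD7.e5g9, THeTUD7.e5g10, THeTUD7.e5g11, THeTUD7.e5g12, THeTUD7.e5g13, THeTUD7.e5g14, THeTUD7.e5g15, THeTUD7.e5g16, THeTUD7.e5g17, THeTUD7.e5g18, THeTUD7.e5g19, THeTUD7.e5g20, THeTUD7.e5g21, THeTUD7.e5g22, THeTUD7.e5g23, THeTUD7.e5g24, THeTUD7.e5g25, THeTUD7.e5g26, THeTUD7.e5g27, THeTUD7.e5g28, THeTUD7.e5g29, THeTUD7.e5g30, THeTUD7.e5g31, THeTUD7.e5g32, THeTUD7.e5g33, THeTUD7.e5g34, THeTUD7.e5g35, THeTUD7.e5g36, THeTUD7.e5g37, THeTUD8.e5g38, THeTUD8.e5g39, THeTUD8.e5g40, THeTUD8.e5g41, THeTUD8.e5g42, THeTUD8.e5g43, THeTUD8.e5g44, THeTUD8.e5g45, THeTUD8.e5g46, THeTUD8.e5g47, THeTUD8.e5g48,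 THeTUD8.e5g49, THeTUD8.e5g50, THeTUD8.e5g51, THeTUD8.e5g52, THeTUD8.e5g53, THeTUD8.e5g54, THeTUD8.e5g55, THeTUD8.e5g56, THeTUD8.e5g57, THeTUD8.e5g58, THeTUD8.e5g59, THeTUD8.e5g60, THeTUD8.e5g61, THeTUD8.e5g62, THeTUD8.e5g63, THeTUD8.e5g64, THeTUD8.e5g65]
def e6top : List (List Nat) := [THeTUD8.e6g0, THeTUD8.e6g1, THeTUD8.e6g2, THeTUD8.e6g3, THeTUD8.e6g4, THeTUD8.e6g5, THeTUD8.e6g6, THeTUD8.e6g7, THeTUD8.e6g8, THeTUD8.e6g9, THeTUD8.e6g10, THeTUD8.e6g11, THeTUD8.e6g12, THeTUD8.e6g13, THeTUD8.e6g14, THeTUD8.e6g15, THeTUD8.e6g16, THeTUD8.e6g17, THeTUD9.e6g18, THeTUD9.e6g19, THeTUD9.e6g20, THeTUD9.e6g21, THeTUD9.e6g22, THeTUD9.e6g23, THeTUD9.e6g24, THeTUD9.e6g25, THeTUD9.e6g26, THeTUD9.e6g27, THeTUD9.e6g28, THeTUD9.e6g29, THeTUD9.e6g30, THeTUD9.e6g31,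 THeTUD9.e6g32, THeTUD9.e6g33, THeTUD9.e6g34, THeTUD9.e6g35, THeTUD9.e6g36, THeTUD9.e6g37, THeTUD9.e6g38, THeTUD9.e6g39, THeTUD9.e6g40, THeTUD9.e6g41, THeTUD9.e6g42, THeTUD9.e6g43, THeTUD9.e6g44, THeTUD9.e6g45, THeTUD9.e6g46, THeTUD9.e6g47, THeTUD9.e6g48, THeTUD9.e6g49, THeTUD9.e6g50, THeTUD9.e6g51, THeTUD9.e6g52, THeTUD9.e6g53, THeTUD9.e6g54, THeTUD9.e6g55, THeTUD9.e6g56, THeTUD9.e6g57, THeTUD9.e6g58, THeTUD9.e6g59, THeTUD9.e6g60, THeTUD9.e6g61, THeTUD9.e6g62, THeTUD9.e6g63, THeTUD10.e6g64, THeTUD10.e6g65]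
def etops : List (List (List Nat)) := [e0top, e1top, e2top, e3top, e4top, e5top, e6top]
def dtop : List (List Nat) := [THeTUD10.dg0, THeTUD10.dg1, THeTUD10.dg2, THeTUD10.dg3, THeTUD10.dg4, THeTUD10.dg5, THeTUD10.dg6, THeTUD10.dg7, THeTUD10.dg8, THeTUD10.dg9, THeTUD10.dg10, THeTUD10.dg11, THeTUD10.dg12, THeTUD10.dg13, THeTUD10.dg14, THeTUD10.dg15, THeTUD10.dg16, THeTUD10.dg17, THeTUD10.dg18, THeTUD10.dg19, THeTUD10.dg20, THeTUD10.dg21, THeTUD10.dg22, THeTUD10.dg23, THeTUD10.dg24, THeTUD10.dg25, THeTUD10.dg26, THeTUD10.dg27, THeTUD10.dg28, THeTUD10.dg29, THeTUD10.dg30, THeTUD10.dg31, THeTUD10.dg32, THeTUD10.dg33, THeTUD11.dg34, THeTUD11.dg35, THeTUD11.dg36, THeTUD11.dg37, THeTUD11.dg38, THeTUD11.dg39, THeTUD11.dg40, THeTUD11.dg41, THeTUD11.dg42,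 THeTUD11.dg43, THeTUD11.dg44, THeTUD11.dg45, THeTUD11.dg46, THeTUD11.dg47, THeTUD11.dg48, THeTUD11.dg49, THeTUD11.dg50, THeTUD11.dg51, THeTUD11.dg52, THeTUD11.dg53, THeTUD11.dg54, THeTUD11.dg55, THeTUD11.dg56, THeTUD11.dg57, THeTUD11.dg58, THeTUD11.dg59, THeTUD11.dg60, THeTUD11.dg61, THeTUD11.dg62, THeTUD11.dg63, THeTUD11.dg64, THeTUD11.dg65]
def tgt : Nat → Nat → Nat := fld3z etops 7 5 31 127 69 524287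
def hnt : Nat → Nat → Nat := fld3 etops 7 5 31 127 69 19 2097151
def crt : Nat → Nat → Nat := fld3 etops 7 5 31 127 69 40 255
def sig : Nat → Nat → Nat := fld3 etops 7 5 31 127 69 48 2097151
def par : Nat → Nat := fld1 dtop 7 5 31 127 90 0 524287
def plet : Nat → Nat := fld1 dtop 7 5 31 127 90 19 15
def mu : Nat → Nat := fld1 dtop 7 5 31 127 90 23 524287
def dst : Nat → Nat := fld1 dtop 7 5 31 127 90 42 524287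
def dcrt : Nat → Nat := fld1 dtop 7 5 31 127 90 61 255
def dsig : Nat → Nat := fld1 dtop 7 5 31 127 90 69 2097151
def nGE : Nat := 66
def certs0 : List Cert := [Cert.mk 1 0 [] [],
  Cert.mk 1 1 [] [],
  Cert.mk 1 2 [] [],
  Cert.mk 0 4 [] [2, 1, 0, 2, 1, 0, 2, 1, 0],
  Cert.mk 1 3 [] [],
  Cert.mk 0 5 [] [5],
  Cert.mk 0 0 [] [5, 0, 5],
  Cert.mk 0 1 [] [5, 1, 5],
  Cert.mk 0 2 [] [5, 2, 5],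
  Cert.mk 0 4 [] [5, 4, 5],
  Cert.mk 0 6 [] [6],
  Cert.mk 0 0 [] [6, 0, 6],
  Cert.mk 0 1 [] [6, 1, 6],
  Cert.mk 0 2 [] [6, 2, 6],
  Cert.mk 0 4 [] [6, 4, 6],
  Cert.mk 0 3 [] [3]]
def certs1 : List Cert := [Cert.mk 0 0 [] [3, 0, 3],
  Cert.mk 0 1 [] [3, 1, 3],
  Cert.mk 0 5 [] [3, 5, 3, 5, 3],
  Cert.mk 0 5 [] [6, 5, 4, 6],
  Cert.mk 0 6 [] [3, 6, 3, 6, 3],
  Cert.mk 0 2 [] [2],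
  Cert.mk 0 0 [] [2, 0, 2],
  Cert.mk 0 5 [] [2, 5, 2],
  Cert.mk 0 4 [] [4],
  Cert.mk 0 0 [] [4, 0, 4],
  Cert.mk 0 1 [] [4, 1, 4],
  Cert.mk 0 3 [] [4, 3, 4, 3, 4],
  Cert.mk 0 5 [] [4, 5, 4],
  Cert.mk 0 6 [] [2, 6, 2],
  Cert.mk 0 6 [] [4, 6, 4],
  Cert.mk 0 1 [] [1]]
def certs2 : List Cert := [Cert.mk 0 2 [] [1, 2, 1, 2, 1],
  Cert.mk 0 5 [] [1, 5, 1],
  Cert.mk 0 2 [] [4, 2, 4],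
  Cert.mk 0 3 [] [5, 3, 5, 3, 5],
  Cert.mk 0 6 [] [1, 6, 1],
  Cert.mk 0 6 [] [5, 4, 6, 5],
  Cert.mk 0 0 [] [0],
  Cert.mk 0 2 [] [0, 2, 0],
  Cert.mk 0 5 [] [0, 5, 0],
  Cert.mk 0 1 [] [0, 2, 1, 0, 4, 2, 1, 0, 2],
  Cert.mk 0 3 [] [2, 3, 2, 3, 2, 3, 2, 0, 3, 2],
  Cert.mk 0 5 [] [6, 5, 6, 5, 6, 5, 6],
  Cert.mk 0 6 [] [0, 6, 0],
  Cert.mk 0 3 [] [6, 3, 6, 3, 6],
  Cert.mk 0 3 [] [1, 3, 1],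
  Cert.mk 0 4 [] [3, 4, 3, 4, 3]]
def certs3 : List Cert := [Cert.mk 0 6 [] [5, 6, 5, 6, 5, 6, 5],
  Cert.mk 0 3 [] [2, 6, 5, 3, 2, 6, 5, 3, 2, 6, 5, 3, 2, 6, 5],
  Cert.mk 0 6 [] [5, 3, 2, 6, 5, 3, 2, 6, 5, 3, 2, 6, 5, 3, 2],
  Cert.mk 0 3 [] [0, 3, 0],
  Cert.mk 0 4 [] [2, 4, 2],
  Cert.mk 0 1 [] [0, 2, 1, 0, 2, 1, 0, 4, 2],
  Cert.mk 0 2 [] [3, 2, 3, 2, 0, 3, 2, 3, 2, 3],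
  Cert.mk 0 4 [] [6, 5, 6, 5],
  Cert.mk 0 5 [] [6, 5, 6, 4],
  Cert.mk 0 4 [] [1, 4, 1],
  Cert.mk 0 0 [] [4, 2, 1, 0, 2, 1, 0, 2, 1],
  Cert.mk 0 2 [] [3, 2, 3, 2, 3, 2, 3, 2, 0, 3],
  Cert.mk 0 2 [] [3, 2, 0, 3, 2, 3, 2, 3, 2, 3],
  Cert.mk 0 1 [] [2, 0, 1, 2, 4, 0, 1, 2, 0],
  Cert.mk 0 6 [] [4, 5, 6, 5],
  Cert.mk 2 0 [] [2, 6, 5, 3, 2, 6, 5, 3, 2, 6, 5, 3, 2, 6, 5, 3]]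
def certs4 : List Cert := [Cert.mk 2 0 [] [3, 3],
  Cert.mk 0 1 [] [2, 4, 0, 1, 2, 0, 1, 2, 0],
  Cert.mk 0 6 [] [5, 6, 5, 4],
  Cert.mk 0 4 [] [5, 6, 5, 6],
  Cert.mk 0 2 [] [6, 5, 3, 2, 6, 5, 3, 2, 6, 5, 3, 2, 6, 5, 3],
  Cert.mk 0 0 [] [2, 1, 0, 2, 1, 0, 4, 2, 1],
  Cert.mk 0 5 [] [4, 6, 5, 6],
  Cert.mk 0 4 [] [0, 4, 0],
  Cert.mk 0 1 [] [2, 1, 2, 1, 2],
  Cert.mk 2 0 [] [1, 3, 1, 3],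
  Cert.mk 2 0 [] [5, 3, 5, 3, 5, 3],
  Cert.mk 2 0 [] [1, 1],
  Cert.mk 2 0 [] [5, 5],
  Cert.mk 2 0 [] [6, 5, 4, 6, 5],
  Cert.mk 0 6 [] [2, 3, 5, 6, 2, 3, 5, 6, 2, 3, 5, 6, 2, 3, 5],
  Cert.mk 2 0 [] [3, 6, 3, 6, 3, 6]]
def certs5 : List Cert := [Cert.mk 2 0 [] [2, 3, 2, 3, 2, 3, 2, 3, 2, 0, 3],
  Cert.mk 2 0 [] [6, 2, 6, 2],
  Cert.mk 0 3 [] [5, 6, 2, 3, 5, 6, 2, 3, 5, 6, 2, 3, 5, 6, 2],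
  Cert.mk 2 0 [] [2, 3, 2, 0, 3, 2, 3, 2, 3, 2, 3],
  Cert.mk 0 0 [] [1, 2, 0, 1, 2, 0, 1, 2, 4],
  Cert.mk 2 0 [] [3, 2, 6, 5, 3, 2, 6, 5, 3, 2, 6, 5, 3, 2, 6, 5],
  Cert.mk 2 0 [] [6, 3, 6, 3, 6, 3],
  Cert.mk 0 2 [] [3, 5, 6, 2, 3, 5, 6, 2, 3, 5, 6, 2, 3, 5, 6],
  Cert.mk 0 1 [] [0, 1, 0, 1, 0, 1, 0],
  Cert.mk 0 3 [] [2, 3, 2, 3, 2, 3, 2, 3, 2, 0],
  Cert.mk 0 6 [] [5, 6, 4, 5],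
  Cert.mk 0 0 [] [1, 2, 0, 1, 2, 4, 0, 1, 2],
  Cert.mk 2 0 [] [3, 4, 3, 4, 3, 4],
  Cert.mk 0 5 [] [3, 2, 6, 5, 3, 2, 6, 5, 3, 2, 6, 5, 3, 2, 6],
  Cert.mk 0 5 [] [6, 2, 3, 5, 6, 2, 3, 5, 6, 2, 3, 5, 6, 2, 3],
  Cert.mk 0 3 [] [2, 3, 2, 0, 3, 2, 3, 2, 3, 2]]
def certs6 : List Cert := [Cert.mk 2 0 [] [3, 5, 6, 2, 3, 5, 6, 2, 3, 5, 6, 2, 3, 5, 6, 2],
  Cert.mk 2 0 [] [3, 2, 3, 2, 0, 3, 2, 3, 2, 3, 2],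
  Cert.mk 2 0 [] [2, 2],
  Cert.mk 0 1 [] [2, 0, 1, 2, 0, 1, 2, 4, 0],
  Cert.mk 2 0 [] [6, 2, 3, 5, 6, 2, 3, 5, 6, 2, 3, 5, 6, 2, 3, 5],
  Cert.mk 2 0 [] [4, 2, 4, 2],
  Cert.mk 2 0 [] [4, 3, 4, 3, 4, 3],
  Cert.mk 0 0 [] [1, 0, 1, 0, 1, 0, 1],
  Cert.mk 0 2 [] [3, 2, 3, 2, 3, 2, 3, 2, 3, 2, 3, 2, 3, 2, 3, 2, 3, 2, 3],
  Cert.mk 0 4 [] [0, 1, 2, 0, 1, 2, 0, 1, 2],
  Cert.mk 0 3 [] [2, 3, 2, 3, 2, 3, 2, 3, 2, 3, 2, 3, 2, 3, 2, 3, 2, 3, 2],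
  Cert.mk 2 0 [] [4, 0, 1, 2, 0, 1, 2, 0, 1, 2],
  Cert.mk 0 3 [] [0, 2, 3, 2, 3, 2, 3, 2, 3, 2],
  Cert.mk 0 1 [] [0, 4, 2, 1, 0, 2, 1, 0, 2],
  Cert.mk 0 2 [] [3, 2, 3, 2, 3, 2, 0, 3, 2, 3],
  Cert.mk 2 0 [] [3, 2, 3, 2, 3, 2, 3, 2, 0, 3, 2]]
def certs7 : List Cert := [Cert.mk 2 0 [] [0, 5, 0, 5],
  Cert.mk 2 0 [] [0, 0],
  Cert.mk 2 0 [] [3, 0, 3, 0],
  Cert.mk 2 0 [] [2, 0, 3, 2, 3, 2, 3, 2, 3, 2, 3],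
  Cert.mk 2 0 [] [2, 4, 2, 4],
  Cert.mk 0 2 [] [4, 0, 1, 2, 0, 1, 2, 0, 1],
  Cert.mk 2 0 [] [2, 0, 2, 0],
  Cert.mk 2 0 [] [3, 2, 3, 2, 3, 2, 0, 3, 2, 3, 2],
  Cert.mk 2 0 [] [4, 6, 5, 6, 5],
  Cert.mk 2 0 [] [4, 4],
  Cert.mk 2 0 [] [6, 6],
  Cert.mk 2 0 [] [3, 5, 3, 5, 3, 5],
  Cert.mk 2 0 [] [5, 0, 5, 0],
  Cert.mk 0 5 [] [6, 4, 5, 6],
  Cert.mk 2 0 [] [2, 5, 2, 5],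
  Cert.mk 0 3 [] [2, 0, 3, 2, 3, 2, 3, 2, 3, 2]]
def certs8 : List Cert := [Cert.mk 0 2 [] [0, 1, 2, 0, 1, 2, 4, 0, 1],
  Cert.mk 2 0 [] [6, 5, 6, 5, 4],
  Cert.mk 0 0 [] [2, 3, 2, 3, 2, 3, 2, 3, 2, 3],
  Cert.mk 2 0 [] [3, 2, 3, 2, 3, 2, 3, 2, 3, 2, 0],
  Cert.mk 0 0 [] [3, 2, 3, 2, 3, 2, 3, 2, 3, 2],
  Cert.mk 2 0 [] [4, 5, 4, 5],
  Cert.mk 0 3 [] [2, 3, 2, 3, 2, 0, 3, 2, 3, 2],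
  Cert.mk 2 0 [] [5, 1, 5, 1],
  Cert.mk 2 0 [] [2, 6, 2, 6],
  Cert.mk 2 0 [] [5, 6, 2, 3, 5, 6, 2, 3, 5, 6, 2, 3, 5, 6, 2, 3],
  Cert.mk 2 0 [] [6, 0, 6, 0],
  Cert.mk 0 2 [] [3, 0, 2, 3, 2, 3, 2, 3, 2, 3],
  Cert.mk 0 2 [] [1, 0, 4, 2, 1, 0, 2, 1, 0],
  Cert.mk 2 0 [] [0, 4, 0, 4],
  Cert.mk 2 0 [] [4, 1, 4, 1],
  Cert.mk 2 0 [] [3, 1, 3, 1]]
def certs9 : List Cert := [Cert.mk 2 0 [] [6, 4, 6, 4],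
  Cert.mk 2 0 [] [1, 5, 1, 5],
  Cert.mk 2 0 [] [5, 6, 5, 6, 5, 6, 5, 6],
  Cert.mk 0 2 [] [1, 0, 2, 1, 0, 2, 1, 0, 4],
  Cert.mk 2 0 [] [0, 6, 0, 6],
  Cert.mk 2 0 [] [3, 2, 0, 3, 2, 3, 2, 3, 2, 3, 2],
  Cert.mk 2 0 [] [5, 4, 5, 4],
  Cert.mk 0 2 [] [1, 0, 2, 1, 0, 4, 2, 1, 0],
  Cert.mk 2 0 [] [2, 1, 2, 1, 2, 1],
  Cert.mk 2 0 [] [1, 0, 2, 1, 0, 4, 2, 1, 0, 2],
  Cert.mk 2 0 [] [1, 2, 4, 0, 1, 2, 0, 1, 2, 0],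
  Cert.mk 2 0 [] [1, 2, 1, 2, 1, 2],
  Cert.mk 2 0 [] [6, 1, 6, 1],
  Cert.mk 2 0 [] [5, 3, 2, 6, 5, 3, 2, 6, 5, 3, 2, 6, 5, 3, 2, 6],
  Cert.mk 2 0 [] [6, 5, 3, 2, 6, 5, 3, 2, 6, 5, 3, 2, 6, 5, 3, 2],
  Cert.mk 0 2 [] [0, 3, 2, 3, 2, 3, 2, 3, 2, 3]]
def certs10 : List Cert := [Cert.mk 2 0 [] [6, 5, 6, 4, 5],
  Cert.mk 2 0 [] [1, 6, 1, 6],
  Cert.mk 2 0 [] [4, 6, 4, 6],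
  Cert.mk 0 2 [] [3, 2, 3, 0, 2, 3, 2, 3, 2, 3],
  Cert.mk 2 0 [] [5, 2, 5, 2],
  Cert.mk 2 0 [] [4, 0, 4, 0],
  Cert.mk 2 0 [] [2, 3, 5, 6, 2, 3, 5, 6, 2, 3, 5, 6, 2, 3, 5, 6],
  Cert.mk 2 0 [] [5, 6, 5, 6, 4],
  Cert.mk 2 0 [] [4, 5, 6, 5, 6],
  Cert.mk 2 0 [] [0, 1, 0, 1, 0, 1, 0, 1],
  Cert.mk 2 0 [] [0, 3, 0, 3],
  Cert.mk 0 2 [] [3, 2, 3, 2, 3, 2, 3, 2, 3, 0],
  Cert.mk 2 0 [] [2, 3, 2, 3, 2, 0, 3, 2, 3, 2, 3],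
  Cert.mk 2 0 [] [3, 0, 2, 3, 2, 3, 2, 3, 2, 3, 2],
  Cert.mk 0 2 [] [0, 1, 2, 4, 0, 1, 2, 0, 1],
  Cert.mk 2 0 [] [0, 1, 2, 4, 0, 1, 2, 0, 1, 2]]
def certs11 : List Cert := [Cert.mk 2 0 [] [6, 5, 6, 5, 6, 5, 6, 5],
  Cert.mk 2 0 [] [2, 3, 2, 3, 2, 3, 2, 0, 3, 2, 3],
  Cert.mk 2 0 [] [0, 2, 0, 2],
  Cert.mk 2 0 [] [5, 6, 5, 4, 6],
  Cert.mk 2 0 [] [0, 2, 3, 2, 3, 2, 3, 2, 3, 2, 3],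
  Cert.mk 2 0 [] [1, 0, 4, 2, 1, 0, 2, 1, 0, 2],
  Cert.mk 2 0 [] [1, 4, 1, 4],
  Cert.mk 2 0 [] [5, 4, 6, 5, 6],
  Cert.mk 0 0 [] [1, 2, 4, 0, 1, 2, 0, 1, 2],
  Cert.mk 2 0 [] [2, 3, 2, 3, 2, 3, 2, 3, 2, 3, 0],
  Cert.mk 2 0 [] [2, 4, 0, 1, 2, 0, 1, 2, 0, 1],
  Cert.mk 2 0 [] [3, 2, 3, 2, 3, 2, 3, 2, 3, 2, 3, 2, 3, 2, 3, 2, 3, 2, 3, 2],
  Cert.mk 0 3 [] [2, 3, 2, 3, 0, 2, 3, 2, 3, 2],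
  Cert.mk 0 3 [] [2, 3, 2, 3, 2, 3, 2, 3, 0, 2],
  Cert.mk 2 0 [] [1, 2, 0, 1, 2, 4, 0, 1, 2, 0],
  Cert.mk 2 0 [] [0, 1, 2, 0, 1, 2, 4, 0, 1, 2]]
def certs12 : List Cert := [Cert.mk 0 2 [] [3, 2, 3, 2, 3, 0, 2, 3, 2, 3],
  Cert.mk 0 2 [] [3, 2, 3, 2, 3, 2, 3, 0, 2, 3],
  Cert.mk 2 0 [] [0, 3, 2, 3, 2, 3, 2, 3, 2, 3, 2],
  Cert.mk 2 0 [] [2, 0, 1, 2, 0, 1, 2, 4, 0, 1],
  Cert.mk 2 0 [] [0, 1, 2, 0, 1, 2, 0, 1, 2, 4],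
  Cert.mk 2 0 [] [2, 1, 0, 2, 1, 0, 2, 1, 0, 4],
  Cert.mk 2 0 [] [2, 0, 1, 2, 4, 0, 1, 2, 0, 1],
  Cert.mk 2 0 [] [0, 4, 2, 1, 0, 2, 1, 0, 2, 1],
  Cert.mk 2 0 [] [2, 1, 0, 2, 1, 0, 4, 2, 1, 0],
  Cert.mk 0 3 [] [2, 3, 0, 2, 3, 2, 3, 2, 3, 2],
  Cert.mk 2 0 [] [1, 0, 2, 1, 0, 2, 1, 0, 4, 2],
  Cert.mk 0 0 [] [2, 1, 0, 4, 2, 1, 0, 2, 1],
  Cert.mk 0 3 [] [2, 3, 2, 3, 2, 3, 0, 2, 3, 2],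
  Cert.mk 2 0 [] [6, 4, 5, 6, 5],
  Cert.mk 2 0 [] [2, 3, 2, 3, 2, 3, 2, 3, 0, 2, 3],
  Cert.mk 2 0 [] [3, 2, 3, 2, 3, 2, 3, 2, 3, 0, 2]]
def certs13 : List Cert := [Cert.mk 2 0 [] [5, 6, 4, 5, 6]]
def certs : List Cert := certs0 ++ certs1 ++ certs2 ++ certs3 ++ certs4 ++ certs5 ++ certs6 ++ certs7 ++ certs8 ++ certs9 ++ certs10 ++ certs11 ++ certs12 ++ certs13
def hints : List (Nat × Nat) := [(0, 0), (1, 0), (2, 0), (22, 0), (3, 0), (55, 0), (4, 0), (9, 0), (13, 0), (18, 0), (56, 0), (5, 0), (10, 0), (14, 0), (19, 0), (53, 0), (2, 0), (7, 0), (16, 1), (21, 2), (17, 1), (52, 0), (1, 0), (13, 1), (54, 0), (3, 0), (8, 0), (15, 0), (18, 1), (14, 1), (19, 1), (51, 0), (6, 1), (9, 1), (12, 0), (16, 0), (10, 1), (21, 3), (50, 0), (1, 1), (4,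 1), (22, 5), (23, 3), (20, 0), (5, 1), (17, 0), (7, 1), (15, 1), (20, 1), (49, 2), (49, 0), (2, 1), (12, 1), (22, 2), (23, 6), (21, 0), (46, 0), (8, 1), (22, 9), (23, 2), (23, 8), (47, 4), (46, 3), (49, 3), (53, 0), (47, 7), (21, 1), (46, 4), (49, 3), (22, 3), (21, 4), (3, 1), (6, 0), (7, 0), (16, 1), (51, 0), (55, 0), (21, 3), (24, 3), (17, 0), (23, 2), (14, 1), (24, 1), (23, 8), (47, 0), (49, 2), (17, 1), (24, 0), (0, 1), (23, 1), (46, 1), (47, 3), (15, 0), (49, 1), (24, 2), (23, 7), (24, 1), (23, 7), (52, 0), (47, 1), (24, 3), (12, 1), (15, 1), (0, 0), (11, 0), (47, 9), (11, 1), (47, 9), (48, 9), (22, 8), (23, 4), (23, 3), (4, 0), (50, 0), (2, 1), (23, 10), (12, 0), (47, 8), (1, 1), (23, 5), (21, 0), (54, 0), (56, 0), (16, 0), (4, 1),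 (46, 2), (13, 0), (23, 9), (47, 2), (21, 1), (48, 10), (23, 1), (23, 0), (18, 0), (23, 5), (9, 1), (14, 0), (24, 2), (5, 1), (48, 8), (22, 7), (3, 0), (8, 1), (7, 1), (19, 1), (9, 0), (20, 0), (22, 1), (5, 0), (23, 9), (18, 1), (22, 4), (6, 1), (22, 5), (47, 7), (6, 0), (10, 1), (49, 1), (49, 0), (23, 10), (46, 1), (10, 0), (19, 0), (48, 6), (13, 1), (3, 1), (24, 0), (46, 0), (46, 4), (0, 0), (2, 0), (48, 0), (23, 6), (48, 9), (47, 5), (47, 6), (20, 1), (23, 4), (1, 0), (21, 2), (48, 10), (22, 8), (8, 0), (21, 4), (47, 6), (48, 0), (47, 8), (11, 1), (48, 5), (48, 1), (47, 4), (47, 3), (48, 4), (48, 2), (23, 0), (47, 2), (47, 0), (22, 1), (47, 5), (22, 9), (22, 4), (48, 7), (22, 2), (22, 6), (48, 3), (46, 3), (48, 2), (48, 1), (46, 2)]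
def relW : List (List Nat) := [[0, 1, 0, 1, 0, 1, 0, 1],
  [0, 2, 0, 2],
  [0, 3, 0, 3],
  [0, 4, 0, 4],
  [0, 5, 0, 5],
  [0, 6, 0, 6],
  [1, 2, 1, 2, 1, 2],
  [1, 3, 1, 3],
  [1, 4, 1, 4],
  [1, 5, 1, 5],
  [1, 6, 1, 6],
  [2, 3, 2, 3, 2, 3, 2, 3, 2, 3, 2, 3, 2, 3, 2, 3, 2, 3, 2, 3],
  [2, 4, 2, 4],
  [2, 5, 2, 5],
  [2, 6, 2, 6],
  [3, 4, 3, 4, 3, 4],
  [3, 5, 3, 5, 3, 5],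
  [3, 6, 3, 6, 3, 6],
  [4, 5, 4, 5],
  [4, 6, 4, 6],
  [5, 6, 5, 6, 5, 6, 5, 6],
  [4, 6, 5, 6, 5],
  [4, 2, 1, 0, 2, 1, 0, 2, 1, 0],
  [0, 3, 2, 3, 2, 3, 2, 3, 2, 3, 2],
  [2, 3, 5, 6, 2, 3, 5, 6, 2, 3, 5, 6, 2, 3, 5, 6]]
def sgW : List (List Nat) := [[0],
  [1],
  [2],
  [3],
  [4]]
def invL : List Nat := [0, 1, 2, 3, 4, 5, 6]
def nL : Nat := 7
def nN : Nat := 269225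
def nF : Nat := 2
def nAlive : Nat := 266560
def nD : Nat := 19
def nB : Nat := 2097151
/-- the per-name check -/
def chkName (v : Nat) : Bool :=
  andK (nameOK tgt sig crt hnt dsig mu dcrt dst par plet certs 2 7 v) (finOK tgt sig hnt dsig mu 2 7 269225 v)

end Cfsg.Agent.Lib.Helper28.THeTUT
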