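import Cfsg.Agent.Lib.Helper28.TCMainLe
import Cfsg.Agent.Lib.Helper28.PresHe
import Cfsg.Agent.Lib.Helper28.THeTUC0
import Cfsg.Agent.Lib.Helper28.THeTUC1
import Cfsg.Agent.Lib.Helper28.THeTUC2
import Cfsg.Agent.Lib.Helper28.THeTUC3
import Cfsg.Agent.Lib.Helper28.THeTUC4
import Cfsg.Agent.Lib.Helper28.THeTUC5
import Cfsg.Agent.Lib.Helper28.THeTUC6
import Cfsg.Agent.Lib.Helper28.THeTUC7
import Cfsg.Agent.Lib.Helper28.THeTUC8
import Cfsg.Agent.Lib.Helper28.THeTUC9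
import Cfsg.Agent.Lib.Helper28.THeTUC10
import Cfsg.Agent.Lib.Helper28.THeTUC11
import Cfsg.Agent.Lib.Helper28.THeTUC12
import Cfsg.Agent.Lib.Helper28.THeTUC13
import Cfsg.Agent.Lib.Helper28.THeTUC14
import Cfsg.Agent.Lib.Helper28.THeTUC15
import Cfsg.Agent.Lib.Helper28.THeTUC16
import Cfsg.Agent.Lib.Helper28.THeTUC17
import Cfsg.Agent.Lib.Helper28.THeTUC18
import Cfsg.Agent.Lib.Helper28.THeTUC19
import Cfsg.Agent.Lib.Helper28.THeTUC20
import Cfsg.Agent.Lib.Helper28.THeTUC21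
import Cfsg.Agent.Lib.Helper28.THeTUC22
import Cfsg.Agent.Lib.Helper28.THeTUC23
import Cfsg.Agent.Lib.Helper28.THeTUC24
import Cfsg.Agent.Lib.Helper28.THeTUC25
import Cfsg.Agent.Lib.Helper28.THeTUC26
import Cfsg.Agent.Lib.Helper28.THeTUC27
import Cfsg.Agent.Lib.Helper28.THeTUC28
import Cfsg.Agent.Lib.Helper28.THeTUC29
import Cfsg.Agent.Lib.Helper28.THeTUC30
import Cfsg.Agent.Lib.Helper28.THeTUC31

set_option autoImplicit false

namespace Cfsg.Agent.Lib.Helper28.THeTX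

open Cfsg.Spor Cfsg.Agent.Lib.Helper28.TCKernel Cfsg.Agent.Lib.Helper28.TCSound Cfsg.Agent.Lib.Helper28.TCPres Cfsg.Agent.Lib.Helper28.TCMainLe

/-- the subgroup generators -/
def sgSrc : List (FreeGroup He.Gen) := [He.a, He.b, He.c, He.d, He.e]

theorem chunkU : ∀ k, k < 32 → allTree THeTUT.chkName 14 (k * 2 ^ 14) = true
  | 0, _ => THeTUC0.chk
  | 1, _ => THeTUC1.chk
  | 2, _ => THeTUC2.chk
  | 3, _ => THeTUC3.chk
  | 4, _ => THeTUC4.chk
  | 5, _ => THeTUC5.chk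
  | 6, _ => THeTUC6.chk
  | 7, _ => THeTUC7.chk
  | 8, _ => THeTUC8.chk
  | 9, _ => THeTUC9.chk
  | 10, _ => THeTUC10.chk
  | 11, _ => THeTUC11.chk
  | 12, _ => THeTUC12.chk
  | 13, _ => THeTUC13.chk
  | 14, _ => THeTUC14.chk
  | 15, _ => THeTUC15.chk
  | 16, _ => THeTUC16.chk
  | 17, _ => THeTUC17.chk
  | 18, _ => THeTUC18.chk
  | 19, _ => THeTUC19.chk
  | 20, _ => THeTUC20.chk
  | 21, _ => THeTUC21.chk
  | 22, _ => THeTUC22.chk
  | 23, _ => THeTUC23.chk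
  | 24, _ => THeTUC24.chk
  | 25, _ => THeTUC25.chk
  | 26, _ => THeTUC26.chk
  | 27, _ => THeTUC27.chk
  | 28, _ => THeTUC28.chk
  | 29, _ => THeTUC29.chk
  | 30, _ => THeTUC30.chk
  | 31, _ => THeTUC31.chk
  | (k + 32), h => absurd h (by omega)

theorem chkU (v : Nat) : THeTUT.chkName v = true := by
  rcases Nat.lt_or_ge v (2 ^ 19) with h | h
  · exact allTree_chunks THeTUT.chkName 14 32 chunkU v h
  · exact chk_of_zero _ _ _ _ _ _ _ _ _ _ _ _ _ _ v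
      (fun y => fld3_eq_zero _ _ _ _ _ _ _ _ y v 66 (by decide)
        (le_trans (by decide : 66 * 2 ^ (7 + 5) ≤ 2 ^ 19) h))
      (fld1_eq_zero _ _ _ _ _ _ _ _ v
        (le_trans (by decide : THeTUT.dtop.length * 2 ^ (7 + 5) ≤ 2 ^ 19) h))
      (le_trans (by decide : 269225 ≤ 2 ^ 19) h)

/-- the index of the subgroup is positive and at most 266560 -/
theorem final_le : ((Subgroup.closure {s | s ∈ sgSrc}).map (PresentedGroup.mk (coxRelators He.edges ∪ {r | r ∈ He.extra}))).index ≠ 0 ∧ ((Subgroup.closure {s | s ∈ sgSrc}).map (PresentedGroup.mk (coxRelators He.edges ∪ {r | r ∈ He.extra}))).index ≤ 266560 :=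
  main_le PresHe.ok {s | s ∈ sgSrc} sgSrc rfl THeTUT.sgW (by decide +kernel) (by decide +kernel)
    269225 266560 19 2 2097151 THeTUT.tgt THeTUT.sig THeTUT.crt THeTUT.hnt THeTUT.dsig THeTUT.mu THeTUT.dcrt THeTUT.dst
    THeTUT.par THeTUT.plet THeTUT.certs THeTUT.hints (by decide +kernel)
    (fun y v => fld3_le _ _ _ _ _ _ _ _ y v) (fun v => fld1_le _ _ _ _ _ _ _ _ v) chkU
    (by decide +kernel) (by decide) THeTUC0.cnt

end Cfsg.Agent.Lib.Helper28.THeTX
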