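import Cfsg.Agent.Lib.Helper28.TCKernel
import Cfsg.Agent.Lib.Helper28.THeaUD0

set_option autoImplicit false

namespace Cfsg.Agent.Lib.Helper28.THeaUT

open Cfsg.Agent.Lib.Helper28.TCKernel

def e0top : List (List Nat) := [THeaUD0.e0g0]
def e1top : List (List Nat) := [THeaUD0.e1g0]
def e2top : List (List Nat) := [THeaUD0.e2g0]
def e3top : List (List Nat) := [THeaUD0.e3g0]
def e4top : List (List Nat) := [THeaUD0.e4g0]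
def etops : List (List (List Nat)) := [e0top, e1top, e2top, e3top, e4top]
def dtop : List (List Nat) := [THeaUD0.dg0]
def tgt : Nat → Nat → Nat := fld3z etops 8 1 1 255 37 511
def hnt : Nat → Nat → Nat := fld3 etops 8 1 1 255 37 9 2047
def crt : Nat → Nat → Nat := fld3 etops 8 1 1 255 37 20 63
def sig : Nat → Nat → Nat := fld3 etops 8 1 1 255 37 26 2047
def par : Nat → Nat := fld1 dtop 8 1 1 255 48 0 511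
def plet : Nat → Nat := fld1 dtop 8 1 1 255 48 9 15
def mu : Nat → Nat := fld1 dtop 8 1 1 255 48 13 511
def dst : Nat → Nat := fld1 dtop 8 1 1 255 48 22 511
def dcrt : Nat → Nat := fld1 dtop 8 1 1 255 48 31 63
def dsig : Nat → Nat := fld1 dtop 8 1 1 255 48 37 2047
def nGE : Nat := 1
def certs0 : List Cert := [Cert.mk 1 0 [] [],
  Cert.mk 1 1 [] [],
  Cert.mk 1 2 [] [],
  Cert.mk 0 4 [] [2, 1, 0, 2, 1, 0, 2, 1, 0],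
  Cert.mk 0 3 [] [3],
  Cert.mk 0 0 [] [3, 0, 3],
  Cert.mk 0 1 [] [3, 1, 3],
  Cert.mk 0 2 [] [2],
  Cert.mk 0 0 [] [2, 0, 2],
  Cert.mk 0 4 [] [4],
  Cert.mk 0 0 [] [4, 0, 4],
  Cert.mk 0 1 [] [4, 1, 4],
  Cert.mk 0 3 [] [4, 3, 4, 3, 4],
  Cert.mk 0 1 [] [1],
  Cert.mk 0 2 [] [1, 2, 1, 2, 1],
  Cert.mk 0 2 [] [4, 2, 4]]
def certs1 : List Cert := [Cert.mk 0 0 [] [0],
  Cert.mk 0 2 [] [0, 2, 0],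
  Cert.mk 0 1 [] [0, 2, 1, 0, 4, 2, 1, 0, 2],
  Cert.mk 0 3 [] [2, 3, 2, 3, 2, 3, 2, 0, 3, 2],
  Cert.mk 0 3 [] [1, 3, 1],
  Cert.mk 0 4 [] [3, 4, 3, 4, 3],
  Cert.mk 0 3 [] [0, 3, 0],
  Cert.mk 0 4 [] [2, 4, 2],
  Cert.mk 0 1 [] [0, 2, 1, 0, 2, 1, 0, 4, 2],
  Cert.mk 0 2 [] [3, 2, 3, 2, 0, 3, 2, 3, 2, 3],
  Cert.mk 0 4 [] [1, 4, 1],
  Cert.mk 0 0 [] [4, 2, 1, 0, 2, 1, 0, 2, 1],
  Cert.mk 0 2 [] [3, 2, 3, 2, 3, 2, 3, 2, 0, 3],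
  Cert.mk 0 1 [] [2, 0, 1, 2, 4, 0, 1, 2, 0],
  Cert.mk 0 1 [] [2, 1, 2, 1, 2],
  Cert.mk 0 0 [] [1, 0, 1, 0, 1, 0, 1]]
def certs2 : List Cert := [Cert.mk 0 2 [] [3, 2, 3, 2, 3, 2, 3, 2, 3, 2, 3, 2, 3, 2, 3, 2, 3, 2, 3],
  Cert.mk 0 0 [] [2, 1, 0, 2, 1, 0, 4, 2, 1],
  Cert.mk 0 1 [] [0, 1, 0, 1, 0, 1, 0],
  Cert.mk 0 3 [] [2, 3, 2, 3, 2, 3, 2, 3, 2, 3, 2, 3, 2, 3, 2, 3, 2, 3, 2],
  Cert.mk 2 0 [] [4, 0, 1, 2, 0, 1, 2, 0, 1, 2],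
  Cert.mk 0 3 [] [2, 3, 2, 3, 2, 3, 2, 3, 2, 0],
  Cert.mk 0 3 [] [0, 2, 3, 2, 3, 2, 3, 2, 3, 2],
  Cert.mk 0 1 [] [2, 4, 0, 1, 2, 0, 1, 2, 0],
  Cert.mk 0 4 [] [0, 4, 0],
  Cert.mk 0 2 [] [4, 0, 1, 2, 0, 1, 2, 0, 1],
  Cert.mk 0 3 [] [2, 3, 2, 3, 2, 0, 3, 2, 3, 2],
  Cert.mk 0 4 [] [0, 1, 2, 0, 1, 2, 0, 1, 2],
  Cert.mk 0 2 [] [3, 2, 0, 3, 2, 3, 2, 3, 2, 3]]
def certs : List Cert := certs0 ++ certs1 ++ certs2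
def hints : List (Nat × Nat) := [(0, 0), (1, 0), (2, 0), (10, 0), (27, 0), (2, 0), (5, 0), (26, 0), (1, 0), (28, 0), (3, 0), (6, 0), (9, 0), (25, 0), (4, 1), (8, 0), (24, 0), (1, 1), (10, 5), (11, 3), (5, 1), (9, 1), (2, 1), (8, 1), (10, 2), (11, 6), (6, 1), (10, 9), (11, 2), (22, 4), (4, 0), (0, 0), (7, 0), (10, 3), (0, 1), (7, 1), (22, 9), (11, 1), (23, 9), (22, 7), (3, 1), (22, 8), (11, 5), (22, 9), (11, 8)]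
def relW : List (List Nat) := [[0, 1, 0, 1, 0, 1, 0, 1],
  [0, 2, 0, 2],
  [0, 3, 0, 3],
  [0, 4, 0, 4],
  [1, 2, 1, 2, 1, 2],
  [1, 3, 1, 3],
  [1, 4, 1, 4],
  [2, 3, 2, 3, 2, 3, 2, 3, 2, 3, 2, 3, 2, 3, 2, 3, 2, 3, 2, 3],
  [2, 4, 2, 4],
  [3, 4, 3, 4, 3, 4],
  [4, 2, 1, 0, 2, 1, 0, 2, 1, 0],
  [0, 3, 2, 3, 2, 3, 2, 3, 2, 3, 2]]
def sgW : List (List Nat) := [[0],
  [1],
  [2]]
def invL : List Nat := [0, 1, 2, 3, 4]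
def nL : Nat := 5
def nN : Nat := 316
def nF : Nat := 1
def nAlive : Nat := 315
def nD : Nat := 9
def nB : Nat := 2047
/-- the per-name check -/
def chkName (v : Nat) : Bool :=
  andK (nameOK tgt sig crt hnt dsig mu dcrt dst par plet certs 1 5 v) (finOK tgt sig hnt dsig mu 1 5 316 v)

end Cfsg.Agent.Lib.Helper28.THeaUT
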