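import Cfsg.Agent.Lib.Helper28.TCKernel
import Cfsg.Agent.Lib.Helper28.TM11NLD0

set_option autoImplicit false

namespace Cfsg.Agent.Lib.Helper28.TM11NLT

open Cfsg.Agent.Lib.Helper28.TCKernel

def p0top : List (List Nat) := [TM11NLD0.p0g0]
def p1top : List (List Nat) := [TM11NLD0.p1g0]
def p2top : List (List Nat) := [TM11NLD0.p2g0]
def ptops : List (List (List Nat)) := [p0top, p1top, p2top]
def ttop : List (List Nat) := [TM11NLD0.tg0]
def tp : Nat → Nat → Nat := fld3z ptops 4 0 0 15 4 15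
def pa : Nat → Nat := fld1 ttop 4 0 0 15 7 0 15
def pl : Nat → Nat := fld1 ttop 4 0 0 15 7 4 7
def relW : List (List Nat) := [[1, 1, 1, 1],
  [0, 1, 0, 1, 0, 1, 0, 1, 0, 1, 0, 1, 0, 1, 0, 1, 0, 1, 0, 1, 0, 1],
  [0, 1, 1, 0, 1, 1, 0, 1, 1, 0, 1, 1, 0, 1, 1, 0, 1, 1],
  [0, 1, 0, 1, 0, 2, 0, 1, 0, 1, 1, 0, 2, 0, 1, 0, 2, 0, 2]]
def sgW : List (List Nat) := [[1],
  [0, 1, 0, 1, 0, 2, 0]]
def tw : List (List Nat) := [[1],
  [0, 1, 0, 1, 0, 2, 0],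
  [2],
  [0, 1, 0, 2, 0, 2, 0],
  [0],
  [1],
  [2]]
def invL : List Nat := [0, 2, 1]
def inv : Nat → Nat := nthD 0 invL
def roots : List Nat := [1]
def nK : Nat := 4
def nL : Nat := 3
def nn : Nat := 11
def nD : Nat := 4
/-- the per-point check -/
def chkPoint (a : Nat) : Bool :=
  pointOK tp inv pa pl relW sgW tw 4 roots 3 11 a

end Cfsg.Agent.Lib.Helper28.TM11NLT
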