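import Cfsg.Agent.Lib.Helper28.TCKernel
import Cfsg.Agent.Lib.Helper28.TM11NUD0

set_option autoImplicit false

namespace Cfsg.Agent.Lib.Helper28.TM11NUT

open Cfsg.Agent.Lib.Helper28.TCKernel

def e0top : List (List Nat) := [TM11NUD0.e0g0]
def e1top : List (List Nat) := [TM11NUD0.e1g0]
def e2top : List (List Nat) := [TM11NUD0.e2g0]
def etops : List (List (List Nat)) := [e0top, e1top, e2top]
def dtop : List (List Nat) := [TM11NUD0.dg0]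
def tgt : Nat → Nat → Nat := fld3z etops 5 0 0 31 21 31
def hnt : Nat → Nat → Nat := fld3 etops 5 0 0 31 21 5 63
def crt : Nat → Nat → Nat := fld3 etops 5 0 0 31 21 11 15
def sig : Nat → Nat → Nat := fld3 etops 5 0 0 31 21 15 63
def par : Nat → Nat := fld1 dtop 5 0 0 31 29 0 31
def plet : Nat → Nat := fld1 dtop 5 0 0 31 29 5 15
def mu : Nat → Nat := fld1 dtop 5 0 0 31 29 9 31
def dst : Nat → Nat := fld1 dtop 5 0 0 31 29 14 31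
def dcrt : Nat → Nat := fld1 dtop 5 0 0 31 29 19 15
def dsig : Nat → Nat := fld1 dtop 5 0 0 31 29 23 63
def nGE : Nat := 1
def certs0 : List Cert := [Cert.mk 1 1 [] [],
  Cert.mk 0 2 [] [1],
  Cert.mk 0 0 [] [0],
  Cert.mk 0 1 [] [2],
  Cert.mk 3 0 [0, 1, 0, 1, 0, 2] [0],
  Cert.mk 2 0 [] [2, 1],
  Cert.mk 2 0 [] [0, 0],
  Cert.mk 0 1 [] [1, 1, 1],
  Cert.mk 0 0 [] [1, 1, 0, 2, 0, 1, 0, 2, 0, 2, 0, 1, 0, 1, 0, 2, 0, 1],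
  Cert.mk 0 0 [] [1, 0, 1, 1, 0, 2, 0, 1, 0, 2, 0, 2, 0, 1, 0, 1, 0, 2],
  Cert.mk 0 1 [] [0, 1, 0, 1, 0, 1, 0, 1, 0, 1, 0, 1, 0, 1, 0, 1, 0, 1, 0, 1, 0],
  Cert.mk 0 1 [] [1, 0, 1, 1, 0, 1, 1, 0, 1, 1, 0, 1, 1, 0, 1, 1, 0],
  Cert.mk 2 0 [] [1, 0, 2, 0, 1, 0, 1, 1, 0, 2, 0, 1, 0, 2, 0, 2, 0, 1, 0],
  Cert.mk 2 0 [] [1, 2]]
def certs : List Cert := certs0
def hints : List (Nat × Nat) := [(0, 0), (9, 1), (8, 0), (9, 0), (1, 0), (9, 1), (8, 0), (0, 0), (3, 8), (3, 6), (1, 1), (2, 1), (3, 3), (9, 0)]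
def relW : List (List Nat) := [[1, 1, 1, 1],
  [0, 1, 0, 1, 0, 1, 0, 1, 0, 1, 0, 1, 0, 1, 0, 1, 0, 1, 0, 1, 0, 1],
  [0, 1, 1, 0, 1, 1, 0, 1, 1, 0, 1, 1, 0, 1, 1, 0, 1, 1],
  [0, 1, 0, 1, 0, 2, 0, 1, 0, 1, 1, 0, 2, 0, 1, 0, 2, 0, 2]]
def sgW : List (List Nat) := [[1],
  [0, 1, 0, 1, 0, 2, 0]]
def invL : List Nat := [0, 2, 1]
def nL : Nat := 3
def nN : Nat := 18
def nF : Nat := 1
def nAlive : Nat := 11
def nD : Nat := 5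
def nB : Nat := 63
/-- the per-name check -/
def chkName (v : Nat) : Bool :=
  andK (nameOK tgt sig crt hnt dsig mu dcrt dst par plet certs 1 3 v) (finOK tgt sig hnt dsig mu 1 3 18 v)

end Cfsg.Agent.Lib.Helper28.TM11NUT
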