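import Cfsg.Agent.Lib.Helper28.TCKernel
import Cfsg.Agent.Lib.Helper28.TM11cUD0

set_option autoImplicit false

namespace Cfsg.Agent.Lib.Helper28.TM11cUT

open Cfsg.Agent.Lib.Helper28.TCKernel

def e0top : List (List Nat) := [TM11cUD0.e0g0]
def e1top : List (List Nat) := [TM11cUD0.e1g0]
def e2top : List (List Nat) := [TM11cUD0.e2g0]
def etops : List (List (List Nat)) := [e0top, e1top, e2top]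
def dtop : List (List Nat) := [TM11cUD0.dg0]
def tgt : Nat → Nat → Nat := fld3z etops 8 5 31 255 49 8191
def hnt : Nat → Nat → Nat := fld3 etops 8 5 31 255 49 13 32767
def crt : Nat → Nat → Nat := fld3 etops 8 5 31 255 49 28 63
def sig : Nat → Nat → Nat := fld3 etops 8 5 31 255 49 34 32767
def par : Nat → Nat := fld1 dtop 8 5 31 255 64 0 8191
def plet : Nat → Nat := fld1 dtop 8 5 31 255 64 13 15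
def mu : Nat → Nat := fld1 dtop 8 5 31 255 64 17 8191
def dst : Nat → Nat := fld1 dtop 8 5 31 255 64 30 8191
def dcrt : Nat → Nat := fld1 dtop 8 5 31 255 64 43 63
def dsig : Nat → Nat := fld1 dtop 8 5 31 255 64 49 32767
def nGE : Nat := 1
def certs0 : List Cert := [Cert.mk 0 0 [] [0],
  Cert.mk 1 1 [0] [],
  Cert.mk 0 2 [] [1],
  Cert.mk 0 1 [] [2],
  Cert.mk 0 2 [] [2, 2, 2],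
  Cert.mk 0 1 [] [1, 1, 1],
  Cert.mk 0 0 [] [1, 1, 0, 2, 0, 1, 0, 2, 0, 2, 0, 1, 0, 1, 0, 2, 0, 1],
  Cert.mk 0 0 [] [1, 0, 2, 0, 1, 0, 1, 1, 0, 2, 0, 1, 0, 2, 0, 2, 0, 1],
  Cert.mk 0 0 [] [1, 1, 0, 1, 1, 0, 1, 1, 0, 1, 1, 0, 1, 1, 0, 1, 1],
  Cert.mk 0 0 [] [2, 0, 2, 0, 1, 0, 1, 0, 2, 0, 1, 0, 1, 1, 0, 2, 0, 1],
  Cert.mk 0 2 [] [0, 1, 0, 2, 0, 2, 0, 1, 0, 1, 0, 2, 0, 1, 0, 1, 1, 0],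
  Cert.mk 0 1 [] [1, 0, 2, 0, 1, 0, 2, 0, 2, 0, 1, 0, 1, 0, 2, 0, 1, 0],
  Cert.mk 0 2 [] [2, 0, 2, 0, 1, 0, 2, 0, 2, 0, 1, 0, 1, 0, 2, 0, 1, 0],
  Cert.mk 0 1 [] [0, 2, 0, 1, 0, 1, 1, 0, 2, 0, 1, 0, 2, 0, 2, 0, 1, 0],
  Cert.mk 0 1 [] [0, 1, 0, 2, 0, 1, 0, 1, 1, 0, 2, 0, 1, 0, 2, 0, 2, 0],
  Cert.mk 0 2 [] [0, 2, 0, 2, 0, 2, 0, 2, 0, 2, 0, 2, 0, 2, 0, 2, 0, 2, 0, 2, 0]]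
def certs1 : List Cert := [Cert.mk 0 1 [] [0, 1, 1, 0, 1, 1, 0, 1, 1, 0, 1, 1, 0, 1, 1, 0, 1],
  Cert.mk 0 2 [] [0, 1, 0, 1, 0, 2, 0, 1, 0, 1, 1, 0, 2, 0, 1, 0, 2, 0],
  Cert.mk 0 0 [] [1, 0, 1, 0, 1, 0, 1, 0, 1, 0, 1, 0, 1, 0, 1, 0, 1, 0, 1, 0, 1],
  Cert.mk 0 0 [] [1, 0, 2, 0, 2, 0, 1, 0, 1, 0, 2, 0, 1, 0, 1, 1, 0, 2],
  Cert.mk 0 1 [] [0, 2, 0, 1, 0, 2, 0, 2, 0, 1, 0, 1, 0, 2, 0, 1, 0, 1],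
  Cert.mk 0 0 [] [2, 0, 1, 0, 1, 1, 0, 2, 0, 1, 0, 2, 0, 2, 0, 1, 0, 1],
  Cert.mk 0 0 [] [2, 0, 1, 0, 1, 0, 2, 0, 1, 0, 1, 1, 0, 2, 0, 1, 0, 2],
  Cert.mk 0 2 [] [0, 1, 0, 1, 1, 0, 2, 0, 1, 0, 2, 0, 2, 0, 1, 0, 1, 0],
  Cert.mk 0 0 [] [1, 0, 1, 1, 0, 2, 0, 1, 0, 2, 0, 2, 0, 1, 0, 1, 0, 2],
  Cert.mk 0 1 [] [1, 0, 1, 1, 0, 1, 1, 0, 1, 1, 0, 1, 1, 0, 1, 1, 0],
  Cert.mk 0 2 [] [2, 0, 2, 2, 0, 2, 2, 0, 2, 2, 0, 2, 2, 0, 2, 2, 0],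
  Cert.mk 0 2 [] [0, 2, 0, 1, 0, 1, 0, 2, 0, 1, 0, 1, 1, 0, 2, 0, 1, 0],
  Cert.mk 0 0 [] [2, 0, 2, 0, 2, 0, 2, 0, 2, 0, 2, 0, 2, 0, 2, 0, 2, 0, 2, 0, 2],
  Cert.mk 0 1 [] [0, 1, 0, 1, 0, 1, 0, 1, 0, 1, 0, 1, 0, 1, 0, 1, 0, 1, 0, 1, 0],
  Cert.mk 0 0 [] [2, 2, 0, 2, 2, 0, 2, 2, 0, 2, 2, 0, 2, 2, 0, 2, 2],
  Cert.mk 0 0 [] [2, 0, 1, 0, 2, 0, 2, 0, 1, 0, 1, 0, 2, 0, 1, 0, 1, 1]]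
def certs2 : List Cert := [Cert.mk 0 0 [] [1, 0, 1, 0, 2, 0, 1, 0, 1, 1, 0, 2, 0, 1, 0, 2, 0, 2],
  Cert.mk 0 1 [] [0, 1, 1, 0, 2, 0, 1, 0, 2, 0, 2, 0, 1, 0, 1, 0, 2, 0],
  Cert.mk 0 1 [] [0, 2, 0, 2, 0, 1, 0, 1, 0, 2, 0, 1, 0, 1, 1, 0, 2, 0],
  Cert.mk 2 0 [] [2, 0, 2, 0, 1, 0, 1, 0, 2, 0, 1, 0, 2, 2, 0, 2, 0, 1, 0],
  Cert.mk 2 0 [] [2, 0, 2, 0, 1, 0, 1, 0, 2, 0, 1, 0, 1, 1, 0, 2, 0, 1, 0],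
  Cert.mk 2 0 [] [0, 0],
  Cert.mk 2 0 [] [2, 1],
  Cert.mk 2 0 [] [1, 2],
  Cert.mk 2 0 [] [2, 0, 2, 0, 2, 0, 2, 0, 2, 0, 2, 0, 2, 0, 2, 0, 2, 0, 2, 0, 2, 0],
  Cert.mk 2 0 [] [2, 0, 1, 0, 2, 0, 2, 0, 1, 0, 1, 0, 2, 0, 1, 0, 1, 1, 0],
  Cert.mk 2 0 [] [1, 0, 2, 0, 1, 0, 1, 1, 0, 2, 0, 1, 0, 2, 0, 2, 0, 1, 0],
  Cert.mk 2 0 [] [0, 1, 1, 0, 2, 0, 1, 0, 2, 0, 2, 0, 1, 0, 1, 0, 2, 0, 1],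
  Cert.mk 2 0 [] [1, 0, 1, 0, 1, 0, 1, 0, 1, 0, 1, 0, 1, 0, 1, 0, 1, 0, 1, 0, 1, 0],
  Cert.mk 2 0 [] [0, 1, 0, 1, 1, 0, 2, 0, 1, 0, 2, 0, 2, 0, 1, 0, 1, 0, 2]]
def certs : List Cert := certs0 ++ certs1 ++ certs2
def hints : List (Nat × Nat) := [(8, 0), (0, 0), (9, 1), (9, 0), (4, 0), (0, 0), (3, 8), (3, 2), (2, 0), (3, 15), (3, 12), (3, 9), (7, 8), (3, 3), (3, 1), (5, 0), (2, 2), (3, 18), (1, 0), (3, 13), (3, 10), (3, 4), (3, 17), (3, 5), (3, 6), (2, 1), (6, 0), (3, 16), (5, 1), (1, 1), (6, 2), (3, 11), (3, 0), (3, 7), (3, 14), (7, 15), (3, 16), (8, 0), (9, 1), (9, 0), (5, 0), (3, 12), (3, 3), (3, 8), (1, 1), (3, 6)]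
def relW : List (List Nat) := [[1, 1, 1, 1],
  [0, 1, 0, 1, 0, 1, 0, 1, 0, 1, 0, 1, 0, 1, 0, 1, 0, 1, 0, 1, 0, 1],
  [0, 1, 1, 0, 1, 1, 0, 1, 1, 0, 1, 1, 0, 1, 1, 0, 1, 1],
  [0, 1, 0, 1, 0, 2, 0, 1, 0, 1, 1, 0, 2, 0, 1, 0, 2, 0, 2]]
def sgW : List (List Nat) := [[0, 1]]
def invL : List Nat := [0, 2, 1]
def nL : Nat := 3
def nN : Nat := 5822
def nF : Nat := 5
def nAlive : Nat := 720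
def nD : Nat := 13
def nB : Nat := 32767
/-- the per-name check -/
def chkName (v : Nat) : Bool :=
  andK (nameOK tgt sig crt hnt dsig mu dcrt dst par plet certs 5 3 v) (finOK tgt sig hnt dsig mu 5 3 5822 v)

end Cfsg.Agent.Lib.Helper28.TM11cUT
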