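import Cfsg.Agent.Lib.Helper28.Iwa
import Cfsg.Prelude.Def_SporadicB

/-!
A class of 3-transpositions from a faithful primitive rank 3 permutation representation: the
point stabiliser `H` centralises an involution `z ∈ H`, and `z` times a conjugate of `z` has
order 3, resp. 2, for one conjugate in each of the two nontrivial orbits of `H`.
-/

set_option autoImplicit false

namespace Cfsg.Agent.Lib.Helper28.ThreeTr

open Cfsg.Agent.Lib.Helper28.Iwa

variable {G : Type*} [Group G] {n : Nat}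

theorem card_conj [Finite G] (z : G) :
    Nat.card (conjugatesOf z) * Nat.card (Subgroup.centralizer ({z} : Set G)) = Nat.card G := by
  have h1 : MulAction.orbit (ConjAct G) z = conjugatesOf z := by
    ext g
    rw [ConjAct.mem_orbit_conjAct, isConj_comm]
    rfl
  have h2 := MulAction.index_stabilizer (ConjAct G) z
  have h3 := Subgroup.card_mul_index (MulAction.stabilizer (ConjAct G) z)
  rw [h2, h1, ← Subgroup.nat_card_centralizer_nat_card_stabilizer] at h3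
  rw [Nat.card_coe_set_eq, mul_comm]
  exact h3

theorem three_transp [Finite G] (hn : 0 < n) (φ : G →* Equiv.Perm (Fin n))
    (hinj : Function.Injective φ)
    (H : Subgroup G) (hH : ∀ g, g ∈ H ↔ φ g ⟨0, hn⟩ = ⟨0, hn⟩)
    (htr : ∀ b : Fin n, ∃ g : G, φ g ⟨0, hn⟩ = b)
    (hprim : ∀ B : Set (Fin n), (⟨0, hn⟩ : Fin n) ∈ B →
      (∀ g : G, φ g '' B = B ∨ Disjoint (φ g '' B) B) → B = {⟨0, hn⟩} ∨ B = Set.univ)
    (r : Nat)
    (hc1 : ∀ x y : Fin n, 1 ≤ x.1 → x.1 < r → 1 ≤ y.1 → y.1 < r →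
      ∃ h : G, φ h ⟨0, hn⟩ = ⟨0, hn⟩ ∧ φ h x = y)
    (hc2 : ∀ x y : Fin n, r ≤ x.1 → r ≤ y.1 → ∃ h : G, φ h ⟨0, hn⟩ = ⟨0, hn⟩ ∧ φ h x = y)
    (z : G) (hz1 : z ≠ 1) (hz2 : z * z = 1) (hzH : z ∈ H) (hzc : ∀ h ∈ H, h * z = z * h)
    (k1 k2 : G) (hk1 : 1 ≤ (φ k1 ⟨0, hn⟩).1 ∧ (φ k1 ⟨0, hn⟩).1 < r)
    (hk2 : r ≤ (φ k2 ⟨0, hn⟩).1)
    (hP1 : (z * (k1 * z * k1⁻¹)) ^ 3 = 1) (hP2 : (z * (k2 * z * k2⁻¹)) ^ 2 = 1)
    (S : Set G) (hS : Subgroup.closure S = ⊤) (hconj : ∀ x ∈ S, ∃ g : G, x = g * z * g⁻¹) :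
    Subgroup.centralizer ({z} : Set G) = H ∧
      Cfsg.IsThreeTranspositionClass (conjugatesOf z) ∧
      Nat.card (conjugatesOf z) = H.index := by
  have mem_Cz : ∀ g, g ∈ Subgroup.centralizer ({z} : Set G) ↔ g * z = z * g :=
    fun g => Subgroup.mem_centralizer_singleton_iff
  have hHC : H ≤ Subgroup.centralizer ({z} : Set G) := fun h hh => (mem_Cz h).mpr (hzc h hh)
  -- the centraliser fixes 0
  have hCH : Subgroup.centralizer ({z} : Set G) ≤ H := by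
    let B : Set (Fin n) := {b | ∃ c ∈ Subgroup.centralizer ({z} : Set G), φ c ⟨0, hn⟩ = b}
    have h0 : (⟨0, hn⟩ : Fin n) ∈ B := ⟨1, Subgroup.one_mem _, by rw [map_one]; rfl⟩
    have hstep : ∀ g : G, φ g ⟨0, hn⟩ ∈ B → g ∈ Subgroup.centralizer ({z} : Set G) := by
      rintro g ⟨c, hc, e⟩
      have h1 : φ (c⁻¹ * g) ⟨0, hn⟩ = ⟨0, hn⟩ := by rw [pmul, ← e, pinv1]
      have h2 : c⁻¹ * g ∈ Subgroup.centralizer ({z} : Set G) := hHC ((hH _).mpr h1)
      have e2 : g = c * (c⁻¹ * g) := by group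
      rw [e2]
      exact Subgroup.mul_mem _ hc h2
    have hB : ∀ g : G, φ g '' B = B ∨ Disjoint (φ g '' B) B := by
      intro g
      by_cases hd : Disjoint (φ g '' B) B
      · exact Or.inr hd
      · left
        rw [Set.not_disjoint_iff] at hd
        obtain ⟨x, ⟨b, ⟨c1, hc1', rfl⟩, rfl⟩, hx2⟩ := hd
        have hg1 : g * c1 ∈ Subgroup.centralizer ({z} : Set G) :=
          hstep _ (by rw [pmul]; exact hx2)
        have hg : g ∈ Subgroup.centralizer ({z} : Set G) := by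
          have e2 : g = (g * c1) * c1⁻¹ := by group
          rw [e2]
          exact Subgroup.mul_mem _ hg1 (Subgroup.inv_mem _ hc1')
        ext y
        constructor
        · rintro ⟨b, ⟨c, hc, rfl⟩, rfl⟩
          exact ⟨g * c, Subgroup.mul_mem _ hg hc, pmul φ g c _⟩
        · rintro ⟨c, hc, rfl⟩
          refine ⟨φ (g⁻¹ * c) ⟨0, hn⟩,
            ⟨g⁻¹ * c, Subgroup.mul_mem _ (Subgroup.inv_mem _ hg) hc, rfl⟩, ?_⟩
          rw [pmul, pinv2]
    rcases hprim B h0 hB with hB1 | hB2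
    · intro c hc
      have h1 : φ c ⟨0, hn⟩ ∈ B := ⟨c, hc, rfl⟩
      rw [hB1, Set.mem_singleton_iff] at h1
      exact (hH c).mpr h1
    · exfalso
      have hall : ∀ g : G, g ∈ Subgroup.centralizer ({z} : Set G) :=
        fun g => hstep g (by rw [hB2]; trivial)
      apply hz1
      apply hinj
      rw [map_one]
      ext b
      obtain ⟨g, rfl⟩ := htr b
      have hc := (mem_Cz g).mp (hall g)
      have h1 : φ z (φ g ⟨0, hn⟩) = φ g ⟨0, hn⟩ := by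
        rw [← pmul, ← hc, pmul, (hH z).mp hzH]
      rw [h1]
      rfl
  have hCeq : Subgroup.centralizer ({z} : Set G) = H := le_antisymm hCH hHC
  -- conjugates of z by elements with the same image of 0 coincide
  have hsame : ∀ k k' : G, φ k ⟨0, hn⟩ = φ k' ⟨0, hn⟩ → k * z * k⁻¹ = k' * z * k'⁻¹ := by
    intro k k' e
    have h1 : φ (k'⁻¹ * k) ⟨0, hn⟩ = ⟨0, hn⟩ := by rw [pmul, e, pinv1]
    have h2 := hzc _ ((hH _).mpr h1)
    calc k * z * k⁻¹ = k' * ((k'⁻¹ * k) * z) * k⁻¹ := by group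
      _ = k' * (z * (k'⁻¹ * k)) * k⁻¹ := by rw [h2]
      _ = k' * z * k'⁻¹ := by group
  have hkey : ∀ (m : ℕ) (k0 : G), (z * (k0 * z * k0⁻¹)) ^ m = 1 →
      ∀ h : G, φ h ⟨0, hn⟩ = ⟨0, hn⟩ →
      ∀ k : G, φ k ⟨0, hn⟩ = φ h (φ k0 ⟨0, hn⟩) → (z * (k * z * k⁻¹)) ^ m = 1 := by
    intro m k0 hm h hh k hk
    have e1 : k * z * k⁻¹ = (h * k0) * z * (h * k0)⁻¹ := hsame k (h * k0) (by rw [hk, pmul])
    have hc := hzc h ((hH h).mpr hh)
    have e2 : z * ((h * k0) * z * (h * k0)⁻¹) = h * (z * (k0 * z * k0⁻¹)) * h⁻¹ := by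
      calc z * ((h * k0) * z * (h * k0)⁻¹) = (z * h) * (k0 * z * k0⁻¹) * h⁻¹ := by group
        _ = (h * z) * (k0 * z * k0⁻¹) * h⁻¹ := by rw [hc]
        _ = h * (z * (k0 * z * k0⁻¹)) * h⁻¹ := by group
    rw [e1, e2, conj_pow, hm, mul_one, mul_inv_cancel]
  have h3 : ∀ k : G, (z * (k * z * k⁻¹)) ^ 2 = 1 ∨ (z * (k * z * k⁻¹)) ^ 3 = 1 := by
    intro k
    by_cases hp0 : (φ k ⟨0, hn⟩).1 = 0
    · left
      have e : φ k ⟨0, hn⟩ = φ (1 : G) ⟨0, hn⟩ := by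
        rw [map_one]
        exact Fin.ext hp0
      rw [hsame k 1 e, one_mul, inv_one, mul_one, hz2, one_pow]
    · by_cases hp1 : (φ k ⟨0, hn⟩).1 < r
      · right
        obtain ⟨h, hh, e⟩ := hc1 (φ k1 ⟨0, hn⟩) (φ k ⟨0, hn⟩) hk1.1 hk1.2 (by omega) hp1
        exact hkey 3 k1 hP1 h hh k e.symm
      · left
        obtain ⟨h, hh, e⟩ := hc2 (φ k2 ⟨0, hn⟩) (φ k ⟨0, hn⟩) hk2 (by omega)
        exact hkey 2 k2 hP2 h hh k e.symm
  have hD : ∀ d ∈ conjugatesOf z, ∃ g : G, d = g * z * g⁻¹ := by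
    intro d hd
    obtain ⟨g, hg⟩ := isConj_iff.mp hd
    exact ⟨g, hg.symm⟩
  refine ⟨hCeq, ⟨⟨?_, ?_⟩, ⟨z, mem_conjugatesOf_self, rfl⟩, ?_⟩, ?_⟩
  · intro d hd
    obtain ⟨g, rfl⟩ := hD d hd
    apply orderOf_eq_prime
    · rw [pow_two]
      calc (g * z * g⁻¹) * (g * z * g⁻¹) = g * (z * z) * g⁻¹ := by group
        _ = 1 := by rw [hz2, mul_one, mul_inv_cancel]
    · intro h1
      apply hz1
      calc z = g⁻¹ * (g * z * g⁻¹) * g := by group
        _ = 1 := by rw [h1, mul_one, inv_mul_cancel]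
  · intro d hd e he
    obtain ⟨g, rfl⟩ := hD d hd
    obtain ⟨g', rfl⟩ := hD e he
    have e1 : g * z * g⁻¹ * (g' * z * g'⁻¹) =
        g * (z * ((g⁻¹ * g') * z * (g⁻¹ * g')⁻¹)) * g⁻¹ := by group
    rw [e1, conj_pow, conj_pow]
    rcases h3 (g⁻¹ * g') with h | h
    · left
      rw [h, mul_one, mul_inv_cancel]
    · right
      rw [h, mul_one, mul_inv_cancel]
  · rw [eq_top_iff, ← hS]
    apply Subgroup.closure_mono
    intro x hx
    obtain ⟨g, rfl⟩ := hconj x hx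
    exact isConj_iff.mpr ⟨g, rfl⟩
  · have h1 := card_conj z
    rw [hCeq] at h1
    have h2 := Subgroup.card_mul_index H
    have hpos : 0 < Nat.card H := Nat.card_pos
    have h4 : Nat.card (conjugatesOf z) * Nat.card H = H.index * Nat.card H := by
      rw [h1, mul_comm, h2]
    exact Nat.eq_of_mul_eq_mul_right hpos h4

end Cfsg.Agent.Lib.Helper28.ThreeTr
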